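import Mathlib

/-!
# Products in the derived category via K-injective resolutions

* `homotopy_zero_of_pi`, `isKInjective_pi`: a map to a product of complexes which is null-homotopic
  on each factor is null-homotopic; products of K-injective complexes are K-injective.
* `exists_Q_map_eq`, `homotopy_of_Q_map_eq`: for `I` K-injective, `Q.map : (K ⟶ I) → (Q K ⟶ Q I)` is
  surjective, and injective up to homotopy.
* `existsUnique_lift`: `Q (∏ I)` is a product of the `Q (I t)` for K-injective `I t`.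
* `hasProduct`: if every complex has a K-injective resolution, `DerivedCategory A` has products.
* `hasProduct_of_exists`, `exists_kInjective_of_isGE`: variants for families with K-injective
  representatives, e.g. bounded below objects when there are enough injectives.
-/

set_option autoImplicit false
universe w' w v u
open CategoryTheory CategoryTheory.Limits

namespace Groth.Agent.Lib.Helper25.DProd

open CochainComplex HomComplex DerivedCategory

variable {A : Type u} [Category.{v} A] [Abelian A]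

section Cone

/-- A null-homotopic map factors through the cone of the identity. -/
lemma factor_cone {K L : CochainComplex A ℤ} (f : K ⟶ L) (h : Homotopy f 0) :
    ∃ g : mappingCone (𝟙 K) ⟶ L, mappingCone.inr (𝟙 K) ≫ g = f := by
  obtain ⟨z, hz⟩ := Cochain.equivHomotopy f 0 h
  refine ⟨mappingCone.desc (𝟙 K) z f ?_, mappingCone.inr_desc _ _ _ _⟩
  rw [Category.id_comp, hz]
  simp

lemma homotopy_of_factor {K L : CochainComplex A ℤ} (f : K ⟶ L)
    (g : mappingCone (𝟙 K) ⟶ L) (hg : mappingCone.inr (𝟙 K) ≫ g = f) : Nonempty (Homotopy f 0) := by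
  have h0 := mappingCone.homotopyToZeroOfId K
  have h1 : Homotopy (mappingCone.inr (𝟙 K) ≫ 𝟙 _ ≫ g) (mappingCone.inr (𝟙 K) ≫ 0 ≫ g) :=
    (h0.compRight g).compLeft _
  refine ⟨(Homotopy.ofEq ?_).trans (h1.trans (Homotopy.ofEq ?_))⟩
  · simp [hg]
  · simp

/-- a map to a product of complexes which is null-homotopic on each factor is null-homotopic -/
lemma homotopy_zero_of_pi {T : Type w'} (I : T → CochainComplex A ℤ) [HasProduct I]
    {K : CochainComplex A ℤ} (f : K ⟶ ∏ᶜ I)
    (h : ∀ t, Nonempty (Homotopy (f ≫ Pi.π I t) 0)) : Nonempty (Homotopy f 0) := by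
  have : ∀ t, ∃ g : mappingCone (𝟙 K) ⟶ I t, mappingCone.inr (𝟙 K) ≫ g = f ≫ Pi.π I t :=
    fun t => factor_cone _ (h t).some
  choose g hg using this
  apply homotopy_of_factor f (Pi.lift g)
  apply Pi.hom_ext
  intro t
  simp [hg]

theorem isKInjective_pi {T : Type w'} (I : T → CochainComplex A ℤ)
    [HasProduct I] (h : ∀ t, (I t).IsKInjective) : (∏ᶜ I).IsKInjective := by
  constructor
  intro K f hK
  exact homotopy_zero_of_pi I f (fun t => (h t).nonempty_homotopy_zero (f ≫ Pi.π I t) hK)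

end Cone

variable [HasDerivedCategory.{w} A]

lemma exists_Q_map_eq {K I : CochainComplex A ℤ} [I.IsKInjective] (t : Q.obj K ⟶ Q.obj I) :
    ∃ φ : K ⟶ I, Q.map φ = t := by
  obtain ⟨g, hg⟩ := (IsKInjective.Qh_map_bijective
    ((HomotopyCategory.quotient A (ComplexShape.up ℤ)).obj K) I).surjective
    ((quotientCompQhIso A).hom.app K ≫ t ≫ (quotientCompQhIso A).inv.app I)
  obtain ⟨φ, rfl⟩ := (HomotopyCategory.quotient _ _).map_surjective g
  refine ⟨φ, ?_⟩
  have h1 := quotientCompQhIso_hom_naturality φ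
  rw [hg] at h1
  simp only [Category.assoc, Iso.inv_hom_id_app, Category.comp_id] at h1
  exact ((cancel_epi ((quotientCompQhIso A).hom.app K)).1 h1).symm

lemma homotopy_of_Q_map_eq {K I : CochainComplex A ℤ} [I.IsKInjective] (f g : K ⟶ I)
    (h : Q.map f = Q.map g) : Nonempty (Homotopy f g) := by
  have h1 : Qh.map ((HomotopyCategory.quotient _ _).map f) =
      Qh.map ((HomotopyCategory.quotient _ _).map g) := by
    have hf := quotientCompQhIso_hom_naturality f
    have hg := quotientCompQhIso_hom_naturality g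
    rw [← cancel_mono ((quotientCompQhIso A).hom.app I), hf, hg, h]
  exact ⟨HomotopyCategory.homotopyOfEq _ _
    ((IsKInjective.Qh_map_bijective _ I).injective h1)⟩

/-- the key universal property: maps into `Q (∏ I)` for K-injective `I t` -/
lemma existsUnique_lift {T : Type w'} (I : T → CochainComplex A ℤ) [HasProduct I]
    (hI : ∀ t, (I t).IsKInjective) (Z : DerivedCategory A) (p : ∀ t, Z ⟶ Q.obj (I t)) :
    ∃! m : Z ⟶ Q.obj (∏ᶜ I), ∀ t, m ≫ Q.map (Pi.π I t) = p t := by
  haveI := hI
  haveI : (∏ᶜ I).IsKInjective := isKInjective_pi I hI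
  obtain ⟨K, ⟨iT⟩⟩ : ∃ K : CochainComplex A ℤ, Nonempty (Q.obj K ≅ Z) :=
    ⟨Q.objPreimage Z, ⟨Q.objObjPreimageIso Z⟩⟩
  have hφ : ∀ t, ∃ φ : K ⟶ I t, Q.map φ = iT.hom ≫ p t := fun t => exists_Q_map_eq _
  choose φ hφ using hφ
  refine ⟨iT.inv ≫ Q.map (Pi.lift φ), fun t => ?_, fun m hm => ?_⟩
  · rw [Category.assoc, ← Q.map_comp, Pi.lift_π, hφ, Iso.inv_hom_id_assoc]
  · obtain ⟨μ, hμ⟩ := exists_Q_map_eq (iT.hom ≫ m)
    have h1 : ∀ t, Nonempty (Homotopy ((μ - Pi.lift φ) ≫ Pi.π I t) 0) := by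
      intro t
      have h2 : Q.map (μ ≫ Pi.π I t) = Q.map (Pi.lift φ ≫ Pi.π I t) := by
        rw [Q.map_comp, hμ, Category.assoc, hm t, Pi.lift_π, hφ]
      obtain ⟨h3⟩ := homotopy_of_Q_map_eq _ _ h2
      rw [Preadditive.sub_comp]
      exact ⟨Homotopy.equivSubZero h3⟩
    obtain ⟨h4⟩ := homotopy_zero_of_pi I _ h1
    have h5 : Q.map μ = Q.map (Pi.lift φ) :=
      DerivedCategory.Q_map_eq_of_homotopy A (Homotopy.equivSubZero.symm h4)
    rw [← h5, hμ, Iso.inv_hom_id_assoc]

/-- **Products in the derived category**, computed by K-injective resolutions. -/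
theorem hasProduct
    (hKinj : ∀ K : CochainComplex A ℤ, ∃ (I : CochainComplex A ℤ) (f : K ⟶ I),
      I.IsKInjective ∧ QuasiIso f)
    {T : Type w'} [HasLimitsOfShape (Discrete T) A] (X : T → DerivedCategory A) :
    HasProduct X := by
  classical
  have hex : ∀ t, ∃ (I : CochainComplex A ℤ), I.IsKInjective ∧ Nonempty (Q.obj I ≅ X t) := by
    intro t
    obtain ⟨I, f, hI, hf⟩ := hKinj (Q.objPreimage (X t))
    haveI : IsIso (Q.map f) := by rw [isIso_Q_map_iff_quasiIso]; exact hf
    exact ⟨I, hI, ⟨(asIso (Q.map f)).symm ≪≫ Q.objObjPreimageIso (X t)⟩⟩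
  choose I hI he using hex
  obtain ⟨e⟩ : Nonempty (∀ t, Q.obj (I t) ≅ X t) := ⟨fun t => (he t).some⟩
  have key : ∀ s : Fan X, ∃! m : s.pt ⟶ Q.obj (∏ᶜ I),
      ∀ t, m ≫ Q.map (Pi.π I t) = s.proj t ≫ (e t).inv :=
    fun s => existsUnique_lift I hI s.pt _
  refine ⟨⟨⟨Fan.mk (Q.obj (∏ᶜ I)) (fun t => Q.map (Pi.π I t) ≫ (e t).hom),
    Fan.IsLimit.mk _ (fun s => (key s).choose) (fun s t => ?_) (fun s m hm => ?_)⟩⟩⟩
  · have := (key s).choose_spec.1 t
    change (key s).choose ≫ Q.map (Pi.π I t) ≫ (e t).hom = s.proj t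
    rw [reassoc_of% this, Iso.inv_hom_id, Category.comp_id]
  · apply (key s).choose_spec.2
    intro t
    have := hm t
    change m ≫ Q.map (Pi.π I t) ≫ (e t).hom = s.proj t at this
    rw [← this, Category.assoc, Category.assoc, Iso.hom_inv_id, Category.comp_id]

/-- a family of objects of the derived category admitting K-injective representatives has a product -/
theorem hasProduct_of_exists {T : Type w'} [HasLimitsOfShape (Discrete T) A]
    (X : T → DerivedCategory A)
    (hex : ∀ t, ∃ (I : CochainComplex A ℤ), I.IsKInjective ∧ Nonempty (Q.obj I ≅ X t)) :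
    HasProduct X := by
  classical
  choose I hI he using hex
  obtain ⟨e⟩ : Nonempty (∀ t, Q.obj (I t) ≅ X t) := ⟨fun t => (he t).some⟩
  have key : ∀ s : Fan X, ∃! m : s.pt ⟶ Q.obj (∏ᶜ I),
      ∀ t, m ≫ Q.map (Pi.π I t) = s.proj t ≫ (e t).inv :=
    fun s => existsUnique_lift I hI s.pt _
  refine ⟨⟨⟨Fan.mk (Q.obj (∏ᶜ I)) (fun t => Q.map (Pi.π I t) ≫ (e t).hom),
    Fan.IsLimit.mk _ (fun s => (key s).choose) (fun s t => ?_) (fun s m hm => ?_)⟩⟩⟩
  · have := (key s).choose_spec.1 t
    change (key s).choose ≫ Q.map (Pi.π I t) ≫ (e t).hom = s.proj t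
    rw [reassoc_of% this, Iso.inv_hom_id, Category.comp_id]
  · apply (key s).choose_spec.2
    intro t
    have := hm t
    change m ≫ Q.map (Pi.π I t) ≫ (e t).hom = s.proj t at this
    rw [← this, Category.assoc, Category.assoc, Iso.hom_inv_id, Category.comp_id]

/-- bounded below objects have K-injective representatives when there are enough injectives -/
lemma exists_kInjective_of_isGE [EnoughInjectives A] (X : DerivedCategory A) (a : ℤ) [X.IsGE a] :
    ∃ (I : CochainComplex A ℤ), I.IsKInjective ∧ Nonempty (Q.obj I ≅ X) := by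
  obtain ⟨L, hL, ⟨e⟩⟩ := exists_iso_Q_obj_of_isGE X a
  obtain ⟨I, i, hi, hI, hIa⟩ := CochainComplex.Plus.modelCategoryQuillen.exists_quasiIso_injective L a
  haveI : IsIso (Q.map i) := by rw [isIso_Q_map_iff_quasiIso]; exact hi
  exact ⟨I, isKInjective_of_injective I a, ⟨(asIso (Q.map i)).symm ≪≫ e.symm⟩⟩

end Groth.Agent.Lib.Helper25.DProd
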