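import Mathlib
import Groth.Agent.Lib.Helper23.NQuasiIso

/-!
# Functorial injective hulls of complexes (Stacks 079P-style)

For any endofunctor `I : A ⥤ A` of an abelian category with `ε : 𝟭 ⟶ I`, the "disk" functor
`disk I : M ↦ (I(M^n) ⊞ I(M^{n+1}))_n` with `diskι ε : 𝟭 ⟶ disk I` (termwise mono if `ε` is, always
acyclic).  For any `e : 𝟭 ⟶ E` on complexes which is termwise mono, `N E e M = cone(E M → coker e_M)[-1]`
is a functor with `j E e : 𝟭 ⟶ N E e` termwise mono (`mono_j_f`), a quasi-iso as soon as ... `E M`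
arbitrary (`quasiIso_j`: the cokernel of `j` is `cone(𝟙)[-1]`), factoring through `E(M)^n`
(`exists_fac`).  `main`: in a Grothendieck abelian category, the statement of S0918
(via `injFunctor`, `injι` extracted from Mathlib's functorial factorization).
Also: `inl_v_map_f`, `inr_f_map_f`, `map_f_fst_v`, `map_f_snd_v` for `mappingCone.map`,
`acyclic_of_homotopy`, `acyclic_shift`.
-/

set_option autoImplicit false
universe v u
open CategoryTheory CategoryTheory.Limits HomologicalComplex CochainComplex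

namespace Groth.Agent.Lib.Helper25.InjHullCx

variable {A : Type u} [Category.{v} A] [Abelian A]

section Disk
variable (I : A ⥤ A) (ε : 𝟭 A ⟶ I)

/-- `E(M)^n = I(M^n) ⊞ I(M^{n+1})`, `d = snd ≫ inl`. -/
noncomputable abbrev diskObj (M : CochainComplex A ℤ) : CochainComplex A ℤ :=
  CochainComplex.of (fun n => I.obj (M.X n) ⊞ I.obj (M.X (n + 1)))
    (fun _ => biprod.snd ≫ biprod.inl) (fun n => by simp)

lemma diskObj_d (M : CochainComplex A ℤ) (n : ℤ) :
    (diskObj I M).d n (n + 1) =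
      (biprod.snd ≫ biprod.inl : I.obj (M.X n) ⊞ I.obj (M.X (n + 1)) ⟶
        I.obj (M.X (n + 1)) ⊞ I.obj (M.X (n + 1 + 1))) := by
  simp [diskObj]

/-- functoriality of the disk complex -/
noncomputable def diskMap {M M' : CochainComplex A ℤ} (f : M ⟶ M') : diskObj I M ⟶ diskObj I M' :=
  CochainComplex.ofHom (fun n => biprod.map (I.map (f.f n)) (I.map (f.f (n + 1))))
    (fun n => by
      rw [diskObj_d, diskObj_d]
      change biprod.map (I.map (f.f n)) (I.map (f.f (n + 1))) ≫ biprod.snd ≫ biprod.inl =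
        (biprod.snd ≫ biprod.inl) ≫ biprod.map (I.map (f.f (n + 1))) (I.map (f.f (n + 1 + 1)))
      simp)

lemma diskMap_f {M M' : CochainComplex A ℤ} (f : M ⟶ M') (n : ℤ) :
    (diskMap I f).f n = biprod.map (I.map (f.f n)) (I.map (f.f (n + 1))) := rfl

/-- the disk functor -/
noncomputable def disk : CochainComplex A ℤ ⥤ CochainComplex A ℤ where
  obj M := diskObj I M
  map f := diskMap I f
  map_id M := by
    refine HomologicalComplex.hom_ext _ _ (fun n => ?_)
    change biprod.map (I.map ((𝟙 M : M ⟶ M).f n)) (I.map ((𝟙 M : M ⟶ M).f (n + 1))) =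
      𝟙 (I.obj (M.X n) ⊞ I.obj (M.X (n + 1)))
    apply biprod.hom_ext <;> simp
  map_comp {M₁ M₂ M₃} f g := by
    refine HomologicalComplex.hom_ext _ _ (fun n => ?_)
    change biprod.map (I.map ((f ≫ g).f n)) (I.map ((f ≫ g).f (n + 1))) =
      biprod.map (I.map (f.f n)) (I.map (f.f (n + 1))) ≫
        biprod.map (I.map (g.f n)) (I.map (g.f (n + 1)))
    apply biprod.hom_ext <;> simp

variable {I}

/-- the embedding `M ⟶ E(M)` -/
noncomputable def diskιApp (M : CochainComplex A ℤ) : M ⟶ diskObj I M :=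
  CochainComplex.ofHom
    (fun n => biprod.lift (ε.app (M.X n)) (M.d n (n + 1) ≫ ε.app (M.X (n + 1))))
    (fun n => by
      rw [diskObj_d]
      change biprod.lift (ε.app (M.X n)) (M.d n (n + 1) ≫ ε.app (M.X (n + 1))) ≫
          biprod.snd ≫ biprod.inl =
        M.d n (n + 1) ≫ biprod.lift (ε.app (M.X (n + 1)))
          (M.d (n + 1) (n + 1 + 1) ≫ ε.app (M.X (n + 1 + 1)))
      apply biprod.hom_ext <;> simp)

lemma diskιApp_f (M : CochainComplex A ℤ) (n : ℤ) :
    (diskιApp ε M).f n = biprod.lift (ε.app (M.X n)) (M.d n (n + 1) ≫ ε.app (M.X (n + 1))) := rfl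

/-- the natural transformation `𝟭 ⟶ disk I` -/
noncomputable def diskι : 𝟭 (CochainComplex A ℤ) ⟶ disk I where
  app M := diskιApp ε M
  naturality M M' f := by
    refine HomologicalComplex.hom_ext _ _ (fun n => ?_)
    have h1 := ε.naturality (f.f n)
    have h2 := ε.naturality (f.f (n + 1))
    simp only [Functor.id_map] at h1 h2
    change f.f n ≫ biprod.lift (ε.app (M'.X n)) (M'.d n (n + 1) ≫ ε.app (M'.X (n + 1))) =
      biprod.lift (ε.app (M.X n)) (M.d n (n + 1) ≫ ε.app (M.X (n + 1))) ≫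
        biprod.map (I.map (f.f n)) (I.map (f.f (n + 1)))
    apply biprod.hom_ext
    · simp [h1]
    · simp [← h2]

lemma mono_diskι_f [∀ X, Mono (ε.app X)] (M : CochainComplex A ℤ) (n : ℤ) :
    Mono (((diskι ε).app M).f n) := by
  have : ((diskι ε).app M).f n ≫
      (biprod.fst : I.obj (M.X n) ⊞ I.obj (M.X (n + 1)) ⟶ _) = ε.app (M.X n) :=
    biprod.lift_fst _ _
  exact mono_of_mono_fac this

lemma injective_disk_X [∀ X, Injective (I.obj X)] (M : CochainComplex A ℤ) (n : ℤ) :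
    Injective (((disk I).obj M).X n) := by
  change Injective (I.obj (M.X n) ⊞ I.obj (M.X (n + 1)))
  infer_instance

lemma acyclic_disk (M : CochainComplex A ℤ) : ((disk I).obj M).Acyclic := by
  intro n
  obtain ⟨m, rfl⟩ : ∃ m, n = m + 1 := ⟨n - 1, by omega⟩
  rw [HomologicalComplex.exactAt_iff' _ m (m + 1) (m + 1 + 1) (by simp) (by simp)]
  rw [ShortComplex.exact_iff_exact_up_to_refinements]
  intro T x hx
  change T ⟶ I.obj (M.X (m + 1)) ⊞ I.obj (M.X (m + 1 + 1)) at x
  change x ≫ (diskObj I M).d (m + 1) (m + 1 + 1) = 0 at hx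
  rw [diskObj_d] at hx
  have hx' : x ≫ biprod.snd = 0 := by
    rw [← Category.assoc] at hx
    exact (cancel_mono biprod.inl).1 (hx.trans zero_comp.symm)
  refine ⟨T, 𝟙 T, inferInstance,
    (x ≫ biprod.fst ≫ biprod.inr : T ⟶ I.obj (M.X m) ⊞ I.obj (M.X (m + 1))), ?_⟩
  change 𝟙 T ≫ x = (x ≫ biprod.fst ≫ biprod.inr) ≫ (diskObj I M).d m (m + 1)
  rw [diskObj_d, Category.id_comp]
  apply biprod.hom_ext
  · simp
  · simp [hx']

end Disk

section Cocone

open CochainComplex.mappingCone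

variable (E : CochainComplex A ℤ ⥤ CochainComplex A ℤ) (e : 𝟭 (CochainComplex A ℤ) ⟶ E)

/-- the cokernel of `e_M` -/
noncomputable abbrev Qobj (M : CochainComplex A ℤ) : CochainComplex A ℤ := cokernel (e.app M)

/-- the projection `E(M) ⟶ Q(M)` -/
noncomputable abbrev gApp (M : CochainComplex A ℤ) : E.obj M ⟶ Qobj E e M := cokernel.π (e.app M)

/-- functoriality of `Q` -/
noncomputable def Qmap {M M' : CochainComplex A ℤ} (f : M ⟶ M') : Qobj E e M ⟶ Qobj E e M' :=
  cokernel.map (e.app M) (e.app M') f (E.map f) (e.naturality f).symm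

@[reassoc (attr := simp)]
lemma gApp_Qmap {M M' : CochainComplex A ℤ} (f : M ⟶ M') :
    gApp E e M ≫ Qmap E e f = E.map f ≫ gApp E e M' := by
  simp [Qmap, gApp]

@[simp] lemma Qmap_id (M : CochainComplex A ℤ) : Qmap E e (𝟙 M) = 𝟙 _ := by
  rw [← cancel_epi (gApp E e M)]
  simp

@[simp] lemma Qmap_comp {M₁ M₂ M₃ : CochainComplex A ℤ} (f : M₁ ⟶ M₂) (f' : M₂ ⟶ M₃) :
    Qmap E e (f ≫ f') = Qmap E e f ≫ Qmap E e f' := by
  rw [← cancel_epi (gApp E e M₁)]
  simp

lemma mappingCone_map_eq_id {K L : CochainComplex A ℤ} (φ : K ⟶ L) (a : K ⟶ K) (b : L ⟶ L)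
    (ha : a = 𝟙 K) (hb : b = 𝟙 L) (comm : φ ≫ b = a ≫ φ) :
    mappingCone.map φ φ a b comm = 𝟙 _ := by
  subst ha hb
  exact mappingCone.map_id φ

lemma mappingCone_map_eq_comp {K₁ L₁ K₂ L₂ K₃ L₃ : CochainComplex A ℤ}
    (φ₁ : K₁ ⟶ L₁) (φ₂ : K₂ ⟶ L₂) (φ₃ : K₃ ⟶ L₃)
    (a : K₁ ⟶ K₂) (b : L₁ ⟶ L₂) (a' : K₂ ⟶ K₃) (b' : L₂ ⟶ L₃) (a'' : K₁ ⟶ K₃) (b'' : L₁ ⟶ L₃)
    (ha : a'' = a ≫ a') (hb : b'' = b ≫ b')
    (comm : φ₁ ≫ b = a ≫ φ₂) (comm' : φ₂ ≫ b' = a' ≫ φ₃) (comm'' : φ₁ ≫ b'' = a'' ≫ φ₃) :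
    mappingCone.map φ₁ φ₃ a'' b'' comm'' =
      mappingCone.map φ₁ φ₂ a b comm ≫ mappingCone.map φ₂ φ₃ a' b' comm' := by
  subst ha hb
  exact mappingCone.map_comp φ₁ φ₂ φ₃ a b comm a' b' comm'

/-- `N(M) = cone(E(M) → Q(M))[-1]` -/
noncomputable def Nobj (M : CochainComplex A ℤ) : CochainComplex A ℤ :=
  (mappingCone (gApp E e M))⟦(-1 : ℤ)⟧

/-- functoriality of `N` -/
noncomputable def Nmap {M M' : CochainComplex A ℤ} (f : M ⟶ M') : Nobj E e M ⟶ Nobj E e M' :=
  (mappingCone.map (gApp E e M) (gApp E e M') (E.map f) (Qmap E e f) (gApp_Qmap E e f))⟦(-1 : ℤ)⟧'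

/-- the functor `N` -/
noncomputable def N : CochainComplex A ℤ ⥤ CochainComplex A ℤ where
  obj M := Nobj E e M
  map f := Nmap E e f
  map_id M := by
    dsimp only [Nmap, Nobj]
    rw [mappingCone_map_eq_id _ _ _ (E.map_id M) (Qmap_id E e M), CategoryTheory.Functor.map_id]
  map_comp {M₁ M₂ M₃} f f' := by
    dsimp only [Nmap, Nobj]
    rw [mappingCone_map_eq_comp _ _ _ _ _ _ _ _ _ (E.map_comp f f') (Qmap_comp E e f f')
      (gApp_Qmap E e f) (gApp_Qmap E e f'), CategoryTheory.Functor.map_comp]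

lemma e_g_f (M : CochainComplex A ℤ) (n : ℤ) :
    (e.app M).f n ≫ (gApp E e M).f n = 0 := by
  have := HomologicalComplex.congr_hom (cokernel.condition (e.app M)) n
  simpa only [HomologicalComplex.comp_f, HomologicalComplex.zero_f] using this

lemma jAux (M : CochainComplex A ℤ) (n m n' m' : ℤ) (h : n + 1 = m) (hn : n + (-1) = n')
    (hm : m + (-1) = m') :
    (e.app M).f n ≫ (inl (gApp E e M)).v n n' hn ≫ (mappingCone (gApp E e M)).d n' m' =
      - M.d n m ≫ (e.app M).f m ≫ (inl (gApp E e M)).v m m' hm := by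
  obtain rfl : m' = n := by omega
  have hc := (e.app M).comm m' m
  simp only [Functor.id_obj] at hc
  rw [inl_v_d _ m' n' m hn hm, Preadditive.comp_sub, reassoc_of% (e_g_f E e M m'), zero_comp,
    zero_sub, reassoc_of% hc]

set_option backward.isDefEq.respectTransparency.types false in
/-- the map `M ⟶ N(M)` -/
noncomputable def jApp (M : CochainComplex A ℤ) : M ⟶ Nobj E e M where
  f n := (e.app M).f n ≫ (inl (gApp E e M)).v n (n + (-1)) rfl
  comm' n m h := by
    change ((e.app M).f n ≫ (inl (gApp E e M)).v n (n + (-1)) rfl) ≫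
      ((-1 : ℤ).negOnePow • (mappingCone (gApp E e M)).d (n + (-1)) (m + (-1))) =
      M.d n m ≫ (e.app M).f m ≫ (inl (gApp E e M)).v m (m + (-1)) rfl
    rw [Category.assoc, Int.negOnePow_neg, Int.negOnePow_one, Units.neg_smul, one_smul,
      Preadditive.comp_neg, Preadditive.comp_neg, jAux E e M n m _ _ h rfl rfl, neg_neg]

section MapLemmas

variable {K₁ L₁ K₂ L₂ : CochainComplex A ℤ} (φ₁ : K₁ ⟶ L₁) (φ₂ : K₂ ⟶ L₂)
  (a : K₁ ⟶ K₂) (b : L₁ ⟶ L₂) (comm : φ₁ ≫ b = a ≫ φ₂)

@[reassoc]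
lemma inl_v_map_f (p q : ℤ) (h : p + (-1) = q) :
    (inl φ₁).v p q h ≫ (mappingCone.map φ₁ φ₂ a b comm).f q = a.f p ≫ (inl φ₂).v p q h := by
  simp [mappingCone.map]

@[reassoc]
lemma inr_f_map_f (p : ℤ) :
    (inr φ₁).f p ≫ (mappingCone.map φ₁ φ₂ a b comm).f p = b.f p ≫ (inr φ₂).f p := by
  simp [mappingCone.map]

@[reassoc]
lemma map_f_fst_v (p q : ℤ) (h : p + 1 = q) :
    (mappingCone.map φ₁ φ₂ a b comm).f p ≫ (fst φ₂).1.v p q h = (fst φ₁).1.v p q h ≫ a.f q := by
  rw [ext_from_iff _ q p h]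
  constructor
  · rw [inl_v_map_f_assoc]
    simp
  · rw [inr_f_map_f_assoc]
    simp

@[reassoc]
lemma map_f_snd_v (p : ℤ) :
    (mappingCone.map φ₁ φ₂ a b comm).f p ≫ (snd φ₂).v p p (add_zero p) =
      (snd φ₁).v p p (add_zero p) ≫ b.f p := by
  rw [ext_from_iff _ (p + 1) p rfl]
  constructor
  · rw [inl_v_map_f_assoc]
    simp
  · rw [inr_f_map_f_assoc]
    simp

end MapLemmas

/-- the natural transformation `j : 𝟭 ⟶ N` -/
noncomputable def j : 𝟭 (CochainComplex A ℤ) ⟶ N E e where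
  app M := jApp E e M
  naturality M M' f := by
    refine HomologicalComplex.hom_ext _ _ (fun n => ?_)
    have h1 := HomologicalComplex.congr_hom (e.naturality f) n
    simp only [Functor.id_map, Functor.id_obj, HomologicalComplex.comp_f] at h1
    change f.f n ≫ (e.app M').f n ≫ (inl (gApp E e M')).v n (n + (-1)) rfl =
      ((e.app M).f n ≫ (inl (gApp E e M)).v n (n + (-1)) rfl) ≫
        (mappingCone.map (gApp E e M) (gApp E e M') (E.map f) (Qmap E e f)
          (gApp_Qmap E e f)).f (n + (-1))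
    rw [Category.assoc, inl_v_map_f, reassoc_of% h1]

lemma mono_j_f [∀ M n, Mono ((e.app M).f n)] (M : CochainComplex A ℤ) (n : ℤ) :
    Mono (((j E e).app M).f n) := by
  haveI : Mono ((inl (gApp E e M)).v n (n + (-1)) rfl) :=
    mono_of_mono_fac (inl_v_fst_v (gApp E e M) n (n + (-1)) (by omega))
  change Mono ((e.app M).f n ≫ (inl (gApp E e M)).v n (n + (-1)) rfl)
  infer_instance

set_option backward.isDefEq.respectTransparency.types false in
lemma exists_fac [∀ M n, Mono ((e.app M).f n)] (M : CochainComplex A ℤ) (n : ℤ) :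
    ∃ (b : (E.obj M).X n ⟶ ((N E e).obj M).X n),
      Mono b ∧ (e.app M).f n ≫ b = ((j E e).app M).f n := by
  haveI : Mono ((inl (gApp E e M)).v n (n + (-1)) rfl) :=
    mono_of_mono_fac (inl_v_fst_v (gApp E e M) n (n + (-1)) (by omega))
  exact ⟨(inl (gApp E e M)).v n (n + (-1)) rfl, this, rfl⟩

section SES

variable [∀ M n, Mono ((e.app M).f n)]

lemma shortExact_e_g (M : CochainComplex A ℤ) :
    (ShortComplex.mk (e.app M) (gApp E e M) (cokernel.condition _)).ShortExact := by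
  haveI : Mono (e.app M) := HomologicalComplex.mono_of_mono_f _ (fun n => inferInstance)
  exact ShortComplex.ShortExact.mk' (ShortComplex.exact_cokernel (e.app M)) ‹_› inferInstance

/-- the map `cone(g) ⟶ cone(𝟙 Q)` -/
noncomputable abbrev pCone (M : CochainComplex A ℤ) :
    mappingCone (gApp E e M) ⟶ mappingCone (𝟙 (Qobj E e M)) :=
  mappingCone.map (gApp E e M) (𝟙 (Qobj E e M)) (gApp E e M) (𝟙 _) (by simp)

lemma shortExact_deg (M : CochainComplex A ℤ) (n n' : ℤ) (hn : n + (-1) = n') :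
    (ShortComplex.mk ((e.app M).f n ≫ (inl (gApp E e M)).v n n' hn)
      ((pCone E e M).f n') (by
        rw [Category.assoc, inl_v_map_f, reassoc_of% (e_g_f E e M n), zero_comp])).ShortExact := by
  have hS0 := (shortExact_e_g E e M).map_of_exact (HomologicalComplex.eval A (ComplexShape.up ℤ) n)
  have hex := hS0.exact
  rw [ShortComplex.exact_iff_exact_up_to_refinements] at hex
  haveI hepi : Epi ((gApp E e M).f n) := hS0.epi_g
  have hn' : n' + 1 = n := by omega
  haveI : Mono ((inl (gApp E e M)).v n n' hn) :=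
    mono_of_mono_fac (inl_v_fst_v (gApp E e M) n n' hn')
  refine ShortComplex.ShortExact.mk' ?_ ?_ ?_
  · rw [ShortComplex.exact_iff_exact_up_to_refinements]
    intro T x hx
    change T ⟶ (mappingCone (gApp E e M)).X n' at x
    change x ≫ (pCone E e M).f n' = 0 at hx
    have h1 : (x ≫ (fst (gApp E e M)).1.v n' n hn') ≫ (gApp E e M).f n = 0 := by
      rw [Category.assoc, ← map_f_fst_v (gApp E e M) (𝟙 (Qobj E e M)) (gApp E e M) (𝟙 _) (by simp)
        n' n hn', reassoc_of% hx, zero_comp]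
    have h2 : x ≫ (snd (gApp E e M)).v n' n' (add_zero n') = 0 := by
      have := x ≫= map_f_snd_v (gApp E e M) (𝟙 (Qobj E e M)) (gApp E e M) (𝟙 _) (by simp) n'
      rw [reassoc_of% hx, zero_comp] at this
      simpa using this.symm
    obtain ⟨T', π, hπ, x₁, hx₁⟩ : ∃ (T' : A) (π : T' ⟶ T) (_ : Epi π) (x₁ : T' ⟶ M.X n),
        π ≫ x ≫ (fst (gApp E e M)).1.v n' n hn' = x₁ ≫ (e.app M).f n :=
      hex (x ≫ (fst (gApp E e M)).1.v n' n hn') h1
    refine ⟨T', π, hπ, x₁, ?_⟩
    change π ≫ x = x₁ ≫ (e.app M).f n ≫ (inl (gApp E e M)).v n n' hn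
    rw [ext_to_iff _ n' n hn']
    constructor
    · simp only [Category.assoc, inl_v_fst_v, Category.comp_id]
      exact hx₁
    · simp only [Category.assoc, inl_v_snd_v, comp_zero, h2]
  · change Mono ((e.app M).f n ≫ (inl (gApp E e M)).v n n' hn)
    infer_instance
  · change Epi ((pCone E e M).f n')
    rw [epi_iff_surjective_up_to_refinements]
    intro T y
    obtain ⟨T', π, hπ, x₁, hx₁⟩ := surjective_up_to_refinements_of_epi ((gApp E e M).f n)
      (y ≫ (fst (𝟙 (Qobj E e M))).1.v n' n hn')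
    refine ⟨T', π, hπ, x₁ ≫ (inl (gApp E e M)).v n n' hn +
      π ≫ y ≫ (snd (𝟙 (Qobj E e M))).v n' n' (add_zero n') ≫ (inr (gApp E e M)).f n', ?_⟩
    rw [Preadditive.add_comp, Category.assoc, inl_v_map_f, ← reassoc_of% hx₁]
    simp only [Category.assoc]
    rw [inr_f_map_f, HomologicalComplex.id_f, Category.id_comp, ← Preadditive.comp_add,
      ← Preadditive.comp_add, id_X _ n' n hn', Category.comp_id]

/-- the projection `N(M) ⟶ cone(𝟙 Q)[-1]` -/
noncomputable def pApp (M : CochainComplex A ℤ) :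
    Nobj E e M ⟶ (mappingCone (𝟙 (Qobj E e M)))⟦(-1 : ℤ)⟧ :=
  (pCone E e M)⟦(-1 : ℤ)⟧'

set_option backward.isDefEq.respectTransparency.types false in
lemma jApp_pApp (M : CochainComplex A ℤ) : jApp E e M ≫ pApp E e M = 0 := by
  refine HomologicalComplex.hom_ext _ _ (fun n => ?_)
  exact (ShortComplex.mk ((e.app M).f n ≫ (inl (gApp E e M)).v n (n + (-1)) rfl)
      ((pCone E e M).f (n + (-1))) (by
        rw [Category.assoc, inl_v_map_f, reassoc_of% (e_g_f E e M n), zero_comp])).zero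

set_option backward.isDefEq.respectTransparency.types false in
lemma shortExact_j_p (M : CochainComplex A ℤ) :
    (ShortComplex.mk (jApp E e M) (pApp E e M) (jApp_pApp E e M)).ShortExact := by
  apply HomologicalComplex.shortExact_of_degreewise_shortExact
  intro n
  exact shortExact_deg E e M n (n + (-1)) rfl

lemma acyclic_of_homotopy {K : CochainComplex A ℤ} (h : Homotopy (𝟙 K) 0) : K.Acyclic := by
  intro n
  rw [HomologicalComplex.exactAt_iff_isZero_homology, IsZero.iff_id_eq_zero,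
    ← HomologicalComplex.homologyMap_id, h.homologyMap_eq n, HomologicalComplex.homologyMap_zero]

lemma acyclic_shift {K : CochainComplex A ℤ} (h : K.Acyclic) (a : ℤ) : (K⟦a⟧).Acyclic := by
  intro n
  rw [HomologicalComplex.exactAt_iff_isZero_homology]
  have h' := (h (a + n))
  rw [HomologicalComplex.exactAt_iff_isZero_homology] at h'
  exact IsZero.of_iso h'
    (((HomologicalComplex.homologyFunctor A (ComplexShape.up ℤ) 0).shiftIso a n (a + n) rfl).app K)

lemma quasiIso_j (M : CochainComplex A ℤ) : QuasiIso ((j E e).app M) :=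
  Groth.Agent.Lib.helper23.NQuasiIso.quasiIso_f_of_acyclic_X₃ (shortExact_j_p E e M)
    (acyclic_shift (acyclic_of_homotopy (homotopyToZeroOfId _)) _)

end SES

end Cocone

section Groth

open ZeroObject

variable (A) [IsGrothendieckAbelian.{v} A]

/-- `X ↦ (X ⟶ 0)` -/
noncomputable def toZeroArrow : A ⥤ Arrow A where
  obj X := Arrow.mk (0 : X ⟶ 0)
  map f := Arrow.homMk f (𝟙 0) (by simp)

/-- functorial injective hull (objects) -/
noncomputable def injFunctor : A ⥤ A :=
  toZeroArrow A ⋙ (MorphismProperty.functorialFactorizationData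
    (MorphismProperty.monomorphisms A) (MorphismProperty.monomorphisms A).rlp).Z

/-- functorial injective hull (embedding) -/
noncomputable def injι : 𝟭 A ⟶ injFunctor A where
  app X := (MorphismProperty.functorialFactorizationData
    (MorphismProperty.monomorphisms A) (MorphismProperty.monomorphisms A).rlp).i.app
      (Arrow.mk (0 : X ⟶ 0))
  naturality X Y f := (MorphismProperty.functorialFactorizationData
    (MorphismProperty.monomorphisms A) (MorphismProperty.monomorphisms A).rlp).i.naturality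
      ((toZeroArrow A).map f)

instance (X : A) : Mono ((injι A).app X) :=
  inferInstanceAs (Mono (IsGrothendieckAbelian.monoMapFactorizationDataRlp (0 : X ⟶ 0)).i)

instance (X : A) : Injective ((injFunctor A).obj X) :=
  inferInstanceAs (Injective (IsGrothendieckAbelian.monoMapFactorizationDataRlp (0 : X ⟶ 0)).Z)

theorem main :
    ∃ (N : CochainComplex A ℤ ⥤ CochainComplex A ℤ) (j : 𝟭 _ ⟶ N),
      ∀ M : CochainComplex A ℤ, (∀ n : ℤ, Mono ((j.app M).f n)) ∧ QuasiIso (j.app M) ∧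
        ∀ n : ℤ, ∃ (I : A) (_ : Injective I) (a : M.X n ⟶ I) (b : I ⟶ (N.obj M).X n),
          Mono b ∧ a ≫ b = (j.app M).f n := by
  haveI : ∀ (M : CochainComplex A ℤ) (n : ℤ), Mono (((diskι (injι A)).app M).f n) :=
    fun M n => mono_diskι_f (injι A) M n
  refine ⟨N (disk (injFunctor A)) (diskι (injι A)), j _ _, fun M => ⟨?_, ?_, ?_⟩⟩
  · intro n
    exact mono_j_f _ _ M n
  · exact quasiIso_j _ _ M
  · intro n
    obtain ⟨b, hb, hab⟩ := exists_fac (disk (injFunctor A)) (diskι (injι A)) M n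
    exact ⟨_, injective_disk_X M n, _, b, hb, hab⟩

end Groth

end Groth.Agent.Lib.Helper25.InjHullCx
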