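import Mathlib

/-!
# Small lifts in Grothendieck abelian categories (part of the K-injective resolution library, S0476)

`exists_small_lift`: for an epi `π : T ⟶ Z`, `Z` a subobject of a quotient of `R`, there is a map
`∐_{Subobject R} G ⟶ T` whose composite with `π` is epi (`G` a separator).  Also
`pullback_obj_injective` (pullback of subobjects along an epi is injective), `factors_of_epi_comp`.
-/

set_option autoImplicit false
universe v u
open CategoryTheory CategoryTheory.Limits

namespace Groth.Agent.Lib.Helper25.KInjSmallLift

variable {D : Type u} [Category.{v} D] [Abelian D]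

/-- if `e` is epi and `e ≫ g` factors through the subobject `s`, then `g` factors through `s` -/
lemma factors_of_epi_comp {P B Z : D} (e : P ⟶ B) [Epi e] (g : B ⟶ Z) (s : Subobject Z)
    (h : s.Factors (e ≫ g)) : s.Factors g := by
  haveI : StrongEpi e := strongEpi_of_epi e
  have sq : CommSq (s.factorThru _ h) e s.arrow g := ⟨by simp⟩
  exact (Subobject.factors_iff _ _).2 ⟨sq.lift, sq.fac_right⟩

/-- pullback of subobjects along an epimorphism is injective -/
lemma pullback_obj_injective {R Z : D} (p : R ⟶ Z) [Epi p] :
    Function.Injective (Subobject.pullback p).obj := by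
  have key : ∀ s s' : Subobject Z, (Subobject.pullback p).obj s = (Subobject.pullback p).obj s' →
      s ≤ s' := by
    intro s s' h
    have sq := Subobject.isPullback p s
    have sq' := Subobject.isPullback p s'
    haveI : Epi (Subobject.pullbackπ p s) :=
      MorphismProperty.of_isPullback (P := MorphismProperty.epimorphisms D) sq.flip
        (MorphismProperty.epimorphisms.infer_property p)
    have h1 : s'.Factors (Subobject.pullbackπ p s ≫ s.arrow) := by
      rw [sq.w, h, (Subobject.factors_iff _ _)]
      exact ⟨Subobject.pullbackπ p s', sq'.w⟩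
    exact Subobject.le_of_comm (s'.factorThru _ (factors_of_epi_comp _ _ _ h1)) (by simp)
  intro s s' h
  exact le_antisymm (key s s' h) (key s' s h.symm)

/-- if two morphisms have the same image and one is killed by `g`, so is the other -/
lemma comp_eq_zero_of_imageSubobject_eq {X Y Z W : D} (a : X ⟶ Z) (b : Y ⟶ Z) (g : Z ⟶ W)
    (h : imageSubobject a = imageSubobject b) (ha : a ≫ g = 0) : b ≫ g = 0 := by
  have h1 : (imageSubobject a).arrow ≫ g = 0 := by
    rw [← cancel_epi (factorThruImageSubobject a), imageSubobject_arrow_comp_assoc, ha, comp_zero]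
  have h2 : (imageSubobject b).arrow ≫ g = 0 := h ▸ h1
  rw [← imageSubobject_arrow_comp b, Category.assoc, h2, comp_zero]

variable [IsGrothendieckAbelian.{v} D]

/-- **Small lift**: for an epi `π : T ⟶ Z` onto a subobject `Z` of a quotient `Z''` of `R`, there is a
map from a coproduct of copies of the separator `G`, indexed by the subobjects of `R`, to `T` whose
composite with `π` is still epi. -/
lemma exists_small_lift {G : D} (hG : IsSeparator G) {R Z'' Z T : D} (p : R ⟶ Z'') [Epi p]
    (z : Z ⟶ Z'') [Mono z] (π : T ⟶ Z) [Epi π] :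
    ∃ q : (∐ fun _ : Shrink.{v} (Subobject R) => G) ⟶ T, Epi (q ≫ π) := by
  classical
  let idx : (G ⟶ T) → Subobject R := fun h =>
    (Subobject.pullback p).obj ((Subobject.map z).obj (imageSubobject (h ≫ π)))
  let hh : Shrink.{v} (Subobject R) → (G ⟶ T) := fun σ =>
    if hσ : ∃ h : G ⟶ T, idx h = (equivShrink _).symm σ then hσ.choose else 0
  refine ⟨Sigma.desc hh, ?_⟩
  apply Preadditive.epi_of_cancel_zero
  intro W g hg
  rw [← cancel_epi π, comp_zero]
  apply hG.def
  intro h₀
  rw [comp_zero]
  let σ : Shrink.{v} (Subobject R) := equivShrink _ (idx h₀)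
  have hσ : ∃ h : G ⟶ T, idx h = (equivShrink _).symm σ := ⟨h₀, by simp [σ]⟩
  have h1 : idx (hh σ) = idx h₀ := by
    have e1 : hh σ = hσ.choose := dif_pos hσ
    have e2 := hσ.choose_spec
    rw [e1]
    exact e2.trans (by simp [σ])
  have h2 : imageSubobject (hh σ ≫ π) = imageSubobject (h₀ ≫ π) :=
    Subobject.map_obj_injective z (pullback_obj_injective p h1)
  have h3 : (hh σ ≫ π) ≫ g = 0 := by
    have := Sigma.ι (fun _ : Shrink.{v} (Subobject R) => G) σ ≫= hg
    simpa using this
  have := comp_eq_zero_of_imageSubobject_eq _ _ g h2 h3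
  simpa using this

end Groth.Agent.Lib.Helper25.KInjSmallLift
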