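import Mathlib
import Groth.Agent.Lib.Helper25.KInjSmallLift

/-!
# The cardinality lemma for acyclic complexes (part of the K-injective resolution library, S0476)

* `subCx`, `subCxι`, `exactAt_subCx`: the subcomplex attached to a family of subobjects stable under `d`.
* `exists_small_acyclic_sub`: in a Grothendieck abelian category with separator `G`, every nonzero acyclic
  complex `Q` has a nonzero acyclic subcomplex which is a quotient of the fixed complex `Pinf G`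
  (bounded above, built by downward recursion `Sfam`: image of a nonzero `x : G ⟶ Q^{n₀}`, its image under
  `d` above, and chosen small lifts of the cycles below; sizes bounded by `Rfam`).
* `disk`, `diskEquiv`: disk complexes (Mathlib `double (𝟙 T)`) and their universal property.
-/

set_option autoImplicit false
universe v u
open CategoryTheory CategoryTheory.Limits

namespace Groth.Agent.Lib.Helper25.KInjKL

open Groth.Agent.Lib.Helper25.KInjSmallLift

variable {A : Type u} [Category.{v} A] [Abelian A]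

section SubCx

variable (Q : CochainComplex A ℤ) (S : ∀ m : ℤ, Subobject (Q.X m))
  (hS : ∀ m : ℤ, (S (m + 1)).Factors ((S m).arrow ≫ Q.d m (m + 1)))

/-- the subcomplex attached to a family of subobjects stable under the differential -/
noncomputable abbrev subCx : CochainComplex A ℤ :=
  CochainComplex.of (fun m => (S m : A)) (fun m => (S (m + 1)).factorThru _ (hS m)) (by
    intro m
    rw [← cancel_mono (S (m + 1 + 1)).arrow]
    simp)

/-- the inclusion of the subcomplex -/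
noncomputable def subCxι : subCx Q S hS ⟶ Q :=
  CochainComplex.ofHom (fun m => (S m).arrow) (fun m => by
    change (S m).arrow ≫ Q.d m (m + 1) = (subCx Q S hS).d m (m + 1) ≫ (S (m + 1)).arrow
    simp [subCx])

lemma subCxι_f (m : ℤ) : (subCxι Q S hS).f m = (S m).arrow := rfl

instance (m : ℤ) : Mono ((subCxι Q S hS).f m) := inferInstanceAs (Mono (S m).arrow)

instance : Mono (subCxι Q S hS) := HomologicalComplex.mono_of_mono_f _ (fun _ => inferInstance)

lemma exactAt_subCx (m' m : ℤ) (hm : m' + 1 = m)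
    (h : ∀ (T : A) (w : T ⟶ (S m : A)), w ≫ (S m).arrow ≫ Q.d m (m + 1) = 0 →
      ∃ (T' : A) (π : T' ⟶ T) (_ : Epi π) (y : T' ⟶ (S m' : A)),
        π ≫ w ≫ (S m).arrow = y ≫ (S m').arrow ≫ Q.d m' m) :
    (subCx Q S hS).ExactAt m := by
  rw [HomologicalComplex.exactAt_iff' _ m' m (m + 1) (by simp; omega) (by simp),
    ShortComplex.exact_iff_exact_up_to_refinements]
  intro T x₂ hx₂
  change T ⟶ (S m : A) at x₂
  change x₂ ≫ (subCx Q S hS).d m (m + 1) = 0 at hx₂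
  have h1 : x₂ ≫ (S m).arrow ≫ Q.d m (m + 1) = 0 := by
    have : (S m).arrow ≫ Q.d m (m + 1) = (subCx Q S hS).d m (m + 1) ≫ (S (m + 1)).arrow :=
      (subCxι Q S hS).comm m (m + 1)
    rw [this, reassoc_of% hx₂, zero_comp]
  obtain ⟨T', π, hπ, y, hy⟩ := h T x₂ h1
  refine ⟨T', π, hπ, y, ?_⟩
  change π ≫ x₂ = y ≫ (subCx Q S hS).d m' m
  have : (S m').arrow ≫ Q.d m' m = (subCx Q S hS).d m' m ≫ (S m).arrow :=
    (subCxι Q S hS).comm m' m
  rw [← cancel_mono (S m).arrow, Category.assoc, Category.assoc, hy, this]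

end SubCx

lemma refine_image {X Y : A} (f : X ⟶ Y) (S' : Subobject Y) (e : S' = imageSubobject f) {T : A}
    (w : T ⟶ (S' : A)) :
    ∃ (T' : A) (π : T' ⟶ T) (_ : Epi π) (y : T' ⟶ X), π ≫ w ≫ S'.arrow = y ≫ f := by
  subst e
  refine ⟨pullback w (factorThruImageSubobject f), pullback.fst _ _, inferInstance,
    pullback.snd _ _, ?_⟩
  rw [← Category.assoc, pullback.condition, Category.assoc, imageSubobject_arrow_comp]

section KL

variable [IsGrothendieckAbelian.{v} A] {G : A} (hG : IsSeparator G)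
  (Q : CochainComplex A ℤ) (hQ : Q.Acyclic)

include hG hQ in
lemma exists_lift (k : ℤ) (Sk : Subobject (Q.X k)) :
    ∃ (L : Subobject (Q.X (k - 1))), Sk.Factors (L.arrow ≫ Q.d (k - 1) k) ∧
      (∀ (T : A) (w : T ⟶ (Sk : A)), w ≫ Sk.arrow ≫ Q.d k (k + 1) = 0 →
        ∃ (T' : A) (π : T' ⟶ T) (_ : Epi π) (y : T' ⟶ (L : A)),
          π ≫ w ≫ Sk.arrow = y ≫ L.arrow ≫ Q.d (k - 1) k) ∧
      ∃ ρ' : (∐ fun _ : Shrink.{v} (Subobject (Sk : A)) => G) ⟶ (L : A), Epi ρ' := by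
  obtain ⟨ζ, hζdef⟩ : ∃ ζ : kernel (Sk.arrow ≫ Q.d k (k + 1)) ⟶ (Sk : A),
      ζ = kernel.ι (Sk.arrow ≫ Q.d k (k + 1)) := ⟨_, rfl⟩
  haveI : Mono ζ := by rw [hζdef]; infer_instance
  have hζ : (ζ ≫ Sk.arrow) ≫ Q.d k (k + 1) = 0 := by
    rw [Category.assoc, hζdef]
    exact kernel.condition _
  have hex := hQ k
  rw [HomologicalComplex.exactAt_iff' _ (k - 1) k (k + 1) (by simp) (by simp),
    ShortComplex.exact_iff_exact_up_to_refinements] at hex
  obtain ⟨T, π, hπ, y, hy⟩ : ∃ (T : A) (π : T ⟶ kernel (Sk.arrow ≫ Q.d k (k + 1))) (_ : Epi π)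
      (y : T ⟶ Q.X (k - 1)), π ≫ ζ ≫ Sk.arrow = y ≫ Q.d (k - 1) k := hex (ζ ≫ Sk.arrow) hζ
  obtain ⟨q, hq⟩ := exists_small_lift hG (𝟙 (Sk : A)) ζ π
  refine ⟨imageSubobject (q ≫ y), ?_, ?_, ⟨factorThruImageSubobject (q ≫ y), inferInstance⟩⟩
  · apply factors_of_epi_comp (factorThruImageSubobject (q ≫ y))
    rw [imageSubobject_arrow_comp_assoc, Category.assoc, ← hy, Subobject.factors_iff]
    exact ⟨q ≫ π ≫ ζ, by simp⟩
  · intro T₁ w hw
    obtain ⟨w', hw'⟩ : ∃ w' : T₁ ⟶ kernel (Sk.arrow ≫ Q.d k (k + 1)), w' ≫ ζ = w :=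
      ⟨kernel.lift _ w hw, by rw [hζdef]; exact kernel.lift_ι _ _ _⟩
    refine ⟨pullback w' (q ≫ π), pullback.fst _ _, inferInstance,
      pullback.snd _ _ ≫ factorThruImageSubobject (q ≫ y), ?_⟩
    rw [Category.assoc, imageSubobject_arrow_comp_assoc, Category.assoc, ← hy, ← hw']
    have := pullback.condition (f := w') (g := q ≫ π)
    simp only [Category.assoc]
    rw [reassoc_of% this]

/-- the chosen lift of the cycles of `Sk` -/
noncomputable def liftSub (k : ℤ) (Sk : Subobject (Q.X k)) : Subobject (Q.X (k - 1)) :=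
  (exists_lift hG Q hQ k Sk).choose

lemma liftSub_factors (k : ℤ) (Sk : Subobject (Q.X k)) :
    Sk.Factors ((liftSub hG Q hQ k Sk).arrow ≫ Q.d (k - 1) k) :=
  (exists_lift hG Q hQ k Sk).choose_spec.1

lemma liftSub_exact (k : ℤ) (Sk : Subobject (Q.X k)) (T : A) (w : T ⟶ (Sk : A))
    (hw : w ≫ Sk.arrow ≫ Q.d k (k + 1) = 0) :
    ∃ (T' : A) (π : T' ⟶ T) (_ : Epi π) (y : T' ⟶ (liftSub hG Q hQ k Sk : A)),
      π ≫ w ≫ Sk.arrow = y ≫ (liftSub hG Q hQ k Sk).arrow ≫ Q.d (k - 1) k :=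
  (exists_lift hG Q hQ k Sk).choose_spec.2.1 T w hw

lemma liftSub_small (k : ℤ) (Sk : Subobject (Q.X k)) :
    ∃ ρ' : (∐ fun _ : Shrink.{v} (Subobject (Sk : A)) => G) ⟶ (liftSub hG Q hQ k Sk : A), Epi ρ' :=
  (exists_lift hG Q hQ k Sk).choose_spec.2.2

variable (n₀ : ℤ) (x : G ⟶ Q.X n₀)

/-- the family of subobjects: `im x` in degree `n₀`, images of the differential above,
chosen lifts of the cycles below -/
noncomputable def Sfam (m : ℤ) : Subobject (Q.X m) :=
  Int.inductionOn' m n₀ (imageSubobject x)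
    (fun k _ Sk => imageSubobject (Sk.arrow ≫ Q.d k (k + 1)))
    (fun k _ Sk => liftSub hG Q hQ k Sk)

lemma Sfam_self : Sfam hG Q hQ n₀ x n₀ = imageSubobject x := Int.inductionOn'_self

lemma Sfam_add_one (k : ℤ) (hk : n₀ ≤ k) : Sfam hG Q hQ n₀ x (k + 1) =
    imageSubobject ((Sfam hG Q hQ n₀ x k).arrow ≫ Q.d k (k + 1)) :=
  Int.inductionOn'_add_one hk

lemma Sfam_sub_one (k : ℤ) (hk : k ≤ n₀) : Sfam hG Q hQ n₀ x (k - 1) =
    liftSub hG Q hQ k (Sfam hG Q hQ n₀ x k) :=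
  Int.inductionOn'_sub_one hk

lemma Sfam_factors' (m' m : ℤ) (hm : m' + 1 = m) :
    (Sfam hG Q hQ n₀ x m).Factors ((Sfam hG Q hQ n₀ x m').arrow ≫ Q.d m' m) := by
  by_cases h : n₀ ≤ m'
  · obtain rfl : m = m' + 1 := by omega
    rw [Sfam_add_one hG Q hQ n₀ x m' h, Subobject.factors_iff]
    exact ⟨factorThruImageSubobject _, imageSubobject_arrow_comp _⟩
  · obtain rfl : m' = m - 1 := by omega
    rw [Sfam_sub_one hG Q hQ n₀ x m (by omega)]
    exact liftSub_factors hG Q hQ m _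

lemma Sfam_factors (m : ℤ) :
    (Sfam hG Q hQ n₀ x (m + 1)).Factors ((Sfam hG Q hQ n₀ x m).arrow ≫ Q.d m (m + 1)) :=
  Sfam_factors' hG Q hQ n₀ x m (m + 1) rfl

/-- the small acyclic subcomplex -/
noncomputable abbrev Dcx : CochainComplex A ℤ :=
  subCx Q (Sfam hG Q hQ n₀ x) (Sfam_factors hG Q hQ n₀ x)

/-- its inclusion -/
noncomputable abbrev Dι : Dcx hG Q hQ n₀ x ⟶ Q :=
  subCxι Q (Sfam hG Q hQ n₀ x) (Sfam_factors hG Q hQ n₀ x)

lemma acyclic_Dcx : (Dcx hG Q hQ n₀ x).Acyclic := by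
  intro m
  apply exactAt_subCx Q _ _ (m - 1) m (by omega)
  intro T w hw
  by_cases h : m ≤ n₀
  · have := liftSub_exact hG Q hQ m (Sfam hG Q hQ n₀ x m) T w hw
    rw [← Sfam_sub_one hG Q hQ n₀ x m h] at this
    exact this
  · obtain ⟨k, rfl⟩ : ∃ k, m = k + 1 := ⟨m - 1, by omega⟩
    have hk : n₀ ≤ k := by omega
    obtain ⟨j, hj⟩ : ∃ j, j = k + 1 - 1 := ⟨_, rfl⟩
    rw [← hj]
    obtain rfl : j = k := by omega
    clear hj
    have e := Sfam_add_one hG Q hQ n₀ x j hk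
    obtain ⟨T', π, hπ, y, hy⟩ := refine_image _ _ e w
    exact ⟨T', π, hπ, y, hy⟩

lemma Dι_ne_zero (hx : x ≠ 0) : Dι hG Q hQ n₀ x ≠ 0 := by
  intro h
  apply hx
  have h1 : (Sfam hG Q hQ n₀ x n₀).arrow = 0 := by
    have := HomologicalComplex.congr_hom h n₀
    rwa [subCxι_f] at this
  rw [Sfam_self] at h1
  rw [← imageSubobject_arrow_comp x, h1, comp_zero]

end KL

section Small

variable [IsGrothendieckAbelian.{v} A]

/-- a coproduct indexed by a bigger type surjects onto a coproduct indexed by a smaller one -/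
lemma exists_epi_sigma_of_injective {α β : Type v} (φ : α → β) (hφ : Function.Injective φ)
    (G : A) : ∃ e : (∐ fun _ : β => G) ⟶ (∐ fun _ : α => G), Epi e := by
  classical
  refine ⟨Sigma.desc (fun b => if h : ∃ a, φ a = b then Sigma.ι (fun _ : α => G) h.choose else 0), ?_⟩
  apply Preadditive.epi_of_cancel_zero
  intro W g hg
  apply Sigma.hom_ext
  intro a
  rw [comp_zero]
  have h : ∃ a', φ a' = φ a := ⟨a, rfl⟩
  have ha : h.choose = a := hφ h.choose_spec
  have := Sigma.ι (fun _ : β => G) (φ a) ≫= hg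
  rw [comp_zero, Sigma.ι_desc_assoc, dif_pos h, ha] at this
  exact this

variable (G : A)

/-- the fixed family of objects bounding the sizes of the `Sfam` -/
noncomputable def Rfam (n₀ : ℤ) (m : ℤ) : A :=
  Int.inductionOn' (motive := fun _ => A) m n₀ G (fun _ _ Rk => Rk)
    (fun _ _ Rk => ∐ fun _ : Shrink.{v} (Subobject Rk) => G)

lemma Rfam_self (n₀ : ℤ) : Rfam G n₀ n₀ = G := Int.inductionOn'_self

lemma Rfam_add_one (n₀ k : ℤ) (hk : n₀ ≤ k) : Rfam G n₀ (k + 1) = Rfam G n₀ k :=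
  Int.inductionOn'_add_one hk

lemma Rfam_sub_one (n₀ k : ℤ) (hk : k ≤ n₀) :
    Rfam G n₀ (k - 1) = ∐ fun _ : Shrink.{v} (Subobject (Rfam G n₀ k)) => G :=
  Int.inductionOn'_sub_one hk

variable {G} (hG : IsSeparator G) (Q : CochainComplex A ℤ) (hQ : Q.Acyclic)
  (n₀ : ℤ) (x : G ⟶ Q.X n₀)

lemma exists_epi_Rfam (m : ℤ) :
    ∃ ρ : Rfam G n₀ m ⟶ (Sfam hG Q hQ n₀ x m : A), Epi ρ := by
  refine Int.inductionOn' m n₀ ?_ ?_ ?_
  · rw [Rfam_self, Sfam_self]
    exact ⟨factorThruImageSubobject x, inferInstance⟩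
  · intro k hk ⟨ρ, hρ⟩
    rw [Rfam_add_one G n₀ k hk, Sfam_add_one hG Q hQ n₀ x k hk]
    exact ⟨ρ ≫ factorThruImageSubobject _, epi_comp _ _⟩
  · intro k hk ⟨ρ, hρ⟩
    rw [Rfam_sub_one G n₀ k hk, Sfam_sub_one hG Q hQ n₀ x k hk]
    obtain ⟨ρ', hρ'⟩ := liftSub_small hG Q hQ k (Sfam hG Q hQ n₀ x k)
    obtain ⟨e, he⟩ := exists_epi_sigma_of_injective
      (fun s : Shrink.{v} (Subobject (Sfam hG Q hQ n₀ x k : A)) =>
        equivShrink.{v} (Subobject (Rfam G n₀ k))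
          ((Subobject.pullback ρ).obj ((equivShrink _).symm s)))
      (fun s s' h => by
        have h1 := (equivShrink.{v} (Subobject (Rfam G n₀ k))).injective h
        exact (equivShrink _).symm.injective (pullback_obj_injective ρ h1)) G
    exact ⟨e ≫ ρ', epi_comp _ _⟩

end Small

section Disk

/-- the disk complex `T --𝟙--> T` in degrees `m`, `m + 1` -/
noncomputable abbrev disk (m : ℤ) (T : A) : CochainComplex A ℤ :=
  HomologicalComplex.double (𝟙 T) (show (ComplexShape.up ℤ).Rel m (m + 1) from rfl)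

/-- maps out of the disk are maps into the degree `m` term -/
noncomputable def diskEquiv (m : ℤ) (T : A) (K : CochainComplex A ℤ) :
    (disk m T ⟶ K) ≃ (T ⟶ K.X m) :=
  (HomologicalComplex.evalCompCoyonedaCorepresentableByDoubleId
    (show (ComplexShape.up ℤ).Rel m (m + 1) from rfl) (by omega) T).homEquiv

lemma diskEquiv_comp {m : ℤ} {T : A} {K K' : CochainComplex A ℤ} (f : disk m T ⟶ K) (g : K ⟶ K') :
    diskEquiv m T K' (f ≫ g) = diskEquiv m T K f ≫ g.f m :=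
  (HomologicalComplex.evalCompCoyonedaCorepresentableByDoubleId
    (show (ComplexShape.up ℤ).Rel m (m + 1) from rfl) (by omega) T).homEquiv_comp g f

lemma diskEquiv_zero {m : ℤ} {T : A} {K : CochainComplex A ℤ} :
    diskEquiv m T K 0 = 0 := by
  have := diskEquiv_comp ((diskEquiv m T K).symm 0) (0 : K ⟶ K)
  rw [comp_zero, HomologicalComplex.zero_f, comp_zero] at this
  exact this

lemma diskEquiv_symm_comp {m : ℤ} {T : A} {K K' : CochainComplex A ℤ} (t : T ⟶ K.X m)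
    (g : K ⟶ K') :
    (diskEquiv m T K).symm t ≫ g = (diskEquiv m T K').symm (t ≫ g.f m) := by
  apply (diskEquiv m T K').injective
  rw [diskEquiv_comp, Equiv.apply_symm_apply, Equiv.apply_symm_apply]

end Disk

section Main

variable [IsGrothendieckAbelian.{v} A] (G : A)

/-- the fixed bounding complex for a given top degree -/
noncomputable abbrev Pcx (n₀ : ℤ) : CochainComplex A ℤ :=
  ∐ fun m : ULift.{v} ℤ => disk m.down (Rfam G n₀ m.down)

/-- the fixed bounding complex -/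
noncomputable abbrev Pinf : CochainComplex A ℤ := ∐ fun n₀ : ULift.{v} ℤ => Pcx G n₀.down

variable {G} (hG : IsSeparator G) (Q : CochainComplex A ℤ) (hQ : Q.Acyclic)

lemma exists_epi_Pcx (n₀ : ℤ) (x : G ⟶ Q.X n₀) :
    ∃ e : Pcx G n₀ ⟶ Dcx hG Q hQ n₀ x, Epi e := by
  choose ρ hρ using exists_epi_Rfam hG Q hQ n₀ x
  refine ⟨Sigma.desc (fun m : ULift.{v} ℤ => (diskEquiv m.down _ _).symm (ρ m.down)), ?_⟩
  apply Preadditive.epi_of_cancel_zero
  intro W g hg
  refine HomologicalComplex.hom_ext _ _ (fun m => ?_)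
  haveI := hρ m
  rw [← cancel_epi (ρ m), HomologicalComplex.zero_f, comp_zero]
  have h1 : (diskEquiv m (Rfam G n₀ m) (Dcx hG Q hQ n₀ x)).symm (ρ m) ≫ g = 0 := by
    have h0 := Sigma.ι (fun m : ULift.{v} ℤ => disk m.down (Rfam G n₀ m.down)) ⟨m⟩ ≫= hg
    rw [Sigma.ι_desc_assoc] at h0
    simpa using h0
  rw [diskEquiv_symm_comp] at h1
  have h2 := congrArg (diskEquiv m _ _) h1
  rwa [Equiv.apply_symm_apply, diskEquiv_zero] at h2

lemma exists_epi_Pinf (n₀ : ℤ) (x : G ⟶ Q.X n₀) :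
    ∃ e : Pinf G ⟶ Dcx hG Q hQ n₀ x, Epi e := by
  classical
  obtain ⟨e₀, he₀⟩ := exists_epi_Pcx hG Q hQ n₀ x
  refine ⟨Sigma.desc (fun n : ULift.{v} ℤ =>
    if h : n.down = n₀ then eqToHom (by rw [h]) ≫ e₀ else 0), ?_⟩
  have : Sigma.ι (fun n : ULift.{v} ℤ => Pcx G n.down) ⟨n₀⟩ ≫ Sigma.desc (fun n : ULift.{v} ℤ =>
      if h : n.down = n₀ then eqToHom (by rw [h]) ≫ e₀ else 0) = e₀ := by
    rw [Sigma.ι_desc, dif_pos rfl, eqToHom_refl, Category.id_comp]
  exact epi_of_epi_fac this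

include hG hQ in
/-- **Key lemma**: a nonzero acyclic complex has a nonzero acyclic subcomplex which is a quotient of the
fixed complex `Pinf G`. -/
theorem exists_small_acyclic_sub (hQ0 : ¬ IsZero Q) :
    ∃ (D : CochainComplex A ℤ) (ι : D ⟶ Q), Mono ι ∧ D.Acyclic ∧ ι ≠ 0 ∧
      ∃ e : Pinf G ⟶ D, Epi e := by
  obtain ⟨n₀, hn₀⟩ : ∃ n₀ : ℤ, ¬ IsZero (Q.X n₀) := by
    by_contra h
    push_neg at h
    apply hQ0
    rw [IsZero.iff_id_eq_zero]
    exact HomologicalComplex.hom_ext _ _ (fun n => (h n).eq_of_src _ _)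
  obtain ⟨x, hx⟩ : ∃ x : G ⟶ Q.X n₀, x ≠ 0 := by
    by_contra h
    push_neg at h
    apply hn₀
    rw [IsZero.iff_id_eq_zero]
    apply hG.def
    intro f
    rw [h (f ≫ 𝟙 _), h (f ≫ 0)]
  exact ⟨Dcx hG Q hQ n₀ x, Dι hG Q hQ n₀ x, inferInstance, acyclic_Dcx hG Q hQ n₀ x,
    Dι_ne_zero hG Q hQ n₀ x hx, exists_epi_Pinf hG Q hQ n₀ x⟩

end Main

end Groth.Agent.Lib.Helper25.KInjKL
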