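import Mathlib
import Groth.Agent.Lib.Helper23.NQuasiIso

/-!
# K-injective resolutions, part 3: the class `W` of monomorphic quasi-isomorphisms

`quasiIso_of_isColimit`: quasi-isomorphisms of cochain complexes are stable under colimits of
shape `J` when `colim : (J ⥤ A) ⥤ A` is exact.  `W` = monomorphisms ⊓ quasi-isomorphisms in
`CochainComplex A ℤ`; it is multiplicative, stable under retracts, cobase change, and (for `A`
Grothendieck abelian) coproducts, filtered colimits and transfinite compositions.
-/

set_option autoImplicit false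
universe w' w v u
open CategoryTheory CategoryTheory.Limits

namespace Groth.Agent.Lib.Helper25.KInjW

variable {A : Type u} [Category.{v} A] [Abelian A]

section ColimQis

variable {J : Type w} [Category.{w'} J]

/-- the complex of functors attached to a functor to complexes -/
@[simps]
def cxOfFunctor (F : J ⥤ CochainComplex A ℤ) :
    HomologicalComplex (J ⥤ A) (ComplexShape.up ℤ) where
  X n := F ⋙ HomologicalComplex.eval A _ n
  d n m :=
    { app := fun j => (F.obj j).d n m
      naturality := fun j j' φ => ((F.map φ).comm n m) }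
  shape n m h := by
    ext j
    exact (F.obj j).shape n m h
  d_comp_d' n m k _ _ := by
    ext j
    exact (F.obj j).d_comp_d n m k

/-- functoriality of `cxOfFunctor` -/
@[simps]
def cxOfFunctorMap {F F' : J ⥤ CochainComplex A ℤ} (τ : F ⟶ F') :
    cxOfFunctor F ⟶ cxOfFunctor F' where
  f n := Functor.whiskerRight τ (HomologicalComplex.eval A _ n)
  comm' n m _ := by
    ext j
    exact (τ.app j).comm n m

lemma quasiIso_cxOfFunctorMap {F F' : J ⥤ CochainComplex A ℤ} (τ : F ⟶ F')
    (hτ : ∀ j, QuasiIso (τ.app j)) : QuasiIso (cxOfFunctorMap τ) := by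
  rw [HomologicalComplex.quasiIso_iff_evaluation]
  intro j
  exact hτ j

variable [HasColimitsOfShape J A]

/-- the termwise colimit -/
noncomputable abbrev Lcx (F : J ⥤ CochainComplex A ℤ) : CochainComplex A ℤ :=
  ((colim (J := J) (C := A)).mapHomologicalComplex (ComplexShape.up ℤ)).obj (cxOfFunctor F)

/-- the cocone with point the termwise colimit -/
noncomputable def coconeL (F : J ⥤ CochainComplex A ℤ) : Cocone F where
  pt := Lcx F
  ι :=
    { app := fun j =>
        { f := fun n => colimit.ι (F ⋙ HomologicalComplex.eval A _ n) j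
          comm' := fun n m _ => by
            change _ ≫ colimMap _ = _
            erw [ι_colimMap]
            rfl }
      naturality := fun j j' φ => by
        refine HomologicalComplex.hom_ext _ _ (fun n => ?_)
        change (F.map φ).f n ≫ colimit.ι (F ⋙ HomologicalComplex.eval A _ n) j' =
          colimit.ι (F ⋙ HomologicalComplex.eval A _ n) j ≫ 𝟙 _
        rw [Category.comp_id]
        exact colimit.w (F ⋙ HomologicalComplex.eval A _ n) φ }

/-- the termwise colimit is a colimit -/
noncomputable def isColimitCoconeL (F : J ⥤ CochainComplex A ℤ) : IsColimit (coconeL F) :=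
  HomologicalComplex.isColimitOfEval _ _ (fun n => colimit.isColimit _)

variable [HasExactColimitsOfShape J A]

/-- quasi-isomorphisms are stable under colimits of shape `J` when `colim` is exact -/
theorem quasiIso_of_isColimit {X₁ X₂ : J ⥤ CochainComplex A ℤ} (c₁ : Cocone X₁) (c₂ : Cocone X₂)
    (h₁ : IsColimit c₁) (h₂ : IsColimit c₂) (τ : X₁ ⟶ X₂) (hτ : ∀ j, QuasiIso (τ.app j))
    (φ : c₁.pt ⟶ c₂.pt) (hφ : ∀ j, c₁.ι.app j ≫ φ = τ.app j ≫ c₂.ι.app j) : QuasiIso φ := by
  haveI := quasiIso_cxOfFunctorMap τ hτ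
  haveI : PreservesFiniteLimits (colim (J := J) (C := A)) :=
    HasExactColimitsOfShape.preservesFiniteLimits
  haveI : (colim (J := J) (C := A)).PreservesHomology := inferInstance
  obtain ⟨ψ, hψdef⟩ : ∃ ψ : (coconeL X₁).pt ⟶ (coconeL X₂).pt, ψ =
    ((colim (J := J) (C := A)).mapHomologicalComplex (ComplexShape.up ℤ)).map (cxOfFunctorMap τ) :=
    ⟨_, rfl⟩
  haveI : QuasiIso ψ := by
    rw [hψdef]
    exact HomologicalComplex.quasiIso_map_of_preservesHomology (cxOfFunctorMap τ)
      (colim (J := J) (C := A))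
  obtain ⟨e₁, he₁⟩ : ∃ e₁ : c₁.pt ≅ (coconeL X₁).pt,
      e₁ = h₁.coconePointUniqueUpToIso (isColimitCoconeL X₁) := ⟨_, rfl⟩
  obtain ⟨e₂, he₂⟩ : ∃ e₂ : c₂.pt ≅ (coconeL X₂).pt,
      e₂ = h₂.coconePointUniqueUpToIso (isColimitCoconeL X₂) := ⟨_, rfl⟩
  have hψ : ∀ j, (coconeL X₁).ι.app j ≫ ψ = τ.app j ≫ (coconeL X₂).ι.app j := by
    intro j
    rw [hψdef]
    refine HomologicalComplex.hom_ext _ _ (fun n => ?_)
    change colimit.ι (X₁ ⋙ HomologicalComplex.eval A _ n) j ≫ colimMap _ = _
    erw [ι_colimMap]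
    rfl
  have key : φ ≫ e₂.hom = e₁.hom ≫ ψ := by
    apply h₁.hom_ext
    intro j
    rw [reassoc_of% (hφ j), he₂, he₁, IsColimit.comp_coconePointUniqueUpToIso_hom,
      IsColimit.comp_coconePointUniqueUpToIso_hom_assoc, hψ j]
  have : φ = e₁.hom ≫ ψ ≫ e₂.inv := by
    rw [← Category.assoc, ← key, Category.assoc, Iso.hom_inv_id, Category.comp_id]
  rw [this]
  infer_instance

end ColimQis

section W

open MorphismProperty

/-- monomorphisms that are quasi-isomorphisms -/
def W : MorphismProperty (CochainComplex A ℤ) :=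
  monomorphisms _ ⊓ HomologicalComplex.quasiIso A (ComplexShape.up ℤ)

lemma W_iff {X Y : CochainComplex A ℤ} (f : X ⟶ Y) : W f ↔ Mono f ∧ QuasiIso f := by
  change (monomorphisms _ f ∧ HomologicalComplex.quasiIso A (ComplexShape.up ℤ) f) ↔ _
  rw [monomorphisms.iff, HomologicalComplex.mem_quasiIso_iff]

instance : (W (A := A)).IsMultiplicative := by unfold W; infer_instance

instance : (W (A := A)).RespectsIso := by unfold W; infer_instance

instance : (W (A := A)).IsStableUnderRetracts where
  of_retract h hg := ⟨of_retract h hg.1, of_retract h hg.2⟩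

/-- short exact sequence of a mono and its cokernel -/
lemma shortExact_cokernel {X Y : CochainComplex A ℤ} (f : X ⟶ Y) [Mono f] :
    (ShortComplex.mk f (cokernel.π f) (cokernel.condition f)).ShortExact :=
  { exact := ShortComplex.exact_of_g_is_cokernel _ (cokernelIsCokernel f) }

lemma acyclic_cokernel {X Y : CochainComplex A ℤ} (f : X ⟶ Y) [Mono f] [QuasiIso f] :
    (cokernel f).Acyclic :=
  (shortExact_cokernel f).acyclic_X₃ (by dsimp; infer_instance)

lemma quasiIso_of_acyclic_cokernel {X Y : CochainComplex A ℤ} (f : X ⟶ Y) [Mono f]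
    (h : (cokernel f).Acyclic) : QuasiIso f :=
  Groth.Agent.Lib.helper23.NQuasiIso.quasiIso_f_of_acyclic_X₃ (shortExact_cokernel f) h

lemma acyclic_of_iso {K L : CochainComplex A ℤ} (e : K ≅ L) (h : K.Acyclic) : L.Acyclic :=
  fun n => (HomologicalComplex.exactAt_iff_isZero_homology _ _).2
    (IsZero.of_iso ((h n).isZero_homology)
      ((HomologicalComplex.homologyFunctor _ _ n).mapIso e.symm))

instance : (W (A := A)).IsStableUnderCobaseChange where
  of_isPushout {X X' Y Y' f g f' g'} sq hf := by
    rw [W_iff] at hf ⊢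
    obtain ⟨_, _⟩ := hf
    haveI : Mono f' := (monomorphisms _).of_isPushout sq (monomorphisms.infer_property f)
    refine ⟨inferInstance, ?_⟩
    haveI := isIso_cokernel_map_of_isPushout sq.flip
    exact quasiIso_of_acyclic_cokernel f'
      (acyclic_of_iso (asIso (cokernel.map f f' g g' sq.flip.w)) (acyclic_cokernel f))

variable [IsGrothendieckAbelian.{v} A]

instance : IsStableUnderCoproducts.{v} (W (A := A)) where
  isStableUnderCoproductsOfShape J := ⟨fun X₁ X₂ c₁ c₂ hc₁ hc₂ f hf φ hφ => by
    haveI : HasFiniteBiproducts A := Abelian.hasFiniteBiproducts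
    haveI : HasExactColimitsOfShape (Discrete J) A := (AB4.of_AB5 A).ofShape J
    rw [W_iff]
    constructor
    · exact IsStableUnderColimitsOfShape.condition (W := monomorphisms _)
        X₁ X₂ c₁ c₂ hc₁ hc₂ f (fun j => (hf j).1) φ hφ
    · exact quasiIso_of_isColimit c₁ c₂ hc₁ hc₂ f (fun j => (hf j).2) φ hφ⟩

instance : IsStableUnderFilteredColimits.{v, v} (W (A := A)) where
  isStableUnderColimitsOfShape J _ _ := ⟨fun X₁ X₂ c₁ c₂ hc₁ hc₂ f hf φ hφ => by
    rw [W_iff]
    constructor
    · exact IsStableUnderColimitsOfShape.condition (W := monomorphisms _)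
        X₁ X₂ c₁ c₂ hc₁ hc₂ f (fun j => (hf j).1) φ hφ
    · exact quasiIso_of_isColimit c₁ c₂ hc₁ hc₂ f (fun j => (hf j).2) φ hφ⟩

instance : IsStableUnderTransfiniteComposition.{v} (W (A := A)) := inferInstance

end W

end Groth.Agent.Lib.Helper25.KInjW
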