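import Mathlib
import Groth.Agent.Lib.Helper25.KInjKL
import Groth.Agent.Lib.Helper25.KInjW

/-!
# K-injective resolutions, part 4: cell structure of monomorphic quasi-isomorphisms

For a Grothendieck abelian category `A`, a small family `I₀ A` of monomorphic quasi-isomorphisms of
cochain complexes such that every monomorphic quasi-isomorphism is a transfinite composition of
pushouts of members of `I₀ A` (`exists_transfiniteCompositionOfShape`), hence `W ≤ (I₀ A).rlp.llp`
(`W_le_llp_rlp`).  Follows Mathlib's `IsGrothendieckAbelian.generatingMonomorphisms`.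
-/

set_option autoImplicit false
universe v u
open CategoryTheory CategoryTheory.Limits

namespace Groth.Agent.Lib.Helper25.KInjStep

open Groth.Agent.Lib.Helper25.KInjSmallLift Groth.Agent.Lib.Helper25.KInjKL
  Groth.Agent.Lib.Helper25.KInjW MorphismProperty

section Cok

variable {D : Type u} [Category.{v} D] [Abelian D]

/-- an epi identifies its target with the cokernel of its kernel subobject -/
lemma exists_iso_cokernel_kernelSubobject {R C : D} (r : R ⟶ C) [Epi r] :
    ∃ φ : cokernel (kernelSubobject r).arrow ≅ C, cokernel.π _ ≫ φ.hom = r := by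
  have hs : IsLimit (KernelFork.ofι (kernelSubobject r).arrow (kernelSubobject_arrow_comp r)) :=
    IsLimit.ofIsoLimit (kernelIsKernel r)
      (Fork.ext (kernelSubobjectIso r).symm (by simp))
  have hc := Abelian.epiIsCokernelOfKernel _ hs
  refine ⟨IsColimit.coconePointUniqueUpToIso (cokernelIsCokernel _) hc, ?_⟩
  exact IsColimit.comp_coconePointUniqueUpToIso_hom (cokernelIsCokernel _) hc
    WalkingParallelPair.one

/-- the pushout of a sub-quotient along its intersection with a subobject -/
lemma step_aux {X Y Dd C : D} (f : X ⟶ Y) [Mono f] (ι : Dd ⟶ cokernel f) [Mono ι] (hι0 : ι ≠ 0)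
    (c : C ⟶ Y) [Mono c] (ε : C ⟶ Dd) [Epi ε] (hcπ : c ≫ cokernel.π f = ε ≫ ι) :
    ∃ (c₀ : kernel ε ⟶ X) (hc₀ : c₀ ≫ f = kernel.ι ε ≫ c),
      ¬ IsIso (pushout.inl c₀ (kernel.ι ε)) ∧ Mono (pushout.desc f c hc₀) := by
  have hkc : (kernel.ι ε ≫ c) ≫ cokernel.π f = 0 := by
    rw [Category.assoc, hcπ, kernel.condition_assoc, zero_comp]
  obtain ⟨c₀, hc₀⟩ : ∃ c₀ : kernel ε ⟶ X, c₀ ≫ f = kernel.ι ε ≫ c :=
    ⟨Abelian.monoLift f _ hkc, Abelian.monoLift_comp f _ hkc⟩
  have hpb : IsPullback c₀ (kernel.ι ε) f c :=
    { w := hc₀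
      isLimit' := ⟨PullbackCone.IsLimit.mk _
        (fun s => kernel.lift ε s.snd (by
          rw [← cancel_mono ι, Category.assoc, ← hcπ, ← s.condition_assoc, cokernel.condition,
            comp_zero, zero_comp]))
        (fun s => by
          rw [← cancel_mono f, Category.assoc, hc₀, kernel.lift_ι_assoc, s.condition])
        (fun s => kernel.lift_ι _ _ _)
        (fun s l _ h₂ => by
          rw [← cancel_mono (kernel.ι ε), kernel.lift_ι, h₂])⟩ }
  have hpo := IsPushout.of_hasPushout c₀ (kernel.ι ε)
  refine ⟨c₀, hc₀, ?_, ?_⟩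
  · intro hiso
    apply hι0
    have h1 : c = (pushout.inr c₀ (kernel.ι ε) ≫ inv (pushout.inl c₀ (kernel.ι ε))) ≫ f := by
      have : f = pushout.inl c₀ (kernel.ι ε) ≫ pushout.desc f c hc₀ :=
        (pushout.inl_desc _ _ _).symm
      conv_rhs => rw [this]
      rw [Category.assoc, IsIso.inv_hom_id_assoc, pushout.inr_desc]
    rw [← cancel_epi ε, comp_zero, ← hcπ, h1, Category.assoc, cokernel.condition, comp_zero]
  · exact hpo.mono_of_isPullback_of_mono hpb _ (pushout.inl_desc _ _ _) (pushout.inr_desc _ _ _)

/-- transporting a pushout square along an isomorphism of the corner -/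
lemma isPushout_aux {X C₀ C C' : D} (c₀ : C₀ ⟶ X) (k : C₀ ⟶ C) [Mono k] (φ : C' ≅ C) :
    IsPushout ((Subobject.underlyingIso (k ≫ φ.inv)).hom ≫ c₀) (Subobject.mk (k ≫ φ.inv)).arrow
      (pushout.inl c₀ k) (φ.hom ≫ pushout.inr c₀ k) :=
  (IsPushout.of_hasPushout c₀ k).of_iso (Subobject.underlyingIso (k ≫ φ.inv)).symm (Iso.refl _)
    φ.symm (Iso.refl _) (by simp) (by simp) (by simp) (by simp)

end Cok

variable (A : Type u) [Category.{v} A] [Abelian A] [IsGrothendieckAbelian.{v} A]

/-- the bounding complex -/
noncomputable abbrev RC : CochainComplex A ℤ :=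
  ∐ fun _ : Shrink.{v} (Subobject (Pinf (separator A))) => separator (CochainComplex A ℤ)

/-- the index type of the generating family -/
def Idx : Type (max u v) :=
  {p : Σ K : Subobject (RC A), Subobject (cokernel K.arrow) // QuasiIso p.2.arrow}

instance : Small.{v} (Idx A) := by
  unfold Idx
  infer_instance

/-- the generating family of monomorphic quasi-isomorphisms -/
def I₀ : MorphismProperty (CochainComplex A ℤ) :=
  MorphismProperty.ofHoms (fun p : Idx A => p.1.2.arrow)

instance : MorphismProperty.IsSmall.{v} (I₀ A) := by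
  dsimp [I₀]
  infer_instance

variable {A} in
lemma I₀_mk (p : Idx A) : I₀ A p.1.2.arrow := MorphismProperty.ofHoms.mk p

/-- an index whose morphism is an isomorphism -/
noncomputable def idxTop : Idx A := ⟨⟨⊤, ⊤⟩, inferInstance⟩

lemma I₀_le_W : I₀ A ≤ W := by
  rintro _ _ _ ⟨p⟩
  rw [W_iff]
  exact ⟨inferInstance, p.2⟩

lemma I₀_le_monomorphisms : I₀ A ≤ monomorphisms _ := by
  rintro _ _ _ ⟨p⟩
  exact monomorphisms.infer_property _

lemma pushouts_I₀_le_W : (I₀ A).pushouts ≤ W := by
  rw [pushouts_le_iff]
  exact I₀_le_W A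

lemma isomorphisms_le_pushouts_I₀ :
    MorphismProperty.isomorphisms (CochainComplex A ℤ) ≤ (I₀ A).pushouts :=
  MorphismProperty.isomorphisms_le_pushouts _
    (fun _ => ⟨_, _, _, I₀_mk (idxTop A), 0, by dsimp [idxTop]; infer_instance⟩)

variable {A}

lemma exists_pushouts {X Y : CochainComplex A ℤ} (f : X ⟶ Y) [Mono f] [QuasiIso f]
    (hf : ¬ IsIso f) :
    ∃ (X' : CochainComplex A ℤ) (i : X ⟶ X') (p' : X' ⟶ Y) (_ : (I₀ A).pushouts i)
      (_ : ¬ IsIso i) (_ : Mono p'), i ≫ p' = f := by
  have hQ : (cokernel f).Acyclic := acyclic_cokernel f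
  have hQ0 : ¬ IsZero (cokernel f) := by
    intro h0
    apply hf
    haveI : Epi f := Abelian.epi_of_cokernel_π_eq_zero f (h0.eq_of_tgt _ _)
    exact isIso_of_mono_of_epi f
  obtain ⟨D, ι, hι, hD, hι0, e, he⟩ :=
    exists_small_acyclic_sub (isSeparator_separator A) (cokernel f) hQ hQ0
  obtain ⟨q, hq⟩ := exists_small_lift (isSeparator_separator (CochainComplex A ℤ)) e (𝟙 D)
    (pullback.snd (cokernel.π f) ι)
  -- the small subobject `C` of `Y`
  obtain ⟨r, hr⟩ : ∃ r : RC A ⟶ Limits.image q, r = factorThruImage q := ⟨_, rfl⟩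
  obtain ⟨m, hm⟩ : ∃ m : Limits.image q ⟶ pullback (cokernel.π f) ι, m = Limits.image.ι q :=
    ⟨_, rfl⟩
  have hrm : r ≫ m = q := by rw [hr, hm, image.fac]
  haveI : Epi r := by rw [hr]; infer_instance
  haveI : Mono m := by rw [hm]; infer_instance
  obtain ⟨c, hc⟩ : ∃ c : Limits.image q ⟶ Y, c = m ≫ pullback.fst _ _ := ⟨_, rfl⟩
  obtain ⟨ε, hε⟩ : ∃ ε : Limits.image q ⟶ D, ε = m ≫ pullback.snd _ _ := ⟨_, rfl⟩
  haveI : Mono c := by rw [hc]; infer_instance
  haveI : Epi ε := by
    have : r ≫ ε = q ≫ pullback.snd _ _ := by rw [hε, reassoc_of% hrm]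
    haveI : Epi (r ≫ ε) := by rw [this]; exact hq
    exact epi_of_epi r ε
  have hcπ : c ≫ cokernel.π f = ε ≫ ι := by
    rw [hc, hε, Category.assoc, Category.assoc, pullback.condition]
  -- the kernel of `ε`
  have hS : (ShortComplex.mk (kernel.ι ε) ε (kernel.condition ε)).ShortExact :=
    { exact := ShortComplex.exact_of_f_is_kernel _ (kernelIsKernel ε) }
  haveI hk : QuasiIso (kernel.ι ε) :=
    Groth.Agent.Lib.helper23.NQuasiIso.quasiIso_f_of_acyclic_X₃ hS hD
  obtain ⟨c₀, hc₀, hniso, hmono⟩ := step_aux f ι hι0 c ε hcπ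
  obtain ⟨φ, hφ⟩ := exists_iso_cokernel_kernelSubobject r
  haveI hL : QuasiIso (Subobject.mk (kernel.ι ε ≫ φ.inv)).arrow := by
    rw [← Subobject.underlyingIso_hom_comp_eq_mk (kernel.ι ε ≫ φ.inv)]
    infer_instance
  exact ⟨pushout c₀ (kernel.ι ε), pushout.inl _ _, pushout.desc f c hc₀,
    ⟨_, _, _, _, _,
      I₀_mk ⟨⟨kernelSubobject r, Subobject.mk (kernel.ι ε ≫ φ.inv)⟩, hL⟩,
      isPushout_aux c₀ (kernel.ι ε) φ⟩, hniso, hmono, pushout.inl_desc _ _ _⟩

section Transfinite

variable {Y : CochainComplex A ℤ}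

lemma quasiIso_mk_arrow {X : CochainComplex A ℤ} (p : X ⟶ Y) [Mono p] [QuasiIso p] :
    QuasiIso (Subobject.mk p).arrow := by
  rw [← Subobject.underlyingIso_hom_comp_eq_mk p]
  infer_instance

lemma exists_larger_subobject (S : Subobject Y) (hS : QuasiIso S.arrow) (hS' : S ≠ ⊤) :
    ∃ (S' : Subobject Y) (h : S < S'),
      (I₀ A).pushouts (Subobject.ofLE S S' h.le) ∧ QuasiIso S'.arrow := by
  induction S using Subobject.ind with | _ f
  haveI : QuasiIso f := by
    have : f = (Subobject.underlyingIso f).inv ≫ (Subobject.mk f).arrow := by simp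
    rw [this]
    infer_instance
  obtain ⟨X', i, p', hi, hi', hp', fac⟩ := exists_pushouts f
    (by simpa only [Subobject.isIso_iff_mk_eq_top] using hS')
  haveI : QuasiIso i := ((W_iff i).1 (pushouts_I₀_le_W A i hi)).2
  haveI : QuasiIso p' := by
    haveI : QuasiIso (i ≫ p') := by rw [fac]; infer_instance
    exact quasiIso_of_comp_left i p'
  refine ⟨Subobject.mk p', Subobject.mk_lt_mk_of_comm i fac hi',
    (MorphismProperty.arrow_mk_iso_iff _ ?_).2 hi, quasiIso_mk_arrow p'⟩
  refine Arrow.isoMk (Subobject.underlyingIso f) (Subobject.underlyingIso p') ?_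
  dsimp
  simp only [← cancel_mono p', Category.assoc, fac,
    Subobject.underlyingIso_hom_comp_eq_mk, Subobject.ofLE_arrow]

open scoped Classical in
/-- a strictly larger quasi-isomorphic subobject (or `⊤`) -/
noncomputable def largerSubobject (S : Subobject Y) : Subobject Y :=
  if hS : QuasiIso S.arrow ∧ S ≠ ⊤ then (exists_larger_subobject S hS.1 hS.2).choose else ⊤

variable (Y) in
@[simp]
lemma largerSubobject_top : largerSubobject (⊤ : Subobject Y) = ⊤ :=
  dif_neg (fun h => h.2 rfl)

lemma lt_largerSubobject (S : Subobject Y) (hS : S ≠ ⊤) : S < largerSubobject S := by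
  dsimp only [largerSubobject]
  by_cases h : QuasiIso S.arrow ∧ S ≠ ⊤
  · rw [dif_pos h]
    exact (exists_larger_subobject S h.1 h.2).choose_spec.choose
  · rw [dif_neg h]
    exact lt_top_iff_ne_top.2 hS

lemma le_largerSubobject (S : Subobject Y) : S ≤ largerSubobject S := by
  by_cases hS : S = ⊤
  · subst hS
    simp only [largerSubobject_top, le_refl]
  · exact (lt_largerSubobject S hS).le

lemma quasiIso_largerSubobject (S : Subobject Y) (hS : QuasiIso S.arrow) :
    QuasiIso (largerSubobject S).arrow := by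
  by_cases h : S = ⊤
  · subst h
    have key : ∀ T : Subobject Y, T = ⊤ → QuasiIso T.arrow := by
      rintro T rfl
      infer_instance
    exact key _ (largerSubobject_top Y)
  · have h' : QuasiIso S.arrow ∧ S ≠ ⊤ := ⟨hS, h⟩
    have e : largerSubobject S = (exists_larger_subobject S h'.1 h'.2).choose := dif_pos h'
    have key : ∀ T : Subobject Y, T = (exists_larger_subobject S h'.1 h'.2).choose →
        QuasiIso T.arrow := by
      rintro T rfl
      exact (exists_larger_subobject S h'.1 h'.2).choose_spec.choose_spec.2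
    exact key _ e

set_option backward.defeqAttrib.useBackward true in
set_option backward.isDefEq.respectTransparency false in
lemma pushouts_ofLE_le_largerSubobject (S : Subobject Y) (hS : QuasiIso S.arrow) :
    (I₀ A).pushouts (Subobject.ofLE _ _ (le_largerSubobject S)) := by
  by_cases h : S = ⊤
  · subst h
    have := (Subobject.isIso_arrow_iff_eq_top (largerSubobject (⊤ : Subobject Y))).2 (by simp)
    exact (MorphismProperty.arrow_mk_iso_iff _
      (Arrow.isoMk (asIso (Subobject.arrow _)) (asIso (Subobject.arrow _)) (by simp))).2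
        (isomorphisms_le_pushouts_I₀ A (𝟙 Y)
          (MorphismProperty.isomorphisms.infer_property _))
  · have h' : QuasiIso S.arrow ∧ S ≠ ⊤ := ⟨hS, h⟩
    refine (MorphismProperty.arrow_mk_iso_iff _ ?_).1
      (exists_larger_subobject S h'.1 h'.2).choose_spec.choose_spec.1
    exact Arrow.isoMk (Iso.refl _)
      (Subobject.isoOfEq _ _ ((by simp [largerSubobject, dif_pos h'])))

lemma top_mem_range (S₀ : Subobject Y) {J : Type v} [LinearOrder J] [OrderBot J] [SuccOrder J]
    [WellFoundedLT J] (hJ : HasCardinalLT (Subobject Y) (Cardinal.mk J)) :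
    ∃ (j : J), transfiniteIterate largerSubobject j S₀ = ⊤ :=
  top_mem_range_transfiniteIterate largerSubobject S₀ lt_largerSubobject (by simp)
    (fun h ↦ by simpa [hasCardinalLT_iff_cardinal_mk_lt] using hJ.of_injective _ h)

lemma exists_ordinal (S₀ : Subobject Y) :
    ∃ (o : Ordinal.{v}) (j : o.ToType), transfiniteIterate largerSubobject j S₀ = ⊤ := by
  let κ := Order.succ (Cardinal.mk (Shrink.{v} (Subobject Y)))
  have : Nonempty κ.ord.ToType := by simp [κ]
  have := WellFoundedLT.toOrderBot κ.ord.ToType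
  exact ⟨κ.ord, top_mem_range S₀ (lt_of_lt_of_le (Order.lt_succ _) (by simp [κ]))⟩

section

variable (S₀ : Subobject Y) (J : Type v) [LinearOrder J] [OrderBot J] [SuccOrder J]
  [WellFoundedLT J]

/-- the functor `J ⥤ MonoOver Y` given by the transfinite iteration of `largerSubobject` -/
@[simps]
noncomputable def functorToMonoOver : J ⥤ MonoOver Y where
  obj j := MonoOver.mk (transfiniteIterate largerSubobject j S₀).arrow
  map {j j'} f := MonoOver.homMk (Subobject.ofLE _ _
      (monotone_transfiniteIterate _ _ le_largerSubobject (leOfHom f)))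

/-- the functor `J ⥤ CochainComplex A ℤ` induced by `functorToMonoOver` -/
noncomputable abbrev functor : J ⥤ CochainComplex A ℤ :=
  functorToMonoOver S₀ J ⋙ MonoOver.forget _ ⋙ Over.forget _

set_option backward.defeqAttrib.useBackward true in
instance : (functor S₀ J).IsWellOrderContinuous where
  nonempty_isColimit m hm := ⟨by
    have := hm.nonempty_Iio.to_subtype
    let c := (Set.principalSegIio m).cocone (functorToMonoOver S₀ J ⋙ MonoOver.forget _)
    have : Mono c.pt.hom := by dsimp [c]; infer_instance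
    apply IsGrothendieckAbelian.isColimitMapCoconeOfSubobjectMkEqISup
      ((Set.principalSegIio m).monotone.functor ⋙ functorToMonoOver S₀ J) c
    dsimp [c]
    simp only [Subobject.mk_arrow]
    exact transfiniteIterate_limit largerSubobject S₀ m hm⟩

end

attribute [local instance] IsFiltered.isConnected in
/-- a map out of a filtered colimit which restricts to quasi-isomorphisms is a quasi-isomorphism -/
lemma quasiIso_of_isColimit_of_comp {K : Type v} [SmallCategory K] [IsFiltered K]
    {F : K ⥤ CochainComplex A ℤ} {c : Cocone F} (hc : IsColimit c) (g : c.pt ⟶ Y)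
    (h : ∀ k, QuasiIso (c.ι.app k ≫ g)) : QuasiIso g := by
  let τ : F ⟶ (Functor.const K).obj Y :=
    { app := fun k => c.ι.app k ≫ g
      naturality := fun k k' φ => by
        dsimp
        rw [Category.comp_id, ← Category.assoc, c.w φ] }
  exact quasiIso_of_isColimit c (constCocone K Y) hc (isColimitConstCocone K Y) τ h g
    (fun k => by simp [τ, constCocone])

section

variable (S₀ : Subobject Y) (hS₀ : QuasiIso S₀.arrow) {J : Type v} [LinearOrder J] [OrderBot J]
  [SuccOrder J] [WellFoundedLT J]

include hS₀ in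
lemma quasiIso_transfiniteIterate (j : J) :
    QuasiIso (transfiniteIterate largerSubobject j S₀).arrow := by
  induction j using SuccOrder.limitRecOn with
  | isMin j hj =>
    obtain rfl := hj.eq_bot
    have key : ∀ T : Subobject Y, T = S₀ → QuasiIso T.arrow := by
      rintro T rfl
      exact hS₀
    exact key _ (transfiniteIterate_bot _ _)
  | succ j hj hj' =>
    have key : ∀ T : Subobject Y, T = largerSubobject (transfiniteIterate largerSubobject j S₀) →
        QuasiIso T.arrow := by
      rintro T rfl
      exact quasiIso_largerSubobject _ hj'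
    exact key _ (transfiniteIterate_succ _ _ _ hj)
  | isSuccLimit j hj hj' =>
    have := hj.nonempty_Iio.to_subtype
    have hc := (functor S₀ J).isColimitOfIsWellOrderContinuous j hj
    refine quasiIso_of_isColimit_of_comp hc (transfiniteIterate largerSubobject j S₀).arrow ?_
    intro k
    have : ((Set.principalSegIio j).cocone (functor S₀ J)).ι.app k ≫
        (transfiniteIterate largerSubobject j S₀).arrow =
          (transfiniteIterate largerSubobject k.1 S₀).arrow := by
      dsimp [MonoOver.forget]
      exact Subobject.ofLE_arrow _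
    rw [this]
    exact hj' k.1 k.2

end

section

variable (S₀ : Subobject Y) (hS₀ : QuasiIso S₀.arrow) {J : Type v} [LinearOrder J] [OrderBot J]
  [SuccOrder J] [WellFoundedLT J]

set_option backward.isDefEq.respectTransparency.types false in
set_option backward.defeqAttrib.useBackward true in
/-- the map `(functor S₀ J).map (⊥ ⟶ j)` is a transfinite composition of pushouts of
morphisms in `I₀ A` -/
noncomputable def transfiniteCompositionOfShapeMapFromBot (j : J) :
    (I₀ A).pushouts.TransfiniteCompositionOfShape (Set.Iic j)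
    ((functor S₀ J).map (homOfLE bot_le : ⊥ ⟶ j)) where
  F := (Set.initialSegIic j).monotone.functor ⋙ functor S₀ J
  isoBot := Iso.refl _
  incl :=
    { app k := (functor S₀ J).map (homOfLE k.2)
      naturality k k' h := by simp [MonoOver.forget] }
  isColimit := colimitOfDiagramTerminal isTerminalTop _
  map_mem k hk := by
    dsimp [MonoOver.forget]
    convert!
      pushouts_ofLE_le_largerSubobject (transfiniteIterate largerSubobject k.1 S₀)
        (quasiIso_transfiniteIterate S₀ hS₀ k.1) using 2
    all_goals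
      rw [Set.Iic.succ_eq_of_not_isMax hk,
        transfiniteIterate_succ _ _ _ (Set.not_isMax_coe _ hk)]

end

section

variable {X : CochainComplex A ℤ} {f : X ⟶ Y} [Mono f] [QuasiIso f]

set_option backward.defeqAttrib.useBackward true in
set_option backward.isDefEq.respectTransparency false in
/-- if the iteration reaches `⊤`, then `f` is a transfinite composition of pushouts of
morphisms in `I₀ A` -/
noncomputable def transfiniteCompositionOfShapeOfEqTop
    {J : Type v} [LinearOrder J] [OrderBot J] [SuccOrder J] [WellFoundedLT J] {j : J}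
    (hj : transfiniteIterate largerSubobject j (Subobject.mk f) = ⊤) :
    (I₀ A).pushouts.TransfiniteCompositionOfShape (Set.Iic j) f := by
  let t := transfiniteIterate largerSubobject j (Subobject.mk f)
  have := (Subobject.isIso_arrow_iff_eq_top t).2 hj
  apply (transfiniteCompositionOfShapeMapFromBot (Subobject.mk f)
    (quasiIso_mk_arrow f) j).ofArrowIso
  refine Arrow.isoMk ((Subobject.isoOfEq _ _ (transfiniteIterate_bot _ _) ≪≫
    Subobject.underlyingIso f)) (asIso t.arrow) ?_
  dsimp [MonoOver.forget]
  rw [Category.assoc, Subobject.underlyingIso_hom_comp_eq_mk, Subobject.ofLE_arrow,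
    Subobject.ofLE_arrow]

variable (f)

/-- any monomorphic quasi-isomorphism is a transfinite composition of pushouts of morphisms
in the small family `I₀ A` -/
lemma exists_transfiniteCompositionOfShape :
    ∃ (J : Type v) (_ : LinearOrder J) (_ : OrderBot J) (_ : SuccOrder J)
        (_ : WellFoundedLT J),
    Nonempty ((I₀ A).pushouts.TransfiniteCompositionOfShape J f) := by
  obtain ⟨o, j, hj⟩ := exists_ordinal (Subobject.mk f)
  have : Nonempty o.ToType := ⟨j⟩
  have : OrderBot o.ToType := WellFoundedLT.toOrderBot _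
  exact ⟨_, _, _, _, _, ⟨transfiniteCompositionOfShapeOfEqTop hj⟩⟩

end

end Transfinite

variable (A) in
/-- `W ≤ llp (rlp I₀)` -/
lemma W_le_llp_rlp : W ≤ (I₀ A).rlp.llp := by
  intro X Y f hf
  rw [W_iff] at hf
  obtain ⟨_, _⟩ := hf
  obtain ⟨J, _, _, _, _, ⟨h⟩⟩ := exists_transfiniteCompositionOfShape f
  have := transfiniteCompositionsOfShape_le_llp_rlp _ _ _ h.mem
  rwa [rlp_pushouts] at this

end Groth.Agent.Lib.Helper25.KInjStep
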