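import Mathlib
import Groth.Agent.Lib.Helper25.KInjStep
import Groth.Agent.Lib.Helper25.InjHullCx

/-!
# K-injective resolutions, part 5: the small object argument

`exists_kInjective_resolution`: in a Grothendieck abelian category `A`, every cochain complex `M`
admits a quasi-isomorphism `f : M ⟶ I`, monomorphic in each degree, to a K-injective complex `I`
with injective terms.  Also: `exists_ext` (fibrant objects for `I₀ A` extend maps along monomorphic
quasi-isomorphisms), `isKInjective_of_rlp`, `injective_X_of_rlp`, `llp_rlp_le_W`, and the disk maps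
`diskMap`, `acyclic_disk`.
-/

set_option autoImplicit false
universe v u
open CategoryTheory CategoryTheory.Limits ZeroObject

namespace Groth.Agent.Lib.Helper25.KInjMain

open Groth.Agent.Lib.Helper25.KInjKL Groth.Agent.Lib.Helper25.KInjW
  Groth.Agent.Lib.Helper25.KInjStep MorphismProperty

section Disk

variable {A : Type u} [Category.{v} A] [Abelian A]

lemma quasiIso_of_acyclic {K L : CochainComplex A ℤ} (f : K ⟶ L) (hK : K.Acyclic)
    (hL : L.Acyclic) : QuasiIso f := by
  rw [quasiIso_iff]
  intro i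
  rw [quasiIsoAt_iff_exactAt f i (hK i)]
  exact hL i

lemma acyclic_disk (m : ℤ) (T : A) : (disk m T).Acyclic := by
  have hrel : (ComplexShape.up ℤ).Rel m (m + 1) := rfl
  have hne : m ≠ m + 1 := by omega
  intro k
  by_cases h₀ : k = m
  · subst h₀
    rw [HomologicalComplex.exactAt_iff' _ (k - 1) k (k + 1) (by simp) (by simp),
      ShortComplex.exact_iff_mono _
        (HomologicalComplex.double_d_eq_zero₁ (𝟙 T) hrel _ _ (by omega))]
    change Mono ((HomologicalComplex.double (𝟙 T) hrel).d k (k + 1))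
    rw [HomologicalComplex.double_d _ _ hne]
    infer_instance
  · by_cases h₁ : k = m + 1
    · subst h₁
      rw [HomologicalComplex.exactAt_iff' _ m (m + 1) (m + 1 + 1) (by simp) (by simp),
        ShortComplex.exact_iff_epi _
          (HomologicalComplex.double_d_eq_zero₀ (𝟙 T) hrel _ _ (by omega))]
      change Epi ((HomologicalComplex.double (𝟙 T) hrel).d m (m + 1))
      rw [HomologicalComplex.double_d _ _ hne]
      infer_instance
    · rw [HomologicalComplex.exactAt_iff' _ (k - 1) k (k + 1) (by simp) (by simp)]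
      exact ShortComplex.exact_of_isZero_X₂ _
        (HomologicalComplex.isZero_double_X (𝟙 T) hrel k h₀ h₁)

/-- the map of disks induced by a morphism -/
noncomputable def diskMap (m : ℤ) {S T : A} (a : S ⟶ T) : disk m S ⟶ disk m T :=
  HomologicalComplex.mkHomFromDouble (show (ComplexShape.up ℤ).Rel m (m + 1) from rfl)
    (show m ≠ m + 1 by omega)
    (a ≫ (HomologicalComplex.doubleXIso₀ (𝟙 T) _).inv)
    (a ≫ (HomologicalComplex.doubleXIso₁ (𝟙 T) _ (show m ≠ m + 1 by omega)).inv)
    (by simp [HomologicalComplex.double_d _ _ (show m ≠ m + 1 by omega)])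
    (fun k _ => by
      rw [HomologicalComplex.double_d_eq_zero₀ _ _ _ _ (by omega), comp_zero])

lemma diskMap_f₀ (m : ℤ) {S T : A} (a : S ⟶ T) :
    (diskMap m a).f m = (HomologicalComplex.doubleXIso₀ (𝟙 S) _).hom ≫ a ≫
      (HomologicalComplex.doubleXIso₀ (𝟙 T) _).inv :=
  HomologicalComplex.mkHomFromDouble_f₀ _ _ _ _ _ _

lemma diskMap_f₁ (m : ℤ) {S T : A} (a : S ⟶ T) :
    (diskMap m a).f (m + 1) = (HomologicalComplex.doubleXIso₁ (𝟙 S) _ (by omega)).hom ≫ a ≫
      (HomologicalComplex.doubleXIso₁ (𝟙 T) _ (show m ≠ m + 1 by omega)).inv :=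
  HomologicalComplex.mkHomFromDouble_f₁ _ _ _ _ _ _

instance (m : ℤ) {S T : A} (a : S ⟶ T) [Mono a] : Mono (diskMap m a) := by
  apply HomologicalComplex.mono_of_mono_f
  intro k
  by_cases h₀ : k = m
  · subst h₀
    rw [diskMap_f₀]
    infer_instance
  · by_cases h₁ : k = m + 1
    · subst h₁
      rw [diskMap_f₁]
      infer_instance
    · exact (HomologicalComplex.isZero_double_X _ _ k h₀ h₁).mono _

instance (m : ℤ) {S T : A} (a : S ⟶ T) : QuasiIso (diskMap m a) :=
  quasiIso_of_acyclic _ (acyclic_disk m S) (acyclic_disk m T)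

lemma diskEquiv_diskMap_comp (m : ℤ) {S T : A} (a : S ⟶ T) {K : CochainComplex A ℤ}
    (t : disk m T ⟶ K) :
    diskEquiv m S K (diskMap m a ≫ t) = a ≫ diskEquiv m T K t := by
  change (HomologicalComplex.doubleXIso₀ _ _).inv ≫ (diskMap m a ≫ t).f m =
    a ≫ (HomologicalComplex.doubleXIso₀ _ _).inv ≫ t.f m
  rw [HomologicalComplex.comp_f, diskMap_f₀]
  simp

end Disk

section Main

variable (A : Type u) [Category.{v} A] [Abelian A] [IsGrothendieckAbelian.{v} A]

instance : HasSmallObjectArgument.{v} (I₀ A) := by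
  obtain ⟨κ, hκ', hκ⟩ := HasCardinalLT.exists_regular_cardinal_forall.{v}
    (fun p : Idx A => Subobject ((p.1.2 : Subobject _) : CochainComplex A ℤ))
  have : Fact κ.IsRegular := ⟨hκ'⟩
  have : Nonempty κ.ord.ToType := by simpa using hκ'.ne_zero
  have := WellFoundedLT.toOrderBot κ.ord.ToType
  exact ⟨κ, inferInstance, inferInstance,
    { preservesColimit {K L X Y} i hi f hf := by
        let hf' : (monomorphisms (CochainComplex A ℤ)).TransfiniteCompositionOfShape
            κ.ord.ToType f :=
          { toTransfiniteCompositionOfShape := hf.toTransfiniteCompositionOfShape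
            map_mem j hj := by
              have := (hf.attachCells j hj).pushouts_coproducts
              simp only [ofHoms_homFamily] at this
              refine (?_ : _ ≤ monomorphisms (CochainComplex A ℤ)) _ this
              simp only [pushouts_le_iff, coproducts_le_iff]
              exact I₀_le_monomorphisms A }
        have (j j' : κ.ord.ToType) (φ : j ⟶ j') : Mono (hf'.F.map φ) := hf'.mem_map φ
        apply IsGrothendieckAbelian.preservesColimit_coyoneda_obj_of_mono (Y := hf'.F) (κ := κ)
        obtain ⟨p⟩ := hi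
        exact hκ p }⟩

lemma llp_rlp_le_W : (I₀ A).rlp.llp ≤ W := by
  rw [llp_rlp_of_hasSmallObjectArgument]
  simp only [retracts_le_iff, transfiniteCompositions_le_iff, pushouts_le_iff, coproducts_le_iff]
  exact I₀_le_W A

variable {A}

/-- extension property of fibrant objects along monomorphic quasi-isomorphisms -/
lemma exists_ext {I Z : CochainComplex A ℤ} (p : I ⟶ Z) (hZ : IsZero Z) (hp : (I₀ A).rlp p)
    {X Y : CochainComplex A ℤ} (f : X ⟶ Y) [Mono f] [QuasiIso f] (u : X ⟶ I) :
    ∃ v : Y ⟶ I, f ≫ v = u := by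
  have hf : (I₀ A).rlp.llp f := W_le_llp_rlp A f ((W_iff f).2 ⟨inferInstance, inferInstance⟩)
  haveI : HasLiftingProperty f p := hf p hp
  have sq : CommSq u f p (0 : Y ⟶ Z) := ⟨hZ.eq_of_tgt _ _⟩
  exact ⟨sq.lift, sq.fac_left⟩

lemma isKInjective_of_rlp {I Z : CochainComplex A ℤ} (p : I ⟶ Z) (hZ : IsZero Z)
    (hp : (I₀ A).rlp p) : I.IsKInjective where
  nonempty_homotopy_zero {K} f hK := by
    haveI : Mono (CochainComplex.mappingCone.inr (𝟙 K)) := by
      apply HomologicalComplex.mono_of_mono_f
      intro n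
      exact mono_of_mono_fac
        (show (CochainComplex.mappingCone.inr (𝟙 K)).f n ≫
          (CochainComplex.mappingCone.snd (𝟙 K)).v n n (add_zero n) = 𝟙 _ by simp)
    haveI : QuasiIso (CochainComplex.mappingCone.inr (𝟙 K)) :=
      quasiIso_of_acyclic _ hK (Groth.Agent.Lib.Helper25.InjHullCx.acyclic_of_homotopy
        (CochainComplex.mappingCone.homotopyToZeroOfId K))
    obtain ⟨v, hv⟩ := exists_ext p hZ hp (CochainComplex.mappingCone.inr (𝟙 K)) f
    have h := ((CochainComplex.mappingCone.homotopyToZeroOfId K).compRight v).compLeft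
      (CochainComplex.mappingCone.inr (𝟙 K))
    exact ⟨(Homotopy.ofEq (by rw [Category.id_comp, hv])).trans
      (h.trans (Homotopy.ofEq (by simp)))⟩

lemma injective_X_of_rlp {I Z : CochainComplex A ℤ} (p : I ⟶ Z) (hZ : IsZero Z)
    (hp : (I₀ A).rlp p) (n : ℤ) : Injective (I.X n) where
  factors {S T} s a _ := by
    obtain ⟨v, hv⟩ := exists_ext p hZ hp (diskMap n a) ((diskEquiv n S I).symm s)
    refine ⟨diskEquiv n T I v, ?_⟩
    rw [← diskEquiv_diskMap_comp, hv, Equiv.apply_symm_apply]

/-- **K-injective resolutions** in a Grothendieck abelian category. -/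
theorem exists_kInjective_resolution (M : CochainComplex A ℤ) :
    ∃ (I : CochainComplex A ℤ) (f : M ⟶ I), I.IsKInjective ∧ QuasiIso f ∧
      (∀ n, Mono (f.f n)) ∧ ∀ n, Injective (I.X n) := by
  obtain ⟨Z, hZ⟩ : ∃ Z : CochainComplex A ℤ, IsZero Z := ⟨0, isZero_zero _⟩
  have fac := factorizationData (I₀ A).rlp.llp (I₀ A).rlp (0 : M ⟶ Z)
  have hi := (W_iff _).1 (llp_rlp_le_W A _ fac.hi)
  haveI := hi.1
  refine ⟨fac.Z, fac.i, isKInjective_of_rlp fac.p hZ fac.hp, hi.2, fun n => ?_,
    injective_X_of_rlp fac.p hZ fac.hp⟩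
  infer_instance

end Main

end Groth.Agent.Lib.Helper25.KInjMain
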