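import Mathlib

/-!
# Adjunctions between exact functors induce adjunctions on derived categories (helper25)

* `mapHomologicalComplexAdj`: an adjunction `G ⊣ F` of additive functors induces
  `G.mapHomologicalComplex c ⊣ F.mapHomologicalComplex c`.
* `mapDerivedCategoryAdj`: if moreover `G`, `F` are exact functors between abelian categories, then
  `G.mapDerivedCategory ⊣ F.mapDerivedCategory`.
-/

set_option autoImplicit false
universe w₁ w₂ v₁ v₂ u₁ u₂
open CategoryTheory CategoryTheory.Limits

namespace Groth.Agent.Lib.helper25.DerivedAdj

section

variable {A : Type u₁} [Category.{v₁} A] [Preadditive A] {B : Type u₂} [Category.{v₂} B] [Preadditive B]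
  {G : A ⥤ B} {F : B ⥤ A} [G.Additive] [F.Additive] (adj : G ⊣ F) {ι : Type*} (c : ComplexShape ι)

/-- the adjunction induced on homological complexes -/
noncomputable def mapHomologicalComplexAdj :
    G.mapHomologicalComplex c ⊣ F.mapHomologicalComplex c :=
  Adjunction.mkOfUnitCounit
    { unit :=
        { app := fun K =>
            { f := fun i => adj.unit.app (K.X i)
              comm' := fun i j _ => (adj.unit.naturality (K.d i j)).symm }
          naturality := fun K L φ => by
            ext i
            exact adj.unit.naturality (φ.f i) }
      counit :=
        { app := fun K =>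
            { f := fun i => adj.counit.app (K.X i)
              comm' := fun i j _ => (adj.counit.naturality (K.d i j)).symm }
          naturality := fun K L φ => by
            ext i
            exact adj.counit.naturality (φ.f i) }
      left_triangle := by
        ext K i
        have := adj.left_triangle_components (K.X i)
        dsimp
        rw [Category.id_comp]
        exact this
      right_triangle := by
        ext K i
        have := adj.right_triangle_components (K.X i)
        dsimp
        rw [Category.id_comp]
        exact this }

end

section

variable {C₁ : Type u₁} [Category.{v₁} C₁] [Abelian C₁] [HasDerivedCategory.{w₁} C₁]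
  {C₂ : Type u₂} [Category.{v₂} C₂] [Abelian C₂] [HasDerivedCategory.{w₂} C₂]
  {G : C₁ ⥤ C₂} {F : C₂ ⥤ C₁} [G.Additive] [F.Additive]
  [PreservesFiniteLimits G] [PreservesFiniteColimits G]
  [PreservesFiniteLimits F] [PreservesFiniteColimits F]

/-- An adjunction between exact functors induces an adjunction between the induced functors on derived
categories. -/
noncomputable def mapDerivedCategoryAdj (adj : G ⊣ F) : G.mapDerivedCategory ⊣ F.mapDerivedCategory := by
  letI : CatCommSq (G.mapHomologicalComplex (ComplexShape.up ℤ)) DerivedCategory.Q DerivedCategory.Q
      G.mapDerivedCategory := ⟨G.mapDerivedCategoryFactors.symm⟩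
  letI : CatCommSq (F.mapHomologicalComplex (ComplexShape.up ℤ)) DerivedCategory.Q DerivedCategory.Q
      F.mapDerivedCategory := ⟨F.mapDerivedCategoryFactors.symm⟩
  exact (mapHomologicalComplexAdj adj (ComplexShape.up ℤ)).localization DerivedCategory.Q
    (HomologicalComplex.quasiIso C₁ (ComplexShape.up ℤ)) DerivedCategory.Q
    (HomologicalComplex.quasiIso C₂ (ComplexShape.up ℤ)) G.mapDerivedCategory F.mapDerivedCategory

end

end Groth.Agent.Lib.helper25.DerivedAdj
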