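import Mathlib
import Groth.Agent.Lib.Helper23.RDerK

/-!
# Derived adjunctions via fibrant replacements (abstract form)

In the setting of helper23's `RDerK` (a localization functor `L : C ⥤ D` with "fibrant replacements"
`r Y`, `L (r Y) ≅ Y`, such that `L.map : (X ⟶ r Y) → (L X ⟶ L (r Y))` is bijective):
* `isLeftKanExtension_of_isIso`: a functor `F'` with `α : Φ ⟶ L ⋙ F'` invertible at all `r Y` is a
  left Kan extension of `Φ` along `L`;
* `exists_derived_adjunction`: for an adjunction `G ⊣ F`, a functor `G'` with `L₁ ⋙ G' ≅ G ⋙ L₂`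
  and a right derived functor `F'` of `F ⋙ L₁`, one has `G' ⊣ F'` (Mathlib's `Adjunction.derived`),
  together with the formula for the counit.
-/

set_option autoImplicit false
universe v₁ v₂ v₃ v₄ u₁ u₂ u₃ u₄
open CategoryTheory

namespace Groth.Agent.Lib.Helper25.DerAdjAbs

open Groth.Agent.Lib.helper23

section Criterion

variable {C : Type u₁} {D : Type u₂} {H : Type u₃} [Category.{v₁} C] [Category.{v₂} D]
  [Category.{v₃} H] (L : C ⥤ D)
  (r : D → C) (e : ∀ Y : D, L.obj (r Y) ≅ Y)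
  (hr : ∀ (X : C) (Y : D), Function.Bijective (fun f : X ⟶ r Y => L.map f))

include e hr in
/-- a functor with a unit which is invertible at the fibrant replacements is a left Kan extension -/
theorem isLeftKanExtension_of_isIso (Φ : C ⥤ H) (F' : D ⥤ H) (α : Φ ⟶ L ⋙ F')
    (h : ∀ Y : D, IsIso (α.app (r Y))) : F'.IsLeftKanExtension α := by
  haveI := RDerK.isLeftKanExtension L r e hr Φ
  have hfac := RDerK.fac L r e hr Φ F' α
  haveI : IsIso (RDerK.desc L r e hr Φ F' α) := by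
    rw [NatTrans.isIso_iff_isIso_app]
    intro Y
    haveI := h Y
    change IsIso (α.app (r Y) ≫ F'.map (e Y).hom)
    infer_instance
  exact (Functor.isLeftKanExtension_iff_isIso (RDerK.desc L r e hr Φ F' α)
    (RDerK.η L r e hr Φ) α hfac).2 inferInstance

end Criterion

section Adj

variable {C₁ : Type u₁} {C₂ : Type u₂} {D₁ : Type u₃} {D₂ : Type u₄}
  [Category.{v₁} C₁] [Category.{v₂} C₂] [Category.{v₃} D₁] [Category.{v₄} D₂]

lemma isIso_β_app {F : C₂ ⥤ C₁}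
    {L₁ : C₁ ⥤ D₁} {L₂ : C₂ ⥤ D₂} (W₂ : MorphismProperty C₂)
    [L₂.IsLocalization W₂] {F' : D₂ ⥤ D₁}
    (β : F ⋙ L₁ ⟶ L₂ ⋙ F') [F'.IsRightDerivedFunctor β W₂]
    (r : D₂ → C₂) (e : ∀ Y : D₂, L₂.obj (r Y) ≅ Y)
    (hr : ∀ (X : C₂) (Y : D₂), Function.Bijective (fun f : X ⟶ r Y => L₂.map f)) (Y : D₂) :
    IsIso (β.app (r Y)) := by
  haveI : F'.IsLeftKanExtension β := Functor.IsRightDerivedFunctor.isLeftKanExtension _ _ W₂
  exact RDerK.isIso_unit_app L₂ r e hr (F ⋙ L₁) F' β (r Y) (fun X' => hr X' Y)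

/-- the derived adjunction, when the right derived functor is computed by fibrant replacements -/
theorem exists_derived_adjunction {G : C₁ ⥤ C₂} {F : C₂ ⥤ C₁} (adj : G ⊣ F)
    {L₁ : C₁ ⥤ D₁} {L₂ : C₂ ⥤ D₂} (W₁ : MorphismProperty C₁) (W₂ : MorphismProperty C₂)
    [L₁.IsLocalization W₁] [L₂.IsLocalization W₂] {G' : D₁ ⥤ D₂} {F' : D₂ ⥤ D₁}
    (α : L₁ ⋙ G' ⟶ G ⋙ L₂) [IsIso α] (β : F ⋙ L₁ ⟶ L₂ ⋙ F') [F'.IsRightDerivedFunctor β W₂]
    (r : D₂ → C₂) (e : ∀ Y : D₂, L₂.obj (r Y) ≅ Y)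
    (hr : ∀ (X : C₂) (Y : D₂), Function.Bijective (fun f : X ⟶ r Y => L₂.map f)) :
    ∃ (adj' : G' ⊣ F'), ∀ X₂ : C₂, G'.map (β.app X₂) ≫ adj'.counit.app (L₂.obj X₂) =
      α.app (F.obj X₂) ≫ L₂.map (adj.counit.app X₂) := by
  haveI : G'.IsLeftDerivedFunctor α W₁ := Functor.isLeftDerivedFunctor_of_inverts W₁ G' (asIso α)
  haveI : IsIso ((Functor.associator L₁ G' F').inv ≫ Functor.whiskerRight α F') := inferInstance
  haveI : (G' ⋙ F').IsLeftDerivedFunctor
      ((Functor.associator L₁ G' F').inv ≫ Functor.whiskerRight α F') W₁ :=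
    Functor.isLeftDerivedFunctor_of_inverts W₁ (G' ⋙ F')
      (asIso ((Functor.associator L₁ G' F').inv ≫ Functor.whiskerRight α F'))
  haveI : (F' ⋙ G').IsRightDerivedFunctor
      (Functor.whiskerRight β G' ≫ (Functor.associator L₂ F' G').hom) W₂ := by
    constructor
    apply isLeftKanExtension_of_isIso L₂ r e hr
    intro Y
    haveI := isIso_β_app W₂ β r e hr Y
    change IsIso (G'.map (β.app (r Y)) ≫ 𝟙 _)
    infer_instance
  exact ⟨adj.derived W₁ W₂ α β, fun X₂ => adj.derivedε_fac_app W₂ α β X₂⟩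

end Adj

end Groth.Agent.Lib.Helper25.DerAdjAbs
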