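import Mathlib
import Groth.Agent.Lib.Helper25.DerAdjAbs

/-!
# Derived adjunctions for exact functors into categories with K-injective resolutions

* `adjK`: an adjunction `F₀ ⊣ G₀` of additive functors induces an adjunction
  `F₀.mapHomotopyCategory c ⊣ G₀.mapHomotopyCategory c`, with counit `counitCx` termwise.
* `exists_fibrant`: K-injective resolutions give "fibrant replacements" for `Qh` (helper23 `RDerK`).
* `isIso_unit_of_isKInjective`: the unit of any right derived functor (w.r.t. `Qh`) is invertible at
  K-injective complexes.
* `exists_adjunction`: if `F₀` is exact, `F₀ ⊣ G₀`, and `RG` is a right derived functor of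
  `G₀.mapHomotopyCategory ⋙ Qh`, then `F₀.mapDerivedCategory ⊣ RG`, with a formula for the counit.
-/

set_option autoImplicit false
universe w₁ w₂ v₁ v₂ u₁ u₂
open CategoryTheory

namespace Groth.Agent.Lib.Helper25.DerAdjK

section HomotopyAdj

variable {B : Type u₁} {C : Type u₂} [Category.{v₁} B] [Category.{v₂} C] [Preadditive B]
  [Preadditive C] {F₀ : B ⥤ C} {G₀ : C ⥤ B} (adj₀ : F₀ ⊣ G₀) [F₀.Additive] [G₀.Additive]
  {ι : Type*} (c : ComplexShape ι)

/-- the unit of an adjunction, on complexes -/
@[simps]
def unitCx (K : HomologicalComplex B c) :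
    K ⟶ (G₀.mapHomologicalComplex c).obj ((F₀.mapHomologicalComplex c).obj K) where
  f n := adj₀.unit.app (K.X n)
  comm' i j _ := (adj₀.unit.naturality (K.d i j)).symm

/-- the counit of an adjunction, on complexes -/
@[simps]
def counitCx (I : HomologicalComplex C c) :
    (F₀.mapHomologicalComplex c).obj ((G₀.mapHomologicalComplex c).obj I) ⟶ I where
  f n := adj₀.counit.app (I.X n)
  comm' i j _ := (adj₀.counit.naturality (I.d i j)).symm

lemma unitCx_naturality {K K' : HomologicalComplex B c} (f : K ⟶ K') :
    f ≫ unitCx adj₀ c K' = unitCx adj₀ c K ≫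
      (G₀.mapHomologicalComplex c).map ((F₀.mapHomologicalComplex c).map f) := by
  ext n
  exact adj₀.unit.naturality (f.f n)

lemma counitCx_naturality {I I' : HomologicalComplex C c} (f : I ⟶ I') :
    (F₀.mapHomologicalComplex c).map ((G₀.mapHomologicalComplex c).map f) ≫ counitCx adj₀ c I' =
      counitCx adj₀ c I ≫ f := by
  ext n
  exact adj₀.counit.naturality (f.f n)

lemma left_triangle_cx (K : HomologicalComplex B c) :
    (F₀.mapHomologicalComplex c).map (unitCx adj₀ c K) ≫
      counitCx adj₀ c ((F₀.mapHomologicalComplex c).obj K) = 𝟙 _ := by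
  ext n
  exact adj₀.left_triangle_components (K.X n)

lemma right_triangle_cx (I : HomologicalComplex C c) :
    unitCx adj₀ c ((G₀.mapHomologicalComplex c).obj I) ≫
      (G₀.mapHomologicalComplex c).map (counitCx adj₀ c I) = 𝟙 _ := by
  ext n
  exact adj₀.right_triangle_components (I.X n)

/-- the adjunction induced on homotopy categories -/
noncomputable def adjK : F₀.mapHomotopyCategory c ⊣ G₀.mapHomotopyCategory c :=
  Adjunction.mkOfUnitCounit
    { unit :=
        { app := fun X => (HomotopyCategory.quotient B c).map (unitCx adj₀ c X.as)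
          naturality := by
            intro X Y f
            obtain ⟨g, rfl⟩ := (HomotopyCategory.quotient B c).map_surjective
              (X := X.as) (Y := Y.as) f
            change (HomotopyCategory.quotient B c).map g ≫
                (HomotopyCategory.quotient B c).map (unitCx adj₀ c Y.as) =
              (HomotopyCategory.quotient B c).map (unitCx adj₀ c X.as) ≫
                (HomotopyCategory.quotient B c).map
                  ((G₀.mapHomologicalComplex c).map ((F₀.mapHomologicalComplex c).map g))
            rw [← Functor.map_comp, ← Functor.map_comp, unitCx_naturality] }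
      counit :=
        { app := fun Y => (HomotopyCategory.quotient C c).map (counitCx adj₀ c Y.as)
          naturality := by
            intro X Y f
            obtain ⟨g, rfl⟩ := (HomotopyCategory.quotient C c).map_surjective
              (X := X.as) (Y := Y.as) f
            change (HomotopyCategory.quotient C c).map
                  ((F₀.mapHomologicalComplex c).map ((G₀.mapHomologicalComplex c).map g)) ≫
                (HomotopyCategory.quotient C c).map (counitCx adj₀ c Y.as) =
              (HomotopyCategory.quotient C c).map (counitCx adj₀ c X.as) ≫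
                (HomotopyCategory.quotient C c).map g
            rw [← Functor.map_comp, ← Functor.map_comp, counitCx_naturality] }
      left_triangle := by
        ext X
        have h := congrArg (fun φ => (HomotopyCategory.quotient C c).map φ)
          (left_triangle_cx adj₀ c X.as)
        simp only [Functor.map_comp, CategoryTheory.Functor.map_id] at h
        change (HomotopyCategory.quotient C c).map
            ((F₀.mapHomologicalComplex c).map (unitCx adj₀ c X.as)) ≫ 𝟙 _ ≫
          (HomotopyCategory.quotient C c).map
            (counitCx adj₀ c ((F₀.mapHomologicalComplex c).obj X.as)) = 𝟙 _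
        rw [Category.id_comp]
        exact h
      right_triangle := by
        ext Y
        have h := congrArg (fun φ => (HomotopyCategory.quotient B c).map φ)
          (right_triangle_cx adj₀ c Y.as)
        simp only [Functor.map_comp, CategoryTheory.Functor.map_id] at h
        change (HomotopyCategory.quotient B c).map
            (unitCx adj₀ c ((G₀.mapHomologicalComplex c).obj Y.as)) ≫ 𝟙 _ ≫
          (HomotopyCategory.quotient B c).map
            ((G₀.mapHomologicalComplex c).map (counitCx adj₀ c Y.as)) = 𝟙 _
        rw [Category.id_comp]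
        exact h }

lemma adjK_counit_app (I : HomologicalComplex C c) :
    (adjK adj₀ c).counit.app ((HomotopyCategory.quotient C c).obj I) =
      (HomotopyCategory.quotient C c).map (counitCx adj₀ c I) := rfl

end HomotopyAdj

section Derived

open Groth.Agent.Lib.helper23 Groth.Agent.Lib.Helper25.DerAdjAbs

variable {B : Type u₁} {C : Type u₂} [Category.{v₁} B] [Category.{v₂} C] [Abelian B] [Abelian C]
  [HasDerivedCategory.{w₁} B] [HasDerivedCategory.{w₂} C]

/-- K-injective resolutions give fibrant replacements for `Qh`. -/
lemma exists_fibrant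
    (hKinj : ∀ K : CochainComplex C ℤ, ∃ (I : CochainComplex C ℤ) (f : K ⟶ I),
      I.IsKInjective ∧ QuasiIso f) :
    ∃ (r : DerivedCategory C → HomotopyCategory C (ComplexShape.up ℤ))
      (_ : ∀ Y, DerivedCategory.Qh.obj (r Y) ≅ Y),
      (∀ (X : HomotopyCategory C (ComplexShape.up ℤ)) (Y : DerivedCategory C),
        Function.Bijective (fun f : X ⟶ r Y => DerivedCategory.Qh.map f)) ∧
      ∀ Y, ∃ I : CochainComplex C ℤ, I.IsKInjective ∧
        r Y = (HomotopyCategory.quotient C (ComplexShape.up ℤ)).obj I := by
  classical
  have hex : ∀ Y : DerivedCategory C, ∃ (I : CochainComplex C ℤ), I.IsKInjective ∧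
      Nonempty (DerivedCategory.Qh.obj ((HomotopyCategory.quotient C (ComplexShape.up ℤ)).obj I) ≅
        Y) := by
    intro Y
    obtain ⟨I, f, hI, hf⟩ := hKinj (DerivedCategory.Q.objPreimage Y)
    haveI : IsIso (DerivedCategory.Q.map f) := by
      rw [DerivedCategory.isIso_Q_map_iff_quasiIso]; exact hf
    exact ⟨I, hI, ⟨(DerivedCategory.quotientCompQhIso C).app I ≪≫
      (asIso (DerivedCategory.Q.map f)).symm ≪≫ DerivedCategory.Q.objObjPreimageIso Y⟩⟩
  choose I hI hiso using hex
  refine ⟨fun Y => (HomotopyCategory.quotient C (ComplexShape.up ℤ)).obj (I Y),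
    fun Y => (hiso Y).some, fun X Y => ?_, fun Y => ⟨I Y, hI Y, rfl⟩⟩
  haveI := hI Y
  exact CochainComplex.IsKInjective.Qh_map_bijective X (I Y)

variable
  (hKinj : ∀ K : CochainComplex C ℤ, ∃ (I : CochainComplex C ℤ) (f : K ⟶ I),
    I.IsKInjective ∧ QuasiIso f)
  {F₀ : B ⥤ C} {G₀ : C ⥤ B} (adj₀ : F₀ ⊣ G₀) [F₀.Additive] [G₀.Additive]
  [Limits.PreservesFiniteLimits F₀] [Limits.PreservesFiniteColimits F₀]
  (RG : DerivedCategory C ⥤ DerivedCategory B)
  (β : G₀.mapHomotopyCategory (ComplexShape.up ℤ) ⋙ DerivedCategory.Qh ⟶ DerivedCategory.Qh ⋙ RG)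
  [RG.IsRightDerivedFunctor β (HomotopyCategory.quasiIso C (ComplexShape.up ℤ))]

include hKinj in
/-- the unit of a right derived functor is invertible at K-injective complexes -/
lemma isIso_unit_of_isKInjective (I : CochainComplex C ℤ) [I.IsKInjective] :
    IsIso (β.app ((HomotopyCategory.quotient C (ComplexShape.up ℤ)).obj I)) := by
  obtain ⟨r, e, hr, -⟩ := exists_fibrant hKinj
  haveI : RG.IsLeftKanExtension β := Functor.IsRightDerivedFunctor.isLeftKanExtension _ _
    (HomotopyCategory.quasiIso C (ComplexShape.up ℤ))
  exact RDerK.isIso_unit_app DerivedCategory.Qh r e hr _ RG β _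
    (fun X' => CochainComplex.IsKInjective.Qh_map_bijective X' I)

include hKinj in
/-- **Derived adjunction**: an exact functor `F₀` with right adjoint `G₀`, where the target of `F₀`
has K-injective resolutions, induces an adjunction `F₀.mapDerivedCategory ⊣ RG₀`. -/
theorem exists_adjunction :
    ∃ (adj' : F₀.mapDerivedCategory ⊣ RG),
      ∀ X₂ : HomotopyCategory C (ComplexShape.up ℤ),
        F₀.mapDerivedCategory.map (β.app X₂) ≫ adj'.counit.app (DerivedCategory.Qh.obj X₂) =
          F₀.mapDerivedCategoryFactorsh.hom.app ((G₀.mapHomotopyCategory _).obj X₂) ≫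
            DerivedCategory.Qh.map ((adjK adj₀ (ComplexShape.up ℤ)).counit.app X₂) := by
  obtain ⟨r, e, hr, -⟩ := exists_fibrant hKinj
  exact exists_derived_adjunction (adjK adj₀ (ComplexShape.up ℤ))
    (HomotopyCategory.quasiIso B (ComplexShape.up ℤ))
    (HomotopyCategory.quasiIso C (ComplexShape.up ℤ))
    F₀.mapDerivedCategoryFactorsh.hom β r e hr

end Derived

end Groth.Agent.Lib.Helper25.DerAdjK
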