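import Mathlib

/-!
# Additive functors and extensions of homological complexes along embeddings

For an embedding of complex shapes `e`, a complex `K` strictly supported on `e`, a morphism
`ψ : K.restriction e ⟶ J` and a zero-preserving functor `G` to an abelian category, the morphism
`G (e.liftExtend ψ)` is a quasi-isomorphism as soon as `G ψ` is.
-/

open CategoryTheory CategoryTheory.Limits

namespace Groth.Agent.Lib.helper25.ExtendFunctor

variable {ι ι' : Type*} {c : ComplexShape ι} {c' : ComplexShape ι'} (e : c.Embedding c')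
  [e.IsRelIff]

section IsoCriterion

variable {D : Type*} [Category D] [HasZeroMorphisms D] [HasZeroObject D]

/-- A morphism to an extension which is an isomorphism in the degrees in the image of the
embedding, from a complex vanishing in the other degrees, is an isomorphism. -/
lemma isIso_of_extend {P : HomologicalComplex D c'} {Q : HomologicalComplex D c}
    (f : P ⟶ Q.extend e) (hP : ∀ i', (∀ i, e.f i ≠ i') → IsZero (P.X i'))
    (hf : ∀ i, IsIso (f.f (e.f i))) : IsIso f := by
  have : ∀ i', IsIso (f.f i') := by
    intro i'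
    by_cases h : ∃ i, e.f i = i'
    · obtain ⟨i, rfl⟩ := h
      exact hf i
    · have h' : ∀ i, e.f i ≠ i' := by simpa using h
      have h1 := hP i' h'
      have h2 := Q.isZero_extend_X e i' h'
      exact ⟨⟨0, h1.eq_of_src _ _, h2.eq_of_src _ _⟩⟩
  exact HomologicalComplex.Hom.isIso_of_components f

variable (K : HomologicalComplex D c') [K.IsStrictlySupported e]

lemma hasLift_id : e.HasLift (𝟙 (K.restriction e)) := by
  intro j hj i' hij'
  exact (K.isZero_X_of_isStrictlySupported e i' (hj.notMem hij')).eq_of_src _ _

/-- The canonical morphism from a complex strictly supported on `e` to the extension of its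
restriction. -/
noncomputable def toExtendRestriction : K ⟶ (K.restriction e).extend e :=
  e.liftExtend (𝟙 (K.restriction e)) (hasLift_id e K)

instance : IsIso (toExtendRestriction e K) := by
  apply isIso_of_extend e
  · intro i' hi'
    exact K.isZero_X_of_isStrictlySupported e i' hi'
  · intro i
    dsimp only [toExtendRestriction]
    rw [e.isIso_liftExtend_f_iff _ _ rfl]
    infer_instance

lemma liftExtend_eq {J : HomologicalComplex D c} (ψ : K.restriction e ⟶ J) (hψ : e.HasLift ψ) :
    e.liftExtend ψ hψ = toExtendRestriction e K ≫ HomologicalComplex.extendMap ψ e := by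
  rw [← e.liftExtend_homRestrict (toExtendRestriction e K ≫ HomologicalComplex.extendMap ψ e)]
  congr 1
  rw [e.homRestrict_comp_extendMap]
  dsimp only [toExtendRestriction]
  rw [e.homRestrict_liftExtend, Category.id_comp]

end IsoCriterion

section Functor

variable {C D : Type*} [Category C] [Category D] [HasZeroMorphisms C] [HasZeroObject C]
  [Abelian D] (G : C ⥤ D) [G.PreservesZeroMorphisms]

variable (J : HomologicalComplex C c)

/-- The restriction of `G (J.extend e)` maps to `G J`. -/
noncomputable def ρ :
    ((G.mapHomologicalComplex c').obj (J.extend e)).restriction e ⟶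
      (G.mapHomologicalComplex c).obj J where
  f i := G.map (J.extendXIso e rfl).hom
  comm' i j _ := by
    show G.map (J.extendXIso e rfl).hom ≫ G.map (J.d i j) =
      G.map ((J.extend e).d (e.f i) (e.f j)) ≫ G.map (J.extendXIso e rfl).hom
    rw [← G.map_comp, ← G.map_comp, J.extend_d_eq e rfl rfl, Category.assoc, Category.assoc,
      Iso.inv_hom_id, Category.comp_id]

lemma ρ_f (i : ι) : (ρ e G J).f i = G.map (J.extendXIso e rfl).hom := rfl

lemma hasLift_ρ : e.HasLift (ρ e G J) := by
  intro j hj i' hij'
  have h := J.isZero_extend_X e i' (hj.notMem hij')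
  show G.map ((J.extend e).d i' (e.f j)) ≫ G.map (J.extendXIso e rfl).hom = 0
  rw [h.eq_of_src ((J.extend e).d i' (e.f j)) 0, G.map_zero, zero_comp]

/-- The comparison `G (J.extend e) ⟶ (G J).extend e`. -/
noncomputable def comparison :
    (G.mapHomologicalComplex c').obj (J.extend e) ⟶
      ((G.mapHomologicalComplex c).obj J).extend e :=
  e.liftExtend (ρ e G J) (hasLift_ρ e G J)

instance : IsIso (comparison e G J) := by
  apply isIso_of_extend e
  · intro i' hi'
    exact G.map_isZero (J.isZero_extend_X e i' hi')
  · intro i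
    dsimp only [comparison]
    rw [e.isIso_liftExtend_f_iff _ _ rfl]
    show IsIso (G.map (J.extendXIso e rfl).hom)
    infer_instance

variable (K : HomologicalComplex C c')

/-- The components of `ψ`, with the restriction unfolded. -/
def ψf (ψ : K.restriction e ⟶ J) (i : ι) : K.X (e.f i) ⟶ J.X i := ψ.f i

lemma ψf_comm (ψ : K.restriction e ⟶ J) (i j : ι) :
    ψf e J K ψ i ≫ J.d i j = K.d (e.f i) (e.f j) ≫ ψf e J K ψ j := ψ.comm i j

/-- `G ψ`, as a morphism from the restriction of `G K`. -/
noncomputable def mapψ (ψ : K.restriction e ⟶ J) :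
    ((G.mapHomologicalComplex c').obj K).restriction e ⟶ (G.mapHomologicalComplex c).obj J where
  f i := G.map (ψf e J K ψ i)
  comm' i j _ := by
    show G.map (ψf e J K ψ i) ≫ G.map (J.d i j) =
      G.map (K.d (e.f i) (e.f j)) ≫ G.map (ψf e J K ψ j)
    rw [← G.map_comp, ← G.map_comp, ψf_comm]

lemma mapψ_f (ψ : K.restriction e ⟶ J) (i : ι) :
    (mapψ e G J K ψ).f i = G.map (ψf e J K ψ i) := rfl

lemma hasLift_mapψ (ψ : K.restriction e ⟶ J) (hψ : e.HasLift ψ) : e.HasLift (mapψ e G J K ψ) := by
  intro j hj i' hij'
  show G.map (K.d i' (e.f j)) ≫ G.map (ψf e J K ψ j) = 0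
  have h : K.d i' (e.f j) ≫ ψf e J K ψ j = 0 := hψ j hj i' hij'
  rw [← G.map_comp, h, G.map_zero]

lemma map_liftExtend_comp_comparison (ψ : K.restriction e ⟶ J) (hψ : e.HasLift ψ) :
    (G.mapHomologicalComplex c').map (e.liftExtend ψ hψ) ≫ comparison e G J =
      e.liftExtend (mapψ e G J K ψ) (hasLift_mapψ e G J K ψ hψ) := by
  rw [← e.liftExtend_homRestrict
    ((G.mapHomologicalComplex c').map (e.liftExtend ψ hψ) ≫ comparison e G J)]
  congr 1
  rw [e.homRestrict_precomp]
  dsimp only [comparison]
  rw [e.homRestrict_liftExtend]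
  ext i
  show G.map ((e.liftExtend ψ hψ).f (e.f i)) ≫ G.map (J.extendXIso e rfl).hom =
    G.map (ψf e J K ψ i)
  rw [← G.map_comp]
  congr 1
  rw [e.liftExtend_f _ _ rfl]
  simp [HomologicalComplex.restrictionXIso, ψf]
  exact Category.id_comp _

theorem quasiIso_map_liftExtend [K.IsStrictlySupported e] (ψ : K.restriction e ⟶ J)
    (hψ : e.HasLift ψ) (h : QuasiIso (mapψ e G J K ψ)) :
    QuasiIso ((G.mapHomologicalComplex c').map (e.liftExtend ψ hψ)) := by
  have h1 : (G.mapHomologicalComplex c').map (e.liftExtend ψ hψ) =
      e.liftExtend (mapψ e G J K ψ) (hasLift_mapψ e G J K ψ hψ) ≫ inv (comparison e G J) := by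
    rw [← map_liftExtend_comp_comparison, Category.assoc, IsIso.hom_inv_id, Category.comp_id]
  rw [h1, liftExtend_eq]
  infer_instance

end Functor

end Groth.Agent.Lib.helper25.ExtendFunctor
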