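import Mathlib

/-!
# Homology of t-structure truncations in the derived category
-/

set_option autoImplicit false
open CategoryTheory CategoryTheory.Limits Pretriangulated
universe w v u

namespace Groth.Agent.Lib.helper25.DerivedTrunc

open DerivedCategory

variable {C : Type u} [Category.{v} C] [Abelian C] [HasDerivedCategory.{w} C]

variable (C) in
/-- the canonical t-structure on the derived category. -/
noncomputable abbrev tD : Triangulated.TStructure (DerivedCategory C) := DerivedCategory.TStructure.t

/-- `H^q(τ_{<m} X) ⟶ H^q(X)` is a monomorphism for all `q`. -/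
theorem mono_homology_truncLTι (m q : ℤ) (X : DerivedCategory C) :
    Mono ((homologyFunctor C q).map (((tD C).truncLTι m).app X)) := by
  have hT := (tD C).triangleLTGE_distinguished m X
  by_cases hq : q < m
  · have h := (HomologySequence.mono_homologyMap_mor₁_iff _ hT (q - 1) q (by omega)).2
    apply h
    have hz : IsZero ((homologyFunctor C (q - 1)).obj (((tD C).triangleLTGE m).obj X).obj₃) :=
      isZero_of_isGE _ m (q - 1) (by omega)
    exact hz.eq_of_src _ _
  · have hz : IsZero ((homologyFunctor C q).obj (((tD C).truncLT m).obj X)) :=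
      isZero_of_isLE _ (m - 1) q (by omega)
    exact ⟨fun g h _ => hz.eq_of_tgt g h⟩

/-- `H^q(X) ⟶ H^q(τ_{≥m} X)` is an epimorphism for all `q`. -/
theorem epi_homology_truncGEπ (m q : ℤ) (X : DerivedCategory C) :
    Epi ((homologyFunctor C q).map (((tD C).truncGEπ m).app X)) := by
  have hT := (tD C).triangleLTGE_distinguished m X
  by_cases hq : q < m
  · have hz : IsZero ((homologyFunctor C q).obj (((tD C).truncGE m).obj X)) :=
      isZero_of_isGE _ m q hq
    exact ⟨fun g h _ => hz.eq_of_src g h⟩
  · have h := (HomologySequence.epi_homologyMap_mor₂_iff _ hT q (q + 1) rfl).2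
    apply h
    have hz : IsZero ((homologyFunctor C (q + 1)).obj (((tD C).triangleLTGE m).obj X).obj₁) :=
      isZero_of_isLE _ (m - 1) (q + 1) (by omega)
    exact hz.eq_of_tgt _ _

/-- `τ_{<m}` preserves `IsGE a`. -/
theorem isGE_truncLT (m a : ℤ) (X : DerivedCategory C) [X.IsGE a] :
    (((tD C).truncLT m).obj X).IsGE a := by
  rw [isGE_iff]
  intro i hi
  have := mono_homology_truncLTι m i X
  exact IsZero.of_mono ((homologyFunctor C i).map (((tD C).truncLTι m).app X))
    (isZero_of_isGE X a i hi)

/-- `τ_{≥m}` preserves `IsLE b`. -/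
theorem isLE_truncGE (m b : ℤ) (X : DerivedCategory C) [X.IsLE b] :
    (((tD C).truncGE m).obj X).IsLE b := by
  rw [isLE_iff]
  intro i hi
  have := epi_homology_truncGEπ m i X
  exact IsZero.of_epi ((homologyFunctor C i).map (((tD C).truncGEπ m).app X))
    (isZero_of_isLE X b i hi)

/-- truncation `τ_{<m}` of a cohomologically zero map is cohomologically zero. -/
theorem homology_truncLT_map_eq_zero (m q : ℤ) {X Y : DerivedCategory C} (f : X ⟶ Y)
    (hf : (homologyFunctor C q).map f = 0) :
    (homologyFunctor C q).map (((tD C).truncLT m).map f) = 0 := by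
  have := mono_homology_truncLTι m q Y
  rw [← cancel_mono ((homologyFunctor C q).map (((tD C).truncLTι m).app Y)), zero_comp,
    ← Functor.map_comp]
  have hn : ((tD C).truncLT m).map f ≫ ((tD C).truncLTι m).app Y = ((tD C).truncLTι m).app X ≫ f :=
    ((tD C).truncLTι m).naturality f
  rw [hn, Functor.map_comp, hf, comp_zero]

/-- truncation `τ_{≥m}` of a cohomologically zero map is cohomologically zero. -/
theorem homology_truncGE_map_eq_zero (m q : ℤ) {X Y : DerivedCategory C} (f : X ⟶ Y)
    (hf : (homologyFunctor C q).map f = 0) :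
    (homologyFunctor C q).map (((tD C).truncGE m).map f) = 0 := by
  have := epi_homology_truncGEπ m q X
  rw [← cancel_epi ((homologyFunctor C q).map (((tD C).truncGEπ m).app X)), comp_zero,
    ← Functor.map_comp]
  have hn : ((tD C).truncGEπ m).app X ≫ ((tD C).truncGE m).map f = f ≫ ((tD C).truncGEπ m).app Y :=
    (((tD C).truncGEπ m).naturality f).symm
  rw [hn, Functor.map_comp, hf, zero_comp]

/-- A map between complexes concentrated in the single degree `m` that is zero on `H^m` is zero. -/
theorem eq_zero_of_single_degree (m : ℤ) {X Y : DerivedCategory C} [X.IsGE m] [X.IsLE m]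
    [Y.IsGE m] [Y.IsLE m] (f : X ⟶ Y) (hf : (homologyFunctor C m).map f = 0) : f = 0 := by
  obtain ⟨A, ⟨eX⟩⟩ := exists_iso_singleFunctor_obj_of_isGE_of_isLE X m
  obtain ⟨B, ⟨eY⟩⟩ := exists_iso_singleFunctor_obj_of_isGE_of_isLE Y m
  obtain ⟨g, hg⟩ := (singleFunctor C m).map_surjective (eX.inv ≫ f ≫ eY.hom)
  have hg0 : g = 0 := by
    have h1 : (homologyFunctor C m).map ((singleFunctor C m).map g) = 0 := by
      rw [hg, Functor.map_comp, Functor.map_comp, hf, zero_comp, comp_zero]
    have h2 := NatIso.naturality_1 (singleFunctorCompHomologyFunctorIso C m) g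
    simp only [Functor.comp_map, Functor.id_map] at h2
    rw [← h2, h1, zero_comp, comp_zero]
  rw [hg0, Functor.map_zero] at hg
  have : f = eX.hom ≫ (eX.inv ≫ f ≫ eY.hom) ≫ eY.inv := by simp
  rw [this, ← hg, zero_comp, comp_zero]

end Groth.Agent.Lib.helper25.DerivedTrunc
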