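import Mathlib
import Groth.Agent.Lib.Helper8.StalkExact

/-!
# Epimorphisms of sheaves of modules are surjective on stalks (helper25)

* `epi_toSheaf_map`: the forgetful functor `SheafOfModules R ⥤ Sheaf J Ab` preserves epimorphisms (any site).
* `stalkAdd_surjective_of_epi`: an epimorphism of `O_X`-modules (no quasi-coherence) is surjective on stalks.
-/

set_option autoImplicit false
universe v v' u u'
open CategoryTheory CategoryTheory.Limits

namespace Groth.Agent.Lib.helper25.StalkEpi

section General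

variable {C : Type u'} [Category.{v'} C] {J : GrothendieckTopology C}
  (R : Sheaf J RingCat.{u}) [HasSheafify J AddCommGrpCat.{v}]
  [J.WEqualsLocallyBijective AddCommGrpCat.{v}]

/-- the forgetful functor from sheaves of modules to abelian sheaves preserves epimorphisms -/
theorem epi_toSheaf_map {G H : SheafOfModules.{v} R} (φ : G ⟶ H) [Epi φ] :
    Epi ((SheafOfModules.toSheaf R).map φ) := by
  let L := PresheafOfModules.sheafification.{v} (𝟙 R.obj)
  let Rg := SheafOfModules.forget.{v} R ⋙ PresheafOfModules.restrictScalars (𝟙 R.obj)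
  let adj : L ⊣ Rg := PresheafOfModules.sheafificationAdjunction (𝟙 R.obj)
  haveI : IsIso adj.counit := inferInstance
  let φ₀ := Rg.map φ
  let c₀ := cokernel.π φ₀
  have nat : L.map φ₀ ≫ adj.counit.app H = adj.counit.app G ≫ φ := adj.counit.naturality φ
  have h3 : L.map c₀ = 0 := by
    have h1 : φ ≫ inv (adj.counit.app H) ≫ L.map c₀ = 0 := by
      have : φ ≫ inv (adj.counit.app H) = inv (adj.counit.app G) ≫ L.map φ₀ := by
        rw [IsIso.eq_inv_comp, ← Category.assoc, ← nat, Category.assoc, IsIso.hom_inv_id,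
          Category.comp_id]
      rw [reassoc_of% this, ← L.map_comp, cokernel.condition, L.map_zero, comp_zero]
    have h2 : inv (adj.counit.app H) ≫ L.map c₀ = 0 := (cancel_epi φ).1 (by rw [h1, comp_zero])
    rwa [IsIso.inv_comp_eq, comp_zero] at h2
  let F₂ := PresheafOfModules.toPresheaf.{v} R.obj ⋙ presheafToSheaf J AddCommGrpCat.{v}
  have e₂ : ∀ {A B : PresheafOfModules.{v} R.obj} (f : A ⟶ B),
      (SheafOfModules.toSheaf R).map (L.map f) = F₂.map f := fun f => rfl
  have h4 : F₂.map c₀ = 0 := by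
    rw [← e₂, h3, Functor.map_zero]
    rfl
  have w : F₂.map φ₀ ≫ F₂.map c₀ = 0 := by rw [h4, comp_zero]
  have hcol : IsColimit (CokernelCofork.ofπ (F₂.map c₀) w) :=
    isColimitCoforkMapOfIsColimit' F₂ (cokernel.condition φ₀) (cokernelIsCokernel φ₀)
  have h5 : Epi (F₂.map φ₀) := by
    apply Preadditive.epi_of_cancel_zero
    intro Z g hg
    obtain ⟨l, hl⟩ := CokernelCofork.IsColimit.desc' hcol g hg
    rw [← hl]
    change F₂.map c₀ ≫ l = 0
    rw [h4, zero_comp]
  have h6 : φ = inv (adj.counit.app G) ≫ L.map φ₀ ≫ adj.counit.app H := by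
    rw [nat, IsIso.inv_hom_id_assoc]
  rw [h6, Functor.map_comp, Functor.map_comp, e₂]
  have i1 : IsIso ((SheafOfModules.toSheaf R).map (inv (adj.counit.app G))) := inferInstance
  have i2 : IsIso ((SheafOfModules.toSheaf R).map (adj.counit.app H)) := inferInstance
  have i3 : Epi (F₂.map φ₀ ≫ (SheafOfModules.toSheaf R).map (adj.counit.app H)) :=
    epi_comp' h5 (@IsIso.epi_of_iso _ _ _ _ _ i2)
  exact epi_comp' (@IsIso.epi_of_iso _ _ _ _ _ i1) i3

end General

section Scheme

open AlgebraicGeometry Groth.Agent.Lib.helper17.FlatOver7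

variable {X : Scheme.{u}}

/-- **An epimorphism of `O_X`-modules is surjective on stalks** (no quasi-coherence needed). -/
theorem stalkAdd_surjective_of_epi {G H : X.Modules} (g : G ⟶ H) [Epi g] (x : X) :
    Function.Surjective (stalkAdd g x) := by
  have h0 : @Epi (SheafOfModules.{u} X.ringCatSheaf) _ G H g := ‹Epi g›
  have h1 : Epi ((SheafOfModules.toSheaf X.ringCatSheaf).map (X := G) (Y := H) g) :=
    @epi_toSheaf_map _ _ _ X.ringCatSheaf _ _ G H g h0
  have h3 : PreservesFiniteColimits
      (TopCat.Sheaf.forget Ab.{u} X.toTopCat ⋙ TopCat.Presheaf.stalkFunctor Ab.{u} x) := inferInstance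
  have h4 : (TopCat.Sheaf.forget Ab.{u} X.toTopCat ⋙
      TopCat.Presheaf.stalkFunctor Ab.{u} x).PreservesEpimorphisms := inferInstance
  have h2 : Epi ((TopCat.Sheaf.forget Ab.{u} X.toTopCat ⋙ TopCat.Presheaf.stalkFunctor Ab.{u} x).map
      ((SheafOfModules.toSheaf X.ringCatSheaf).map (X := G) (Y := H) g)) :=
    @Functor.map_epi _ _ _ _ _ h4 _ _ _ h1
  exact (AddCommGrpCat.epi_iff_surjective _).1 h2

end Scheme

end Groth.Agent.Lib.helper25.StalkEpi
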