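import Mathlib
import Groth.Prelude.Def_DCoh3
import Groth.Prelude.Def_CxOX

/-!
# Restriction of morphisms between restricted modules to smaller opens (helper25)

For `V' ≤ V` opens of a scheme `X`, a morphism `φ : E|_V ⟶ F|_V` restricts to `resHom h φ : E|_{V'} ⟶ F|_{V'}`
(through Mathlib's `restrictFunctorComp`).  `resHom` is additive, functorial, transitive and sends
`α|_V` to `α|_{V'}`.
-/

set_option autoImplicit false
universe u
open CategoryTheory CategoryTheory.Limits AlgebraicGeometry TopologicalSpace Opposite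
open Scheme.Modules

namespace Groth.Agent.Lib.helper25.DCohRes

variable {X : Scheme.{u}}

/-- `(−|_V)|_{V'} ≅ −|_{V'}` for `V' ≤ V`. -/
noncomputable def θ {V' V : X.Opens} (h : V' ≤ V) :
    restrictFunctor V.ι ⋙ restrictFunctor (X.homOfLE h) ≅ restrictFunctor V'.ι :=
  (restrictFunctorComp (X.homOfLE h) V.ι).symm ≪≫ restrictFunctorCongr (by simp)

/-- Restriction of a morphism `E|_V ⟶ F|_V` to a smaller open `V' ≤ V`. -/
noncomputable def resHom {V' V : X.Opens} (h : V' ≤ V) {E F : X.Modules}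
    (φ : (restrictFunctor V.ι).obj E ⟶ (restrictFunctor V.ι).obj F) :
    (restrictFunctor V'.ι).obj E ⟶ (restrictFunctor V'.ι).obj F :=
  (θ h).inv.app E ≫ (restrictFunctor (X.homOfLE h)).map φ ≫ (θ h).hom.app F

section

variable {V' V : X.Opens} (h : V' ≤ V) {E F G : X.Modules}

lemma resHom_comp (φ : (restrictFunctor V.ι).obj E ⟶ (restrictFunctor V.ι).obj F)
    (ψ : (restrictFunctor V.ι).obj F ⟶ (restrictFunctor V.ι).obj G) :
    resHom h (φ ≫ ψ) = resHom h φ ≫ resHom h ψ := by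
  simp [resHom]

lemma resHom_map (α : E ⟶ F) :
    resHom h ((restrictFunctor V.ι).map α) = (restrictFunctor V'.ι).map α := by
  have := (θ h).hom.naturality α
  simp only [Functor.comp_map] at this
  rw [resHom, this, Iso.inv_hom_id_app_assoc]

lemma resHom_id : resHom h (𝟙 ((restrictFunctor V.ι).obj E)) = 𝟙 _ := by
  simp [resHom]

lemma resHom_zero : resHom h (0 : (restrictFunctor V.ι).obj E ⟶ (restrictFunctor V.ι).obj F) = 0 := by
  simp [resHom]

lemma resHom_add (φ ψ : (restrictFunctor V.ι).obj E ⟶ (restrictFunctor V.ι).obj F) :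
    resHom h (φ + ψ) = resHom h φ + resHom h ψ := by
  simp [resHom, Functor.map_add]

lemma resHom_sub (φ ψ : (restrictFunctor V.ι).obj E ⟶ (restrictFunctor V.ι).obj F) :
    resHom h (φ - ψ) = resHom h φ - resHom h ψ := by
  simp [resHom, Functor.map_sub]

lemma resHom_neg (φ : (restrictFunctor V.ι).obj E ⟶ (restrictFunctor V.ι).obj F) :
    resHom h (-φ) = -resHom h φ := by
  simp [resHom, Functor.map_neg]

end

lemma restrictFunctor_map_app {Y Z : Scheme.{u}} (f : Y ⟶ Z) [IsOpenImmersion f] {M N : Z.Modules}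
    (φ : M ⟶ N) (U : Y.Opens) :
    ((restrictFunctor f).map φ).app U = φ.app (f ''ᵁ U) := rfl

lemma app_eqToHom {Z : Scheme.{u}} {M N : Z.Modules} (φ : M ⟶ N) {W W' : Z.Opens} (h : W = W') :
    φ.app W = M.presheaf.map (eqToHom (by rw [h])).op ≫ φ.app W' ≫
      N.presheaf.map (eqToHom (by rw [h])).op := by
  subst h
  simp

lemma image_image_eq {V' V : X.Opens} (h : V' ≤ V) (U : (V' : Scheme.{u}).Opens) :
    V.ι ''ᵁ (X.homOfLE h ''ᵁ U) = V'.ι ''ᵁ U := by
  rw [← Scheme.Hom.comp_image]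
  simp only [Scheme.homOfLE_ι]

lemma θ_hom_app_app {V' V : X.Opens} (h : V' ≤ V) (E : X.Modules) (U : (V' : Scheme.{u}).Opens) :
    ((θ h).hom.app E).app U = E.presheaf.map (eqToHom (image_image_eq h U).symm).op := by
  simp only [θ, Iso.trans_hom, Iso.symm_hom, NatTrans.comp_app, Hom.comp_app,
    restrictFunctorComp_inv_app_app, restrictFunctorCongr_hom_app_app]
  exact (E.presheaf.map_comp _ _).symm

lemma θ_inv_app_app {V' V : X.Opens} (h : V' ≤ V) (E : X.Modules) (U : (V' : Scheme.{u}).Opens) :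
    ((θ h).inv.app E).app U = E.presheaf.map (eqToHom (image_image_eq h U)).op := by
  simp only [θ, Iso.trans_inv, Iso.symm_inv, NatTrans.comp_app, Hom.comp_app,
    restrictFunctorComp_hom_app_app, restrictFunctorCongr_inv_app_app]
  exact (E.presheaf.map_comp _ _).symm

lemma resHom_app {V' V : X.Opens} (h : V' ≤ V) {E F : X.Modules}
    (φ : (restrictFunctor V.ι).obj E ⟶ (restrictFunctor V.ι).obj F) (U : (V' : Scheme.{u}).Opens) :
    (resHom h φ).app U = E.presheaf.map (eqToHom (image_image_eq h U)).op ≫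
      φ.app (X.homOfLE h ''ᵁ U) ≫ F.presheaf.map (eqToHom (image_image_eq h U).symm).op := by
  simp only [resHom, Hom.comp_app, θ_hom_app_app, θ_inv_app_app, restrictFunctor_map_app]
  rfl

lemma sandwich_aux {T : Type*} [Category T] [Quiver.IsThin T] (P Q : T ⥤ Ab.{u}) {A A₂ Wx B₂ B : T}
    (g : P.obj Wx ⟶ Q.obj Wx)
    (a₁ : A ⟶ A₂) (a₂ : A₂ ⟶ Wx) (b₂ : Wx ⟶ B₂) (b₁ : B₂ ⟶ B) (a' : A ⟶ Wx) (b' : Wx ⟶ B) :
    P.map a₁ ≫ (P.map a₂ ≫ g ≫ Q.map b₂) ≫ Q.map b₁ = P.map a' ≫ g ≫ Q.map b' := by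
  have h1 : P.map a' = P.map a₁ ≫ P.map a₂ := by
    rw [← Functor.map_comp]
    congr 1
    exact Subsingleton.elim _ _
  have h2 : Q.map b' = Q.map b₂ ≫ Q.map b₁ := by
    rw [← Functor.map_comp]
    congr 1
    exact Subsingleton.elim _ _
  rw [h1, h2]
  simp only [Category.assoc]

lemma sandwich2 {V : X.Opens} {E F : X.Modules}
    (φ : (restrictFunctor V.ι).obj E ⟶ (restrictFunctor V.ι).obj F)
    {W W' : (V : Scheme.{u}).Opens} (hW : W = W') {A A₂ B₂ B : X.Opens}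
    (a₁ : op A ⟶ op A₂) (a₂ : op A₂ ⟶ op (V.ι ''ᵁ W))
    (b₂ : op (V.ι ''ᵁ W) ⟶ op B₂) (b₁ : op B₂ ⟶ op B)
    (a' : op A ⟶ op (V.ι ''ᵁ W')) (b' : op (V.ι ''ᵁ W') ⟶ op B) :
    E.presheaf.map a₁ ≫ (E.presheaf.map a₂ ≫ φ.app W ≫ F.presheaf.map b₂) ≫ F.presheaf.map b₁ =
      E.presheaf.map a' ≫ φ.app W' ≫ F.presheaf.map b' := by
  subst hW
  exact sandwich_aux E.presheaf F.presheaf (φ.app W) a₁ a₂ b₂ b₁ a' b'

lemma resHom_trans {V'' V' V : X.Opens} (h₁ : V'' ≤ V') (h₂ : V' ≤ V) {E F : X.Modules}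
    (φ : (restrictFunctor V.ι).obj E ⟶ (restrictFunctor V.ι).obj F) :
    resHom h₁ (resHom h₂ φ) = resHom (h₁.trans h₂) φ := by
  refine Scheme.Modules.hom_ext _ _ fun U => ?_
  have hW : X.homOfLE h₂ ''ᵁ X.homOfLE h₁ ''ᵁ U = X.homOfLE (h₁.trans h₂) ''ᵁ U := by
    simp only [← Scheme.Hom.comp_image, Scheme.homOfLE_homOfLE]
  rw [resHom_app, resHom_app, resHom_app]
  exact sandwich2 φ hW _ _ _ _ _ _

end Groth.Agent.Lib.helper25.DCohRes
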