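import Mathlib
import Groth.Prelude.Def_DCoh3
import Groth.Prelude.Def_CxOX
import Groth.Agent.Lib.Helper16.FLF5
import Groth.Agent.Lib.Helper25.DCohRes

/-!
# Restriction along open immersions on complexes and derived categories of `O_X`-modules (helper25)

* `resCx g`: termwise restriction of complexes along an open immersion `g` (`DCoh.restrictCx V = resCx V.ι`).
* `resDQIso`: `restrictD g (Q F) ≅ Q (g^* F)`; `nonempty_Q_res_iso`: `Q A ≅ Q B → Q (g^*A) ≅ Q (g^*B)`.
* `resCxCompIso`, `resCxCongrIso`: transitivity of restriction at the level of complexes.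
* `isStrictlyPerfect_res`: restriction of strictly perfect is strictly perfect.
* `isPerfect_at_of_openImmersion`: flexible local criterion for `DCoh.IsPerfect`.
-/

set_option autoImplicit false
universe u
open CategoryTheory CategoryTheory.Limits AlgebraicGeometry TopologicalSpace Opposite
open Scheme.Modules

attribute [local instance] HasDerivedCategory.standard

namespace Groth.Agent.Lib.helper25.DCohRestrict

variable {X Y Z : Scheme.{u}}

/-- termwise restriction of complexes along an open immersion -/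
noncomputable abbrev resCx (g : Z ⟶ Y) [IsOpenImmersion g] :
    CochainComplex Y.Modules ℤ ⥤ CochainComplex Z.Modules ℤ :=
  (restrictFunctor g).mapHomologicalComplex (ComplexShape.up ℤ)

/-- `restrictD g (Q F) ≅ Q (g^* F)` -/
noncomputable def resDQIso (g : Z ⟶ Y) [IsOpenImmersion g] (F : CochainComplex Y.Modules ℤ) :
    (DCoh.restrictD g).obj (DerivedCategory.Q.obj F) ≅ DerivedCategory.Q.obj ((resCx g).obj F) :=
  ((restrictFunctor g).mapDerivedCategoryFactors).app F

lemma nonempty_Q_res_iso (g : Z ⟶ Y) [IsOpenImmersion g] {A B : CochainComplex Y.Modules ℤ}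
    (e : Nonempty (DerivedCategory.Q.obj A ≅ DerivedCategory.Q.obj B)) :
    Nonempty (DerivedCategory.Q.obj ((resCx g).obj A) ≅ DerivedCategory.Q.obj ((resCx g).obj B)) :=
  e.map fun e => (resDQIso g A).symm ≪≫ (DCoh.restrictD g).mapIso e ≪≫ resDQIso g B

/-- `(g ≫ h)^* F ≅ g^* h^* F` -/
noncomputable def resCxCompIso (g : Z ⟶ Y) (h : Y ⟶ X) [IsOpenImmersion g] [IsOpenImmersion h]
    (F : CochainComplex X.Modules ℤ) :
    (resCx (g ≫ h)).obj F ≅ (resCx g).obj ((resCx h).obj F) :=
  HomologicalComplex.Hom.isoOfComponents (fun i => (restrictFunctorComp g h).app (F.X i))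
    (fun i j _ => ((restrictFunctorComp g h).hom.naturality (F.d i j)).symm)

/-- restriction along equal morphisms -/
noncomputable def resCxCongrIso {g g' : Z ⟶ Y} [IsOpenImmersion g] [IsOpenImmersion g'] (h : g = g')
    (F : CochainComplex Y.Modules ℤ) : (resCx g).obj F ≅ (resCx g').obj F := by
  subst h
  exact Iso.refl _

lemma isStrictlyPerfect_res (g : Z ⟶ Y) [IsOpenImmersion g] {E : CochainComplex Y.Modules ℤ}
    (hE : DCoh.IsStrictlyPerfect E) : DCoh.IsStrictlyPerfect ((resCx g).obj E) := by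
  obtain ⟨⟨a, b, hab⟩, hf⟩ := hE
  refine ⟨⟨a, b, fun i hi => (restrictFunctor g).map_isZero (hab i hi)⟩, fun i => ?_⟩
  exact Groth.Agent.Lib.helper16.FLF.isFinLocFree_restrict g (hf i)

/-- every object of `D(O_X)` is represented by a complex -/
lemma exists_rep (K : DCoh.D X) : ∃ F : CochainComplex X.Modules ℤ, Nonempty (DCoh.toD X F ≅ K) :=
  ⟨DerivedCategory.Q.objPreimage K, ⟨DerivedCategory.Q.objObjPreimageIso K⟩⟩

/-- Transport of a local presentation along an open immersion `j : U ⟶ X` to the open `j.opensRange` of `X`: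
if `Q (j^* F₀) ≅ Q E` for ONE representing complex `F₀` of `K`, then for EVERY representing complex `F` of `K`,
`Q (F|_{range j}) ≅ Q (ε^* E)` where `ε : range j ≅ U` is the canonical isomorphism. -/
lemma nonempty_Q_restrict_opensRange_iso (K : DCoh.D X) {U : Scheme.{u}} (j : U ⟶ X) [IsOpenImmersion j]
    (F₀ : CochainComplex X.Modules ℤ) (hF₀ : Nonempty (DCoh.toD X F₀ ≅ K))
    (E : CochainComplex U.Modules ℤ)
    (e : Nonempty (DerivedCategory.Q.obj ((resCx j).obj F₀) ≅ DerivedCategory.Q.obj E))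
    (F : CochainComplex X.Modules ℤ) (hF : Nonempty (DCoh.toD X F ≅ K)) :
    Nonempty (DerivedCategory.Q.obj ((DCoh.restrictCx j.opensRange).obj F) ≅
      DerivedCategory.Q.obj ((resCx j.isoOpensRange.inv).obj E)) := by
  have hε : j.isoOpensRange.inv ≫ j = j.opensRange.ι := j.isoOpensRange_inv_comp
  obtain ⟨a⟩ := hF
  obtain ⟨a₀⟩ := hF₀
  obtain ⟨e1⟩ := nonempty_Q_res_iso j.opensRange.ι ⟨a ≪≫ a₀.symm⟩
  obtain ⟨e2⟩ := nonempty_Q_res_iso j.isoOpensRange.inv e
  exact ⟨e1 ≪≫ DerivedCategory.Q.mapIso (resCxCongrIso hε.symm F₀ ≪≫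
    resCxCompIso j.isoOpensRange.inv j F₀) ≪≫ e2⟩

/-- Flexible local criterion for perfectness: it suffices to find, for ONE representing complex `F₀`, an open
immersion `j : U ⟶ X` whose range contains `x` and a strictly perfect complex `E` on `U` with `Q (j^* F₀) ≅ Q E`. -/
lemma isPerfect_at_of_openImmersion (K : DCoh.D X) (x : X) {U : Scheme.{u}} (j : U ⟶ X) [IsOpenImmersion j]
    (hx : x ∈ j.opensRange) (F₀ : CochainComplex X.Modules ℤ) (hF₀ : Nonempty (DCoh.toD X F₀ ≅ K))
    (E : CochainComplex U.Modules ℤ) (hE : DCoh.IsStrictlyPerfect E)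
    (e : Nonempty (DerivedCategory.Q.obj ((resCx j).obj F₀) ≅ DerivedCategory.Q.obj E)) :
    ∃ (V : X.Opens), x ∈ V ∧ ∀ (F : CochainComplex X.Modules ℤ), Nonempty (DCoh.toD X F ≅ K) →
      ∃ E' : CochainComplex (V : Scheme.{u}).Modules ℤ, DCoh.IsStrictlyPerfect E' ∧
        Nonempty (DerivedCategory.Q.obj ((DCoh.restrictCx V).obj F) ≅ DerivedCategory.Q.obj E') :=
  ⟨j.opensRange, hx, fun F hF => ⟨_, isStrictlyPerfect_res _ hE,
    nonempty_Q_restrict_opensRange_iso K j F₀ hF₀ E e F hF⟩⟩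

/-- the free module of rank `0` is zero -/
lemma isZero_freeMod_zero (Y : Scheme.{u}) : IsZero (FlatMod.freeMod Y 0) := by
  rw [IsZero.iff_id_eq_zero]
  apply Sigma.hom_ext
  intro i
  exact i.elim0

/-- a zero module is free of rank `0` -/
lemma nonempty_iso_freeMod_zero_of_isZero {Y : Scheme.{u}} {M : Y.Modules} (h : IsZero M) :
    ∃ n : ℕ, Nonempty (M ≅ FlatMod.freeMod Y n) :=
  ⟨0, ⟨h.iso (isZero_freeMod_zero Y)⟩⟩

/-- restriction along an open immersion of a free module is free -/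
lemma exists_iso_freeMod_res (g : Z ⟶ Y) [IsOpenImmersion g] {M : Y.Modules}
    (h : ∃ n : ℕ, Nonempty (M ≅ FlatMod.freeMod Y n)) :
    ∃ n : ℕ, Nonempty ((restrictFunctor g).obj M ≅ FlatMod.freeMod Z n) := by
  obtain ⟨n, ⟨e⟩⟩ := h
  exact ⟨n, ⟨(restrictFunctor g).mapIso e ≪≫ Groth.Agent.Lib.helper16.FLF.restrictFreeModIso g n⟩⟩

/-- all terms of a strictly perfect complex are simultaneously free on a neighbourhood of a point -/
lemma exists_open_all_free {E : CochainComplex Y.Modules ℤ} (hE : DCoh.IsStrictlyPerfect E) (y : Y) :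
    ∃ W : Y.Opens, y ∈ W ∧ ∀ i : ℤ, ∃ n : ℕ,
      Nonempty ((restrictFunctor W.ι).obj (E.X i) ≅ FlatMod.freeMod (↑W) n) := by
  obtain ⟨⟨a, b, hab⟩, hf⟩ := hE
  have H := fun i : ℤ => hf i y
  choose U n hyU iso using H
  refine ⟨⨅ i : Set.Icc a b, U i.1, ?_, fun i => ?_⟩
  · change y ∈ ((⨅ i : Set.Icc a b, U i.1 : Y.Opens) : Set Y)
    rw [Opens.coe_iInf]
    exact Set.mem_iInter.mpr fun i => hyU i.1
  · by_cases hi : i ∈ Set.Icc a b
    · have hle : (⨅ i : Set.Icc a b, U i.1) ≤ U i := iInf_le (fun i : Set.Icc a b => U i.1) ⟨i, hi⟩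
      obtain ⟨e⟩ := iso i
      exact ⟨n i, ⟨(Groth.Agent.Lib.helper25.DCohRes.θ hle).symm.app (E.X i) ≪≫
        (restrictFunctor (Y.homOfLE hle)).mapIso e ≪≫
        Groth.Agent.Lib.helper16.FLF.restrictFreeModIso (Y.homOfLE hle) (n i)⟩⟩
    · have hz : IsZero (E.X i) := by
        apply hab
        simp only [Set.mem_Icc, not_and_or, not_le] at hi
        exact hi
      exact nonempty_iso_freeMod_zero_of_isZero ((restrictFunctor _).map_isZero hz)

end Groth.Agent.Lib.helper25.DCohRestrict
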