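import Mathlib
import Groth.Agent.Lib.Helper25.DCohRes
import Groth.Agent.Lib.Helper7.LocalLift
import Groth.Agent.Lib.Helper16.FLF5

/-!
# Local lifting from finite locally free modules, posed over an open (helper25)
-/

set_option autoImplicit false
universe u
open CategoryTheory CategoryTheory.Limits AlgebraicGeometry TopologicalSpace Opposite
open Scheme.Modules

namespace Groth.Agent.Lib.helper25.DCohLift

open Groth.Agent.Lib.helper25.DCohRes

variable {X : Scheme.{u}}

/-- Local lifting along an epimorphism `p : G ⟶ F` of `O_X`-modules of a map `E|_V ⟶ F|_V` defined over an open `V`,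
for `E` finite locally free: there is a smaller neighbourhood `V' ≤ V` of `x` and `ψ : E|_{V'} ⟶ G|_{V'}` with
`ψ ≫ p|_{V'} = φ|_{V'}`. -/
theorem exists_local_lift_on {E F G : X.Modules} (p : G ⟶ F) [Epi p]
    (hE : FlatMod.IsFinLocFree E) {V : X.Opens} (x : X) (hx : x ∈ V)
    (φ : (restrictFunctor V.ι).obj E ⟶ (restrictFunctor V.ι).obj F) :
    ∃ (V' : X.Opens) (h : V' ≤ V), x ∈ V' ∧
      ∃ ψ : (restrictFunctor V'.ι).obj E ⟶ (restrictFunctor V'.ι).obj G,
        ψ ≫ (restrictFunctor V'.ι).map p = resHom h φ := by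
  obtain ⟨U₀, n, hxU₀, ⟨e₀⟩⟩ := hE x
  let U : X.Opens := U₀ ⊓ V
  have hUV : U ≤ V := inf_le_right
  have hUU₀ : U ≤ U₀ := inf_le_left
  have hxU : x ∈ U := ⟨hxU₀, hx⟩
  let e : (restrictFunctor U.ι).obj E ≅ FlatMod.freeMod (↑U) n :=
    (θ hUU₀).symm.app E ≪≫ (restrictFunctor (X.homOfLE hUU₀)).mapIso e₀ ≪≫
      Groth.Agent.Lib.helper16.FLF.restrictFreeModIso (X.homOfLE hUU₀) n
  have hepi : Epi ((restrictFunctor U.ι).map p) := inferInstance
  obtain ⟨W, hyW, H⟩ := Groth.Agent.Lib.helper7.LocalLift.exists_lift_of_free (Y := (↑U : Scheme.{u})) e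
    ((restrictFunctor U.ι).map p) (resHom hUV φ) ⟨x, hxU⟩
  let V' : X.Opens := U.ι ''ᵁ W
  have hV'U : V' ≤ U := by
    intro z hz
    obtain ⟨w, -, rfl⟩ := hz
    exact w.2
  have hxV' : x ∈ V' := ⟨⟨x, hxU⟩, hyW, rfl⟩
  let ι : (↑V' : Scheme.{u}) ⟶ ↑U := X.homOfLE hV'U
  have hι : ι.opensRange ≤ W := by
    rw [Scheme.opensRange_homOfLE]
    exact (U.ι.preimage_image_eq W).le
  obtain ⟨ψ', hψ'⟩ := H ι hι
  refine ⟨V', hV'U.trans hUV, hxV', (θ hV'U).inv.app E ≫ ψ' ≫ (θ hV'U).hom.app G, ?_⟩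
  have n1 := (θ hV'U).hom.naturality p
  simp only [Functor.comp_map] at n1
  rw [← resHom_trans hV'U hUV φ]
  rw [Category.assoc, Category.assoc, ← n1, reassoc_of% hψ']
  rfl

/-- update a two-index dependent family at one place -/
lemma exists_update {ι : Type} [DecidableEq ι] {A : ι → ι → Type*} (f : ∀ i j, A i j) (i₀ j₀ : ι)
    (v : A i₀ j₀) :
    ∃ g : ∀ i j, A i j, g i₀ j₀ = v ∧ ∀ i j, (i ≠ i₀ ∨ j ≠ j₀) → g i j = f i j := by
  refine ⟨Function.update f i₀ (Function.update (f i₀) j₀ v), by simp, ?_⟩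
  intro i j h
  by_cases hi : i = i₀
  · subst hi
    have hj : j ≠ j₀ := by
      rcases h with h | h
      · exact absurd rfl h
      · exact h
    simp [Function.update_of_ne hj]
  · rw [Function.update_of_ne hi]

/-- a null-homotopy from a two-index family of maps -/
noncomputable def mkHomotopy {A : Type*} [Category A] [Preadditive A] {K L : CochainComplex A ℤ} (φ : K ⟶ L)
    (h : ∀ i j : ℤ, K.X i ⟶ L.X j)
    (H : ∀ i : ℤ, φ.f i = K.d i (i + 1) ≫ h (i + 1) i + h i (i - 1) ≫ L.d (i - 1) i) : Homotopy φ 0 where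
  hom i j := if j + 1 = i then h i j else 0
  zero i j hij := by
    have : ¬ (j + 1 = i) := hij
    simp [this]
  comm i := by
    rw [dNext_eq _ (show (ComplexShape.up ℤ).Rel i (i + 1) from rfl),
      prevD_eq _ (show (ComplexShape.up ℤ).Rel (i - 1) i by simp)]
    simp [H i]

/-- lifting through the image of a kernel under a functor preserving finite limits -/
lemma exists_lift_kernel {A B : Type*} [Category A] [Category B] [Abelian A] [Abelian B] (G : A ⥤ B)
    [G.Additive] [PreservesFiniteLimits G] {M N : A} (f : M ⟶ N) {T : B} (φ : T ⟶ G.obj M)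
    (hφ : φ ≫ G.map f = 0) :
    ∃ φ' : T ⟶ G.obj (kernel f), φ' ≫ G.map (kernel.ι f) = φ := by
  refine ⟨kernel.lift (G.map f) φ hφ ≫ (PreservesKernel.iso G f).inv, ?_⟩
  have : (PreservesKernel.iso G f).inv ≫ G.map (kernel.ι f) = kernel.ι (G.map f) := by
    rw [Iso.inv_comp_eq, PreservesKernel.iso_hom, kernelComparison_comp_ι]
  rw [Category.assoc, this, kernel.lift_ι]

end Groth.Agent.Lib.helper25.DCohLift
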