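import Mathlib
import Groth.Agent.Lib.Helper25.DCohRestrict
import Groth.Agent.S0933
import Groth.Agent.S6516

/-!
# Perfect objects of `D(O_X)`: derived-category level criteria (helper25)

* `isPerfect_at_of_restrictD_iso` / `exists_restrictD_iso_of_isPerfect`: `K` is perfect iff locally
  `restrictD j K ≅ Q E` with `E` strictly perfect.
* `nonempty_restrictD_comp_iso`: `restrictD (g ≫ h) K ≅ restrictD g (restrictD h K)`.
* `isStrictlyPerfect_shift`, `isPerfect_shift`.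
* `exists_local_chain_map`: a morphism `Q E₁ ⟶ Q E₂` in `D(O_Y)` with `E₁` strictly perfect is, locally, `Q` of a
  chain map.
-/

set_option autoImplicit false
universe u
open CategoryTheory CategoryTheory.Limits AlgebraicGeometry TopologicalSpace Opposite
open Scheme.Modules

attribute [local instance] HasDerivedCategory.standard

namespace Groth.Agent.Lib.helper25.DCohPerfect

open Groth.Agent.Lib.helper25.DCohRestrict

variable {X Y Z : Scheme.{u}}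

lemma nonempty_restrictD_comp_iso (g : Z ⟶ Y) (h : Y ⟶ X) [IsOpenImmersion g] [IsOpenImmersion h]
    (K : DCoh.D X) :
    Nonempty ((DCoh.restrictD (g ≫ h)).obj K ≅ (DCoh.restrictD g).obj ((DCoh.restrictD h).obj K)) := by
  obtain ⟨F, ⟨a⟩⟩ := exists_rep K
  exact ⟨(DCoh.restrictD (g ≫ h)).mapIso a.symm ≪≫ resDQIso (g ≫ h) F ≪≫
    DerivedCategory.Q.mapIso (resCxCompIso g h F) ≪≫ (resDQIso g _).symm ≪≫
    (DCoh.restrictD g).mapIso ((resDQIso h F).symm ≪≫ (DCoh.restrictD h).mapIso a)⟩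

/-- D-level local criterion for perfectness -/
lemma isPerfect_at_of_restrictD_iso (K : DCoh.D X) (x : X) {U : Scheme.{u}} (j : U ⟶ X) [IsOpenImmersion j]
    (hx : x ∈ j.opensRange) (E : CochainComplex U.Modules ℤ) (hE : DCoh.IsStrictlyPerfect E)
    (e : Nonempty ((DCoh.restrictD j).obj K ≅ DerivedCategory.Q.obj E)) :
    ∃ (V : X.Opens), x ∈ V ∧ ∀ (F : CochainComplex X.Modules ℤ), Nonempty (DCoh.toD X F ≅ K) →
      ∃ E' : CochainComplex (V : Scheme.{u}).Modules ℤ, DCoh.IsStrictlyPerfect E' ∧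
        Nonempty (DerivedCategory.Q.obj ((DCoh.restrictCx V).obj F) ≅ DerivedCategory.Q.obj E') := by
  obtain ⟨F₀, ⟨a₀⟩⟩ := exists_rep K
  obtain ⟨e⟩ := e
  exact isPerfect_at_of_openImmersion K x j hx F₀ ⟨a₀⟩ E hE
    ⟨(resDQIso j F₀).symm ≪≫ (DCoh.restrictD j).mapIso a₀ ≪≫ e⟩

lemma exists_restrictD_iso_of_isPerfect {K : DCoh.D X} (hK : DCoh.IsPerfect K) (x : X) :
    ∃ (V : X.Opens), x ∈ V ∧ ∃ E : CochainComplex (V : Scheme.{u}).Modules ℤ, DCoh.IsStrictlyPerfect E ∧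
      Nonempty ((DCoh.restrictD V.ι).obj K ≅ DerivedCategory.Q.obj E) := by
  obtain ⟨V, hxV, hV⟩ := hK x
  obtain ⟨F₀, ⟨a₀⟩⟩ := exists_rep K
  obtain ⟨E, hE, ⟨e⟩⟩ := hV F₀ ⟨a₀⟩
  exact ⟨V, hxV, E, hE, ⟨(DCoh.restrictD V.ι).mapIso a₀.symm ≪≫ resDQIso V.ι F₀ ≪≫ e⟩⟩

lemma isStrictlyPerfect_shift {E : CochainComplex Y.Modules ℤ} (hE : DCoh.IsStrictlyPerfect E) (n : ℤ) :
    DCoh.IsStrictlyPerfect (E⟦n⟧) := by
  obtain ⟨⟨a, b, hab⟩, hf⟩ := hE
  refine ⟨⟨a - n, b - n, fun i hi => ?_⟩, fun i => ?_⟩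
  · exact (hab (i + n) (by omega)).of_iso (CochainComplex.shiftFunctorObjXIso E n i (i + n) rfl)
  · exact Groth.Agent.Lib.helper16.FLF.isFinLocFree_of_iso
      (CochainComplex.shiftFunctorObjXIso E n i (i + n) rfl).symm (hf (i + n))

lemma isPerfect_shift {K : DCoh.D X} (hK : DCoh.IsPerfect K) (n : ℤ) : DCoh.IsPerfect (K⟦n⟧) := by
  intro x
  obtain ⟨V, hxV, E, hE, ⟨e⟩⟩ := exists_restrictD_iso_of_isPerfect hK x
  have hx : x ∈ V.ι.opensRange := by simpa using hxV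
  obtain ⟨V', hxV', H⟩ := isPerfect_at_of_restrictD_iso (K⟦n⟧) x V.ι hx (E⟦n⟧) (isStrictlyPerfect_shift hE n)
    ⟨((DCoh.restrictD V.ι).commShiftIso n).app K ≪≫ (shiftFunctor _ n).mapIso e ≪≫
      ((DerivedCategory.Q.commShiftIso n).app E).symm⟩
  exact ⟨V', hxV', H⟩

/-- A morphism `Q E₁ ⟶ Q E₂` in `D(O_Y)` with `E₁` strictly perfect is, locally, `Q` of a chain map. -/
lemma exists_local_chain_map {E₁ E₂ : CochainComplex Y.Modules ℤ} (hE₁ : DCoh.IsStrictlyPerfect E₁)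
    (φ : DerivedCategory.Q.obj E₁ ⟶ DerivedCategory.Q.obj E₂) (y : Y) :
    ∃ (W : Y.Opens) (c : (resCx W.ι).obj E₁ ⟶ (resCx W.ι).obj E₂), y ∈ W ∧
      (DCoh.restrictD W.ι).map φ =
        (resDQIso W.ι E₁).hom ≫ DerivedCategory.Q.map c ≫ (resDQIso W.ι E₂).inv := by
  obtain ⟨A, s, hs, g, rfl⟩ := DerivedCategory.right_fac φ
  have hqs : QuasiIso s := (DerivedCategory.isIso_Q_map_iff_quasiIso _ s).1 hs
  obtain ⟨a, b, hab⟩ := hE₁.1
  obtain ⟨W, β, hyW, ⟨hβ⟩⟩ := Groth.Agent.S0933.result (𝟙 E₁) s hE₁ a (fun j hj => hab j (Or.inl hj))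
    (fun j _ => (quasiIsoAt_iff_isIso_homologyMap s j).1 inferInstance)
    (by
      have : IsIso (HomologicalComplex.homologyMap s a) :=
        (quasiIsoAt_iff_isIso_homologyMap s a).1 inferInstance
      infer_instance) y
  refine ⟨W, β ≫ (resCx W.ι).map g, hyW, ?_⟩
  have n1 := (restrictFunctor W.ι).mapDerivedCategoryFactors_hom_naturality s
  have n2 := (restrictFunctor W.ι).mapDerivedCategoryFactors_hom_naturality g
  have hQ : DerivedCategory.Q.map β ≫ DerivedCategory.Q.map ((resCx W.ι).map s) = 𝟙 _ := by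
    rw [← Functor.map_comp, DerivedCategory.Q_map_eq_of_homotopy _ hβ, CategoryTheory.Functor.map_id,
      CategoryTheory.Functor.map_id]
  have hiso : IsIso (DerivedCategory.Q.map ((resCx W.ι).map s)) := by
    have : DerivedCategory.Q.map ((resCx W.ι).map s) =
        (restrictFunctor W.ι).mapDerivedCategoryFactors.inv.app A ≫
          (DCoh.restrictD W.ι).map (DerivedCategory.Q.map s) ≫
            (restrictFunctor W.ι).mapDerivedCategoryFactors.hom.app E₁ := by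
      rw [n1, Iso.inv_hom_id_app_assoc]
    rw [this]
    infer_instance
  have hsβ : DerivedCategory.Q.map ((resCx W.ι).map s) ≫ DerivedCategory.Q.map β = 𝟙 _ := by
    have : DerivedCategory.Q.map β = inv (DerivedCategory.Q.map ((resCx W.ι).map s)) := by
      rw [← cancel_mono (DerivedCategory.Q.map ((resCx W.ι).map s)), hQ, IsIso.inv_hom_id]
    rw [this, IsIso.hom_inv_id]
  rw [Functor.map_comp, Functor.map_inv, IsIso.inv_comp_eq]
  have n2' : (DCoh.restrictD W.ι).map (DerivedCategory.Q.map g) =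
      ((resDQIso W.ι A).hom ≫ DerivedCategory.Q.map ((resCx W.ι).map g)) ≫ (resDQIso W.ι E₂).inv :=
    (Iso.eq_comp_inv (resDQIso W.ι E₂)).2 n2
  have n1' : (DCoh.restrictD W.ι).map (DerivedCategory.Q.map s) ≫ (resDQIso W.ι E₁).hom =
      (resDQIso W.ι A).hom ≫ DerivedCategory.Q.map ((resCx W.ι).map s) := n1
  rw [n2', reassoc_of% n1', Functor.map_comp]
  simp only [Category.assoc]
  rw [reassoc_of% hsβ]

lemma nonempty_restrictD_congr_iso {g g' : Z ⟶ Y} [IsOpenImmersion g] [IsOpenImmersion g'] (h : g = g')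
    (K : DCoh.D Y) : Nonempty ((DCoh.restrictD g).obj K ≅ (DCoh.restrictD g').obj K) := by
  subst h
  exact ⟨Iso.refl _⟩

lemma nonempty_restrictD_iso_of_le {V' V : X.Opens} (h : V' ≤ V) {K : DCoh.D X}
    {E : CochainComplex (V : Scheme.{u}).Modules ℤ}
    (e : Nonempty ((DCoh.restrictD V.ι).obj K ≅ DerivedCategory.Q.obj E)) :
    Nonempty ((DCoh.restrictD V'.ι).obj K ≅ DerivedCategory.Q.obj ((resCx (X.homOfLE h)).obj E)) := by
  obtain ⟨e⟩ := e
  obtain ⟨c⟩ := nonempty_restrictD_comp_iso (X.homOfLE h) V.ι K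
  have hι : X.homOfLE h ≫ V.ι = V'.ι := X.homOfLE_ι h
  obtain ⟨d⟩ := nonempty_restrictD_congr_iso hι.symm K
  exact ⟨d ≪≫ c ≪≫ (DCoh.restrictD (X.homOfLE h)).mapIso e ≪≫ resDQIso _ E⟩

/-- In a distinguished triangle of `D(O_X)`, if the first two vertices are perfect then so is the third. -/
lemma isPerfect_obj₃ (T : Pretriangulated.Triangle (DCoh.D X)) (hT : T ∈ distTriang (DCoh.D X))
    (h₁ : DCoh.IsPerfect T.obj₁) (h₂ : DCoh.IsPerfect T.obj₂) : DCoh.IsPerfect T.obj₃ := by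
  intro x
  obtain ⟨V₁, hx₁, E₁, hE₁, e₁⟩ := exists_restrictD_iso_of_isPerfect h₁ x
  obtain ⟨V₂, hx₂, E₂, hE₂, e₂⟩ := exists_restrictD_iso_of_isPerfect h₂ x
  have hle₁ : V₁ ⊓ V₂ ≤ V₁ := inf_le_left
  have hle₂ : V₁ ⊓ V₂ ≤ V₂ := inf_le_right
  obtain ⟨bK⟩ := nonempty_restrictD_iso_of_le hle₁ e₁
  obtain ⟨bL⟩ := nonempty_restrictD_iso_of_le hle₂ e₂
  have hE₁' := isStrictlyPerfect_res (X.homOfLE hle₁) hE₁
  have hE₂' := isStrictlyPerfect_res (X.homOfLE hle₂) hE₂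
  have hxV : x ∈ V₁ ⊓ V₂ := ⟨hx₁, hx₂⟩
  obtain ⟨W, c, hyW, hc⟩ := exists_local_chain_map hE₁'
    (bK.inv ≫ (DCoh.restrictD (V₁ ⊓ V₂).ι).map T.mor₁ ≫ bL.hom) (⟨x, hxV⟩ : ((V₁ ⊓ V₂ : X.Opens) : Scheme.{u}))
  have hT'' := (DCoh.restrictD W.ι).map_distinguished _
    ((DCoh.restrictD (V₁ ⊓ V₂).ι).map_distinguished _ hT)
  have hTc := DerivedCategory.mappingCone_triangle_distinguished c
  have comm : ((DCoh.restrictD W.ι).mapTriangle.obj
      ((DCoh.restrictD (V₁ ⊓ V₂).ι).mapTriangle.obj T)).mor₁ ≫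
        ((DCoh.restrictD W.ι).mapIso bL ≪≫ resDQIso W.ι _).hom =
      ((DCoh.restrictD W.ι).mapIso bK ≪≫ resDQIso W.ι _).hom ≫
        (DerivedCategory.Q.mapTriangle.obj (CochainComplex.mappingCone.triangle c)).mor₁ := by
    show (DCoh.restrictD W.ι).map ((DCoh.restrictD (V₁ ⊓ V₂).ι).map T.mor₁) ≫
        (DCoh.restrictD W.ι).map bL.hom ≫ (resDQIso W.ι _).hom =
      ((DCoh.restrictD W.ι).map bK.hom ≫ (resDQIso W.ι _).hom) ≫ DerivedCategory.Q.map c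
    have h1 : (DCoh.restrictD W.ι).map ((DCoh.restrictD (V₁ ⊓ V₂).ι).map T.mor₁) ≫
        (DCoh.restrictD W.ι).map bL.hom = (DCoh.restrictD W.ι).map bK.hom ≫
          (DCoh.restrictD W.ι).map (bK.inv ≫ (DCoh.restrictD (V₁ ⊓ V₂).ι).map T.mor₁ ≫ bL.hom) := by
      rw [← Functor.map_comp, ← Functor.map_comp, Iso.hom_inv_id_assoc]
    rw [reassoc_of% h1, hc]
    simp only [Category.assoc, Iso.inv_hom_id, Category.comp_id]
  let e := Pretriangulated.isoTriangleOfIso₁₂ _ _ hT'' hTc _ _ comm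
  obtain ⟨d⟩ := nonempty_restrictD_comp_iso W.ι (V₁ ⊓ V₂).ι T.obj₃
  have hx : x ∈ (W.ι ≫ (V₁ ⊓ V₂).ι).opensRange := ⟨⟨⟨x, hxV⟩, hyW⟩, rfl⟩
  exact isPerfect_at_of_restrictD_iso T.obj₃ x (W.ι ≫ (V₁ ⊓ V₂).ι) hx (CochainComplex.mappingCone c)
    (Groth.Agent.S6516.result c (isStrictlyPerfect_res W.ι hE₁') (isStrictlyPerfect_res W.ι hE₂'))
    ⟨d ≪≫ Pretriangulated.Triangle.π₃.mapIso e⟩

lemma isPerfect_of_iso {K K' : DCoh.D X} (e : K ≅ K') (h : DCoh.IsPerfect K) : DCoh.IsPerfect K' := by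
  intro x
  obtain ⟨V, hxV, hV⟩ := h x
  exact ⟨V, hxV, fun F ⟨a⟩ => hV F ⟨a ≪≫ e.symm⟩⟩

/-- two-out-of-three for perfect objects in distinguished triangles -/
theorem isPerfect_two_out_of_three (T : Pretriangulated.Triangle (DCoh.D X))
    (hT : T ∈ distTriang (DCoh.D X)) :
    (DCoh.IsPerfect T.obj₁ → DCoh.IsPerfect T.obj₂ → DCoh.IsPerfect T.obj₃) ∧
    (DCoh.IsPerfect T.obj₁ → DCoh.IsPerfect T.obj₃ → DCoh.IsPerfect T.obj₂) ∧
    (DCoh.IsPerfect T.obj₂ → DCoh.IsPerfect T.obj₃ → DCoh.IsPerfect T.obj₁) := by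
  refine ⟨isPerfect_obj₃ T hT, fun h₁ h₃ => ?_, fun h₂ h₃ => ?_⟩
  · exact isPerfect_obj₃ T.invRotate (Pretriangulated.inv_rot_of_distTriang T hT)
      (isPerfect_shift h₃ (-1)) h₁
  · have h := isPerfect_obj₃ T.rotate (Pretriangulated.rot_of_distTriang T hT) h₂ h₃
    exact isPerfect_of_iso ((shiftFunctorCompIsoId (DCoh.D X) (1 : ℤ) (-1) (by simp)).app T.obj₁)
      (isPerfect_shift h (-1))

end Groth.Agent.Lib.helper25.DCohPerfect
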