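import Mathlib
import Groth.Agent.Lib.Helper25.DCohPerfect
import Groth.Agent.Lib.Helper7.RestrictSupport
import Groth.Agent.Lib.Helper7.CohKer
import Groth.Agent.Lib.Helper28.RestrictCover
import Groth.Agent.Lib.Helper16.Satur2
import Groth.Agent.Lib.Helper16.FLF3

/-!
# Cohomology sheaves and restriction to opens; coherence of the cohomology of strictly perfect complexes (helper25)
-/

set_option autoImplicit false
universe u
open CategoryTheory CategoryTheory.Limits AlgebraicGeometry TopologicalSpace Opposite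
open Scheme.Modules

attribute [local instance] HasDerivedCategory.standard

namespace Groth.Agent.Lib.helper25.DCohHomology

open Groth.Agent.Lib.helper25.DCohRestrict

variable {X Y Z : Scheme.{u}}

/-- restriction along an open immersion commutes with homology of complexes -/
noncomputable def homologyResIso (g : Z ⟶ Y) [IsOpenImmersion g] (F : CochainComplex Y.Modules ℤ) (i : ℤ) :
    ((resCx g).obj F).homology i ≅ (restrictFunctor g).obj (F.homology i) :=
  (F.sc i).mapHomologyIso (restrictFunctor g)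

/-- `H^i(K)|_U ≅ H^i(K|_U)` -/
lemma nonempty_HD_restrict_iso (g : Z ⟶ Y) [IsOpenImmersion g] (K : DCoh.D Y) (i : ℤ) :
    Nonempty ((restrictFunctor g).obj (DCoh.HD K i) ≅ DCoh.HD ((DCoh.restrictD g).obj K) i) := by
  obtain ⟨F, ⟨a⟩⟩ := exists_rep K
  exact ⟨(restrictFunctor g).mapIso ((DerivedCategory.homologyFunctor _ i).mapIso a.symm ≪≫
      (DerivedCategory.homologyFunctorFactors _ i).app F) ≪≫ (homologyResIso g F i).symm ≪≫
    ((DerivedCategory.homologyFunctorFactors _ i).app ((resCx g).obj F)).symm ≪≫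
    (DerivedCategory.homologyFunctor _ i).mapIso ((resDQIso g F).symm ≪≫ (DCoh.restrictD g).mapIso a)⟩

/-- if `K|_U ≅ Q C` then `H^i(K)|_U ≅ H^i(C)` -/
lemma nonempty_HD_restrict_iso_homology (g : Z ⟶ Y) [IsOpenImmersion g] (K : DCoh.D Y)
    (C : CochainComplex Z.Modules ℤ) (e : Nonempty ((DCoh.restrictD g).obj K ≅ DerivedCategory.Q.obj C)) (i : ℤ) :
    Nonempty ((restrictFunctor g).obj (DCoh.HD K i) ≅ C.homology i) := by
  obtain ⟨e⟩ := e
  obtain ⟨a⟩ := nonempty_HD_restrict_iso g K i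
  exact ⟨a ≪≫ (DerivedCategory.homologyFunctor _ i).mapIso e ≪≫
    (DerivedCategory.homologyFunctorFactors _ i).app C⟩

lemma isCoh_of_isFinLocFree {E : Y.Modules} (h : FlatMod.IsFinLocFree E) : Coh.IsCoh E :=
  Groth.Agent.Lib.helper16.CohFinite.isCoh_of_isFinitePresentation E
    (Groth.Agent.Lib.helper16.FLF.isFinitePresentation_of_isFinLocFree E h)

/-- the cohomology sheaves of a strictly perfect complex on a locally Noetherian scheme are coherent -/
lemma isCoh_homology_of_isStrictlyPerfect [IsLocallyNoetherian Y] {E : CochainComplex Y.Modules ℤ}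
    (hE : DCoh.IsStrictlyPerfect E) (i : ℤ) : Coh.IsCoh (E.homology i) := by
  have h := fun j => isCoh_of_isFinLocFree (hE.2 j)
  have hk : Coh.IsCoh (kernel (E.sc i).g) :=
    Groth.Agent.Lib.helper7.CohKer.isCoh_kernel (h _) (h _) _
  have hc : Coh.IsCoh (cokernel (kernel.lift (E.sc i).g (E.sc i).f (E.sc i).zero)) :=
    Groth.Agent.Lib.helper7.CohKer.isCoh_cokernel (h _) hk _
  exact Groth.Agent.Lib.helper7.CohKer.isCoh_of_iso (E.sc i).homologyIsoCokernelLift.symm hc

/-- a module vanishing on an open cover vanishes -/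
lemma isZero_of_cover (M : X.Modules) {ι : Type*} (W : ι → X.Opens) (hW : ⨆ k, W k = ⊤)
    (h : ∀ k, IsZero ((restrictFunctor (W k).ι).obj M)) : IsZero M := by
  rw [Groth.Agent.Lib.helper7.RestrictSupport.isZero_iff_subsingleton_sections]
  have hs : CohB1.support M ⊆ ((⊤ : X.Opens) : Set X)ᶜ := by
    intro x hx
    have hx' : x ∈ (⨆ k, W k : X.Opens) := by rw [hW]; trivial
    obtain ⟨k, hk⟩ := Opens.mem_iSup.mp hx'
    exact absurd hk
      (((Groth.Agent.Lib.helper7.RestrictSupport.isZero_restrict_iff_support M (W k)).1 (h k)) hx)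
  intro V
  exact (Groth.Agent.Lib.helper7.RestrictSupport.subsingleton_sections_iff_support M ⊤).2 hs V le_top

open Groth.Agent.Lib.helper16.Satur in
lemma ftOn_iSup (H : X.Modules) [H.IsQuasicoherent] {ι : Type*} (W : ι → X.Opens)
    (h : ∀ k, FTOn H (W k)) : FTOn H (⨆ k, W k) := by
  intro U hU hUW
  let t : Set Γ(X, U) := {f | Module.Finite Γ(X, X.basicOpen f) Γ(H, X.basicOpen f)}
  refine Groth.Agent.Lib.helper16.CohFinite.finite_of_basicOpen_cover H hU t ?_ (fun g => g.2)
  rw [← hU.self_le_iSup_basicOpen_iff]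
  intro x hxU
  obtain ⟨k, hk⟩ := Opens.mem_iSup.mp (hUW hxU)
  obtain ⟨f, hf, hxf⟩ := hU.exists_basicOpen_le (V := W k) ⟨x, hk⟩ hxU
  exact Opens.mem_iSup.mpr ⟨⟨f, h k _ (hU.basicOpen f) hf⟩, hxf⟩

/-- coherence (quasi-coherent + finite type) is local -/
lemma isCoh_of_cover (M : X.Modules) {ι : Type u} (W : ι → X.Opens) (hW : ⨆ k, W k = ⊤)
    (h : ∀ k, Coh.IsCoh ((restrictFunctor (W k).ι).obj M)) : Coh.IsCoh M := by
  have hq : M.IsQuasicoherent := by
    refine Groth.Agent.Lib.helper28.RestrictCover.isQuasicoherent_of_restrict_cover M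
      (fun k => ((W k : X.Opens) : Scheme.{u})) (fun k => (W k).ι) ?_ (fun k => (h k).1)
    intro x
    have hx' : x ∈ (⨆ k, W k : X.Opens) := by rw [hW]; trivial
    obtain ⟨k, hk⟩ := Opens.mem_iSup.mp hx'
    exact ⟨k, ⟨x, hk⟩, rfl⟩
  refine ⟨hq, ?_⟩
  have h1 := ftOn_iSup M W (fun k =>
    Groth.Agent.Lib.helper16.Satur.ftOn_of_isFT_restrict M (W k) (h k).2)
  rw [hW] at h1
  exact (Groth.Agent.Lib.helper16.Satur.ftOn_top_iff M).1 h1

end Groth.Agent.Lib.helper25.DCohHomology
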