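import Mathlib
import Groth.Prelude.Def_DerSch

/-!
# Skyscraper modules on a scheme and the adjunction `stalk ⊣ skyscraper` (helper25)

For a scheme `X` and a point `x`:
* `sky x : ModuleCat (X.presheaf.stalk x) ⥤ X.Modules`, the skyscraper module functor; the sections of
  `(sky x).obj N` over `U` are the functions `PLift (x ∈ U) → N` (`skyObj_presheaf`, `skyMap_app_apply`).
* `stalkSkyAdj x : DerSch.stalkFunctor X x ⊣ sky x` with unit `unitApp` (`unitApp_app_apply`: a section goes to
  its germ) and counit `counitApp` (`counitApp_germ`: the germ of `s` goes to the value of `s`).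
-/

set_option autoImplicit false
universe u
open CategoryTheory CategoryTheory.Limits AlgebraicGeometry Opposite TopologicalSpace

namespace Groth.Agent.Lib.Helper25.StalkSky

variable {X : Scheme.{u}} (x : X)

/-- the underlying presheaf of abelian groups of the skyscraper module at `x` with value `N` -/
noncomputable def skyAb (N : ModuleCat.{u} (X.presheaf.stalk x)) : TopCat.Presheaf Ab X where
  obj U := AddCommGrpCat.of (PLift (x ∈ U.unop) → N)
  map {_ _} i := AddCommGrpCat.ofHom
    { toFun := fun s h => s ⟨leOfHom i.unop h.down⟩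
      map_zero' := rfl
      map_add' := fun _ _ => rfl }
  map_id _ := rfl
  map_comp _ _ := rfl

variable (N : ModuleCat.{u} (X.presheaf.stalk x))

lemma skyAb_map_apply {U V : (Opens X)ᵒᵖ} (i : U ⟶ V) (s : (skyAb x N).obj U)
    (h : PLift (x ∈ V.unop)) :
    ((skyAb x N).map i s : (skyAb x N).obj V) h = (s : PLift (x ∈ U.unop) → N) ⟨leOfHom i.unop h.down⟩ := rfl

noncomputable instance skyModule (U : (Opens X)ᵒᵖ) :
    Module ((X.presheaf ⋙ forget₂ CommRingCat RingCat).obj U) ((skyAb x N).obj U) :=
  letI : ∀ _ : PLift (x ∈ U.unop), Module (X.presheaf.obj U) N := fun h =>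
    Module.compHom N (X.presheaf.germ U.unop x h.down).hom
  inferInstanceAs (Module (X.presheaf.obj U) (PLift (x ∈ U.unop) → N))

lemma sky_smul_apply (U : (Opens X)ᵒᵖ) (r : X.presheaf.obj U) (s : (skyAb x N).obj U)
    (h : PLift (x ∈ U.unop)) :
    (HSMul.hSMul (α := (X.presheaf ⋙ forget₂ CommRingCat RingCat).obj U) r s : (skyAb x N).obj U) h =
      (X.presheaf.germ U.unop x h.down r) • (s h : N) := rfl

lemma skyAb_isSheaf : (skyAb x N).IsSheaf := by
  rw [TopCat.Presheaf.isSheaf_iff_isSheafUniqueGluing]
  intro ι U sf hsf
  have hex : ∀ h : PLift (x ∈ iSup U), ∃ i, x ∈ U i := fun h => by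
    simpa [Opens.mem_iSup] using h.down
  refine ⟨fun h => (sf (hex h).choose : PLift (x ∈ U _) → N) ⟨(hex h).choose_spec⟩, ?_, ?_⟩
  · intro i
    funext h
    have h' : PLift (x ∈ iSup U) := ⟨(Opens.leSupr U i).le h.down⟩
    have := congrFun (hsf (hex h').choose i) ⟨⟨(hex h').choose_spec, h.down⟩⟩
    exact this
  · intro s hs
    funext h
    have := congrFun (hs (hex h).choose) ⟨(hex h).choose_spec⟩
    exact this

lemma sky_map_smul ⦃U V : (Opens X)ᵒᵖ⦄ (f : U ⟶ V)
    (r : (X.presheaf ⋙ forget₂ CommRingCat RingCat).obj U) (m : (skyAb x N).obj U) :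
    (skyAb x N).map f (r • m) =
      (X.presheaf ⋙ forget₂ CommRingCat RingCat).map f r • (skyAb x N).map f m := by
  funext h
  change (X.presheaf.germ U.unop x _ r) • ((m : PLift (x ∈ U.unop) → N) _ : N) =
    (X.presheaf.germ V.unop x h.down (X.presheaf.map f r)) • ((m : PLift (x ∈ U.unop) → N) _ : N)
  congr 1
  exact (X.presheaf.germ_res_apply f.unop x h.down r).symm

/-- the skyscraper presheaf of modules -/
noncomputable def skyPre : PresheafOfModules.{u} (X.presheaf ⋙ forget₂ CommRingCat RingCat) :=
  PresheafOfModules.ofPresheaf (skyAb x N) (sky_map_smul x N)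

/-- the skyscraper `O_X`-module at `x` with value the `O_{X,x}`-module `N` -/
noncomputable def skyObj : X.Modules where
  val := skyPre x N
  isSheaf := skyAb_isSheaf x N

lemma skyObj_presheaf : (skyObj x N).presheaf = skyAb x N := rfl

section functoriality

variable {N} {N' N'' : ModuleCat.{u} (X.presheaf.stalk x)}

/-- the map on the underlying presheaves induced by a linear map -/
noncomputable def skyAbMap (g : N ⟶ N') : skyAb x N ⟶ skyAb x N' where
  app U := AddCommGrpCat.ofHom
    { toFun := fun s h => g.hom (s h)
      map_zero' := by funext h; exact map_zero g.hom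
      map_add' := fun s t => by funext h; exact map_add g.hom _ _ }
  naturality _ _ _ := rfl

/-- functoriality of the skyscraper module -/
noncomputable def skyMap (g : N ⟶ N') : skyObj x N ⟶ skyObj x N' :=
  ⟨PresheafOfModules.homMk (M₁ := skyPre x N) (M₂ := skyPre x N') (skyAbMap x g) (by
    intro U r m
    funext h
    exact map_smul g.hom _ _)⟩

lemma skyMap_app_apply (g : N ⟶ N') (U : X.Opens) (s : Γ(skyObj x N, U)) (h : PLift (x ∈ U)) :
    ((skyMap x g).app U s : PLift (x ∈ U) → N') h = g.hom ((s : PLift (x ∈ U) → N) h) := rfl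

end functoriality

/-- the skyscraper functor at `x` -/
noncomputable def sky : ModuleCat.{u} (X.presheaf.stalk x) ⥤ X.Modules where
  obj N := skyObj x N
  map g := skyMap x g
  map_id N := by
    ext U s
    rfl
  map_comp g g' := by
    ext U s
    rfl

section adjunction

variable (M : X.Modules)

lemma germ_smul' (U : X.Opens) (hx : x ∈ U) (r : Γ(X, U)) (s : Γ(M, U)) :
    M.presheaf.germ U x hx (r • s) = X.presheaf.germ U x hx r • M.presheaf.germ U x hx s :=
  PresheafOfModules.germ_smul (R := X.presheaf)
    (show PresheafOfModules (X.presheaf ⋙ forget₂ CommRingCat RingCat) from M.val) x U hx r s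

/-- the unit on underlying presheaves -/
noncomputable def unitAb : M.presheaf ⟶ skyAb x ((DerSch.stalkFunctor X x).obj M) where
  app U := AddCommGrpCat.ofHom
    { toFun := fun s h => M.presheaf.germ U.unop x h.down s
      map_zero' := by funext h; exact map_zero _
      map_add' := fun s t => by funext h; exact map_add _ _ _ }
  naturality U V i := by
    ext s
    funext h
    exact M.presheaf.germ_res_apply i.unop x h.down s

/-- the unit of the adjunction `stalk ⊣ sky` -/
noncomputable def unitApp : M ⟶ (sky x).obj ((DerSch.stalkFunctor X x).obj M) :=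
  ⟨PresheafOfModules.homMk (M₁ := M.val) (M₂ := skyPre x ((DerSch.stalkFunctor X x).obj M))
    (unitAb x M) (by
      intro U r m
      funext h
      exact germ_smul' x M U.unop h.down r m)⟩

lemma unitApp_app_apply (U : X.Opens) (s : Γ(M, U)) (h : PLift (x ∈ U)) :
    ((unitApp x M).app U s : PLift (x ∈ U) → M.presheaf.stalk x) h = M.presheaf.germ U x h.down s := rfl

end adjunction

section counit

/-- the counit on underlying abelian groups -/
noncomputable def counitAb : (skyAb x N).stalk x ⟶ AddCommGrpCat.of N :=
  colimit.desc ((OpenNhds.inclusion x).op ⋙ skyAb x N)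
    { pt := AddCommGrpCat.of N
      ι :=
        { app := fun U => AddCommGrpCat.ofHom
            { toFun := fun s => (s : PLift (x ∈ U.unop.1) → N) ⟨U.unop.2⟩
              map_zero' := rfl
              map_add' := fun _ _ => rfl }
          naturality := fun _ _ _ => rfl } }

lemma counitAb_germ (U : X.Opens) (hx : x ∈ U) (s : (skyAb x N).obj (op U)) :
    counitAb x N ((skyAb x N).germ U x hx s) = (s : PLift (x ∈ U) → N) ⟨hx⟩ := by
  have := colimit.ι_desc
    ({ pt := AddCommGrpCat.of N
       ι :=
        { app := fun U => AddCommGrpCat.ofHom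
            { toFun := fun s => (s : PLift (x ∈ U.unop.1) → N) ⟨U.unop.2⟩
              map_zero' := rfl
              map_add' := fun _ _ => rfl }
          naturality := fun _ _ _ => rfl } } : Cocone ((OpenNhds.inclusion x).op ⋙ skyAb x N))
    (op ⟨U, hx⟩)
  exact ConcreteCategory.congr_hom this s

lemma counitAb_smul (r : X.presheaf.stalk x) (m : (skyObj x N).presheaf.stalk x) :
    counitAb x N (r • m) = r • (counitAb x N m : N) := by
  obtain ⟨U, hyU, s, rfl⟩ := X.presheaf.exists_germ_eq (x := x) r
  obtain ⟨V, hyV, t, rfl⟩ := (skyObj x N).presheaf.exists_germ_eq (x := x) m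
  have hyW : x ∈ U ⊓ V := ⟨hyU, hyV⟩
  have hs := X.presheaf.germ_res_apply (homOfLE inf_le_left : U ⊓ V ⟶ U) x hyW s
  have ht := (skyObj x N).presheaf.germ_res_apply (homOfLE inf_le_right : U ⊓ V ⟶ V) x hyW t
  rw [← hs, ← ht]
  generalize X.presheaf.map (homOfLE inf_le_left : U ⊓ V ⟶ U).op s = s'
  generalize (skyObj x N).presheaf.map (homOfLE inf_le_right : U ⊓ V ⟶ V).op t = t'
  rw [← germ_smul' x (skyObj x N) (U ⊓ V) hyW s' t']
  erw [counitAb_germ, counitAb_germ]
  rfl

/-- the counit of the adjunction `stalk ⊣ sky` -/
noncomputable def counitApp : (DerSch.stalkFunctor X x).obj ((sky x).obj N) ⟶ N :=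
  ModuleCat.ofHom
    { toFun := fun m => counitAb x N m
      map_add' := fun a b => map_add _ a b
      map_smul' := fun r m => counitAb_smul x N r m }

lemma counitApp_germ (U : X.Opens) (hx : x ∈ U) (s : Γ(skyObj x N, U)) :
    (counitApp x N).hom ((skyObj x N).presheaf.germ U x hx s) = (s : PLift (x ∈ U) → N) ⟨hx⟩ :=
  counitAb_germ x N U hx s

end counit

section adj

lemma unit_naturality {M M' : X.Modules} (φ : M ⟶ M') :
    φ ≫ unitApp x M' = unitApp x M ≫ (sky x).map ((DerSch.stalkFunctor X x).map φ) := by
  ext U s
  funext h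
  exact (DerSch.stalkFunctor_map_germ x φ U h.down s).symm

lemma counit_naturality {N N' : ModuleCat.{u} (X.presheaf.stalk x)} (g : N ⟶ N') :
    (DerSch.stalkFunctor X x).map ((sky x).map g) ≫ counitApp x N' = counitApp x N ≫ g := by
  ext m
  obtain ⟨U, hxU, s, rfl⟩ := (skyObj x N).presheaf.exists_germ_eq (x := x) m
  have h1 := DerSch.stalkFunctor_map_germ x ((sky x).map g) U hxU s
  have h2 := counitApp_germ x N U hxU s
  have h3 := counitApp_germ x N' U hxU (((sky x).map g).app U s)
  change (counitApp x N').hom ((DerSch.stalkFunctor X x).map ((sky x).map g)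
    ((skyObj x N).presheaf.germ U x hxU s)) = g.hom ((counitApp x N).hom ((skyObj x N).presheaf.germ U x hxU s))
  rw [h2]
  exact (congrArg (counitApp x N').hom h1).trans h3

/-- the adjunction between the stalk functor at `x` and the skyscraper functor at `x` -/
noncomputable def stalkSkyAdj : DerSch.stalkFunctor X x ⊣ sky x :=
  Adjunction.mkOfUnitCounit
    { unit :=
        { app := fun M => unitApp x M
          naturality := fun _ _ φ => unit_naturality x φ }
      counit :=
        { app := fun N => counitApp x N
          naturality := fun _ _ g => counit_naturality x g }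
      left_triangle := by
        ext M m
        obtain ⟨U, hxU, s, rfl⟩ := M.presheaf.exists_germ_eq (x := x) m
        have h1 := DerSch.stalkFunctor_map_germ x (unitApp x M) U hxU s
        have h3 := counitApp_germ x ((DerSch.stalkFunctor X x).obj M) U hxU ((unitApp x M).app U s)
        change (counitApp x _).hom ((DerSch.stalkFunctor X x).map (unitApp x M)
          (M.presheaf.germ U x hxU s)) = M.presheaf.germ U x hxU s
        exact (congrArg (counitApp x _).hom h1).trans h3
      right_triangle := by
        ext N U s
        funext h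
        exact counitApp_germ x N U h.down s }

end adj

end Groth.Agent.Lib.Helper25.StalkSky
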