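import Mathlib
import Groth.Prelude.Def_DerSch
import Groth.Agent.Lib.Helper25.StalkSky

/-!
# Exactness of the stalk functor of `O_X`-modules (helper25)

* `lTensor_injective_of_exact_of_flat`: a short exact sequence of modules with flat cokernel stays left exact
  after tensoring with any module; `extendScalars_map_injective` (the `ModuleCat.extendScalars` form).
* instances: `DerSch.stalkFunctor X x` is a left adjoint, preserves monomorphisms, homology, finite limits.
* `mono_of_forall_stalk`, `isZero_of_forall_stalk`: the stalk functors jointly detect monomorphisms and zero objects.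
-/

set_option autoImplicit false
universe u
open TensorProduct CategoryTheory CategoryTheory.Limits AlgebraicGeometry Opposite TopologicalSpace

namespace Groth.Agent.Lib.Helper25.StalkExact

theorem lTensor_injective_chase {R : Type u} [CommRing R] {A B F K P M : Type u}
    [AddCommGroup A] [AddCommGroup B] [AddCommGroup F] [Module R A] [Module R B] [Module R F]
    [AddCommGroup K] [AddCommGroup P] [AddCommGroup M] [Module R K] [Module R P] [Module R M]
    (i : A →ₗ[R] B) (p : B →ₗ[R] F) (ι : K →ₗ[R] P) (π : P →ₗ[R] M)
    (hex : Function.Exact i p) (hp : Function.Surjective p)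
    (hιπ : Function.Exact ι π) (hπ : Function.Surjective π)
    (h4 : Function.Injective (ι.rTensor F)) (h5 : Function.Injective (i.lTensor P)) :
    Function.Injective (i.lTensor M) := by
  have h1 : Function.Surjective (π.rTensor A) := LinearMap.rTensor_surjective A hπ
  have h2 : Function.Exact (ι.rTensor B) (π.rTensor B) := rTensor_exact B hιπ hπ
  have h3 : Function.Exact (i.lTensor K) (p.lTensor K) := lTensor_exact K hex hp
  have h7 : Function.Exact (ι.rTensor A) (π.rTensor A) := rTensor_exact A hιπ hπ
  rw [injective_iff_map_eq_zero]
  intro x hx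
  obtain ⟨y, rfl⟩ := h1 x
  have e1 : π.rTensor B (i.lTensor P y) = 0 := by
    rw [← LinearMap.comp_apply, LinearMap.rTensor_comp_lTensor, ← LinearMap.lTensor_comp_rTensor,
      LinearMap.comp_apply, hx]
  obtain ⟨z, hz⟩ := (h2 _).1 e1
  have e2 : ι.rTensor F (p.lTensor K z) = 0 := by
    rw [← LinearMap.comp_apply, LinearMap.rTensor_comp_lTensor, ← LinearMap.lTensor_comp_rTensor,
      LinearMap.comp_apply, hz, ← LinearMap.comp_apply, ← LinearMap.lTensor_comp]
    have : p ∘ₗ i = 0 := LinearMap.ext fun a => hex.apply_apply_eq_zero a
    rw [this, LinearMap.lTensor_zero, LinearMap.zero_apply]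
  have e3 : p.lTensor K z = 0 := h4 (e2.trans (map_zero _).symm)
  obtain ⟨w, hw⟩ := (h3 _).1 e3
  have e4 : i.lTensor P (ι.rTensor A w) = i.lTensor P y := by
    rw [← LinearMap.comp_apply, LinearMap.lTensor_comp_rTensor, ← LinearMap.rTensor_comp_lTensor,
      LinearMap.comp_apply, hw, hz]
  have e5 : ι.rTensor A w = y := h5 e4
  rw [← e5]
  exact h7.apply_apply_eq_zero w

/-- A short exact sequence of modules with flat cokernel stays (left) exact after tensoring with
any module. -/
theorem lTensor_injective_of_exact_of_flat {R : Type u} [CommRing R] {A B F : Type u}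
    [AddCommGroup A] [AddCommGroup B] [AddCommGroup F] [Module R A] [Module R B] [Module R F]
    (M : Type u) [AddCommGroup M] [Module R M]
    (i : A →ₗ[R] B) (p : B →ₗ[R] F) (hi : Function.Injective i) (hex : Function.Exact i p)
    (hp : Function.Surjective p) [Module.Flat R F] : Function.Injective (i.lTensor M) := by
  obtain ⟨π, hπ⟩ : ∃ π : (M →₀ R) →ₗ[R] M, Function.Surjective π :=
    ⟨Finsupp.linearCombination R (id : M → M), Finsupp.linearCombination_id_surjective R M⟩
  have h4 : Function.Injective ((LinearMap.ker π).subtype.rTensor F) :=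
    Module.Flat.rTensor_preserves_injective_linearMap (M := F) (LinearMap.ker π).subtype
      (Submodule.injective_subtype _)
  have h5 : Function.Injective (i.lTensor (M →₀ R)) :=
    Module.Flat.lTensor_preserves_injective_linearMap (M := (M →₀ R)) i hi
  exact lTensor_injective_chase (K := LinearMap.ker π) (P := (M →₀ R)) i p (LinearMap.ker π).subtype π hex hp
    (LinearMap.exact_subtype_ker_map π) hπ h4 h5

section stalk

open Groth.Agent.Lib.Helper25.StalkSky

variable {X : Scheme.{u}} (x : X)

lemma stalkFunctor_map_apply {M M' : X.Modules} (φ : M ⟶ M') (m : M.presheaf.stalk x) :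
    ((DerSch.stalkFunctor X x).map φ).hom m =
      (TopCat.Presheaf.stalkFunctor Ab x).map φ.mapPresheaf m := rfl

instance : (DerSch.stalkFunctor X x).IsLeftAdjoint := (stalkSkyAdj x).isLeftAdjoint

lemma app_injective_of_mono {M M' : X.Modules} (φ : M ⟶ M') [Mono φ] (U : X.Opens) :
    Function.Injective (φ.app U) := by
  have h1 : Mono ((Scheme.Modules.toPresheaf X).map φ) := inferInstance
  have h2 : Mono (((Scheme.Modules.toPresheaf X).map φ).app (op U)) := inferInstance
  exact (AddCommGrpCat.mono_iff_injective _).1 h2

instance : (DerSch.stalkFunctor X x).PreservesMonomorphisms where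
  preserves {M M'} φ _ := by
    rw [ModuleCat.mono_iff_injective]
    exact TopCat.Presheaf.stalkFunctor_map_injective_of_app_injective
      (f := φ.mapPresheaf) (fun U => app_injective_of_mono φ U) x

instance : (DerSch.stalkFunctor X x).PreservesHomology :=
  Functor.preservesHomology_of_preservesMonos_and_cokernels _

instance : PreservesFiniteLimits (DerSch.stalkFunctor X x) :=
  Functor.preservesFiniteLimits_of_preservesHomology _

/-- a morphism of `O_X`-modules which is injective on all stalks is a monomorphism -/
theorem mono_of_forall_stalk {M M' : X.Modules} (φ : M ⟶ M')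
    (h : ∀ x : X, Mono ((DerSch.stalkFunctor X x).map φ)) : Mono φ := by
  have h1 : Mono ((Scheme.Modules.toPresheaf X).map φ) := by
    rw [NatTrans.mono_iff_mono_app]
    intro U
    rw [AddCommGrpCat.mono_iff_injective]
    refine TopCat.Presheaf.app_injective_of_stalkFunctor_map_injective
      (F := ⟨M.presheaf, M.isSheaf⟩) φ.mapPresheaf U.unop (fun y _ => ?_)
    exact (ModuleCat.mono_iff_injective _).1 (h y)
  exact Functor.mono_of_mono_map (Scheme.Modules.toPresheaf X) h1

/-- an `O_X`-module all of whose stalks vanish is zero -/
theorem isZero_of_forall_stalk (M : X.Modules)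
    (h : ∀ x : X, IsZero ((DerSch.stalkFunctor X x).obj M)) : IsZero M := by
  rw [IsZero.iff_id_eq_zero]
  ext U s
  change s = 0
  refine TopCat.Presheaf.section_ext ⟨M.presheaf, M.isSheaf⟩ U s 0 (fun y hy => ?_)
  have : Subsingleton (M.presheaf.stalk y) := ModuleCat.subsingleton_of_isZero (h y)
  exact Subsingleton.elim _ _

end stalk

section extend

theorem extendScalars_map_injective {R S : Type u} [CommRing R] [CommRing S] (φ : R →+* S)
    {A B F : ModuleCat.{u} R} (i : A ⟶ B) (p : B ⟶ F) (hi : Function.Injective i.hom)
    (hex : Function.Exact i.hom p.hom) (hp : Function.Surjective p.hom) [Module.Flat R F] :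
    Function.Injective ((ModuleCat.extendScalars.{u, u, u} φ).map i).hom := by
  have := lTensor_injective_of_exact_of_flat (R := R)
    ((ModuleCat.restrictScalars φ).obj (ModuleCat.of S S)) i.hom p.hom hi hex hp
  exact this

end extend

end Groth.Agent.Lib.Helper25.StalkExact
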