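import Mathlib
import Groth.Agent.Lib.Helper28.RestrictCover

/-!
# Coproducts of quasi-coherent modules on a scheme are quasi-coherent

On `Spec R` via the tilde functor (a left adjoint whose essential image is the quasi-coherent modules), in general by
restricting to an affine open cover (helper28 `RestrictCover`).
-/

set_option autoImplicit false
universe u
open CategoryTheory CategoryTheory.Limits AlgebraicGeometry

namespace Groth.Agent.Lib.helper25.QCohCoprod

/-- coproducts of quasi-coherent modules on an affine scheme are quasi-coherent -/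
theorem isQuasicoherent_coproduct_Spec (R : CommRingCat.{u}) {ι : Type u} (N : ι → (Spec R).Modules)
    (h : ∀ k, (N k).IsQuasicoherent) : (∐ N).IsQuasicoherent := by
  have hN : ∀ k, (tilde.functor R).essImage (N k) := fun k => by
    rw [essImage_tilde]
    exact h k
  choose P hP using hN
  let e : ∀ k, (tilde.functor R).obj (P k) ≅ N k := fun k => (hP k).some
  have e1 : ∐ N ≅ ∐ (fun k => (tilde.functor R).obj (P k)) :=
    (Sigma.mapIso e).symm
  have e2 : (tilde.functor R).obj (∐ P) ≅ ∐ (fun k => (tilde.functor R).obj (P k)) :=
    PreservesCoproduct.iso (tilde.functor R) P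
  exact (SheafOfModules.isQuasicoherent (Spec R).ringCatSheaf).prop_of_iso (e2 ≪≫ e1.symm)
    (show ((tilde.functor R).obj (∐ P)).IsQuasicoherent from inferInstance)

/-- **coproducts of quasi-coherent modules are quasi-coherent** -/
theorem isQuasicoherent_coproduct (X : Scheme.{u}) {ι : Type u} (M : ι → X.Modules)
    (h : ∀ k, (M k).IsQuasicoherent) : (∐ M).IsQuasicoherent := by
  refine Groth.Agent.Lib.helper28.RestrictCover.isQuasicoherent_of_restrict_cover (∐ M)
    (fun i : X.affineOpenCover.I₀ => Spec (X.affineOpenCover.X i)) (fun i => X.affineOpenCover.f i)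
    (fun x => ⟨X.affineOpenCover.idx x, X.affineOpenCover.covers x⟩) (fun i => ?_)
  have e : (∐ M).restrict (X.affineOpenCover.f i) ≅
      ∐ (fun k => (M k).restrict (X.affineOpenCover.f i)) :=
    PreservesCoproduct.iso (Scheme.Modules.restrictFunctor (X.affineOpenCover.f i)) M
  exact (SheafOfModules.isQuasicoherent (Spec (X.affineOpenCover.X i)).ringCatSheaf).prop_of_iso e.symm
    (isQuasicoherent_coproduct_Spec _ _ (fun k => inferInstance))

end Groth.Agent.Lib.helper25.QCohCoprod
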