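import Mathlib

/-!
# Lemmas on image subobjects in abelian categories
-/

set_option autoImplicit false
universe v u

open CategoryTheory CategoryTheory.Limits

namespace Groth.Agent.Lib.helper25

variable {C : Type u} [Category.{v} C] [Abelian C]

/-- In an abelian category, precomposing with an epimorphism does not change the image. -/
theorem imageSubobject_epi_comp {X' X Y : C} (h : X' ⟶ X) [Epi h] (f : X ⟶ Y) :
    imageSubobject (h ≫ f) = imageSubobject f := by
  apply le_antisymm (imageSubobject_comp_le h f)
  have : IsIso (Subobject.ofLE _ _ (imageSubobject_comp_le h f)) :=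
    isIso_of_mono_of_epi _
  exact Subobject.le_of_comm (inv (Subobject.ofLE _ _ (imageSubobject_comp_le h f))) (by simp)

/-- The image of `f ≫ g` only depends on the image of `f`. -/
theorem imageSubobject_comp_eq_arrow_comp {X Y Z : C} (f : X ⟶ Y) (g : Y ⟶ Z) :
    imageSubobject (f ≫ g) = imageSubobject ((imageSubobject f).arrow ≫ g) := by
  conv_lhs => rw [← imageSubobject_arrow_comp f, Category.assoc]
  exact imageSubobject_epi_comp _ _

theorem imageSubobject_comp_congr {X X' Y Z : C} (f : X ⟶ Y) (f' : X' ⟶ Y) (g : Y ⟶ Z)
    (h : imageSubobject f = imageSubobject f') :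
    imageSubobject (f ≫ g) = imageSubobject (f' ≫ g) := by
  rw [imageSubobject_comp_eq_arrow_comp f g, imageSubobject_comp_eq_arrow_comp f' g]
  generalize imageSubobject f = P at h
  subst h
  rfl

/-- Monotone version. -/
theorem imageSubobject_comp_mono {X X' Y Z : C} (f : X ⟶ Y) (f' : X' ⟶ Y) (g : Y ⟶ Z)
    (h : imageSubobject f ≤ imageSubobject f') :
    imageSubobject (f ≫ g) ≤ imageSubobject (f' ≫ g) := by
  rw [imageSubobject_comp_eq_arrow_comp f g, imageSubobject_comp_eq_arrow_comp f' g]
  have : (imageSubobject f).arrow ≫ g =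
      Subobject.ofLE _ _ h ≫ (imageSubobject f').arrow ≫ g := by
    rw [← Category.assoc, Subobject.ofLE_arrow]
  rw [this]
  exact imageSubobject_comp_le _ _

/-- `a` factors through the image of `f` up to refinement iff ... ; here the useful direction:
if `π ≫ f = w ≫ f'` with `π` epi then `image f ≤ image f'`. -/
theorem imageSubobject_le_of_refinement {A X X' Y : C} (f : X ⟶ Y) (f' : X' ⟶ Y)
    (π : A ⟶ X) [Epi π] (w : A ⟶ X') (h : π ≫ f = w ≫ f') :
    imageSubobject f ≤ imageSubobject f' := by
  rw [← imageSubobject_epi_comp π f, h]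
  exact imageSubobject_comp_le _ _

/-- Conversely, if `image f ≤ image f'` then `f` lifts through `f'` after a refinement. -/
theorem exists_refinement_of_imageSubobject_le {X X' Y : C} (f : X ⟶ Y) (f' : X' ⟶ Y)
    (h : imageSubobject f ≤ imageSubobject f') :
    ∃ (A : C) (π : A ⟶ X) (_ : Epi π) (w : A ⟶ X'), π ≫ f = w ≫ f' := by
  -- pull back the epi X' ⟶ image f' along X ⟶ image f ⟶ image f'
  let a : X ⟶ (imageSubobject f' : C) := factorThruImageSubobject f ≫ Subobject.ofLE _ _ h
  refine ⟨pullback a (factorThruImageSubobject f'), pullback.fst _ _, inferInstance,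
    pullback.snd _ _, ?_⟩
  have h1 : a ≫ (imageSubobject f').arrow = f := by
    simp [a]
  calc pullback.fst a (factorThruImageSubobject f') ≫ f
      = pullback.fst a (factorThruImageSubobject f') ≫ a ≫ (imageSubobject f').arrow := by
        rw [h1]
    _ = (pullback.snd a (factorThruImageSubobject f') ≫ factorThruImageSubobject f') ≫
          (imageSubobject f').arrow := by
        rw [← Category.assoc, pullback.condition]
    _ = pullback.snd a (factorThruImageSubobject f') ≫ f' := by
        rw [Category.assoc, imageSubobject_arrow_comp]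

end Groth.Agent.Lib.helper25
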