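import Mathlib
import Groth.Agent.Lib.Helper25.DCohHomology

/-!
# Pseudo-coherent objects of `D(O_X)`: local data (helper25)

* `PCData m K`: there are a strictly perfect complex `E` and `α : Q E ⟶ K` which is an isomorphism on `H^i` for
  `i > m` and an epimorphism on `H^m`.
* `exists_pcData`: an `m`-pseudo-coherent `K` has, locally, `PCData m (K|_V)`.
* `isPseudoCoherentD_of_pcData`: the converse.
* `PCData.of_iso`: invariance under isomorphism.
* `isQuasicoherent_homology_of_isStrictlyPerfect`.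
-/

set_option autoImplicit false
universe u
open CategoryTheory CategoryTheory.Limits AlgebraicGeometry TopologicalSpace Opposite
open Scheme.Modules

attribute [local instance] HasDerivedCategory.standard

namespace Groth.Agent.Lib.helper25.DCohPC

open Groth.Agent.Lib.helper25.DCohRestrict Groth.Agent.Lib.helper25.DCohPerfect
  Groth.Agent.Lib.helper25.DCohHomology

variable {X Y Z : Scheme.{u}}

/-- global presentation data for `m`-pseudo-coherence -/
def PCData (m : ℤ) (K : DCoh.D Y) : Prop :=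
  ∃ (E : CochainComplex Y.Modules ℤ) (α : DerivedCategory.Q.obj E ⟶ K), DCoh.IsStrictlyPerfect E ∧
    (∀ i : ℤ, m < i → IsIso ((DerivedCategory.homologyFunctor _ i).map α)) ∧
    Epi ((DerivedCategory.homologyFunctor _ m).map α)

lemma PCData.of_iso {m : ℤ} {K K' : DCoh.D Y} (h : PCData m K) (e : K ≅ K') : PCData m K' := by
  obtain ⟨E, α, hE, h1, h2⟩ := h
  refine ⟨E, α ≫ e.hom, hE, fun i hi => ?_, ?_⟩
  · haveI := h1 i hi
    rw [Functor.map_comp]
    infer_instance
  · rw [Functor.map_comp]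
    infer_instance

lemma exists_pcData {m : ℤ} {K : DCoh.D X} (hK : DCoh.IsPseudoCoherentD m K) (x : X) :
    ∃ V : X.Opens, x ∈ V ∧ PCData m ((DCoh.restrictD V.ι).obj K) := by
  obtain ⟨V, hxV, hV⟩ := hK x
  obtain ⟨F₀, ⟨a₀⟩⟩ := exists_rep K
  obtain ⟨E, α, hE, h1, h2⟩ := hV F₀ ⟨a₀⟩
  exact ⟨V, hxV, PCData.of_iso ⟨E, α, hE, h1, h2⟩
    ((resDQIso V.ι F₀).symm ≪≫ (DCoh.restrictD V.ι).mapIso a₀)⟩

lemma isPseudoCoherentD_of_pcData {m : ℤ} {K : DCoh.D X}
    (h : ∀ x : X, ∃ V : X.Opens, x ∈ V ∧ PCData m ((DCoh.restrictD V.ι).obj K)) :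
    DCoh.IsPseudoCoherentD m K := by
  intro x
  obtain ⟨V, hxV, hV⟩ := h x
  refine ⟨V, hxV, fun F ⟨a⟩ => ?_⟩
  obtain ⟨E, α, hE, h1, h2⟩ := PCData.of_iso hV
    ((DCoh.restrictD V.ι).mapIso a.symm ≪≫ resDQIso V.ι F)
  exact ⟨E, α, hE, h1, h2⟩

lemma isQuasicoherent_of_isFinLocFree {E : Y.Modules} (h : FlatMod.IsFinLocFree E) : E.IsQuasicoherent :=
  (isCoh_of_isFinLocFree h).1

/-- the cohomology sheaves of a strictly perfect complex are quasi-coherent -/
lemma isQuasicoherent_homology_of_isStrictlyPerfect {E : CochainComplex Y.Modules ℤ}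
    (hE : DCoh.IsStrictlyPerfect E) (i : ℤ) : (E.homology i).IsQuasicoherent := by
  have := fun j => isQuasicoherent_of_isFinLocFree (hE.2 j)
  have h1 : (E.sc i).X₁.IsQuasicoherent := this _
  have h2 : (E.sc i).X₂.IsQuasicoherent := this _
  have h3 : (E.sc i).X₃.IsQuasicoherent := this _
  have hk : (kernel (E.sc i).g).IsQuasicoherent :=
    Groth.Agent.Lib.helper7.CohKer.isQuasicoherent_kernel _
  have hc : (cokernel (kernel.lift (E.sc i).g (E.sc i).f (E.sc i).zero)).IsQuasicoherent :=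
    Groth.Agent.Lib.helper7.CohKer.isQuasicoherent_cokernel _
  exact (SheafOfModules.isQuasicoherent Y.ringCatSheaf).prop_of_iso (E.sc i).homologyIsoCokernelLift.symm hc

end Groth.Agent.Lib.helper25.DCohPC
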