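import Mathlib
import Groth.Agent.Lib.Helper25.DCohLift
import Groth.Agent.Lib.Helper25.DCohRestrict
import Groth.Agent.Lib.Helper16.FLF6

/-!
# Kernels of epimorphisms of finite locally free modules (helper25)

* `isFinLocFree_kernel_of_epi`: the kernel of an epimorphism `E ⟶ F` of finite locally free modules is finite
  locally free (the epimorphism splits locally).
* `isFinLocFree_of_isZero`.
-/

set_option autoImplicit false
universe u
open CategoryTheory CategoryTheory.Limits AlgebraicGeometry TopologicalSpace Opposite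
open Scheme.Modules

namespace Groth.Agent.Lib.helper25.FLFKernel

open Groth.Agent.Lib.helper25.DCohRes Groth.Agent.Lib.helper25.DCohLift

variable {X : Scheme.{u}}

/-- an epimorphism onto a finite locally free module splits locally -/
lemma exists_local_section {E F : X.Modules} (p : E ⟶ F) [Epi p] (hF : FlatMod.IsFinLocFree F) (x : X) :
    ∃ (V : X.Opens), x ∈ V ∧
      ∃ s : (restrictFunctor V.ι).obj F ⟶ (restrictFunctor V.ι).obj E,
        s ≫ (restrictFunctor V.ι).map p = 𝟙 _ := by
  obtain ⟨V', h, hxV', s, hs⟩ := exists_local_lift_on p hF (V := ⊤) x trivial (𝟙 _)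
  exact ⟨V', hxV', s, by rw [hs, resHom_id]⟩

/-- abstract: the kernel of a split epimorphism is a retract of the source -/
lemma exists_retraction_kernel {A : Type*} [Category A] [Abelian A] {M N : A} (p : M ⟶ N) (s : N ⟶ M)
    (hs : s ≫ p = 𝟙 N) : ∃ r : M ⟶ kernel p, kernel.ι p ≫ r = 𝟙 _ := by
  refine ⟨kernel.lift p (𝟙 M - p ≫ s) ?_, ?_⟩
  · rw [Preadditive.sub_comp, Category.id_comp, Category.assoc, hs, Category.comp_id, sub_self]
  · apply equalizer.hom_ext
    simp only [Category.assoc, kernel.lift_ι, Category.id_comp, equalizer_as_kernel]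
    rw [Preadditive.comp_sub, Category.comp_id, kernel.condition_assoc, zero_comp, sub_zero]

/-- **The kernel of an epimorphism of finite locally free modules is finite locally free.** -/
theorem isFinLocFree_kernel_of_epi {E F : X.Modules} (p : E ⟶ F) [Epi p]
    (hE : FlatMod.IsFinLocFree E) (hF : FlatMod.IsFinLocFree F) : FlatMod.IsFinLocFree (kernel p) := by
  refine Groth.Agent.Lib.helper16.FLF.isFinLocFree_of_forall_restrict _ (fun x => ?_)
  obtain ⟨V, hxV, s, hs⟩ := exists_local_section p hF x
  refine ⟨V, hxV, ?_⟩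
  obtain ⟨r, hr⟩ := exists_retraction_kernel ((restrictFunctor V.ι).map p) s hs
  have h1 : FlatMod.IsFinLocFree (kernel ((restrictFunctor V.ι).map p)) :=
    Groth.Agent.Lib.helper16.FLF.isFinLocFree_of_retract
      (Groth.Agent.Lib.helper16.FLF.isFinLocFree_restrict V.ι hE) (kernel.ι _) r hr
  exact Groth.Agent.Lib.helper16.FLF.isFinLocFree_of_iso (PreservesKernel.iso (restrictFunctor V.ι) p).symm h1

lemma isFinLocFree_of_isZero {Z : X.Modules} (hZ : IsZero Z) : FlatMod.IsFinLocFree Z :=
  Groth.Agent.Lib.helper16.FLF.isFinLocFree_of_iso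
    ((Groth.Agent.Lib.helper25.DCohRestrict.isZero_freeMod_zero X).iso hZ)
    (Groth.Agent.Lib.helper16.FLF.isFinLocFree_freeMod X 0)

end Groth.Agent.Lib.helper25.FLFKernel
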