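import Mathlib
import Groth.Agent.Lib.Helper16.FLF6
import Groth.Agent.Lib.Helper16.CohFP

/-!
# Finite type / finite presentation are local (no quasi-coherence needed) (helper25)

* `isFT_of_forall_restrict`: if every point has an open neighbourhood `V` with `H|_V` of finite type, then `H` is
  of finite type.
* `isFP_of_forall_restrict`: same for finite presentation.
-/

set_option autoImplicit false
universe u
open CategoryTheory CategoryTheory.Limits AlgebraicGeometry TopologicalSpace Opposite
open Scheme.Modules

namespace Groth.Agent.Lib.helper25.FTLocal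

open Groth.Agent.Lib.helper16.CohFinite Groth.Agent.Lib.helper16.CohFP Groth.Agent.Lib.helper16.FLF

variable {X Y : Scheme.{u}}

/-- `(F|_f)` transported along `range f ≅ Y` is `F|_{range f}` -/
noncomputable def restrictOpensRangeIso (F : X.Modules) (f : Y ⟶ X) [IsOpenImmersion f] :
    (F.restrict f).restrict f.isoOpensRange.inv ≅ F.restrict f.opensRange.ι :=
  (restrictFunctor f.isoOpensRange.inv).mapIso
    (((restrictFunctorComp f.isoOpensRange.hom f.opensRange.ι).app F).symm ≪≫
      (restrictFunctorCongr (f.isoOpensRange_hom_ι)).app F).symm ≪≫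
    restrictIsoInvIso (F.restrict f.opensRange.ι) f.isoOpensRange

/-- generating sections of `F|_f` give generating sections of `F|_{range f}` -/
noncomputable def genOpensRange (F : X.Modules) (f : Y ⟶ X) [IsOpenImmersion f]
    (G : SheafOfModules.GeneratingSections (F.restrict f)) :
    SheafOfModules.GeneratingSections (F.restrict f.opensRange.ι) :=
  SheafOfModules.GeneratingSections.equivOfIso (restrictOpensRangeIso F f)
    (genRestrict f.isoOpensRange.inv G)

theorem genOpensRange_I (F : X.Modules) (f : Y ⟶ X) [IsOpenImmersion f]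
    (G : SheafOfModules.GeneratingSections (F.restrict f)) : (genOpensRange F f G).I = G.I := rfl

set_option backward.isDefEq.respectTransparency false in
/-- a presentation of `F|_f` gives a presentation of `F|_{range f}` -/
noncomputable def presOpensRange (F : X.Modules) (f : Y ⟶ X) [IsOpenImmersion f]
    (P : SheafOfModules.Presentation (F.restrict f)) :
    SheafOfModules.Presentation (F.restrict f.opensRange.ι) :=
  have : PreservesColimitsOfSize.{u, u} (Scheme.Modules.restrictFunctor f.isoOpensRange.inv) :=
    inferInstance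
  (P.map (Scheme.Modules.restrictFunctor f.isoOpensRange.inv)
    (Scheme.Modules.restrictUnitIso _).symm).ofIsIso (restrictOpensRangeIso F f).hom

set_option backward.isDefEq.respectTransparency false in
theorem presOpensRange_isFinite (F : X.Modules) (f : Y ⟶ X) [IsOpenImmersion f]
    (P : SheafOfModules.Presentation (F.restrict f)) [P.IsFinite] :
    (presOpensRange F f P).IsFinite := by
  have : PreservesColimitsOfSize.{u, u} (Scheme.Modules.restrictFunctor f.isoOpensRange.inv) :=
    inferInstance
  have := isFinite_map P (Scheme.Modules.restrictFunctor f.isoOpensRange.inv)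
    (Scheme.Modules.restrictUnitIso _).symm
  unfold presOpensRange
  infer_instance

/-- **Finite type is local.** -/
theorem isFT_of_forall_restrict (H : X.Modules)
    (h : ∀ x : X, ∃ V : X.Opens, x ∈ V ∧ CohB1.IsFT (H.restrict V.ι)) : CohB1.IsFT H := by
  classical
  choose V hxV hV using h
  choose κ U G hfin hcov _ using
    fun x => exists_isOpenCover_generators (H.restrict (V x).ι) (hV x)
  let f : ∀ j : (Σ x : X, κ x), ((U j.1 j.2 : (V j.1 : Scheme.{u}).Opens) : Scheme.{u}) ⟶ X :=
    fun j => (U j.1 j.2).ι ≫ (V j.1).ι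
  refine isFiniteType_of_cover H (ι := Σ x : X, κ x) (fun j => (f j).opensRange) ?_
    (fun j => genOpensRange H (f j) (SheafOfModules.GeneratingSections.equivOfIso
      ((restrictFunctorComp (U j.1 j.2).ι (V j.1).ι).app H).symm (G j.1 j.2)))
    (fun j => hfin j.1 j.2)
  rw [eq_top_iff]
  intro x _
  have hx : (⟨x, hxV x⟩ : (V x : Scheme.{u})) ∈ (⨆ i, U x i : (V x : Scheme.{u}).Opens) := by
    rw [(hcov x).iSup_eq_top]; trivial
  obtain ⟨i, hi⟩ := Opens.mem_iSup.mp hx
  exact Opens.mem_iSup.mpr ⟨⟨x, i⟩, ⟨⟨⟨x, hxV x⟩, hi⟩, rfl⟩⟩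

/-- **Finite presentation is local.** -/
theorem isFP_of_forall_restrict (H : X.Modules)
    (h : ∀ x : X, ∃ V : X.Opens, x ∈ V ∧ CohB1.IsFP (H.restrict V.ι)) : CohB1.IsFP H := by
  classical
  choose V hxV hV using h
  choose κ U P hfin hcov _ using
    fun x => exists_isOpenCover_presentations (H.restrict (V x).ι) (hV x)
  let f : ∀ j : (Σ x : X, κ x), ((U j.1 j.2 : (V j.1 : Scheme.{u}).Opens) : Scheme.{u}) ⟶ X :=
    fun j => (U j.1 j.2).ι ≫ (V j.1).ι
  refine isFinitePresentation_of_cover H (ι := Σ x : X, κ x) (fun j => (f j).opensRange) ?_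
    (fun j => presOpensRange H (f j) ((P j.1 j.2).ofIsIso
      ((restrictFunctorComp (U j.1 j.2).ι (V j.1).ι).app H).symm.hom))
    (fun j => ?_)
  · rw [eq_top_iff]
    intro x _
    have hx : (⟨x, hxV x⟩ : (V x : Scheme.{u})) ∈ (⨆ i, U x i : (V x : Scheme.{u}).Opens) := by
      rw [(hcov x).iSup_eq_top]; trivial
    obtain ⟨i, hi⟩ := Opens.mem_iSup.mp hx
    exact Opens.mem_iSup.mpr ⟨⟨x, i⟩, ⟨⟨⟨x, hxV x⟩, hi⟩, rfl⟩⟩
  · have := hfin j.1 j.2
    exact presOpensRange_isFinite H (f j) _

end Groth.Agent.Lib.helper25.FTLocal
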