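import Mathlib
import Groth.Agent.Lib.Helper25.FLFKernel
import Groth.Agent.Lib.Helper25.FTLocal

/-!
# Cycles of strictly perfect complexes acyclic in high degrees; finite presentation of cokernels (helper25)

* `isFinLocFree_cycles`: if `P` is strictly perfect with `H^i(P) = 0` for `i > m`, then `Z^i(P)` is finite locally
  free for all `i ≥ m`.
* `isFP_cokernel_of_isFinLocFree`: the cokernel of a morphism of finite locally free modules is finitely presented.
-/

set_option autoImplicit false
universe u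
open CategoryTheory CategoryTheory.Limits AlgebraicGeometry TopologicalSpace Opposite
open Scheme.Modules

namespace Groth.Agent.Lib.helper25.FLFCycles

open Groth.Agent.Lib.helper25.FLFKernel Groth.Agent.Lib.helper25.FTLocal

variable {X : Scheme.{u}}

/-- the kernel of `toCycles i j` is `cycles i` -/
noncomputable def kernelToCyclesIso (P : CochainComplex X.Modules ℤ) (i j : ℤ) (hij : i + 1 = j) :
    kernel (P.toCycles i j) ≅ P.cycles i :=
  IsLimit.conePointUniqueUpToIso (kernelIsKernel (P.toCycles i j))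
    (isKernelOfComp (P.iCycles j) (P.d i j) (P.cyclesIsKernel i j (by simp [← hij]))
      (by
        rw [← cancel_mono (P.iCycles j), Category.assoc, P.toCycles_i, zero_comp]
        exact P.iCycles_d i j)
      (P.toCycles_i i j))

lemma isFinLocFree_cycles_step (P : CochainComplex X.Modules ℤ) (i : ℤ)
    (hi : FlatMod.IsFinLocFree (P.X i)) (hz : IsZero (P.homology (i + 1)))
    (hc : FlatMod.IsFinLocFree (P.cycles (i + 1))) : FlatMod.IsFinLocFree (P.cycles i) := by
  have hepi : Epi (P.toCycles i (i + 1)) :=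
    Preadditive.epi_of_isZero_cokernel' _ (P.homologyIsCokernel i (i + 1) (by simp)) hz
  exact Groth.Agent.Lib.helper16.FLF.isFinLocFree_of_iso (kernelToCyclesIso P i (i + 1) rfl)
    (isFinLocFree_kernel_of_epi (P.toCycles i (i + 1)) hi hc)

theorem isFinLocFree_cycles {P : CochainComplex X.Modules ℤ} (hP : DCoh.IsStrictlyPerfect P) (m : ℤ)
    (hm : ∀ i : ℤ, m < i → IsZero (P.homology i)) (i : ℤ) (hi : m ≤ i) :
    FlatMod.IsFinLocFree (P.cycles i) := by
  obtain ⟨⟨a, b, hab⟩, hf⟩ := hP
  have hzero : ∀ j : ℤ, b < j → FlatMod.IsFinLocFree (P.cycles j) := fun j hj =>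
    isFinLocFree_of_isZero (IsZero.of_mono (P.iCycles j) (hab j (Or.inr hj)))
  have key : ∀ (n : ℕ) (j : ℤ), j + n = b + 1 → m ≤ j → FlatMod.IsFinLocFree (P.cycles j) := by
    intro n
    induction n with
    | zero =>
      intro j hj _
      exact hzero j (by simp at hj; omega)
    | succ n ih =>
      intro j hj hmj
      exact isFinLocFree_cycles_step P j (hf j) (hm _ (by omega))
        (ih (j + 1) (by push_cast at hj ⊢; omega) (by omega))
  by_cases hib : i ≤ b + 1
  · exact key (b + 1 - i).toNat i (by omega) hi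
  · exact hzero i (by omega)

set_option backward.isDefEq.respectTransparency false in
/-- **The cokernel of a morphism of finite locally free modules is finitely presented.** -/
theorem isFP_cokernel_of_isFinLocFree {E F : X.Modules} (φ : E ⟶ F) (hE : FlatMod.IsFinLocFree E)
    (hF : FlatMod.IsFinLocFree F) : CohB1.IsFP (cokernel φ) := by
  classical
  have key : ∀ x : X, ∃ (V : X.Opens) (n₁ n₂ : ℕ), x ∈ V ∧
      Nonempty (E.restrict V.ι ≅ FlatMod.freeMod (↑V) n₁) ∧
      Nonempty (F.restrict V.ι ≅ FlatMod.freeMod (↑V) n₂) := by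
    intro x
    obtain ⟨U₁, n₁, hx₁, ⟨e₁⟩⟩ := hE x
    obtain ⟨U₂, n₂, hx₂, ⟨e₂⟩⟩ := hF x
    exact ⟨U₁ ⊓ U₂, n₁, n₂, ⟨hx₁, hx₂⟩,
      Groth.Agent.Lib.helper16.FLF.restrict_iso_freeMod_of_le E inf_le_left n₁ e₁,
      Groth.Agent.Lib.helper16.FLF.restrict_iso_freeMod_of_le F inf_le_right n₂ e₂⟩
  choose V n₁ n₂ hxV hE' hF' using key
  let a : ∀ x, E.restrict (V x).ι ≅ SheafOfModules.free (ULift.{u} (Fin (n₁ x))) := fun x =>
    (hE' x).some ≪≫ Groth.Agent.Lib.helper16.FLF.freeModIso _ _
  let b : ∀ x, F.restrict (V x).ι ≅ SheafOfModules.free (ULift.{u} (Fin (n₂ x))) := fun x =>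
    (hF' x).some ≪≫ Groth.Agent.Lib.helper16.FLF.freeModIso _ _
  let ψ : ∀ x, SheafOfModules.free (R := ((V x : X.Opens) : Scheme.{u}).ringCatSheaf) (ULift.{u} (Fin (n₁ x))) ⟶
      SheafOfModules.free (ULift.{u} (Fin (n₂ x))) := fun x =>
    (a x).inv ≫ (restrictFunctor (V x).ι).map φ ≫ (b x).hom
  have : ∀ x, PreservesColimit (parallelPair φ 0) (restrictFunctor (V x).ι) := fun x => by
    have : PreservesColimitsOfSize.{0, 0} (restrictFunctor (V x).ι) :=
      preservesColimitsOfSize_shrink.{0, u, 0, u} _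
    infer_instance
  let iso : ∀ x, cokernel (ψ x) ≅ (cokernel φ).restrict (V x).ι := fun x =>
    cokernel.mapIso (ψ x) ((restrictFunctor (V x).ι).map φ) (a x).symm (b x).symm
      (by simp [ψ]) ≪≫ (PreservesCokernel.iso (restrictFunctor (V x).ι) φ).symm
  let P : ∀ x, SheafOfModules.Presentation ((cokernel φ).restrict (V x).ι) := fun x =>
    (SheafOfModules.presentationOfIsCokernelFree (ψ x) (cokernel.π (ψ x)) (cokernel.condition _)
      (cokernelIsCokernel _)).ofIsIso (iso x).hom
  refine Groth.Agent.Lib.helper16.CohFinite.isFinitePresentation_of_cover (cokernel φ) V ?_ P (fun x => ?_)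
  · rw [eq_top_iff]
    intro x _
    exact Opens.mem_iSup.mpr ⟨x, hxV x⟩
  · have h0 : (SheafOfModules.presentationOfIsCokernelFree (ψ x) (cokernel.π (ψ x))
        (cokernel.condition _) (cokernelIsCokernel _)).IsFinite :=
      ⟨⟨inferInstanceAs (Finite (ULift.{u} (Fin (n₂ x))))⟩,
        ⟨inferInstanceAs (Finite (ULift.{u} (Fin (n₁ x))))⟩⟩
    exact inferInstanceAs ((SheafOfModules.presentationOfIsCokernelFree (ψ x) (cokernel.π (ψ x))
      (cokernel.condition _) (cokernelIsCokernel _)).ofIsIso (iso x).hom).IsFinite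

end Groth.Agent.Lib.helper25.FLFCycles
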