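import Mathlib
import Groth.Agent.Lib.Helper16.FLF6
import Groth.Agent.Lib.Helper25.FLFCycles
import Groth.Agent.Lib.Helper25.DCohHomology
import Groth.Agent.Lib.Helper25.DCohPC

/-!
# The locus where a module / the cohomology of a perfect complex is finite locally free (helper25)

* `FreeNear M x`: `M` is free of finite rank on an open neighbourhood of `x`; `FLFOn M W`: at all points of `W`.
  `freeNear_restrict`, `freeNear_of_restrict` (open immersions), `flfOn_kernel` (kernel of an epimorphism),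
  `isFP_restrict_cokernel` (cokernels are finitely presented), `isFP_of_iso`.
* `freeNear_of_free_stalk`: a quasi-coherent module, finitely presented near `x`, with free stalk at `x`, is free near `x`.
* `free_finite_stalk_of_freeNear`: the converse on stalks.
* `exists_flfOn_homology`: the descending induction on a strictly perfect complex.
* `isQuasicoherent_HD_of_isPerfect`, `exists_flfOn_HD_of_isPerfect`.
-/

set_option autoImplicit false
universe u
open CategoryTheory CategoryTheory.Limits AlgebraicGeometry TopologicalSpace Opposite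
open Scheme.Modules

namespace Groth.Agent.Lib.helper25.FLFLocus

open Groth.Agent.Lib.helper16.FLF Groth.Agent.Lib.helper16.CohFP

variable {X Y : Scheme.{u}}

/-- `M` is free of finite rank on a neighbourhood of `x` -/
def FreeNear (M : X.Modules) (x : X) : Prop :=
  ∃ (U : X.Opens) (n : ℕ), x ∈ U ∧ Nonempty (M.restrict U.ι ≅ FlatMod.freeMod (↑U) n)

lemma isFinLocFree_iff_freeNear (M : X.Modules) : FlatMod.IsFinLocFree M ↔ ∀ x, FreeNear M x := Iff.rfl

lemma freeNear_of_iso {M N : X.Modules} (e : M ≅ N) {x : X} (h : FreeNear M x) : FreeNear N x := by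
  obtain ⟨U, n, hx, ⟨iso⟩⟩ := h
  exact ⟨U, n, hx, ⟨(restrictFunctor U.ι).mapIso e.symm ≪≫ iso⟩⟩

lemma freeNear_of_isZero {Z : X.Modules} (hZ : IsZero Z) (x : X) : FreeNear Z x :=
  Groth.Agent.Lib.helper25.FLFKernel.isFinLocFree_of_isZero hZ x

/-- restriction along an open immersion preserves local freeness at a point -/
lemma freeNear_restrict (M : X.Modules) (f : Y ⟶ X) [IsOpenImmersion f] (y : Y)
    (h : FreeNear M (f y)) : FreeNear (M.restrict f) y := by
  obtain ⟨U, n, hx, ⟨iso⟩⟩ := h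
  let U'' : Y.Opens := f ⁻¹ᵁ U
  have hle : (U''.ι ≫ f).opensRange ≤ U.ι.opensRange := by
    rintro _ ⟨z, rfl⟩
    refine ⟨⟨f z.1, z.2⟩, ?_⟩
    rfl
  let g : (U'' : Scheme.{u}) ⟶ (U : Scheme.{u}) := IsOpenImmersion.lift U.ι (U''.ι ≫ f) hle
  have hg : g ≫ U.ι = U''.ι ≫ f := IsOpenImmersion.lift_fac _ _ _
  have : IsOpenImmersion (g ≫ U.ι) := by rw [hg]; infer_instance
  have : IsOpenImmersion g := IsOpenImmersion.of_comp g U.ι
  refine ⟨U'', n, hx, ⟨?_⟩⟩
  exact ((restrictFunctorComp U''.ι f).app M).symm ≪≫ (restrictFunctorCongr hg.symm).app M ≪≫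
    (restrictFunctorComp g U.ι).app M ≪≫ (restrictFunctor g).mapIso iso ≪≫ restrictFreeModIso g n

/-- local freeness of the restriction gives local freeness -/
lemma freeNear_of_restrict (M : X.Modules) (f : Y ⟶ X) [IsOpenImmersion f] (y : Y)
    (h : FreeNear (M.restrict f) y) : FreeNear M (f y) := by
  obtain ⟨U, n, hy, ⟨iso⟩⟩ := h
  obtain ⟨iso'⟩ := restrict_opensRange_iso_freeMod M (U.ι ≫ f) n
    ((restrictFunctorComp U.ι f).app M ≪≫ iso)
  exact ⟨(U.ι ≫ f).opensRange, n, ⟨⟨y, hy⟩, rfl⟩, ⟨iso'⟩⟩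

lemma isFinLocFree_restrict_of_freeNear (M : X.Modules) (f : Y ⟶ X) [IsOpenImmersion f]
    (h : ∀ y : Y, FreeNear M (f y)) : FlatMod.IsFinLocFree (M.restrict f) :=
  fun y => freeNear_restrict M f y (h y)

lemma isFP_of_iso {M N : X.Modules} (e : M ≅ N) (h : CohB1.IsFP M) : CohB1.IsFP N := by
  exact ObjectProperty.prop_of_iso (P := SheafOfModules.isFinitePresentation.{u} X.ringCatSheaf) e h

/-- `M` is finite locally free at all points of `W` -/
def FLFOn (M : X.Modules) (W : X.Opens) : Prop := ∀ z ∈ W, FreeNear M z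

lemma FLFOn.mono {M : X.Modules} {W W' : X.Opens} (h : FLFOn M W) (hle : W' ≤ W) : FLFOn M W' :=
  fun z hz => h z (hle hz)

lemma FLFOn.of_iso {M N : X.Modules} {W : X.Opens} (h : FLFOn M W) (e : M ≅ N) : FLFOn N W :=
  fun z hz => freeNear_of_iso e (h z hz)

lemma flfOn_of_isFinLocFree {M : X.Modules} (h : FlatMod.IsFinLocFree M) (W : X.Opens) : FLFOn M W :=
  fun z _ => h z

lemma flfOn_of_isZero {M : X.Modules} (h : IsZero M) (W : X.Opens) : FLFOn M W :=
  fun z _ => freeNear_of_isZero h z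

lemma FLFOn.isFinLocFree_restrict {M : X.Modules} {W : X.Opens} (h : FLFOn M W) :
    FlatMod.IsFinLocFree (M.restrict W.ι) :=
  isFinLocFree_restrict_of_freeNear M W.ι (fun y => h _ y.2)

lemma flfOn_of_isFinLocFree_restrict {M : X.Modules} {W : X.Opens}
    (h : FlatMod.IsFinLocFree (M.restrict W.ι)) : FLFOn M W :=
  fun z hz => freeNear_of_restrict M W.ι ⟨z, hz⟩ (h ⟨z, hz⟩)

lemma flfOn_of_freeNear {M : X.Modules} {x : X} (h : FreeNear M x) :
    ∃ W : X.Opens, x ∈ W ∧ FLFOn M W := by
  obtain ⟨U, n, hx, iso⟩ := h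
  exact ⟨U, hx, fun z hz => ⟨U, n, hz, iso⟩⟩

/-- the kernel of an epimorphism of modules which are finite locally free on `W` is so -/
lemma flfOn_kernel {M N : X.Modules} (p : M ⟶ N) [Epi p] {W : X.Opens} (hM : FLFOn M W)
    (hN : FLFOn N W) : FLFOn (kernel p) W := by
  have h3 := Groth.Agent.Lib.helper25.FLFKernel.isFinLocFree_kernel_of_epi
    ((restrictFunctor W.ι).map p) hM.isFinLocFree_restrict hN.isFinLocFree_restrict
  exact flfOn_of_isFinLocFree_restrict
    (isFinLocFree_of_iso (PreservesKernel.iso (restrictFunctor W.ι) p).symm h3)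

/-- the cokernel of a morphism of modules which are finite locally free on `W` is finitely presented on `W` -/
lemma isFP_restrict_cokernel {M N : X.Modules} (φ : M ⟶ N) {W : X.Opens} (hM : FLFOn M W)
    (hN : FLFOn N W) : CohB1.IsFP ((cokernel φ).restrict W.ι) := by
  have h3 := Groth.Agent.Lib.helper25.FLFCycles.isFP_cokernel_of_isFinLocFree
    ((restrictFunctor W.ι).map φ) hM.isFinLocFree_restrict hN.isFinLocFree_restrict
  exact isFP_of_iso (PreservesCokernel.iso (restrictFunctor W.ι) φ).symm h3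

/-- the module structure on sections of the restriction as a module over sections of `X` -/
noncomputable abbrev restrictModule (M : X.Modules) (V : X.Opens) (U' : ((V : Scheme.{u})).Opens) :
    Module Γ(X, V.ι ''ᵁ U') Γ(M, V.ι ''ᵁ U') :=
  inferInstanceAs (Module Γ((V : Scheme.{u}), U') Γ(M.restrict V.ι, U'))

lemma module_restrict_eq (M : X.Modules) (V : X.Opens) (U' : ((V : Scheme.{u})).Opens) :
    restrictModule M V U' = (inferInstance : Module Γ(X, V.ι ''ᵁ U') Γ(M, V.ι ''ᵁ U')) := by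
  apply Module.ext'
  intro r m
  have h := Scheme.Modules.smul_restrictAppIso_hom_apply V.ι M U' r m
  rw [Scheme.Opens.ι_appIso] at h
  exact h

lemma fp_sections_restrict (M : X.Modules) (V : X.Opens) (U' : (V : Scheme.{u}).Opens)
    (h : Module.FinitePresentation Γ((V : Scheme.{u}), U') Γ(M.restrict V.ι, U')) :
    Module.FinitePresentation Γ(X, V.ι ''ᵁ U') Γ(M, V.ι ''ᵁ U') := by
  have h' : @Module.FinitePresentation Γ(X, V.ι ''ᵁ U') Γ(M, V.ι ''ᵁ U') _ _
      (restrictModule M V U') := h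
  rwa [module_restrict_eq] at h'

/-- **A quasi-coherent module which is finitely presented near `x` and whose stalk at `x` is free is free of
finite rank near `x`.**  (Finite presentation is given on an open `W` of an open `V` of `X`.) -/
theorem freeNear_of_free_stalk (M : X.Modules) [M.IsQuasicoherent] (x : X)
    (hfree : Module.Free (X.presheaf.stalk x) (M.presheaf.stalk x))
    (V : X.Opens) (W : (V : Scheme.{u}).Opens) (hxV : x ∈ V) (hxW : (⟨x, hxV⟩ : V) ∈ W)
    (hfp : CohB1.IsFP ((M.restrict V.ι).restrict W.ι)) : FreeNear M x := by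
  obtain ⟨U', hU', hzU', -⟩ := Opens.isBasis_iff_nbhd.mp (W : Scheme.{u}).isBasis_affineOpens
    (show (⟨⟨x, hxV⟩, hxW⟩ : W) ∈ (⊤ : (W : Scheme.{u}).Opens) from trivial)
  have h1 := fp_sections_of_isFinitePresentation ((M.restrict V.ι).restrict W.ι) hfp hU'
  have h2 := fp_sections_restrict (M.restrict V.ι) W U' h1
  have h3 := fp_sections_restrict M V (W.ι ''ᵁ U') h2
  have hU : IsAffineOpen (V.ι ''ᵁ (W.ι ''ᵁ U')) :=
    (hU'.image_of_isOpenImmersion W.ι).image_of_isOpenImmersion V.ι
  have hxU : x ∈ V.ι ''ᵁ (W.ι ''ᵁ U') := ⟨⟨x, hxV⟩, ⟨⟨⟨x, hxV⟩, hxW⟩, hzU', rfl⟩, rfl⟩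
  obtain ⟨f, n, hxf, ⟨e⟩⟩ := exists_basicOpen_free_sections M hU x hxU hfree
  exact ⟨X.basicOpen f, n, hxf, restrict_iso_freeMod_of_sections M (hU.basicOpen f) n e⟩

open Groth.Agent.Lib.helper16.CohStalk in
/-- a quasi-coherent module free of finite rank near `x` has a finite free stalk at `x` -/
theorem free_finite_stalk_of_freeNear (M : X.Modules) [M.IsQuasicoherent] {x : X} (h : FreeNear M x) :
    Module.Free (X.presheaf.stalk x) (M.presheaf.stalk x) ∧
      Module.Finite (X.presheaf.stalk x) (M.presheaf.stalk x) := by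
  obtain ⟨V, n, hx, ⟨iso⟩⟩ := h
  obtain ⟨U, hU, hxU, hUV⟩ := Opens.isBasis_iff_nbhd.mp X.isBasis_affineOpens hx
  obtain ⟨iso'⟩ := restrict_iso_freeMod_of_le M hUV n iso
  obtain ⟨e⟩ := sections_of_restrict_iso_freeMod M hU n iso'
  haveI : Module.Free Γ(X, U) Γ(M, U) := Module.Free.of_equiv e.symm
  haveI : Module.Finite Γ(X, U) Γ(M, U) := Module.Finite.equiv e.symm
  letI := TopCat.Presheaf.algebra_section_stalk X.presheaf (⟨x, hxU⟩ : U)
  letI := modStalk M x hxU
  haveI := isScalarTower_stalk M x hxU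
  haveI : IsLocalization.AtPrime (X.presheaf.stalk x) (hU.primeIdealOf ⟨x, hxU⟩).asIdeal :=
    hU.isLocalization_stalk ⟨x, hxU⟩
  haveI := isLocalizedModule_stalk M hU x hxU
  exact ⟨Module.free_of_isLocalizedModule (hU.primeIdealOf ⟨x, hxU⟩).asIdeal.primeCompl
      (germLin M x hxU),
    Module.Finite.of_isLocalizedModule (hU.primeIdealOf ⟨x, hxU⟩).asIdeal.primeCompl
      (germLin M x hxU)⟩

/-- if `P^i`, `Z^{i+1}` and `H^{i+1}` are finite locally free on `W`, so is `Z^i` -/
lemma flfOn_cycles_step (P : CochainComplex X.Modules ℤ) (i : ℤ) {W : X.Opens}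
    (hi : FLFOn (P.X i) W) (hc : FLFOn (P.cycles (i + 1)) W) (hh : FLFOn (P.homology (i + 1)) W) :
    FLFOn (P.cycles i) W := by
  have hB : FLFOn (kernel (P.homologyπ (i + 1))) W := flfOn_kernel (P.homologyπ (i + 1)) hc hh
  let q : P.X i ⟶ kernel (P.homologyπ (i + 1)) :=
    kernel.lift _ (P.toCycles i (i + 1)) (P.toCycles_comp_homologyπ i (i + 1))
  have hq : Epi q := by
    let S := ShortComplex.mk (P.toCycles i (i + 1)) (P.homologyπ (i + 1))
      (P.toCycles_comp_homologyπ i (i + 1))
    have hS : S.Exact := S.exact_of_g_is_cokernel (P.homologyIsCokernel i (i + 1) (by simp))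
    exact S.exact_iff_epi_kernel_lift.1 hS
  have hk : FLFOn (kernel q) W := flfOn_kernel q hi hB
  have e1 : kernel q ≅ kernel (P.toCycles i (i + 1)) :=
    (kernelCompMono q (kernel.ι _)).symm ≪≫ kernelIsoOfEq (kernel.lift_ι _ _ _)
  exact hk.of_iso (e1 ≪≫ Groth.Agent.Lib.helper25.FLFCycles.kernelToCyclesIso P i (i + 1) rfl)

/-- **Local freeness of the cohomology of a strictly perfect complex near a point**, given a criterion
`H` which says that each cohomology module is free near `y` as soon as it is finitely presented near `y`. -/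
theorem exists_flfOn_homology {P : CochainComplex X.Modules ℤ} (hP : DCoh.IsStrictlyPerfect P) (y : X)
    (H : ∀ (i : ℤ) (W : X.Opens), y ∈ W → CohB1.IsFP ((P.homology i).restrict W.ι) →
      FreeNear (P.homology i) y) :
    ∃ W : X.Opens, y ∈ W ∧ ∀ i : ℤ, FLFOn (P.homology i) W := by
  obtain ⟨⟨a, b, hab⟩, hf⟩ := hP
  have hzc : ∀ j, b < j → IsZero (P.cycles j) := fun j hj =>
    IsZero.of_mono (P.iCycles j) (hab j (Or.inr hj))
  have hzh : ∀ j, (j < a ∨ b < j) → IsZero (P.homology j) := fun j hj =>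
    HomologicalComplex.ExactAt.isZero_homology (ShortComplex.exact_of_isZero_X₂ _ (hab j hj))
  have key : ∀ n : ℕ, ∃ W : X.Opens, y ∈ W ∧ ∀ j : ℤ, b + 1 - n ≤ j →
      FLFOn (P.cycles j) W ∧ FLFOn (P.homology j) W := by
    intro n
    induction n with
    | zero =>
      exact ⟨⊤, trivial, fun j hj => ⟨flfOn_of_isZero (hzc j (by simp at hj; omega)) _,
        flfOn_of_isZero (hzh j (Or.inr (by simp at hj; omega))) _⟩⟩
    | succ n ih =>
      obtain ⟨W, hyW, hW⟩ := ih
      have hj0 := hW (b - n + 1) (by omega)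
      have hc : FLFOn (P.cycles (b - n)) W :=
        flfOn_cycles_step P (b - n) (flfOn_of_isFinLocFree (hf _) W) hj0.1 hj0.2
      have hfp : CohB1.IsFP ((P.homology (b - n)).restrict W.ι) := by
        have h1 := isFP_restrict_cokernel (P.toCycles (b - n - 1) (b - n))
          (flfOn_of_isFinLocFree (hf _) W) hc
        let e : cokernel (P.toCycles (b - n - 1) (b - n)) ≅ P.homology (b - n) :=
          IsColimit.coconePointUniqueUpToIso (cokernelIsCokernel _)
            (P.homologyIsCokernel (b - n - 1) (b - n) (by simp))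
        exact isFP_of_iso ((restrictFunctor W.ι).mapIso e) h1
      obtain ⟨W₁, hyW₁, hW₁⟩ := flfOn_of_freeNear (H (b - n) W hyW hfp)
      refine ⟨W ⊓ W₁, ⟨hyW, hyW₁⟩, fun j hj => ?_⟩
      by_cases hjn : j = b - n
      · subst hjn
        exact ⟨hc.mono inf_le_left, hW₁.mono inf_le_right⟩
      · have := hW j (by push_cast at hj; omega)
        exact ⟨this.1.mono inf_le_left, this.2.mono inf_le_left⟩
  obtain ⟨W, hyW, hW⟩ := key (b + 1 - a).toNat
  refine ⟨W, hyW, fun i => ?_⟩
  by_cases hia : a ≤ i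
  · exact (hW i (by have := Int.self_le_toNat (b + 1 - a); omega)).2
  · exact flfOn_of_isZero (hzh i (Or.inl (by omega))) W

section Perfect

attribute [local instance] HasDerivedCategory.standard

open Groth.Agent.Lib.helper25.DCohPerfect Groth.Agent.Lib.helper25.DCohHomology

/-- the cohomology sheaves of a perfect object are quasi-coherent -/
lemma isQuasicoherent_HD_of_isPerfect {E : DCoh.D X} (hE : DCoh.IsPerfect E) (i : ℤ) :
    (DCoh.HD E i).IsQuasicoherent := by
  choose V hxV P hP e using fun x => exists_restrictD_iso_of_isPerfect hE x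
  refine Groth.Agent.Lib.helper28.RestrictCover.isQuasicoherent_of_restrict_cover (DCoh.HD E i)
    (fun x : X => ((V x : X.Opens) : Scheme.{u})) (fun x => (V x).ι) ?_ (fun x => ?_)
  · intro x
    exact ⟨x, ⟨x, hxV x⟩, rfl⟩
  · obtain ⟨a⟩ := nonempty_HD_restrict_iso_homology (V x).ι E (P x) (e x) i
    have := Groth.Agent.Lib.helper25.DCohPC.isQuasicoherent_homology_of_isStrictlyPerfect (hP x) i
    exact ObjectProperty.prop_of_iso
      (P := SheafOfModules.isQuasicoherent.{u} (V x : Scheme.{u}).ringCatSheaf) a.symm this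

/-- **Around a point where all the stalks of the cohomology sheaves of a perfect object are free, all the
cohomology sheaves are finite locally free.** -/
theorem exists_flfOn_HD_of_isPerfect {E : DCoh.D X} (hE : DCoh.IsPerfect E) (x : X)
    (hfree : ∀ i : ℤ, Module.Free (X.presheaf.stalk x) ((DCoh.HD E i).presheaf.stalk x)) :
    ∃ W : X.Opens, x ∈ W ∧ ∀ i : ℤ, FLFOn (DCoh.HD E i) W := by
  obtain ⟨V, hxV, P, hP, e⟩ := exists_restrictD_iso_of_isPerfect hE x
  have a := fun i => (nonempty_HD_restrict_iso_homology V.ι E P e i).some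
  have hq := fun i => isQuasicoherent_HD_of_isPerfect hE i
  obtain ⟨W, hyW, hW⟩ := exists_flfOn_homology hP (⟨x, hxV⟩ : V) (fun i W hyW hfp => by
    have h1 : CohB1.IsFP (((DCoh.HD E i).restrict V.ι).restrict W.ι) :=
      isFP_of_iso ((restrictFunctor W.ι).mapIso (a i).symm) hfp
    have h2 := freeNear_of_free_stalk (DCoh.HD E i) x (hfree i) V W hxV hyW h1
    exact freeNear_of_iso (a i) (freeNear_restrict (DCoh.HD E i) V.ι ⟨x, hxV⟩ h2))
  refine ⟨V.ι ''ᵁ W, ⟨⟨x, hxV⟩, hyW, rfl⟩, fun i z hz => ?_⟩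
  obtain ⟨z', hz', rfl⟩ := hz
  exact freeNear_of_restrict (DCoh.HD E i) V.ι z' (freeNear_of_iso (a i).symm (hW i z' hz'))

end Perfect

end Groth.Agent.Lib.helper25.FLFLocus
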