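import Mathlib
import Groth.Prelude.Def_DerSch
import Groth.Agent.Lib.Helper25.StalkSky

/-!
# The stalk of a pullback of modules (helper25)

For a morphism of schemes `f : X ⟶ Y` and `x : X`:
* `pushSkyNatIso f x : sky x ⋙ pushforward f ≅ restrictScalars (f.stalkMap x) ⋙ sky (f x)`
  (the direct image of a skyscraper is a skyscraper);
* `stalkPullbackIso f x : pullback f ⋙ stalkFunctor X x ≅ stalkFunctor Y (f x) ⋙ extendScalars (f.stalkMap x)`:
  `(f^* A)_x ≅ A_{f x} ⊗_{O_{Y, f x}} O_{X, x}`, naturally in `A` (uniqueness of left adjoints,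
  `pullStalkAdj`, `stalkExtendAdj`).
-/

set_option autoImplicit false
universe u
open CategoryTheory CategoryTheory.Limits AlgebraicGeometry Opposite TopologicalSpace

namespace Groth.Agent.Lib.Helper25.StalkSky

variable {X Y : Scheme.{u}} (f : X ⟶ Y) (x : X)

lemma pushforward_smul (M : X.Modules) (V : Y.Opens) (r : Γ(Y, V))
    (s : Γ((Scheme.Modules.pushforward f).obj M, V)) :
    r • s = (HSMul.hSMul (α := Γ(X, f ⁻¹ᵁ V)) (β := Γ(M, f ⁻¹ᵁ V)) (f.app V r) s) := rfl

variable (N : ModuleCat.{u} (X.presheaf.stalk x))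

/-- comparison on underlying presheaves -/
noncomputable def pushSkyAbHom :
    ((Scheme.Modules.pushforward f).obj ((sky x).obj N)).presheaf ⟶
      skyAb (f x) ((ModuleCat.restrictScalars (f.stalkMap x).hom).obj N) where
  app V := AddCommGrpCat.ofHom
    { toFun := fun s h => (s : PLift (x ∈ f ⁻¹ᵁ V.unop) → N) ⟨h.down⟩
      map_zero' := rfl
      map_add' := fun _ _ => rfl }
  naturality _ _ _ := rfl

noncomputable def pushSkyAbInv :
    skyAb (f x) ((ModuleCat.restrictScalars (f.stalkMap x).hom).obj N) ⟶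
    ((Scheme.Modules.pushforward f).obj ((sky x).obj N)).presheaf where
  app V := AddCommGrpCat.ofHom
    { toFun := fun s h => (s : PLift (f x ∈ V.unop) → N) ⟨h.down⟩
      map_zero' := rfl
      map_add' := fun _ _ => rfl }
  naturality _ _ _ := rfl

/-- `f_* (sky_x N) ⟶ sky_{f x} (N restricted to O_{Y, f x})` -/
noncomputable def pushSkyHom :
    (Scheme.Modules.pushforward f).obj ((sky x).obj N) ⟶
      (sky (f x)).obj ((ModuleCat.restrictScalars (f.stalkMap x).hom).obj N) :=
  ⟨PresheafOfModules.homMk (M₁ := ((Scheme.Modules.pushforward f).obj ((sky x).obj N)).val)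
    (M₂ := skyPre (f x) ((ModuleCat.restrictScalars (f.stalkMap x).hom).obj N))
    (pushSkyAbHom f x N) (by
      intro V r m
      funext h
      change (X.presheaf.germ (f ⁻¹ᵁ V.unop) x h.down (f.app V.unop r)) •
          ((m : PLift (x ∈ f ⁻¹ᵁ V.unop) → N) ⟨h.down⟩ : N) =
        (f.stalkMap x (Y.presheaf.germ V.unop (f x) h.down r)) •
          ((m : PLift (x ∈ f ⁻¹ᵁ V.unop) → N) ⟨h.down⟩ : N)
      exact congrArg (fun t : X.presheaf.stalk x => t • ((m : PLift (x ∈ f ⁻¹ᵁ V.unop) → N) ⟨h.down⟩ : N))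
        (Scheme.Hom.germ_stalkMap_apply f V.unop x h.down r).symm)⟩

/-- `sky_{f x} (N restricted to O_{Y, f x}) ⟶ f_* (sky_x N)` -/
noncomputable def pushSkyInv :
    (sky (f x)).obj ((ModuleCat.restrictScalars (f.stalkMap x).hom).obj N) ⟶
      (Scheme.Modules.pushforward f).obj ((sky x).obj N) :=
  ⟨PresheafOfModules.homMk (M₂ := ((Scheme.Modules.pushforward f).obj ((sky x).obj N)).val)
    (M₁ := skyPre (f x) ((ModuleCat.restrictScalars (f.stalkMap x).hom).obj N))
    (pushSkyAbInv f x N) (by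
      intro V r m
      funext h
      change (f.stalkMap x (Y.presheaf.germ V.unop (f x) h.down r)) •
          ((m : PLift (f x ∈ V.unop) → N) ⟨h.down⟩ : N) =
        (X.presheaf.germ (f ⁻¹ᵁ V.unop) x h.down (f.app V.unop r)) •
          ((m : PLift (f x ∈ V.unop) → N) ⟨h.down⟩ : N)
      exact congrArg (fun t : X.presheaf.stalk x => t • ((m : PLift (f x ∈ V.unop) → N) ⟨h.down⟩ : N))
        (Scheme.Hom.germ_stalkMap_apply f V.unop x h.down r))⟩

/-- `f_* (sky_x N) ≅ sky_{f x} (N restricted to O_{Y, f x})` -/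
noncomputable def pushSkyIso :
    (Scheme.Modules.pushforward f).obj ((sky x).obj N) ≅
      (sky (f x)).obj ((ModuleCat.restrictScalars (f.stalkMap x).hom).obj N) where
  hom := pushSkyHom f x N
  inv := pushSkyInv f x N
  hom_inv_id := by
    ext V s
    rfl
  inv_hom_id := by
    ext V s
    rfl

lemma pushSkyIso_hom_app_apply (V : Y.Opens)
    (s : Γ((Scheme.Modules.pushforward f).obj ((sky x).obj N), V)) (h : PLift (f x ∈ V)) :
    ((pushSkyIso f x N).hom.app V s : PLift (f x ∈ V) → N) h =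
      (s : PLift (x ∈ f ⁻¹ᵁ V) → N) ⟨h.down⟩ := rfl

/-- the natural isomorphism `sky_x ⋙ f_* ≅ restrictScalars ⋙ sky_{f x}` -/
noncomputable def pushSkyNatIso :
    sky x ⋙ Scheme.Modules.pushforward f ≅
      ModuleCat.restrictScalars (f.stalkMap x).hom ⋙ sky (f x) :=
  NatIso.ofComponents (fun N => pushSkyIso f x N) (by
    intro N N' g
    ext V s
    rfl)

/-- the adjunction `f^* ⋙ stalk_x ⊣ restrictScalars ⋙ sky_{f x}` -/
noncomputable def pullStalkAdj :
    Scheme.Modules.pullback f ⋙ DerSch.stalkFunctor X x ⊣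
      ModuleCat.restrictScalars (f.stalkMap x).hom ⋙ sky (f x) :=
  ((Scheme.Modules.pullbackPushforwardAdjunction f).comp (stalkSkyAdj x)).ofNatIsoRight
    (pushSkyNatIso f x)

/-- the adjunction `stalk_{f x} ⋙ extendScalars ⊣ restrictScalars ⋙ sky_{f x}` -/
noncomputable def stalkExtendAdj :
    DerSch.stalkFunctor Y (f x) ⋙ ModuleCat.extendScalars.{u, u, u} (f.stalkMap x).hom ⊣
      ModuleCat.restrictScalars (f.stalkMap x).hom ⋙ sky (f x) :=
  (stalkSkyAdj (f x)).comp (ModuleCat.extendRestrictScalarsAdj.{u, u, u} (f.stalkMap x).hom)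

/-- **The stalk of a pullback**: `(f^* A)_x ≅ A_{f x} ⊗_{O_{Y, f x}} O_{X, x}`, naturally in `A`. -/
noncomputable def stalkPullbackIso :
    Scheme.Modules.pullback f ⋙ DerSch.stalkFunctor X x ≅
      DerSch.stalkFunctor Y (f x) ⋙ ModuleCat.extendScalars.{u, u, u} (f.stalkMap x).hom :=
  (pullStalkAdj f x).leftAdjointUniq (stalkExtendAdj f x)

end Groth.Agent.Lib.Helper25.StalkSky
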