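import Mathlib
import Groth.Prelude.Def_DerSch
import Groth.Agent.Lib.Helper25.StalkPull
import Groth.Agent.Lib.Helper25.StalkExact

/-!
# Flat pullback preserves monomorphisms; separating families (helper25)

* `mono_pullback_map f φ`: for a flat morphism `f`, `f^*` of a monomorphism of `O`-modules is a monomorphism
  (stalkwise, via `stalkPullbackIso` and flatness of the stalk maps).
* `sum_app_apply`: sections of a finite sum of morphisms of modules.
* `mono_lift_of_separating`: a family `u i : F ⟶ G i` separating on sections gives `Mono (biproduct.lift u)`.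
* `separating_pullback`: flat pullback of a finite separating family is separating (EGA IV 11.9).
-/

set_option autoImplicit false
universe u
open TensorProduct CategoryTheory CategoryTheory.Limits AlgebraicGeometry Opposite TopologicalSpace

namespace Groth.Agent.Lib.Helper25.PullMonoFlat

open Groth.Agent.Lib.Helper25.StalkSky Groth.Agent.Lib.Helper25.StalkExact

variable {X Y : Scheme.{u}} (f : X ⟶ Y)

theorem extendScalars_map_injective_of_flat {R S : Type u} [CommRing R] [CommRing S] (φ : R →+* S)
    (hφ : φ.Flat) {A B : ModuleCat.{u} R} (i : A ⟶ B) (hi : Function.Injective i.hom) :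
    Function.Injective ((ModuleCat.extendScalars.{u, u, u} φ).map i).hom := by
  algebraize [φ]
  exact Module.Flat.lTensor_preserves_injective_linearMap (R := R) (M := S) i.hom hi

/-- `f^*` along a flat morphism preserves monomorphisms. -/
theorem mono_pullback_map [Flat f] {A B : Y.Modules} (φ : A ⟶ B) [Mono φ] :
    Mono ((Scheme.Modules.pullback f).map φ) := by
  apply mono_of_forall_stalk
  intro x
  have hnat := (stalkPullbackIso f x).hom.naturality φ
  have hmono : Mono ((DerSch.stalkFunctor Y (f x) ⋙
      ModuleCat.extendScalars.{u, u, u} (f.stalkMap x).hom).map φ) := by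
    rw [ModuleCat.mono_iff_injective]
    refine extendScalars_map_injective_of_flat (f.stalkMap x).hom (Flat.stalkMap f x)
      ((DerSch.stalkFunctor Y (f x)).map φ) ?_
    exact (ModuleCat.mono_iff_injective _).1 inferInstance
  have h1 : Mono ((Scheme.Modules.pullback f ⋙ DerSch.stalkFunctor X x).map φ ≫
      (stalkPullbackIso f x).hom.app B) := by
    rw [hnat]
    have : Mono ((stalkPullbackIso f x).hom.app A) := IsIso.mono_of_iso _
    exact mono_comp ((stalkPullbackIso f x).hom.app A) _
  exact @mono_of_mono _ _ _ _ _ ((DerSch.stalkFunctor X x).map ((Scheme.Modules.pullback f).map φ))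
    ((stalkPullbackIso f x).hom.app B) h1

end Groth.Agent.Lib.Helper25.PullMonoFlat

namespace Groth.Agent.Lib.Helper25.PullMonoFlat

open Groth.Agent.Lib.Helper25.StalkSky Groth.Agent.Lib.Helper25.StalkExact

variable {X Y : Scheme.{u}}

lemma sum_app_apply {A B : X.Modules} {ι : Type*} (s : Finset ι) (φ : ι → (A ⟶ B))
    (V : X.Opens) (t : ↑(A.presheaf.obj (op V))) :
    (Scheme.Modules.Hom.app (∑ i ∈ s, φ i) V) t =
      ∑ i ∈ s, (Scheme.Modules.Hom.app (φ i) V) t := by
  classical
  induction s using Finset.induction_on with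
  | empty => simp
  | insert a s ha ih =>
    rw [Finset.sum_insert ha, Finset.sum_insert ha, Scheme.Modules.Hom.add_app, ← ih]
    rfl

/-- A finite family `u i : F ⟶ G i` which is separating on sections induces a monomorphism into the biproduct. -/
theorem mono_lift_of_separating (F : X.Modules) {ι : Type u} (G : ι → X.Modules)
    [HasBiproduct G] (u : ∀ i, F ⟶ G i)
    (h : ∀ (V : X.Opens) (t : ↑(F.presheaf.obj (op V))),
      (∀ i, (Scheme.Modules.Hom.mapPresheaf (u i)).app (op V) t = 0) → t = 0) :
    Mono (biproduct.lift u) := by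
  have h1 : Mono ((Scheme.Modules.toPresheaf X).map (biproduct.lift u)) := by
    rw [NatTrans.mono_iff_mono_app]
    intro V
    rw [AddCommGrpCat.mono_iff_injective, injective_iff_map_eq_zero]
    intro t ht
    refine h V.unop t (fun i => ?_)
    have h2 : u i = biproduct.lift u ≫ biproduct.π G i := (biproduct.lift_π u i).symm
    rw [h2]
    change (Scheme.Modules.Hom.app (biproduct.π G i) V.unop)
      ((Scheme.Modules.Hom.app (biproduct.lift u) V.unop) t) = 0
    have ht' : (Scheme.Modules.Hom.app (biproduct.lift u) V.unop) t = 0 := ht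
    rw [ht', map_zero]
  exact Functor.mono_of_mono_map (Scheme.Modules.toPresheaf X) h1

/-- **Flat pullback of a finite separating family is separating.** -/
theorem separating_pullback {X X' : Scheme.{u}} (F : X.Modules) {ι : Type u} [Finite ι]
    (G : ι → X.Modules) (u : ∀ i, F ⟶ G i) (g : X' ⟶ X) [Flat g]
    (h : ∀ (V : X.Opens) (t : ↑(F.presheaf.obj (op V))),
      (∀ i, (Scheme.Modules.Hom.mapPresheaf (u i)).app (op V) t = 0) → t = 0) :
    ∀ (V : X'.Opens) (t : ↑(((Scheme.Modules.pullback g).obj F).presheaf.obj (op V))),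
      (∀ i, (Scheme.Modules.Hom.mapPresheaf ((Scheme.Modules.pullback g).map (u i))).app (op V) t = 0) →
        t = 0 := by
  classical
  haveI := Fintype.ofFinite ι
  haveI : HasFiniteBiproducts X.Modules := Abelian.hasFiniteBiproducts
  intro V t ht
  haveI : Mono (biproduct.lift u) := mono_lift_of_separating F G u h
  haveI : Mono ((Scheme.Modules.pullback g).map (biproduct.lift u)) := mono_pullback_map g _
  apply app_injective_of_mono ((Scheme.Modules.pullback g).map (biproduct.lift u)) V
  rw [map_zero]
  set Φ := (Scheme.Modules.pullback g).map (biproduct.lift u) with hΦ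
  have hid : 𝟙 ((Scheme.Modules.pullback g).obj (⨁ G)) =
      ∑ i : ι, (Scheme.Modules.pullback g).map (biproduct.π G i) ≫
        (Scheme.Modules.pullback g).map (biproduct.ι G i) := by
    have htot : 𝟙 (⨁ G) = ∑ i : ι, biproduct.π G i ≫ biproduct.ι G i :=
      (IsBilimit.total (biproduct.isBilimit G)).symm
    rw [← (Scheme.Modules.pullback g).map_id, htot, Functor.map_sum]
    simp only [Functor.map_comp]
  have h3 : (Scheme.Modules.Hom.app (𝟙 ((Scheme.Modules.pullback g).obj (⨁ G))) V)
      ((Scheme.Modules.Hom.app Φ V) t) = (Scheme.Modules.Hom.app Φ V) t := rfl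
  rw [← h3, hid, sum_app_apply]
  refine Finset.sum_eq_zero (fun i _ => ?_)
  have h4 : (Scheme.Modules.Hom.app ((Scheme.Modules.pullback g).map (u i)) V) t = 0 := ht i
  have h5 : (Scheme.Modules.pullback g).map (u i) = Φ ≫ (Scheme.Modules.pullback g).map (biproduct.π G i) := by
    rw [hΦ, ← Functor.map_comp, biproduct.lift_π]
  rw [h5] at h4
  change (Scheme.Modules.Hom.app ((Scheme.Modules.pullback g).map (biproduct.ι G i)) V)
    ((Scheme.Modules.Hom.app ((Scheme.Modules.pullback g).map (biproduct.π G i)) V)
      ((Scheme.Modules.Hom.app Φ V) t)) = 0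
  have h6 : (Scheme.Modules.Hom.app ((Scheme.Modules.pullback g).map (biproduct.π G i)) V)
      ((Scheme.Modules.Hom.app Φ V) t) = 0 := h4
  rw [h6, map_zero]

end Groth.Agent.Lib.Helper25.PullMonoFlat
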