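import Mathlib
import Groth.Agent.Lib.Helper25.PullMonoFlat
import Groth.Agent.Lib.Helper21.KInjAdj

/-!
# Exactness of `f^*` for flat `f` (helper25)

* instances for `[Flat f]`: `(Scheme.Modules.pullback f).PreservesMonomorphisms`, `.PreservesHomology`,
  `PreservesFiniteLimits (Scheme.Modules.pullback f)`.
* `isKInjective_pushforward f I hI`: `f_*` of a K-injective complex along a flat morphism is K-injective
  (via helper21 `KInjAdj.isKInjective_obj`).
-/

set_option autoImplicit false
universe u
open CategoryTheory CategoryTheory.Limits AlgebraicGeometry

namespace Groth.Agent.Lib.Helper25.PullFlatExact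

variable {X Y : Scheme.{u}} (f : X ⟶ Y) [Flat f]

instance preservesMonomorphisms_pullback : (Scheme.Modules.pullback f).PreservesMonomorphisms where
  preserves φ _ := Groth.Agent.Lib.Helper25.PullMonoFlat.mono_pullback_map f φ

instance preservesHomology_pullback : (Scheme.Modules.pullback f).PreservesHomology :=
  Functor.preservesHomology_of_preservesMonos_and_cokernels _

instance preservesFiniteLimits_pullback : PreservesFiniteLimits (Scheme.Modules.pullback f) :=
  Functor.preservesFiniteLimits_of_preservesHomology _

/-- `f_*` of a K-injective complex along a flat morphism is K-injective. -/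
theorem isKInjective_pushforward (I : CochainComplex X.Modules ℤ) (hI : I.IsKInjective) :
    CochainComplex.IsKInjective
      (((Scheme.Modules.pushforward f).mapHomologicalComplex (ComplexShape.up ℤ)).obj I) :=
  Groth.Agent.Lib.Helper21.KInjAdj.isKInjective_obj (Scheme.Modules.pullbackPushforwardAdjunction f) I

end Groth.Agent.Lib.Helper25.PullFlatExact
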