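import Mathlib
import Groth.Agent.Lib.Helper21.ModOpenBC
import Groth.Agent.Lib.Helper12.PullTensor

/-!
# Pullback of modules commutes with restriction to opens, compatibly with the units (helper25)

For `f : X ⟶ Y`, `V ⊆ Y` open, `U = f⁻¹V`, `g = f ∣_ V : U ⟶ V`:

* `σ f V : j'_* ⋙ f_* ≅ g_* ⋙ j_*`, `adjL`, `adjR` (the two composite adjunctions),
  `cIso f V : j^* ⋙ g^* ≅ f^* ⋙ j'^*` (the conjugate of `σ`).
* `bcIso_eq_mate`: helper21's `bcIso f V : f_* ⋙ j^* ≅ j'^* ⋙ g_*` is the mate of `σ`.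
* `unit_cIso`: `η^g_{N|_V} ≫ g_*(c_N) = (η^f_N)|_V ≫ bcIso_{f^*N}`.
* `cIso_inv_unitSec`: on sections, `c⁻¹` carries `unitSec f N (j ''ᵁ W) n` (transported) to `unitSec g (N|_V) W n`.
-/

set_option autoImplicit false
universe u
open CategoryTheory CategoryTheory.Limits AlgebraicGeometry Opposite TopologicalSpace

namespace Groth.Agent.Lib.Helper25.PFRes1

open Scheme.Modules Groth.Agent.Lib.helper21.ModOpenBC Groth.Agent.Lib.helper12.PullTensor

variable {X Y : Scheme.{u}} (f : X ⟶ Y) (V : Y.Opens)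

/-- `j'_* ⋙ f_* ≅ g_* ⋙ j_*` -/
noncomputable def σ :
    pushforward (f ⁻¹ᵁ V).ι ⋙ pushforward f ≅ pushforward (f ∣_ V) ⋙ pushforward V.ι :=
  pushforwardComp (f ⁻¹ᵁ V).ι f ≪≫ pushforwardCongr (morphismRestrict_ι f V).symm ≪≫
    (pushforwardComp (f ∣_ V) V.ι).symm

/-- `f^* ⋙ j'^* ⊣ j'_* ⋙ f_*` -/
noncomputable def adjL :
    Scheme.Modules.pullback f ⋙ restrictFunctor (f ⁻¹ᵁ V).ι ⊣ pushforward (f ⁻¹ᵁ V).ι ⋙ pushforward f :=
  (pbAdj f).comp (restrictAdjunction (f ⁻¹ᵁ V).ι)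

/-- `j^* ⋙ g^* ⊣ g_* ⋙ j_*` -/
noncomputable def adjR :
    restrictFunctor V.ι ⋙ Scheme.Modules.pullback (f ∣_ V) ⊣ pushforward (f ∣_ V) ⋙ pushforward V.ι :=
  (restrictAdjunction V.ι).comp (pbAdj (f ∣_ V))

/-- **`(f^*N)|_U ≅ g^*(N|_V)`**: `j^* ⋙ g^* ≅ f^* ⋙ j'^*` -/
noncomputable def cIso :
    restrictFunctor V.ι ⋙ Scheme.Modules.pullback (f ∣_ V) ≅ Scheme.Modules.pullback f ⋙ restrictFunctor (f ⁻¹ᵁ V).ι :=
  (conjugateIsoEquiv (adjL f V) (adjR f V)).symm (σ f V)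

lemma unit_cIso_aux (N : Y.Modules) :
    (adjL f V).unit.app N ≫ (σ f V).hom.app _ =
      (adjR f V).unit.app N ≫ (pushforward (f ∣_ V) ⋙ pushforward V.ι).map ((cIso f V).hom.app N) :=
  unit_conjugateEquiv_symm (adjL f V) (adjR f V) (σ f V).hom N

lemma restrictFunctor_map_app {Z : Scheme.{u}} (k : Z ⟶ Y) [IsOpenImmersion k] {A B : Y.Modules}
    (φ : A ⟶ B) (W : Z.Opens) :
    Hom.app ((restrictFunctor k).map φ) W = Hom.app φ (k ''ᵁ W) := rfl

lemma preimage_eq (O : Y.Opens) :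
    (f ∣_ V) ⁻¹ᵁ (V.ι ⁻¹ᵁ O) = (f ⁻¹ᵁ V).ι ⁻¹ᵁ (f ⁻¹ᵁ O) := by
  change ((f ∣_ V) ≫ V.ι) ⁻¹ᵁ O = ((f ⁻¹ᵁ V).ι ≫ f) ⁻¹ᵁ O
  rw [morphismRestrict_ι]

lemma σ_hom_app_app (T : (↑(f ⁻¹ᵁ V) : Scheme.{u}).Modules) (O : Y.Opens) :
    Hom.app ((σ f V).hom.app T) O =
      T.presheaf.map (eqToHom (preimage_eq f V O)).op := by
  unfold σ
  rw [Iso.trans_hom, Iso.trans_hom, NatTrans.comp_app, NatTrans.comp_app,
    Scheme.Modules.Hom.comp_app, Scheme.Modules.Hom.comp_app]
  erw [pushforwardComp_hom_app_app, Category.id_comp, pushforwardCongr_hom_app_app,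
    pushforwardComp_inv_app_app, Category.comp_id]
  rfl

/-- helper21's open base change isomorphism is the mate of `σ` -/
theorem bcIso_eq_mate (M : X.Modules) :
    (bcIso f V).hom.app M =
      (restrictFunctor V.ι).map ((pushforward f).map
          ((restrictAdjunction (f ⁻¹ᵁ V).ι).unit.app M) ≫
        (σ f V).hom.app ((restrictFunctor (f ⁻¹ᵁ V).ι).obj M)) ≫
      (restrictAdjunction V.ι).counit.app
        ((pushforward (f ∣_ V)).obj ((restrictFunctor (f ⁻¹ᵁ V).ι).obj M)) := by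
  refine Scheme.Modules.hom_ext _ _ fun W => ?_
  have h1 := restrictAdjunction_counit_app_app V.ι
    ((pushforward (f ∣_ V)).obj ((restrictFunctor (f ⁻¹ᵁ V).ι).obj M)) W
  have h2 := restrictAdjunction_unit_app_app (f ⁻¹ᵁ V).ι M (f ⁻¹ᵁ (V.ι ''ᵁ W))
  rw [Scheme.Modules.Hom.comp_app, h1, restrictFunctor_map_app, Scheme.Modules.Hom.comp_app,
    pushforward_map_app, h2, σ_hom_app_app]
  erw [bcIsoApp_hom_app]
  rw [pushforward_obj_presheaf_map, restrict_map, restrict_map]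
  change M.presheaf.map _ = (M.presheaf.map _ ≫ M.presheaf.map _) ≫ M.presheaf.map _
  rw [← Functor.map_comp, ← Functor.map_comp]
  exact congrArg M.presheaf.map (Subsingleton.elim _ _)

/-- **compatibility of `cIso` with the units of the pullback-pushforward adjunctions** -/
theorem unit_cIso (N : Y.Modules) :
    (pbAdj (f ∣_ V)).unit.app ((restrictFunctor V.ι).obj N) ≫
        (pushforward (f ∣_ V)).map ((cIso f V).hom.app N) =
      (restrictFunctor V.ι).map ((pbAdj f).unit.app N) ≫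
        (bcIso f V).hom.app ((Scheme.Modules.pullback f).obj N) := by
  apply ((restrictAdjunction V.ι).homEquiv _ _).injective
  have hR : (restrictFunctor V.ι).map ((pbAdj f).unit.app N) ≫
        (bcIso f V).hom.app ((Scheme.Modules.pullback f).obj N) =
      ((restrictAdjunction V.ι).homEquiv _ _).symm ((pbAdj f).unit.app N ≫
        ((pushforward f).map ((restrictAdjunction (f ⁻¹ᵁ V).ι).unit.app
            ((Scheme.Modules.pullback f).obj N)) ≫
          (σ f V).hom.app ((restrictFunctor (f ⁻¹ᵁ V).ι).obj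
            ((Scheme.Modules.pullback f).obj N)))) := by
    rw [Adjunction.homEquiv_counit, Functor.map_comp, Category.assoc, bcIso_eq_mate]
  refine Eq.trans ?_ (congrArg _ hR.symm)
  refine Eq.trans ?_ (Equiv.apply_symm_apply ((restrictAdjunction V.ι).homEquiv N _) _).symm
  rw [Adjunction.homEquiv_unit, Functor.map_comp]
  have h := unit_cIso_aux f V N
  unfold adjL adjR at h
  rw [Adjunction.comp_unit_app, Adjunction.comp_unit_app, Functor.comp_map, Category.assoc,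
    Category.assoc] at h
  exact h.symm

/-- **`cIso` on the sections `unitSec`** -/
theorem cIso_hom_unitSec (N : Y.Modules) (W : (↑V : Scheme.{u}).Opens)
    (n : N.val.obj (op (V.ι ''ᵁ W))) :
    (((cIso f V).hom.app N).val.app (op ((f ∣_ V) ⁻¹ᵁ W))).hom
        (unitSec (f ∣_ V) ((restrictFunctor V.ι).obj N) W n) =
      ((Scheme.Modules.pullback f).obj N).val.map
        (eqToHom (image_morphismRestrict_preimage f V W)).op (unitSec f N (V.ι ''ᵁ W) n) :=
  congrArg (fun ψ : (restrictFunctor V.ι).obj N ⟶ (pushforward (f ∣_ V)).obj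
      ((restrictFunctor (f ⁻¹ᵁ V).ι).obj ((Scheme.Modules.pullback f).obj N)) =>
    (ψ.val.app (op W)).hom n) (unit_cIso f V N)

theorem cIso_inv_unitSec (N : Y.Modules) (W : (↑V : Scheme.{u}).Opens)
    (n : N.val.obj (op (V.ι ''ᵁ W))) :
    (((cIso f V).inv.app N).val.app (op ((f ∣_ V) ⁻¹ᵁ W))).hom
        (((Scheme.Modules.pullback f).obj N).val.map
          (eqToHom (image_morphismRestrict_preimage f V W)).op (unitSec f N (V.ι ''ᵁ W) n)) =
      unitSec (f ∣_ V) ((restrictFunctor V.ι).obj N) W n := by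
  rw [← cIso_hom_unitSec]
  exact congrArg (fun ψ : (restrictFunctor V.ι ⋙ Scheme.Modules.pullback (f ∣_ V)).obj N ⟶
      (restrictFunctor V.ι ⋙ Scheme.Modules.pullback (f ∣_ V)).obj N =>
    (ψ.val.app (op ((f ∣_ V) ⁻¹ᵁ W))).hom (unitSec (f ∣_ V) ((restrictFunctor V.ι).obj N) W n))
    ((cIso f V).hom_inv_id_app N)

end Groth.Agent.Lib.Helper25.PFRes1
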