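import Mathlib

/-!
# Left derived functors are computed on adapted objects (helper25)

The missing half of the "K-flat gate": how to compute a left derived functor that is only known to
exist (as a right Kan extension along the localization functor), e.g. `K ⊗^L M` under a
`HasLTensorMod`-type binder.

## Abstract version (triangulated categories)
`C` triangulated, `B` a triangulated subcategory (closed under isos), `L : C ⥤ D` a localization
functor for `B.trW`, `A` a triangulated subcategory closed under isomorphisms such that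
`hres : ∀ X, ∃ P (s : P ⟶ X), A P ∧ B.trW s`.
* `isVerdierLeftLocalizing A B hres : A.IsVerdierLeftLocalizing B`
* `isLocalization_ι_comp A B hres L : (A.ι ⋙ L).IsLocalization (B.inverseImage A.ι).trW`
* `exists_arrow_resolution`
* `isIso_counit_app A B hres L Φ hΦ LF ε P hP : IsIso (ε.app P)` for any functor `Φ : C ⥤ H`
  inverting `B.trW`-morphisms between objects of `A` and any left derived functor `(LF, ε)` of `Φ`.

## Cochain complexes
`P₀ : ObjectProperty (CochainComplex A₀ ℤ)` with `hzero` (contains a zero complex), `hshift` (stable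
under shifts), `hcone` (stable under mapping cones), `hres₀` (every complex receives a quasi-iso
from a complex in `P₀`), and `Φ : K(A₀) ⥤ H` with `hΦ₀` (inverts quasi-isos between complexes in `P₀`):
* `strictP P₀`, `isTriangulated_strictP`
* `isIso_counit_app_quotient_obj P₀ hzero hshift hcone hres₀ Φ hΦ₀ LF ε E hE :
    IsIso (ε.app ((quotient _ _).obj E))`
* `nonempty_totalLeftDerived_iso : Nonempty ((Φ.totalLeftDerived Qh W).obj (Q.obj E) ≅ Φ.obj (quotient.obj E))`
-/

set_option autoImplicit false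
universe v₁ v₂ v₃ u₁ u₂ u₃
open CategoryTheory CategoryTheory.Limits Pretriangulated

namespace Groth.Agent.Lib.Helper25.LDerAdapted

variable {C : Type u₁} [Category.{v₁} C] [HasZeroObject C] [HasShift C ℤ] [Preadditive C]
  [∀ n : ℤ, (shiftFunctor C n).Additive] [Pretriangulated C] [IsTriangulated C]
  {D : Type u₂} [Category.{v₂} D] {H : Type u₃} [Category.{v₃} H]
  (A B : ObjectProperty C) [A.IsTriangulated] [A.IsClosedUnderIsomorphisms]
  [B.IsTriangulated] [B.IsClosedUnderIsomorphisms]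
  (hres : ∀ X : C, ∃ (P : C) (s : P ⟶ X), A P ∧ B.trW s)

include hres in
lemma isVerdierLeftLocalizing : A.IsVerdierLeftLocalizing B := by
  rw [ObjectProperty.isVerdierLeftLocalizing_iff]
  intro X Y s hY hs
  obtain ⟨Z, a, hZ, ha⟩ := hres X
  refine ⟨Z, a ≫ s, a, hZ, ?_, rfl⟩
  have h : B.trW (a ≫ s) := MorphismProperty.comp_mem _ _ _ ha hs
  rw [ObjectProperty.trW_iff] at h ⊢
  obtain ⟨W, g, k, hT, hW⟩ := h
  exact ⟨W, g, k, hT, A.ext_of_isTriangulatedClosed₃ _ hT hZ hY, hW⟩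

variable (L : C ⥤ D) [L.IsLocalization B.trW]

include hres in
lemma isLocalization_ι_comp : (A.ι ⋙ L).IsLocalization (B.inverseImage A.ι).trW := by
  haveI := isVerdierLeftLocalizing A B hres
  haveI : L.EssSurj := Localization.essSurj L B.trW
  haveI : (A.ι ⋙ L).EssSurj := ⟨fun Y => by
    obtain ⟨P, s, hP, hs⟩ := hres (L.objPreimage Y)
    haveI := Localization.inverts L B.trW s hs
    exact ⟨⟨P, hP⟩, ⟨asIso (L.map s) ≪≫ L.objObjPreimageIso Y⟩⟩⟩
  exact (A.triangulatedLocalizerMorphism B).isLocalization_of_isLocalizedFullyFaithful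
    (L₂ := L) (L₁ := A.ι ⋙ L) (F := 𝟭 D) (Functor.rightUnitor _).symm

omit [A.IsTriangulated] [A.IsClosedUnderIsomorphisms] [B.IsClosedUnderIsomorphisms] in
include hres in
lemma exists_arrow_resolution {X Y : C} (f : X ⟶ Y) {PX PY : C} (sX : PX ⟶ X) (sY : PY ⟶ Y)
    (hsY : B.trW sY) :
    ∃ (P'' : C) (t : P'' ⟶ PX) (g : P'' ⟶ PY), A P'' ∧ B.trW t ∧ t ≫ sX ≫ f = g ≫ sY := by
  obtain ⟨ψ, hψ⟩ := (MorphismProperty.LeftFraction.mk (W := B.trW) (sX ≫ f) sY
    hsY).exists_rightFraction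
  obtain ⟨P'', u, hP'', hu⟩ := hres ψ.X'
  refine ⟨P'', u ≫ ψ.s, u ≫ ψ.f, hP'', MorphismProperty.comp_mem _ _ _ hu ψ.hs, ?_⟩
  dsimp at hψ
  rw [Category.assoc, Category.assoc, hψ]

variable (Φ : C ⥤ H)
  (hΦ : ∀ ⦃P P' : C⦄ (s : P ⟶ P'), A P → A P' → B.trW s → IsIso (Φ.map s))

include hΦ in
omit [B.IsClosedUnderIsomorphisms] [A.IsClosedUnderIsomorphisms] [IsTriangulated C]
  [B.IsTriangulated] in
lemma isInvertedBy_ι_comp : (B.inverseImage A.ι).trW.IsInvertedBy (A.ι ⋙ Φ) := by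
  intro P P' f hf
  rw [ObjectProperty.trW_inverseImage_ι_iff] at hf
  exact hΦ f.hom P.property P'.property
    (ObjectProperty.trW_monotone (fun _ h => h.2) _ hf)

variable (LF : D ⥤ H) (ε : L ⋙ LF ⟶ Φ) [LF.IsLeftDerivedFunctor ε B.trW]

include hres hΦ in
/-- The counit of a left derived functor is invertible at adapted objects. -/
theorem isIso_counit_app (P : C) (hP : A P) : IsIso (ε.app P) := by
  classical
  haveI hloc := isLocalization_ι_comp A B hres L
  have hinv := isInvertedBy_ι_comp A B Φ hΦ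
  let G : D ⥤ H := Localization.lift (A.ι ⋙ Φ) hinv (A.ι ⋙ L)
  let e₀ : (A.ι ⋙ L) ⋙ G ≅ A.ι ⋙ Φ := Localization.fac (A.ι ⋙ Φ) hinv (A.ι ⋙ L)
  choose R s hR hs using hres
  haveI : ∀ X, IsIso (L.map (s X)) := fun X => Localization.inverts L B.trW _ (hs X)
  let βapp : ∀ X : C, G.obj (L.obj X) ⟶ Φ.obj X := fun X =>
    inv (G.map (L.map (s X))) ≫ e₀.hom.app ⟨R X, hR X⟩ ≫ Φ.map (s X)
  have e₀nat : ∀ {P P' : C} (hP : A P) (hP' : A P') (g : P ⟶ P'),
      G.map (L.map g) ≫ e₀.hom.app ⟨P', hP'⟩ = e₀.hom.app ⟨P, hP⟩ ≫ Φ.map g := by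
    intro P P' hP hP' g
    exact e₀.hom.naturality (X := ⟨P, hP⟩) (Y := ⟨P', hP'⟩) (A.homMk g)
  have βnat : ∀ {X Y : C} (f : X ⟶ Y), G.map (L.map f) ≫ βapp Y = βapp X ≫ Φ.map f := by
    intro X Y f
    obtain ⟨P'', t, g, hP'', ht, fac⟩ :=
      exists_arrow_resolution A B (fun X => ⟨R X, s X, hR X, hs X⟩) f (s X) (s Y) (hs Y)
    haveI : IsIso (L.map t) := Localization.inverts L B.trW _ ht
    have h1 : G.map (L.map f) ≫ inv (G.map (L.map (s Y))) =
        inv (G.map (L.map (s X))) ≫ inv (G.map (L.map t)) ≫ G.map (L.map g) := by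
      rw [IsIso.comp_inv_eq, Category.assoc, Category.assoc, IsIso.eq_inv_comp, IsIso.eq_inv_comp]
      simp only [← Functor.map_comp]
      rw [fac]
    have h2 := e₀nat hP'' (hR Y) g
    have h3 := e₀nat hP'' (hR X) t
    have h4 : inv (G.map (L.map t)) ≫ e₀.hom.app ⟨P'', hP''⟩ ≫ Φ.map t =
        e₀.hom.app ⟨R X, hR X⟩ := by
      rw [IsIso.inv_comp_eq, h3]
    calc G.map (L.map f) ≫ βapp Y
        = (G.map (L.map f) ≫ inv (G.map (L.map (s Y)))) ≫ e₀.hom.app ⟨R Y, hR Y⟩ ≫
            Φ.map (s Y) := by simp only [βapp, Category.assoc]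
      _ = inv (G.map (L.map (s X))) ≫ inv (G.map (L.map t)) ≫
            (G.map (L.map g) ≫ e₀.hom.app ⟨R Y, hR Y⟩) ≫ Φ.map (s Y) := by
          rw [h1]; simp only [Category.assoc]
      _ = inv (G.map (L.map (s X))) ≫ inv (G.map (L.map t)) ≫
            e₀.hom.app ⟨P'', hP''⟩ ≫ Φ.map (g ≫ s Y) := by
          rw [h2]; simp only [Category.assoc, Functor.map_comp]
      _ = inv (G.map (L.map (s X))) ≫ (inv (G.map (L.map t)) ≫
            e₀.hom.app ⟨P'', hP''⟩ ≫ Φ.map t) ≫ Φ.map (s X) ≫ Φ.map f := by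
          rw [← fac]; simp only [Category.assoc, Functor.map_comp]
      _ = βapp X ≫ Φ.map f := by
          rw [h4]; simp only [βapp, Category.assoc]
  let β : L ⋙ G ⟶ Φ := { app := βapp, naturality := fun X Y f => βnat f }
  have βA : ∀ (Q : C) (hQ : A Q), β.app Q = e₀.hom.app ⟨Q, hQ⟩ := by
    intro Q hQ
    have := e₀nat (hR Q) hQ (s Q)
    change inv (G.map (L.map (s Q))) ≫ e₀.hom.app ⟨R Q, hR Q⟩ ≫ Φ.map (s Q) = _
    rw [IsIso.inv_comp_eq, this]
  let γ : G ⟶ LF := LF.leftDerivedLift ε B.trW G β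
  have hγ : ∀ X, γ.app (L.obj X) ≫ ε.app X = β.app X :=
    fun X => LF.leftDerived_fac_app ε B.trW G β X
  let τ : (A.ι ⋙ L) ⋙ LF ⟶ (A.ι ⋙ L) ⋙ G :=
    (Functor.associator _ _ _).hom ≫ Functor.whiskerLeft A.ι ε ≫ e₀.inv
  let δ : LF ⟶ G := Localization.liftNatTrans (A.ι ⋙ L) (B.inverseImage A.ι).trW _ _ LF G τ
  have hδ : ∀ (Q : C) (hQ : A Q), δ.app (L.obj Q) = ε.app Q ≫ e₀.inv.app ⟨Q, hQ⟩ := by
    intro Q hQ
    have := Localization.liftNatTrans_app (A.ι ⋙ L) (B.inverseImage A.ι).trW _ _ LF G τ ⟨Q, hQ⟩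
    simpa [τ] using this
  have key : δ ≫ γ = 𝟙 LF := by
    apply LF.leftDerived_ext ε B.trW
    ext X
    simp only [NatTrans.comp_app, Functor.whiskerLeft_app, NatTrans.id_app]
    rw [Category.assoc, hγ]
    change δ.app (L.obj X) ≫ β.app X = 𝟙 (LF.obj (L.obj X)) ≫ ε.app X
    rw [Category.id_comp]
    have n1 : LF.map (L.map (s X)) ≫ δ.app (L.obj X) =
        δ.app (L.obj (R X)) ≫ G.map (L.map (s X)) := δ.naturality (L.map (s X))
    have n2 : LF.map (L.map (s X)) ≫ ε.app X = ε.app (R X) ≫ Φ.map (s X) :=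
      ε.naturality (s X)
    haveI : IsIso (LF.map (L.map (s X))) := inferInstance
    rw [← cancel_epi (LF.map (L.map (s X))), ← Category.assoc, n1, n2, hδ (R X) (hR X)]
    change ((ε.app (R X) ≫ e₀.inv.app ⟨R X, hR X⟩) ≫ G.map (L.map (s X))) ≫
      inv (G.map (L.map (s X))) ≫ e₀.hom.app ⟨R X, hR X⟩ ≫ Φ.map (s X) = _
    rw [Category.assoc, IsIso.hom_inv_id_assoc, Category.assoc, Iso.inv_hom_id_app_assoc]
  have h1 : (inv (e₀.hom.app ⟨P, hP⟩) ≫ γ.app (L.obj P)) ≫ ε.app P = 𝟙 _ := by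
    rw [Category.assoc, hγ, βA P hP, IsIso.inv_hom_id]
  have h2 : ε.app P ≫ (inv (e₀.hom.app ⟨P, hP⟩) ≫ γ.app (L.obj P)) = 𝟙 _ := by
    have := congr_app key (L.obj P)
    rw [NatTrans.comp_app, hδ P hP, NatTrans.id_app] at this
    change _ = 𝟙 (LF.obj (L.obj P))
    rw [← this, Category.assoc]
    congr 2
    rw [IsIso.inv_eq_of_hom_inv_id (Iso.hom_inv_id_app e₀ _)]
  exact ⟨_, h2, h1⟩

end Groth.Agent.Lib.Helper25.LDerAdapted

namespace Groth.Agent.Lib.Helper25.LDerAdapted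

universe w v u

open HomotopyCategory

variable {A₀ : Type u} [Category.{v} A₀] [Abelian A₀]
  (P₀ : ObjectProperty (CochainComplex A₀ ℤ))

/-- The strict image in the homotopy category of a property of cochain complexes. -/
def strictP : ObjectProperty (HomotopyCategory A₀ (ComplexShape.up ℤ)) :=
  P₀.strictMap (quotient _ _)

variable {P₀} in
lemma strictP_quotient_obj_iff (K : CochainComplex A₀ ℤ) :
    strictP P₀ ((quotient _ _).obj K) ↔ P₀ K := by
  refine ⟨?_, fun h ↦ ⟨_, h⟩⟩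
  simp only [strictP, ObjectProperty.strictMap_iff]
  rintro ⟨L, h, hL⟩
  obtain rfl : L = K := congr_arg Quotient.as hL
  exact h

variable (hzero : ∃ Z : CochainComplex A₀ ℤ, IsZero Z ∧ P₀ Z)
  (hshift : ∀ (E : CochainComplex A₀ ℤ) (n : ℤ), P₀ E → P₀ (E⟦n⟧))
  (hcone : ∀ {E E' : CochainComplex A₀ ℤ} (f : E ⟶ E'), P₀ E → P₀ E' →
    P₀ (CochainComplex.mappingCone f))

include hzero in
lemma containsZero_strictP : (strictP P₀).ContainsZero where
  exists_zero := by
    obtain ⟨Z, hZ, hPZ⟩ := hzero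
    exact ⟨(quotient _ _).obj Z, Functor.map_isZero _ hZ, (strictP_quotient_obj_iff Z).2 hPZ⟩

include hshift in
lemma isStableUnderShift_strictP : (strictP P₀).IsStableUnderShift ℤ where
  isStableUnderShiftBy n :=
    { le_shift K hK := by
        obtain ⟨K : CochainComplex _ _, rfl⟩ := K.quotient_obj_surjective
        rw [strictP_quotient_obj_iff] at hK
        rw [ObjectProperty.prop_shift_iff, shift_quotient_obj, strictP_quotient_obj_iff]
        exact hshift K n hK }

include hcone in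
lemma isTriangulatedClosed₃_strictP : (strictP P₀).IsTriangulatedClosed₃ where
  ext₃' T hT h₁ h₂ := by
    obtain ⟨X₁, X₂, X₃, φ, g, h⟩ := T
    obtain ⟨K₁, hK₁, rfl⟩ := (ObjectProperty.strictMap_iff _ _ _).1 h₁
    obtain ⟨K₂, hK₂, rfl⟩ := (ObjectProperty.strictMap_iff _ _ _).1 h₂
    obtain ⟨f, rfl⟩ := (quotient _ _).map_surjective φ
    refine ⟨(quotient _ _).obj (CochainComplex.mappingCone f),
      (strictP_quotient_obj_iff _).2 (hcone f hK₁ hK₂),
      ⟨Triangle.π₃.mapIso (isoTriangleOfIso₁₂ _ _ hT (mappingCone_triangleh_distinguished f)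
        (Iso.refl _) (Iso.refl _) ?_)⟩⟩
    exact (Category.comp_id _).trans (Category.id_comp _).symm

include hzero hshift hcone in
lemma isTriangulated_strictP : (strictP P₀).IsTriangulated := by
  haveI := containsZero_strictP P₀ hzero
  haveI := isStableUnderShift_strictP P₀ hshift
  haveI := isTriangulatedClosed₃_strictP P₀ hcone
  exact { toIsTriangulatedClosed₂ := .of_isTriangulatedClosed₃ }

variable [HasDerivedCategory.{w} A₀] {H : Type u₃} [Category.{v₃} H]
  (hres₀ : ∀ E : CochainComplex A₀ ℤ, ∃ (E' : CochainComplex A₀ ℤ) (f : E' ⟶ E),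
    P₀ E' ∧ QuasiIso f)
  (Φ : HomotopyCategory A₀ (ComplexShape.up ℤ) ⥤ H)
  (hΦ₀ : ∀ {E E' : CochainComplex A₀ ℤ} (f : E ⟶ E'), P₀ E → P₀ E' → QuasiIso f →
    IsIso (Φ.map ((quotient _ _).map f)))
  (LF : DerivedCategory A₀ ⥤ H) (ε : DerivedCategory.Qh ⋙ LF ⟶ Φ)
  [LF.IsLeftDerivedFunctor ε (HomotopyCategory.quasiIso A₀ (ComplexShape.up ℤ))]

include hzero hshift hcone hres₀ hΦ₀ in
/-- **Left derived functors are computed on adapted complexes.**  Let `P₀` be a class of cochain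
complexes containing a zero complex, stable under shifts and mapping cones, such that every
complex receives a quasi-isomorphism from a complex in `P₀` and `Φ : K(A) ⥤ H` inverts
quasi-isomorphisms between complexes in `P₀`.  Then the counit `LF(Q E) ⟶ Φ(E)` of any left
derived functor `(LF, ε)` of `Φ` is an isomorphism for `E` in `P₀`. -/
theorem isIso_counit_app_quotient_obj (E : CochainComplex A₀ ℤ) (hE : P₀ E) :
    IsIso (ε.app ((quotient _ _).obj E)) := by
  haveI := isTriangulated_strictP P₀ hzero hshift hcone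
  have hW : HomotopyCategory.quasiIso A₀ (ComplexShape.up ℤ) = (subcategoryAcyclic A₀).trW :=
    quasiIso_eq_trW_subcategoryAcyclic _
  haveI : DerivedCategory.Qh.IsLocalization (subcategoryAcyclic A₀).trW := by
    rw [← hW]; infer_instance
  haveI : LF.IsLeftDerivedFunctor ε (subcategoryAcyclic A₀).trW :=
    (Functor.isLeftDerivedFunctor_iff_isRightKanExtension LF ε _).2
      ((Functor.isLeftDerivedFunctor_iff_isRightKanExtension LF ε
        (HomotopyCategory.quasiIso A₀ (ComplexShape.up ℤ))).1 inferInstance)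
  refine isIso_counit_app (strictP P₀).isoClosure (subcategoryAcyclic A₀) ?_ DerivedCategory.Qh Φ
    ?_ LF ε _ ⟨_, (strictP_quotient_obj_iff E).2 hE, ⟨Iso.refl _⟩⟩
  · intro X
    obtain ⟨K, rfl⟩ := X.quotient_obj_surjective
    obtain ⟨E', f, hE', hf⟩ := hres₀ K
    refine ⟨(quotient _ _).obj E', (quotient _ _).map f,
      ObjectProperty.le_isoClosure _ _ ((strictP_quotient_obj_iff E').2 hE'), ?_⟩
    rw [← hW, quotient_map_mem_quasiIso_iff, HomologicalComplex.mem_quasiIso_iff]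
    exact hf
  · rintro Q Q' s ⟨Q₀, hQ₀, ⟨e⟩⟩ ⟨Q₀', hQ₀', ⟨e'⟩⟩ hs
    obtain ⟨K, hK, rfl⟩ := (ObjectProperty.strictMap_iff _ _ _).1 hQ₀
    obtain ⟨K', hK', rfl⟩ := (ObjectProperty.strictMap_iff _ _ _).1 hQ₀'
    obtain ⟨f, hf⟩ := (quotient _ _).map_surjective (e.inv ≫ s ≫ e'.hom)
    have hqf : QuasiIso f := by
      rw [← HomologicalComplex.mem_quasiIso_iff, ← quotient_map_mem_quasiIso_iff, hf, hW]
      exact (MorphismProperty.cancel_left_of_respectsIso _ e.inv _).2
        ((MorphismProperty.cancel_right_of_respectsIso _ _ e'.hom).2 hs)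
    haveI := hΦ₀ f hK hK' hqf
    have hs' : s = e.hom ≫ (quotient _ _).map f ≫ e'.inv := by
      rw [hf]; simp
    rw [hs', Functor.map_comp, Functor.map_comp]
    infer_instance

omit LF ε in
include hzero hshift hcone hres₀ hΦ₀ in
/-- The total left derived functor of `Φ` is computed by `Φ` on adapted complexes. -/
theorem nonempty_totalLeftDerived_iso
    [Φ.HasLeftDerivedFunctor (HomotopyCategory.quasiIso A₀ (ComplexShape.up ℤ))]
    (E : CochainComplex A₀ ℤ) (hE : P₀ E) :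
    Nonempty ((Φ.totalLeftDerived DerivedCategory.Qh
      (HomotopyCategory.quasiIso A₀ (ComplexShape.up ℤ))).obj (DerivedCategory.Q.obj E) ≅
        Φ.obj ((quotient _ _).obj E)) := by
  have h := isIso_counit_app_quotient_obj P₀ hzero hshift hcone hres₀ Φ hΦ₀ _
    (Φ.totalLeftDerivedCounit DerivedCategory.Qh
      (HomotopyCategory.quasiIso A₀ (ComplexShape.up ℤ))) E hE
  exact ⟨@asIso _ _ _ _ _ h⟩

end Groth.Agent.Lib.Helper25.LDerAdapted
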