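import Mathlib
import Groth.Agent.Lib.Helper25.DerAdjK

/-!
# Right derived functors and exact functors (helper25)

For abelian categories with K-injective resolutions:
* `isIso_unit_app_of_isKInjective`: the unit of any left Kan extension along `Qh` is invertible at
  K-injective complexes.
* `nonempty_iso_of_isIso_units`: two functors out of `D(A)` equipped with "units" from isomorphic functors on `K(A)`
  which are invertible at K-injective complexes are isomorphic.
* `nonempty_derived_baseChange_iso`: if `G₁ ⋙ E₂ ≅ E₁ ⋙ G₂` with `E₁`, `E₂` exact and `E₁` preserving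
  K-injectives, then `RG₁ ⋙ E₂ ≅ E₁ ⋙ RG₂` on unbounded derived categories.
-/

set_option autoImplicit false
universe w₁ w₂ w₃ w₄ v₁ v₂ v₃ v₄ v₅ u₁ u₂ u₃ u₄ u₅
open CategoryTheory CategoryTheory.Limits

namespace Groth.Agent.Lib.Helper25.DerBC

open Groth.Agent.Lib.helper23 Groth.Agent.Lib.Helper25.DerAdjAbs Groth.Agent.Lib.Helper25.DerAdjK

section General

variable {A : Type u₁} [Category.{v₁} A] [Abelian A] [HasDerivedCategory.{w₁} A]
  {H : Type u₅} [Category.{v₅} H]
  (hKinj : ∀ K : CochainComplex A ℤ, ∃ (I : CochainComplex A ℤ) (f : K ⟶ I),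
    I.IsKInjective ∧ QuasiIso f)

include hKinj in
/-- a functor with a unit invertible at K-injective complexes is a left Kan extension along `Qh` -/
theorem isLeftKanExtension_of_isIso_kInjective
    (Φ : HomotopyCategory A (ComplexShape.up ℤ) ⥤ H) (F : DerivedCategory A ⥤ H)
    (α : Φ ⟶ DerivedCategory.Qh ⋙ F)
    (h : ∀ (I : CochainComplex A ℤ), I.IsKInjective →
      IsIso (α.app ((HomotopyCategory.quotient A (ComplexShape.up ℤ)).obj I))) :
    F.IsLeftKanExtension α := by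
  obtain ⟨r, e, hr, hI⟩ := exists_fibrant hKinj
  refine isLeftKanExtension_of_isIso DerivedCategory.Qh r e hr Φ F α (fun Y => ?_)
  obtain ⟨I, hI', h'⟩ := hI Y
  rw [h']
  exact h I hI'

include hKinj in
/-- the unit of a left Kan extension along `Qh` is invertible at K-injective complexes -/
theorem isIso_unit_app_of_isKInjective
    (Φ : HomotopyCategory A (ComplexShape.up ℤ) ⥤ H) (F : DerivedCategory A ⥤ H)
    (α : Φ ⟶ DerivedCategory.Qh ⋙ F) [F.IsLeftKanExtension α]
    (I : CochainComplex A ℤ) [I.IsKInjective] :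
    IsIso (α.app ((HomotopyCategory.quotient A (ComplexShape.up ℤ)).obj I)) := by
  obtain ⟨r, e, hr, -⟩ := exists_fibrant hKinj
  exact RDerK.isIso_unit_app DerivedCategory.Qh r e hr _ F α _
    (fun X' => CochainComplex.IsKInjective.Qh_map_bijective X' I)

include hKinj in
theorem nonempty_iso_of_isIso_units
    {Φ₁ Φ₂ : HomotopyCategory A (ComplexShape.up ℤ) ⥤ H} (ι : Φ₁ ≅ Φ₂)
    (F₁ F₂ : DerivedCategory A ⥤ H)
    (α₁ : Φ₁ ⟶ DerivedCategory.Qh ⋙ F₁) (α₂ : Φ₂ ⟶ DerivedCategory.Qh ⋙ F₂)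
    (h₁ : ∀ (I : CochainComplex A ℤ), I.IsKInjective →
      IsIso (α₁.app ((HomotopyCategory.quotient A (ComplexShape.up ℤ)).obj I)))
    (h₂ : ∀ (I : CochainComplex A ℤ), I.IsKInjective →
      IsIso (α₂.app ((HomotopyCategory.quotient A (ComplexShape.up ℤ)).obj I))) :
    Nonempty (F₁ ≅ F₂) := by
  haveI := isLeftKanExtension_of_isIso_kInjective hKinj Φ₁ F₁ α₁ h₁
  haveI := isLeftKanExtension_of_isIso_kInjective hKinj Φ₁ F₂ (ι.hom ≫ α₂) (fun I hI => by
    haveI := h₂ I hI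
    rw [NatTrans.comp_app]
    infer_instance)
  exact ⟨Functor.leftKanExtensionUnique F₁ α₁ F₂ (ι.hom ≫ α₂)⟩

end General

section BaseChange

variable {A : Type u₁} [Category.{v₁} A] [Abelian A] [HasDerivedCategory.{w₁} A]
  {A' : Type u₂} [Category.{v₂} A'] [Abelian A'] [HasDerivedCategory.{w₂} A']
  {B : Type u₃} [Category.{v₃} B] [Abelian B] [HasDerivedCategory.{w₃} B]
  {B' : Type u₄} [Category.{v₄} B'] [Abelian B'] [HasDerivedCategory.{w₄} B']
  (hKinj : ∀ K : CochainComplex A ℤ, ∃ (I : CochainComplex A ℤ) (f : K ⟶ I),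
    I.IsKInjective ∧ QuasiIso f)
  (hKinj' : ∀ K : CochainComplex A' ℤ, ∃ (I : CochainComplex A' ℤ) (f : K ⟶ I),
    I.IsKInjective ∧ QuasiIso f)
  (G₁ : A ⥤ B) (G₂ : A' ⥤ B') (E₁ : A ⥤ A') (E₂ : B ⥤ B')
  [G₁.Additive] [G₂.Additive] [E₁.Additive] [E₂.Additive]
  [PreservesFiniteLimits E₁] [PreservesFiniteColimits E₁]
  [PreservesFiniteLimits E₂] [PreservesFiniteColimits E₂]
  (e : G₁ ⋙ E₂ ≅ E₁ ⋙ G₂)
  (hE₁ : ∀ (I : CochainComplex A ℤ), I.IsKInjective →
    CochainComplex.IsKInjective ((E₁.mapHomologicalComplex (ComplexShape.up ℤ)).obj I))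
  (RG₁ : DerivedCategory A ⥤ DerivedCategory B)
  (β₁ : G₁.mapHomotopyCategory (ComplexShape.up ℤ) ⋙ DerivedCategory.Qh ⟶ DerivedCategory.Qh ⋙ RG₁)
  [RG₁.IsRightDerivedFunctor β₁ (HomotopyCategory.quasiIso A (ComplexShape.up ℤ))]
  (RG₂ : DerivedCategory A' ⥤ DerivedCategory B')
  (β₂ : G₂.mapHomotopyCategory (ComplexShape.up ℤ) ⋙ DerivedCategory.Qh ⟶ DerivedCategory.Qh ⋙ RG₂)
  [RG₂.IsRightDerivedFunctor β₂ (HomotopyCategory.quasiIso A' (ComplexShape.up ℤ))]

/-- the first functor on the homotopy category -/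
noncomputable abbrev Φ₁ : HomotopyCategory A (ComplexShape.up ℤ) ⥤ DerivedCategory B' :=
  (G₁.mapHomotopyCategory (ComplexShape.up ℤ) ⋙ DerivedCategory.Qh) ⋙ E₂.mapDerivedCategory

/-- the second functor on the homotopy category -/
noncomputable abbrev Φ₂ : HomotopyCategory A (ComplexShape.up ℤ) ⥤ DerivedCategory B' :=
  E₁.mapHomotopyCategory (ComplexShape.up ℤ) ⋙
    (G₂.mapHomotopyCategory (ComplexShape.up ℤ) ⋙ DerivedCategory.Qh)

/-- the comparison of the two functors -/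
noncomputable def ιΦ : Φ₁ G₁ E₂ ≅ Φ₂ G₂ E₁ :=
  Functor.associator _ _ _ ≪≫
    Functor.isoWhiskerLeft _ E₂.mapDerivedCategoryFactorsh ≪≫
    (Functor.associator _ _ _).symm ≪≫
    Functor.isoWhiskerRight
      (Functor.mapHomotopyCategoryCompIso e (ComplexShape.up ℤ) ≪≫
        (Functor.mapHomotopyCategoryCompIso (Iso.refl (E₁ ⋙ G₂)) (ComplexShape.up ℤ)).symm)
      DerivedCategory.Qh ≪≫
    Functor.associator _ _ _

include hKinj hKinj' hE₁ e β₁ β₂ in
theorem nonempty_derived_baseChange_iso :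
    Nonempty (RG₁ ⋙ E₂.mapDerivedCategory ≅ E₁.mapDerivedCategory ⋙ RG₂) := by
  haveI : RG₁.IsLeftKanExtension β₁ := Functor.IsRightDerivedFunctor.isLeftKanExtension _ _
    (HomotopyCategory.quasiIso A (ComplexShape.up ℤ))
  haveI : RG₂.IsLeftKanExtension β₂ := Functor.IsRightDerivedFunctor.isLeftKanExtension _ _
    (HomotopyCategory.quasiIso A' (ComplexShape.up ℤ))
  refine nonempty_iso_of_isIso_units hKinj (ιΦ G₁ G₂ E₁ E₂ e) _ _
    (Functor.whiskerRight β₁ E₂.mapDerivedCategory)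
    (Functor.whiskerLeft (E₁.mapHomotopyCategory (ComplexShape.up ℤ)) β₂ ≫
      Functor.whiskerRight E₁.mapDerivedCategoryFactorsh.inv RG₂) ?_ ?_
  · intro I hI
    haveI := isIso_unit_app_of_isKInjective hKinj _ RG₁ β₁ I
    rw [Functor.whiskerRight_app]
    infer_instance
  · intro I hI
    haveI := hE₁ I hI
    have h1 : IsIso (β₂.app ((HomotopyCategory.quotient A' (ComplexShape.up ℤ)).obj
        ((E₁.mapHomologicalComplex (ComplexShape.up ℤ)).obj I))) :=
      isIso_unit_app_of_isKInjective hKinj' _ RG₂ β₂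
        ((E₁.mapHomologicalComplex (ComplexShape.up ℤ)).obj I)
    have h2 : IsIso (RG₂.map (E₁.mapDerivedCategoryFactorsh.inv.app
        ((HomotopyCategory.quotient A (ComplexShape.up ℤ)).obj I))) := inferInstance
    rw [NatTrans.comp_app, Functor.whiskerLeft_app, Functor.whiskerRight_app]
    exact @IsIso.comp_isIso _ _ _ _ _ _ _ h1 h2

end BaseChange

end Groth.Agent.Lib.Helper25.DerBC
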