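import Mathlib
import Groth.Agent.Lib.Helper25.DerBC

/-!
# Right derived functors via K-injective resolutions: existence, zero objects, homology (helper25)

* `hasRightDerivedFunctor`: with K-injective resolutions every functor on `K(A)` has a right derived functor.
* `isZero_obj_of_isZero`: a right derived functor of a functor preserving zero objects preserves zero objects.
* `isZero_of_homology`: an object of `D(A)` with vanishing cohomology is zero.
* `nonempty_homology_mapDerivedCategory_iso`: `H^n (F E) ≅ F (H^n E)` for an exact functor `F`.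
-/

set_option autoImplicit false
universe w₁ w₂ v₁ v₂ v₅ u₁ u₂ u₅
open CategoryTheory CategoryTheory.Limits ZeroObject

namespace Groth.Agent.Lib.Helper25.DerBC

open Groth.Agent.Lib.helper23 Groth.Agent.Lib.Helper25.DerAdjAbs Groth.Agent.Lib.Helper25.DerAdjK

section

variable {A : Type u₁} [Category.{v₁} A] [Abelian A] [HasDerivedCategory.{w₁} A]
  {H : Type u₅} [Category.{v₅} H]
  (hKinj : ∀ K : CochainComplex A ℤ, ∃ (I : CochainComplex A ℤ) (f : K ⟶ I),
    I.IsKInjective ∧ QuasiIso f)

include hKinj in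
theorem hasRightDerivedFunctor (Φ : HomotopyCategory A (ComplexShape.up ℤ) ⥤ H) :
    Φ.HasRightDerivedFunctor (HomotopyCategory.quasiIso A (ComplexShape.up ℤ)) := by
  obtain ⟨r, e, hr, -⟩ := exists_fibrant hKinj
  have hK := RDerK.isLeftKanExtension DerivedCategory.Qh r e hr Φ
  haveI : (RDerK.R DerivedCategory.Qh r e hr ⋙ Φ).IsRightDerivedFunctor
      (RDerK.η DerivedCategory.Qh r e hr Φ)
      (HomotopyCategory.quasiIso A (ComplexShape.up ℤ)) := ⟨hK⟩
  exact Functor.HasRightDerivedFunctor.mk' (RDerK.R DerivedCategory.Qh r e hr ⋙ Φ)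
    (RDerK.η DerivedCategory.Qh r e hr Φ)

lemma isKInjective_of_isZero (L : CochainComplex A ℤ) (hL : IsZero L) : L.IsKInjective :=
  ⟨fun f _ => ⟨Homotopy.ofEq (hL.eq_of_tgt _ _)⟩⟩

include hKinj in
theorem isZero_obj_of_isZero [HasZeroMorphisms H]
    (Φ : HomotopyCategory A (ComplexShape.up ℤ) ⥤ H) [Φ.PreservesZeroMorphisms]
    (F : DerivedCategory A ⥤ H) (α : Φ ⟶ DerivedCategory.Qh ⋙ F) [F.IsLeftKanExtension α]
    (Z : DerivedCategory A) (hZ : IsZero Z) : IsZero (F.obj Z) := by
  obtain ⟨O, hO⟩ : ∃ O : CochainComplex A ℤ, IsZero O := ⟨0, isZero_zero _⟩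
  haveI := isKInjective_of_isZero O hO
  haveI := isIso_unit_app_of_isKInjective hKinj Φ F α O
  have h1 : IsZero ((HomotopyCategory.quotient A (ComplexShape.up ℤ)).obj O) :=
    Functor.map_isZero _ hO
  have h2 : IsZero (Φ.obj ((HomotopyCategory.quotient A (ComplexShape.up ℤ)).obj O)) :=
    Functor.map_isZero _ h1
  have h3 : IsZero (F.obj (DerivedCategory.Qh.obj
      ((HomotopyCategory.quotient A (ComplexShape.up ℤ)).obj O))) :=
    IsZero.of_iso h2 (asIso (α.app ((HomotopyCategory.quotient A (ComplexShape.up ℤ)).obj O))).symm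
  have h4 : IsZero (DerivedCategory.Qh.obj
      ((HomotopyCategory.quotient A (ComplexShape.up ℤ)).obj O)) := Functor.map_isZero _ h1
  exact IsZero.of_iso h3 (F.mapIso (hZ.iso h4))

end

section

variable {C : Type u₁} [Category.{v₁} C] [Abelian C] [HasDerivedCategory.{w₁} C]

theorem isZero_of_homology (X : DerivedCategory C)
    (h : ∀ n : ℤ, IsZero ((DerivedCategory.homologyFunctor C n).obj X)) : IsZero X := by
  obtain ⟨O, hO⟩ : ∃ O : DerivedCategory C, IsZero O := ⟨0, isZero_zero _⟩
  haveI : IsIso (0 : X ⟶ O) := by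
    rw [DerivedCategory.isIso_iff]
    intro n
    have hO' : IsZero ((DerivedCategory.homologyFunctor C n).obj O) := Functor.map_isZero _ hO
    exact ⟨0, (h n).eq_of_src _ _, hO'.eq_of_src _ _⟩
  exact IsZero.of_iso hO (asIso (0 : X ⟶ O))

variable {C' : Type u₂} [Category.{v₂} C'] [Abelian C'] [HasDerivedCategory.{w₂} C']
  (F : C ⥤ C') [F.Additive] [PreservesFiniteLimits F] [PreservesFiniteColimits F]

theorem nonempty_homology_mapDerivedCategory_iso (E : DerivedCategory C) (n : ℤ) :
    Nonempty ((DerivedCategory.homologyFunctor C' n).obj (F.mapDerivedCategory.obj E) ≅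
      F.obj ((DerivedCategory.homologyFunctor C n).obj E)) := by
  obtain ⟨K, ⟨eK⟩⟩ : ∃ K : CochainComplex C ℤ, Nonempty (DerivedCategory.Q.obj K ≅ E) :=
    ⟨_, ⟨DerivedCategory.Q.objObjPreimageIso E⟩⟩
  have e1 : (DerivedCategory.homologyFunctor C' n).obj (F.mapDerivedCategory.obj E) ≅
      ((F.mapHomologicalComplex (ComplexShape.up ℤ)).obj K).homology n :=
    (DerivedCategory.homologyFunctor C' n).mapIso
      (F.mapDerivedCategory.mapIso eK.symm ≪≫ F.mapDerivedCategoryFactors.app K) ≪≫
      (DerivedCategory.homologyFunctorFactors C' n).app _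
  have e2 : ((F.mapHomologicalComplex (ComplexShape.up ℤ)).obj K).homology n ≅
      F.obj (K.homology n) := (K.sc n).mapHomologyIso F
  have e3 : K.homology n ≅ (DerivedCategory.homologyFunctor C n).obj E :=
    ((DerivedCategory.homologyFunctorFactors C n).app K).symm ≪≫
      (DerivedCategory.homologyFunctor C n).mapIso eK
  exact ⟨e1 ≪≫ e2 ≪≫ F.mapIso e3⟩

end

end Groth.Agent.Lib.Helper25.DerBC
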