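import Mathlib
import Groth.Agent.Lib.Helper25.LDerAdapted

/-!
# Left derived functors from an adapted class: existence, and the cochain-complex level (helper25)

Continuation of `LDerAdapted`.

* `exists_isLeftDerivedFunctor A B hres L Φ hΦ : ∃ G β, G.IsLeftDerivedFunctor β B.trW ∧ ∀ P, A P → IsIso (β.app P)`
  and `hasLeftDerivedFunctor A B hres Φ hΦ : Φ.HasLeftDerivedFunctor B.trW` (abstract triangulated version).
* Bridge between derived functors along `Q : CochainComplex A₀ ℤ ⥤ D(A₀)` and along `Qh : K(A₀) ⥤ D(A₀)`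
  for a homotopy invariant functor `F` (`hF : ∀ K L f g, homotopic _ _ f g → F.map f = F.map g`):
  `descF F hF`, `descε`, `liftβ`, `isLeftDerivedFunctor_descε` (B1), `isLeftDerivedFunctor_liftβ` (B2).
* `hasLeftDerivedFunctor_Qh P₀ hzero hshift hcone hres₀ Φ hΦ₀ : Φ.HasLeftDerivedFunctor (HomotopyCategory.quasiIso ..)`.
* `isIso_counit_app_Q P₀ hzero hshift hcone hres₀ F hF hF₀ LF ε E hE : IsIso (ε.app E)` for
  `ε : Q ⋙ LF ⟶ F` a left derived functor w.r.t. `HomologicalComplex.quasiIso` (e.g. `DCoh.LTensorCx`).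
* `hasLeftDerivedFunctor_Q ... : F.HasLeftDerivedFunctor (HomologicalComplex.quasiIso ..)`.
-/

set_option autoImplicit false
universe v₁ v₂ v₃ u₁ u₂ u₃
open CategoryTheory CategoryTheory.Limits Pretriangulated

namespace Groth.Agent.Lib.Helper25.LDerAdapted

variable {C : Type u₁} [Category.{v₁} C] [HasZeroObject C] [HasShift C ℤ] [Preadditive C]
  [∀ n : ℤ, (shiftFunctor C n).Additive] [Pretriangulated C] [IsTriangulated C]
  {D : Type u₂} [Category.{v₂} D] {H : Type u₃} [Category.{v₃} H]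
  (A B : ObjectProperty C) [A.IsTriangulated] [A.IsClosedUnderIsomorphisms]
  [B.IsTriangulated] [B.IsClosedUnderIsomorphisms]
  (hres : ∀ X : C, ∃ (P : C) (s : P ⟶ X), A P ∧ B.trW s)
  (L : C ⥤ D) [L.IsLocalization B.trW]
  (Φ : C ⥤ H)
  (hΦ : ∀ ⦃P P' : C⦄ (s : P ⟶ P'), A P → A P' → B.trW s → IsIso (Φ.map s))

include hres hΦ in
/-- Existence of left derived functors from an adapted class, with counit invertible on the
adapted objects. -/
theorem exists_isLeftDerivedFunctor :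
    ∃ (G : D ⥤ H) (β : L ⋙ G ⟶ Φ), G.IsLeftDerivedFunctor β B.trW ∧
      ∀ P, A P → IsIso (β.app P) := by
  classical
  haveI hloc := isLocalization_ι_comp A B hres L
  have hinv := isInvertedBy_ι_comp A B Φ hΦ
  let G : D ⥤ H := Localization.lift (A.ι ⋙ Φ) hinv (A.ι ⋙ L)
  let e₀ : (A.ι ⋙ L) ⋙ G ≅ A.ι ⋙ Φ := Localization.fac (A.ι ⋙ Φ) hinv (A.ι ⋙ L)
  choose R s hR hs using hres
  haveI : ∀ X, IsIso (L.map (s X)) := fun X => Localization.inverts L B.trW _ (hs X)
  let βapp : ∀ X : C, G.obj (L.obj X) ⟶ Φ.obj X := fun X =>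
    inv (G.map (L.map (s X))) ≫ e₀.hom.app ⟨R X, hR X⟩ ≫ Φ.map (s X)
  have e₀nat : ∀ {P P' : C} (hP : A P) (hP' : A P') (g : P ⟶ P'),
      G.map (L.map g) ≫ e₀.hom.app ⟨P', hP'⟩ = e₀.hom.app ⟨P, hP⟩ ≫ Φ.map g := by
    intro P P' hP hP' g
    exact e₀.hom.naturality (X := ⟨P, hP⟩) (Y := ⟨P', hP'⟩) (A.homMk g)
  have βnat : ∀ {X Y : C} (f : X ⟶ Y), G.map (L.map f) ≫ βapp Y = βapp X ≫ Φ.map f := by
    intro X Y f
    obtain ⟨P'', t, g, hP'', ht, fac⟩ :=
      exists_arrow_resolution A B (fun X => ⟨R X, s X, hR X, hs X⟩) f (s X) (s Y) (hs Y)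
    haveI : IsIso (L.map t) := Localization.inverts L B.trW _ ht
    have h1 : G.map (L.map f) ≫ inv (G.map (L.map (s Y))) =
        inv (G.map (L.map (s X))) ≫ inv (G.map (L.map t)) ≫ G.map (L.map g) := by
      rw [IsIso.comp_inv_eq, Category.assoc, Category.assoc, IsIso.eq_inv_comp, IsIso.eq_inv_comp]
      simp only [← Functor.map_comp]
      rw [fac]
    have h2 := e₀nat hP'' (hR Y) g
    have h3 := e₀nat hP'' (hR X) t
    have h4 : inv (G.map (L.map t)) ≫ e₀.hom.app ⟨P'', hP''⟩ ≫ Φ.map t =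
        e₀.hom.app ⟨R X, hR X⟩ := by
      rw [IsIso.inv_comp_eq, h3]
    calc G.map (L.map f) ≫ βapp Y
        = (G.map (L.map f) ≫ inv (G.map (L.map (s Y)))) ≫ e₀.hom.app ⟨R Y, hR Y⟩ ≫
            Φ.map (s Y) := by simp only [βapp, Category.assoc]
      _ = inv (G.map (L.map (s X))) ≫ inv (G.map (L.map t)) ≫
            (G.map (L.map g) ≫ e₀.hom.app ⟨R Y, hR Y⟩) ≫ Φ.map (s Y) := by
          rw [h1]; simp only [Category.assoc]
      _ = inv (G.map (L.map (s X))) ≫ inv (G.map (L.map t)) ≫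
            e₀.hom.app ⟨P'', hP''⟩ ≫ Φ.map (g ≫ s Y) := by
          rw [h2]; simp only [Category.assoc, Functor.map_comp]
      _ = inv (G.map (L.map (s X))) ≫ (inv (G.map (L.map t)) ≫
            e₀.hom.app ⟨P'', hP''⟩ ≫ Φ.map t) ≫ Φ.map (s X) ≫ Φ.map f := by
          rw [← fac]; simp only [Category.assoc, Functor.map_comp]
      _ = βapp X ≫ Φ.map f := by
          rw [h4]; simp only [βapp, Category.assoc]
  let β : L ⋙ G ⟶ Φ := { app := βapp, naturality := fun X Y f => βnat f }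
  have βA : ∀ (Q : C) (hQ : A Q), β.app Q = e₀.hom.app ⟨Q, hQ⟩ := by
    intro Q hQ
    have := e₀nat (hR Q) hQ (s Q)
    change inv (G.map (L.map (s Q))) ≫ e₀.hom.app ⟨R Q, hR Q⟩ ≫ Φ.map (s Q) = _
    rw [IsIso.inv_comp_eq, this]
  refine ⟨G, β, ?_, fun P hP => by rw [βA P hP]; infer_instance⟩
  -- universal property
  have hlift : ∀ (G' : D ⥤ H) (β' : L ⋙ G' ⟶ Φ), ∃ γ : G' ⟶ G,
      Functor.whiskerLeft L γ ≫ β = β' := by
    intro G' β'
    let τ : (A.ι ⋙ L) ⋙ G' ⟶ (A.ι ⋙ L) ⋙ G :=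
      (Functor.associator _ _ _).hom ≫ Functor.whiskerLeft A.ι β' ≫ e₀.inv
    let γ : G' ⟶ G :=
      Localization.liftNatTrans (A.ι ⋙ L) (B.inverseImage A.ι).trW _ _ G' G τ
    have hγ : ∀ (Q : C) (hQ : A Q), γ.app (L.obj Q) = β'.app Q ≫ e₀.inv.app ⟨Q, hQ⟩ := by
      intro Q hQ
      have := Localization.liftNatTrans_app (A.ι ⋙ L) (B.inverseImage A.ι).trW _ _ G' G τ ⟨Q, hQ⟩
      simpa [τ] using this
    refine ⟨γ, ?_⟩
    ext X
    rw [NatTrans.comp_app, Functor.whiskerLeft_app]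
    have n1 : G'.map (L.map (s X)) ≫ γ.app (L.obj X) =
        γ.app (L.obj (R X)) ≫ G.map (L.map (s X)) := γ.naturality (L.map (s X))
    have n2 : G'.map (L.map (s X)) ≫ β'.app X = β'.app (R X) ≫ Φ.map (s X) :=
      β'.naturality (s X)
    haveI : IsIso (G'.map (L.map (s X))) := inferInstance
    rw [← cancel_epi (G'.map (L.map (s X))), ← Category.assoc, n1, n2, hγ (R X) (hR X)]
    change ((β'.app (R X) ≫ e₀.inv.app ⟨R X, hR X⟩) ≫ G.map (L.map (s X))) ≫
      inv (G.map (L.map (s X))) ≫ e₀.hom.app ⟨R X, hR X⟩ ≫ Φ.map (s X) = _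
    rw [Category.assoc, IsIso.hom_inv_id_assoc, Category.assoc, Iso.inv_hom_id_app_assoc]
  have huniq : ∀ (G' : D ⥤ H) (γ₁ γ₂ : G' ⟶ G),
      Functor.whiskerLeft L γ₁ ≫ β = Functor.whiskerLeft L γ₂ ≫ β → γ₁ = γ₂ := by
    intro G' γ₁ γ₂ h
    apply Localization.natTrans_ext (A.ι ⋙ L) (B.inverseImage A.ι).trW
    intro Q
    have := congr_app h Q.obj
    rw [NatTrans.comp_app, NatTrans.comp_app, Functor.whiskerLeft_app, Functor.whiskerLeft_app,
      βA Q.obj Q.property] at this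
    exact (cancel_mono _).1 this
  rw [Functor.isLeftDerivedFunctor_iff_isRightKanExtension]
  refine ⟨⟨Limits.IsTerminal.ofUniqueHom
    (fun E => CostructuredArrow.homMk (hlift E.left E.hom).choose (hlift E.left E.hom).choose_spec)
    (fun E m => ?_)⟩⟩
  apply CostructuredArrow.ext
  apply huniq
  have := CostructuredArrow.w m
  exact this.trans (hlift E.left E.hom).choose_spec.symm

include hres hΦ in
theorem hasLeftDerivedFunctor : Φ.HasLeftDerivedFunctor B.trW := by
  obtain ⟨G, β, h, -⟩ := exists_isLeftDerivedFunctor A B hres B.trW.Q Φ hΦ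
  exact Functor.HasLeftDerivedFunctor.mk' G β

end Groth.Agent.Lib.Helper25.LDerAdapted

namespace Groth.Agent.Lib.Helper25.LDerAdapted

universe w v u

open HomotopyCategory

variable {A₀ : Type u} [Category.{v} A₀] [Abelian A₀] [HasDerivedCategory.{w} A₀]
  {H : Type u₃} [Category.{v₃} H]

section Bridge

variable (F : CochainComplex A₀ ℤ ⥤ H)
  (hF : ∀ (K L : CochainComplex A₀ ℤ) (f g : K ⟶ L),
    homotopic A₀ (ComplexShape.up ℤ) f g → F.map f = F.map g)

/-- The functor on the homotopy category induced by a homotopy invariant functor. -/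
noncomputable def descF : HomotopyCategory A₀ (ComplexShape.up ℤ) ⥤ H :=
  CategoryTheory.Quotient.lift _ F hF

/-- The natural transformation on the homotopy category induced by `Q ⋙ LF ⟶ F`. -/
noncomputable def descε (LF : DerivedCategory A₀ ⥤ H) (ε : DerivedCategory.Q ⋙ LF ⟶ F) :
    DerivedCategory.Qh ⋙ LF ⟶ descF F hF :=
  CategoryTheory.Quotient.natTransLift _
    (show quotient _ _ ⋙ (DerivedCategory.Qh ⋙ LF) ⟶ quotient _ _ ⋙ descF F hF from
      ε ≫ (CategoryTheory.Quotient.lift.isLift _ F hF).inv)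

lemma descε_app (LF : DerivedCategory A₀ ⥤ H) (ε : DerivedCategory.Q ⋙ LF ⟶ F)
    (K : CochainComplex A₀ ℤ) :
    (descε F hF LF ε).app ((quotient _ _).obj K) = ε.app K := by
  change ε.app K ≫ 𝟙 _ = _
  exact Category.comp_id _

/-- The natural transformation on cochain complexes induced by `Qh ⋙ G ⟶ descF F`. -/
noncomputable def liftβ (G : DerivedCategory A₀ ⥤ H) (β : DerivedCategory.Qh ⋙ G ⟶ descF F hF) :
    DerivedCategory.Q ⋙ G ⟶ F :=
  (show DerivedCategory.Q ⋙ G ⟶ quotient _ _ ⋙ descF F hF from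
    Functor.whiskerLeft (quotient _ _) β) ≫ (CategoryTheory.Quotient.lift.isLift _ F hF).hom

lemma liftβ_app (G : DerivedCategory A₀ ⥤ H) (β : DerivedCategory.Qh ⋙ G ⟶ descF F hF)
    (K : CochainComplex A₀ ℤ) :
    (liftβ F hF G β).app K = β.app ((quotient _ _).obj K) := by
  change β.app ((quotient _ _).obj K) ≫ 𝟙 _ = _
  exact Category.comp_id _

/-- (B1) a left derived functor along `Q` is a left derived functor along `Qh`. -/
lemma isLeftDerivedFunctor_descε (LF : DerivedCategory A₀ ⥤ H) (ε : DerivedCategory.Q ⋙ LF ⟶ F)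
    [LF.IsLeftDerivedFunctor ε (HomologicalComplex.quasiIso A₀ (ComplexShape.up ℤ))] :
    LF.IsLeftDerivedFunctor (descε F hF LF ε)
      (HomotopyCategory.quasiIso A₀ (ComplexShape.up ℤ)) := by
  rw [Functor.isLeftDerivedFunctor_iff_isRightKanExtension]
  have hlift : ∀ (G' : DerivedCategory A₀ ⥤ H) (β' : DerivedCategory.Qh ⋙ G' ⟶ descF F hF),
      Functor.whiskerLeft DerivedCategory.Qh
        (LF.leftDerivedLift ε (HomologicalComplex.quasiIso A₀ (ComplexShape.up ℤ)) G'
          (liftβ F hF G' β')) ≫ descε F hF LF ε = β' := by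
    intro G' β'
    ext X
    obtain ⟨K, rfl⟩ := X.quotient_obj_surjective
    rw [NatTrans.comp_app, Functor.whiskerLeft_app, descε_app, ← liftβ_app F hF G' β' K]
    exact LF.leftDerived_fac_app ε (HomologicalComplex.quasiIso A₀ (ComplexShape.up ℤ)) G'
      (liftβ F hF G' β') K
  refine ⟨⟨Limits.IsTerminal.ofUniqueHom
    (fun E => CostructuredArrow.homMk _ (hlift E.left E.hom)) (fun E m => ?_)⟩⟩
  apply CostructuredArrow.ext
  apply LF.leftDerived_ext ε (HomologicalComplex.quasiIso A₀ (ComplexShape.up ℤ))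
  have hm : Functor.whiskerLeft DerivedCategory.Qh m.left ≫ descε F hF LF ε = E.hom :=
    CostructuredArrow.w m
  ext K
  have h1 : m.left.app (DerivedCategory.Qh.obj ((quotient _ _).obj K)) ≫ ε.app K =
      E.hom.app ((quotient _ _).obj K) := by
    rw [← descε_app F hF LF ε K]
    exact congr_app hm ((quotient _ _).obj K)
  have h2 : (LF.leftDerivedLift ε (HomologicalComplex.quasiIso A₀ (ComplexShape.up ℤ)) E.left
      (liftβ F hF E.left E.hom)).app (DerivedCategory.Qh.obj ((quotient _ _).obj K)) ≫ ε.app K =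
      E.hom.app ((quotient _ _).obj K) := by
    rw [← descε_app F hF LF ε K]
    exact congr_app (hlift E.left E.hom) ((quotient _ _).obj K)
  exact h1.trans h2.symm

/-- (B2) a left derived functor along `Qh` is a left derived functor along `Q`. -/
lemma isLeftDerivedFunctor_liftβ (G : DerivedCategory A₀ ⥤ H)
    (β : DerivedCategory.Qh ⋙ G ⟶ descF F hF)
    [G.IsLeftDerivedFunctor β (HomotopyCategory.quasiIso A₀ (ComplexShape.up ℤ))] :
    G.IsLeftDerivedFunctor (liftβ F hF G β)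
      (HomologicalComplex.quasiIso A₀ (ComplexShape.up ℤ)) := by
  rw [Functor.isLeftDerivedFunctor_iff_isRightKanExtension]
  have hlift : ∀ (G' : DerivedCategory A₀ ⥤ H) (β' : DerivedCategory.Q ⋙ G' ⟶ F),
      Functor.whiskerLeft DerivedCategory.Q
        (G.leftDerivedLift β (HomotopyCategory.quasiIso A₀ (ComplexShape.up ℤ)) G'
          (descε F hF G' β')) ≫ liftβ F hF G β = β' := by
    intro G' β'
    ext K
    rw [NatTrans.comp_app, Functor.whiskerLeft_app, liftβ_app, ← descε_app F hF G' β' K]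
    exact G.leftDerived_fac_app β (HomotopyCategory.quasiIso A₀ (ComplexShape.up ℤ)) G'
      (descε F hF G' β') ((quotient _ _).obj K)
  refine ⟨⟨Limits.IsTerminal.ofUniqueHom
    (fun E => CostructuredArrow.homMk _ (hlift E.left E.hom)) (fun E m => ?_)⟩⟩
  apply CostructuredArrow.ext
  apply G.leftDerived_ext β (HomotopyCategory.quasiIso A₀ (ComplexShape.up ℤ))
  have hm : Functor.whiskerLeft DerivedCategory.Q m.left ≫ liftβ F hF G β = E.hom :=
    CostructuredArrow.w m
  ext X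
  obtain ⟨K, rfl⟩ := X.quotient_obj_surjective
  have h1 : m.left.app (DerivedCategory.Q.obj K) ≫ β.app ((quotient _ _).obj K) =
      E.hom.app K := by
    rw [← liftβ_app F hF G β K]
    exact congr_app hm K
  have h2 : (G.leftDerivedLift β (HomotopyCategory.quasiIso A₀ (ComplexShape.up ℤ)) E.left
      (descε F hF E.left E.hom)).app (DerivedCategory.Q.obj K) ≫ β.app ((quotient _ _).obj K) =
      E.hom.app K := by
    rw [← liftβ_app F hF G β K]
    exact congr_app (hlift E.left E.hom) K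
  exact h1.trans h2.symm

end Bridge

section Main

variable (P₀ : ObjectProperty (CochainComplex A₀ ℤ))
  (hzero : ∃ Z : CochainComplex A₀ ℤ, IsZero Z ∧ P₀ Z)
  (hshift : ∀ (E : CochainComplex A₀ ℤ) (n : ℤ), P₀ E → P₀ (E⟦n⟧))
  (hcone : ∀ {E E' : CochainComplex A₀ ℤ} (f : E ⟶ E'), P₀ E → P₀ E' →
    P₀ (CochainComplex.mappingCone f))
  (hres₀ : ∀ E : CochainComplex A₀ ℤ, ∃ (E' : CochainComplex A₀ ℤ) (f : E' ⟶ E),
    P₀ E' ∧ QuasiIso f)

omit [HasDerivedCategory A₀] in
include hres₀ in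
lemma hres_of_complex (X : HomotopyCategory A₀ (ComplexShape.up ℤ)) :
    ∃ (P : HomotopyCategory A₀ (ComplexShape.up ℤ)) (s : P ⟶ X),
      (strictP P₀).isoClosure P ∧ (subcategoryAcyclic A₀).trW s := by
  obtain ⟨K, rfl⟩ := X.quotient_obj_surjective
  obtain ⟨E', f, hE', hf⟩ := hres₀ K
  refine ⟨(quotient _ _).obj E', (quotient _ _).map f,
    ObjectProperty.le_isoClosure _ _ ((strictP_quotient_obj_iff E').2 hE'), ?_⟩
  rw [← quasiIso_eq_trW_subcategoryAcyclic, quotient_map_mem_quasiIso_iff,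
    HomologicalComplex.mem_quasiIso_iff]
  exact hf

omit [HasDerivedCategory A₀] in
lemma hΦ_of_complex (Φ : HomotopyCategory A₀ (ComplexShape.up ℤ) ⥤ H)
    (hΦ₀ : ∀ {E E' : CochainComplex A₀ ℤ} (f : E ⟶ E'), P₀ E → P₀ E' → QuasiIso f →
      IsIso (Φ.map ((quotient _ _).map f)))
    ⦃Q Q' : HomotopyCategory A₀ (ComplexShape.up ℤ)⦄ (s : Q ⟶ Q')
    (hQ : (strictP P₀).isoClosure Q) (hQ' : (strictP P₀).isoClosure Q')
    (hs : (subcategoryAcyclic A₀).trW s) : IsIso (Φ.map s) := by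
  obtain ⟨Q₀, hQ₀, ⟨e⟩⟩ := hQ
  obtain ⟨Q₀', hQ₀', ⟨e'⟩⟩ := hQ'
  obtain ⟨K, hK, rfl⟩ := (ObjectProperty.strictMap_iff _ _ _).1 hQ₀
  obtain ⟨K', hK', rfl⟩ := (ObjectProperty.strictMap_iff _ _ _).1 hQ₀'
  obtain ⟨f, hf⟩ := (quotient _ _).map_surjective (e.inv ≫ s ≫ e'.hom)
  have hqf : QuasiIso f := by
    rw [← HomologicalComplex.mem_quasiIso_iff, ← quotient_map_mem_quasiIso_iff, hf,
      quasiIso_eq_trW_subcategoryAcyclic]
    exact (MorphismProperty.cancel_left_of_respectsIso _ e.inv _).2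
      ((MorphismProperty.cancel_right_of_respectsIso _ _ e'.hom).2 hs)
  haveI := hΦ₀ f hK hK' hqf
  have hs' : s = e.hom ≫ (quotient _ _).map f ≫ e'.inv := by
    rw [hf]; simp
  rw [hs', Functor.map_comp, Functor.map_comp]
  infer_instance

include hzero hshift hcone hres₀ in
/-- Existence of the total left derived functor (along `Qh`) from an adapted class of
complexes. -/
theorem hasLeftDerivedFunctor_Qh (Φ : HomotopyCategory A₀ (ComplexShape.up ℤ) ⥤ H)
    (hΦ₀ : ∀ {E E' : CochainComplex A₀ ℤ} (f : E ⟶ E'), P₀ E → P₀ E' → QuasiIso f →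
      IsIso (Φ.map ((quotient _ _).map f))) :
    Φ.HasLeftDerivedFunctor (HomotopyCategory.quasiIso A₀ (ComplexShape.up ℤ)) := by
  haveI := isTriangulated_strictP P₀ hzero hshift hcone
  rw [quasiIso_eq_trW_subcategoryAcyclic]
  exact hasLeftDerivedFunctor (strictP P₀).isoClosure (subcategoryAcyclic A₀)
    (hres_of_complex P₀ hres₀) Φ (hΦ_of_complex P₀ Φ hΦ₀)

variable (F : CochainComplex A₀ ℤ ⥤ H)
  (hF : ∀ (K L : CochainComplex A₀ ℤ) (f g : K ⟶ L),
    homotopic A₀ (ComplexShape.up ℤ) f g → F.map f = F.map g)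
  (hF₀ : ∀ {E E' : CochainComplex A₀ ℤ} (f : E ⟶ E'), P₀ E → P₀ E' → QuasiIso f →
    IsIso (F.map f))

include hzero hshift hcone hres₀ hF hF₀ in
/-- **Cochain complex version**: the counit `LF(Q E) ⟶ F(E)` of any left derived functor (along
`Q : CochainComplex A₀ ℤ ⥤ D(A₀)`) of a homotopy invariant functor `F` is invertible at adapted
complexes. -/
theorem isIso_counit_app_Q (LF : DerivedCategory A₀ ⥤ H) (ε : DerivedCategory.Q ⋙ LF ⟶ F)
    [LF.IsLeftDerivedFunctor ε (HomologicalComplex.quasiIso A₀ (ComplexShape.up ℤ))]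
    (E : CochainComplex A₀ ℤ) (hE : P₀ E) : IsIso (ε.app E) := by
  haveI := isLeftDerivedFunctor_descε F hF LF ε
  have h := isIso_counit_app_quotient_obj P₀ hzero hshift hcone hres₀ (descF F hF)
    (fun f hE hE' hf => hF₀ f hE hE' hf) LF (descε F hF LF ε) E hE
  rwa [descε_app] at h

include hzero hshift hcone hres₀ hF hF₀ in
/-- Existence of the total left derived functor along `Q` from an adapted class of complexes. -/
theorem hasLeftDerivedFunctor_Q :
    F.HasLeftDerivedFunctor (HomologicalComplex.quasiIso A₀ (ComplexShape.up ℤ)) := by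
  haveI := hasLeftDerivedFunctor_Qh P₀ hzero hshift hcone hres₀ (descF F hF)
    (fun f hE hE' hf => hF₀ f hE hE' hf)
  let G := (descF F hF).totalLeftDerived DerivedCategory.Qh
    (HomotopyCategory.quasiIso A₀ (ComplexShape.up ℤ))
  let β := (descF F hF).totalLeftDerivedCounit DerivedCategory.Qh
    (HomotopyCategory.quasiIso A₀ (ComplexShape.up ℤ))
  haveI := isLeftDerivedFunctor_liftβ F hF G β
  exact Functor.HasLeftDerivedFunctor.mk' G (liftβ F hF G β)

end Main

end Groth.Agent.Lib.Helper25.LDerAdapted
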