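import Mathlib

/-!
# Stupid truncation `σ_{≥ a}` of a cochain complex, with its inclusion (helper25)

* `sigmaGE P a`: the complex with `P.X i` in degrees `i ≥ a` and `0` below.
* `sigmaGEι P a : sigmaGE P a ⟶ P`.
* `isIso_homologyMap_sigmaGEι` (degrees `> a`), `epi_homologyMap_sigmaGEι` (degree `a`).
-/

set_option autoImplicit false
open CategoryTheory CategoryTheory.Limits ZeroObject

namespace Groth.Agent.Lib.helper25.SigmaGE

variable {C : Type*} [Category C] [Abelian C]

section General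

variable {K L : CochainComplex C ℤ}

lemma isIso_homologyMap_of_isIso_f (f : K ⟶ L) (i : ℤ) (h₁ : IsIso (f.f (i - 1))) (h₂ : IsIso (f.f i))
    (h₃ : IsIso (f.f (i + 1))) : IsIso (HomologicalComplex.homologyMap f i) := by
  rw [← quasiIsoAt_iff_isIso_homologyMap, quasiIsoAt_iff' f (i - 1) i (i + 1) (by simp) (by simp)]
  have : IsIso ((HomologicalComplex.shortComplexFunctor' C (ComplexShape.up ℤ) (i - 1) i (i + 1)).map f).τ₁ := h₁
  have : IsIso ((HomologicalComplex.shortComplexFunctor' C (ComplexShape.up ℤ) (i - 1) i (i + 1)).map f).τ₂ := h₂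
  have : IsIso ((HomologicalComplex.shortComplexFunctor' C (ComplexShape.up ℤ) (i - 1) i (i + 1)).map f).τ₃ := h₃
  exact ShortComplex.quasiIso_of_epi_of_isIso_of_mono _

lemma epi_homologyMap_of_isIso_f (f : K ⟶ L) (i : ℤ) (h₂ : IsIso (f.f i)) (h₃ : Mono (f.f (i + 1))) :
    Epi (HomologicalComplex.homologyMap f i) := by
  have hn : (ComplexShape.up ℤ).next i = i + 1 := by simp
  have h₃' : Mono (f.f ((ComplexShape.up ℤ).next i)) := by rw [hn]; exact h₃
  have hc : IsIso (HomologicalComplex.cyclesMap f i) :=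
    ShortComplex.isIso_cyclesMap_of_isIso_of_mono'
      ((HomologicalComplex.shortComplexFunctor C (ComplexShape.up ℤ) i).map f) h₂ h₃'
  have : Epi (HomologicalComplex.cyclesMap f i ≫ L.homologyπ i) := inferInstance
  exact epi_of_epi_fac (HomologicalComplex.homologyπ_naturality f i)

end General

lemma eqToHom_aux {A A' B B' : C} (hA : A' = A) (hB : B' = B) (d : A ⟶ B) :
    eqToHom hA ≫ d = (eqToHom hA ≫ d ≫ eqToHom hB.symm) ≫ eqToHom hB := by
  subst hA hB
  simp

variable (P : CochainComplex C ℤ) (a : ℤ)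

open Classical in
/-- stupid truncation `σ_{≥ a} P` -/
noncomputable def sigmaGE : CochainComplex C ℤ where
  X i := if a ≤ i then P.X i else 0
  d i j := if h : a ≤ i ∧ a ≤ j then eqToHom (if_pos h.1) ≫ P.d i j ≫ eqToHom (if_pos h.2).symm else 0
  shape i j hij := by
    by_cases h : a ≤ i ∧ a ≤ j
    · rw [dif_pos h, P.shape i j hij, zero_comp, comp_zero]
    · rw [dif_neg h]
  d_comp_d' i j k _ _ := by
    by_cases h1 : a ≤ i ∧ a ≤ j
    · by_cases h2 : a ≤ j ∧ a ≤ k
      · rw [dif_pos h1, dif_pos h2]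
        simp
      · rw [dif_neg h2, comp_zero]
    · rw [dif_neg h1, zero_comp]

open Classical in
lemma sigmaGE_X_of_le (i : ℤ) (h : a ≤ i) : (sigmaGE P a).X i = P.X i := if_pos h

open Classical in
lemma isZero_sigmaGE_X (i : ℤ) (h : i < a) : IsZero ((sigmaGE P a).X i) := by
  have : (sigmaGE P a).X i = 0 := if_neg (not_le.mpr h)
  rw [this]
  exact isZero_zero C

/-- `(σ_{≥ a} P)^i ≅ P^i` for `i ≥ a` -/
noncomputable def sigmaGEXIso (i : ℤ) (h : a ≤ i) : (sigmaGE P a).X i ≅ P.X i :=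
  eqToIso (sigmaGE_X_of_le P a i h)

open Classical in
/-- the inclusion `σ_{≥ a} P ⟶ P` -/
noncomputable def sigmaGEι : sigmaGE P a ⟶ P where
  f i := if h : a ≤ i then eqToHom (if_pos h) else 0
  comm' i j hij := by
    have hij' : i + 1 = j := hij
    by_cases h : a ≤ i
    · have hj : a ≤ j := by omega
      rw [dif_pos h, dif_pos hj]
      change _ = (if h : a ≤ i ∧ a ≤ j then eqToHom (if_pos h.1) ≫ P.d i j ≫ eqToHom (if_pos h.2).symm else 0) ≫ _
      rw [dif_pos ⟨h, hj⟩]
      exact eqToHom_aux _ _ _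
    · rw [dif_neg h, zero_comp]
      change _ = (if h : a ≤ i ∧ a ≤ j then eqToHom (if_pos h.1) ≫ P.d i j ≫ eqToHom (if_pos h.2).symm else 0) ≫ _
      rw [dif_neg (fun h' => h h'.1), zero_comp]
      rfl

open Classical in
lemma sigmaGEι_f_of_le (i : ℤ) (h : a ≤ i) : (sigmaGEι P a).f i = (sigmaGEXIso P a i h).hom := by
  change (if h : a ≤ i then eqToHom (if_pos h) else 0) = _
  rw [dif_pos h]
  rfl

lemma isIso_sigmaGEι_f (i : ℤ) (h : a ≤ i) : IsIso ((sigmaGEι P a).f i) := by
  rw [sigmaGEι_f_of_le P a i h]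
  infer_instance

lemma isIso_homologyMap_sigmaGEι (i : ℤ) (h : a < i) :
    IsIso (HomologicalComplex.homologyMap (sigmaGEι P a) i) :=
  isIso_homologyMap_of_isIso_f _ i (isIso_sigmaGEι_f P a _ (by omega)) (isIso_sigmaGEι_f P a _ (by omega))
    (isIso_sigmaGEι_f P a _ (by omega))

lemma epi_homologyMap_sigmaGEι : Epi (HomologicalComplex.homologyMap (sigmaGEι P a) a) := by
  have := isIso_sigmaGEι_f P a (a + 1) (by omega)
  exact epi_homologyMap_of_isIso_f _ a (isIso_sigmaGEι_f P a _ le_rfl) inferInstance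

end Groth.Agent.Lib.helper25.SigmaGE
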