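import Mathlib
import Groth.Prelude.Def_KFlatSite
import Groth.Agent.Lib.Helper13.KFlat2
import Groth.Prelude.Def_DCoh4

/-!
# K-flat complexes form a triangulated class (helper25)

On a ringed site (`ModSite.IsKFlat`) and on a scheme (`DCoh.IsKFlat`), the K-flat complexes contain the
zero complexes and are stable under shifts and mapping cones: the hypotheses `hzero`, `hshift`,
`hcone` of `LDerAdapted`.

* `acyclic_shift`, `acyclic_of_iso`
* `isKFlat_of_isZero`, `isKFlat_shift`, `isKFlat_mappingCone` (ringed sites)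
* `dcoh_isKFlat_of_isZero`, `dcoh_isKFlat_shift`, `dcoh_isKFlat_mappingCone` (schemes)
-/

set_option autoImplicit false
universe u
open CategoryTheory Limits HomologicalComplex

namespace Groth.Agent.Lib.Helper25.KFlatTri

open Groth.Agent.Lib.helper13.KFlat

variable {C : Type u} [SmallCategory C] {J : GrothendieckTopology C} {O : Sheaf J CommRingCat.{u}}

/-- acyclicity is invariant under shifts -/
lemma acyclic_shift {D : Type*} [Category D] [Abelian D] (K : CochainComplex D ℤ) (n : ℤ)
    (h : K.Acyclic) : (K⟦n⟧).Acyclic := by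
  intro i
  rw [exactAt_iff_isZero_homology]
  exact IsZero.of_iso ((exactAt_iff_isZero_homology _ _).1 (h (i + n)))
    (((HomologicalComplex.homologyFunctor D (ComplexShape.up ℤ) 0).shiftIso n i (i + n)
      (by omega)).app K)

lemma acyclic_of_iso {D : Type*} [Category D] [Abelian D] {K K' : CochainComplex D ℤ}
    (e : K ≅ K') (h : K.Acyclic) : K'.Acyclic := by
  intro i
  rw [exactAt_iff_isZero_homology]
  exact IsZero.of_iso ((exactAt_iff_isZero_homology _ _).1 (h i))
    ((HomologicalComplex.homologyFunctor D _ i).mapIso e.symm)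

theorem isKFlat_shift (K : CochainComplex (ModSite.Mod O) ℤ) (n : ℤ) (h : ModSite.IsKFlat K) :
    ModSite.IsKFlat (K⟦n⟧) := by
  rw [isKFlat_iff] at h ⊢
  intro L hL
  exact acyclic_of_iso (CochainComplex.mapBifunctorShift₂Iso L K (ModSite.tensorBi O) n).symm
    (acyclic_shift _ n (h L hL))

theorem isKFlat_of_isZero (K : CochainComplex (ModSite.Mod O) ℤ) (h : IsZero K) :
    ModSite.IsKFlat K := by
  rw [isKFlat_iff]
  intro L _ i
  have hz : IsZero ((Φ (ModSite.tensorBi O) L).obj K) := Functor.map_isZero _ h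
  exact HomologicalComplex.ExactAt.of_isZero
    ((HomologicalComplex.eval _ _ i).map_isZero hz)

open CochainComplex in
theorem isKFlat_mappingCone {K K' : CochainComplex (ModSite.Mod O) ℤ} (f : K ⟶ K')
    (h : ModSite.IsKFlat K) (h' : ModSite.IsKFlat K') :
    ModSite.IsKFlat (mappingCone f) := by
  have hs := isKFlat_shift K 1 h
  rw [isKFlat_iff] at h' hs ⊢
  intro L hL
  have key : ((mappingCone.triangleRotateShortComplex f).map
      (Φ (ModSite.tensorBi O) L)).ShortExact := by
    refine shortExact_map_Φ _ (fun p q => ?_) (fun n => monoCoprod_mod O _)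
    exact ((mappingCone.triangleRotateShortComplexSplitting f q).map
      ((ModSite.tensorBi O).obj (L.X p))).shortExact
  exact (acyclic_two_of_three _ key).2.1 (h' L hL) (hs L hL)

section Schemes

open AlgebraicGeometry

variable {X : Scheme.{u}}

theorem dcoh_isKFlat_of_isZero (K : CochainComplex X.Modules ℤ) (h : IsZero K) :
    DCoh.IsKFlat K :=
  isKFlat_of_isZero (O := X.sheaf) K h

theorem dcoh_isKFlat_shift (K : CochainComplex X.Modules ℤ) (n : ℤ) (h : DCoh.IsKFlat K) :
    DCoh.IsKFlat (K⟦n⟧) :=
  isKFlat_shift (O := X.sheaf) K n h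

theorem dcoh_isKFlat_mappingCone {K K' : CochainComplex X.Modules ℤ} (f : K ⟶ K')
    (h : DCoh.IsKFlat K) (h' : DCoh.IsKFlat K') :
    DCoh.IsKFlat (CochainComplex.mappingCone f) :=
  isKFlat_mappingCone (O := X.sheaf) f h h'

end Schemes

end Groth.Agent.Lib.Helper25.KFlatTri
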