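import Mathlib

/-!
# `Tot F(L, K)` for `L` concentrated in degree `0` (helper25)

For an additive bifunctor `F` and a cochain complex `L` with `L.X p` zero for `p ≠ 0`:
* `totIso F L hL K : (F.obj (L.X 0)).mapHomologicalComplex.obj K ≅ mapBifunctor L K F (up ℤ)`, natural in `K`
  (`totIso_naturality`);
* `quasiIso_map_iff`: `Tot F(L, α)` is a quasi-iso iff the termwise `F(L⁰, α)` is;
* `quasiIso_map_iff_of_natIso`: termwise images of `α` under naturally isomorphic functors are quasi-isos together.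
-/

set_option autoImplicit false
open CategoryTheory Limits HomologicalComplex

namespace Groth.Agent.Lib.Helper25.TotSingle

section

variable {C₁ C₂ D : Type*} [Category C₁] [Category C₂] [Category D]
  [Preadditive C₁] [Preadditive C₂] [Preadditive D]
  (F : C₁ ⥤ C₂ ⥤ D) [F.Additive] [∀ X₁, (F.obj X₁).Additive]
  (L : CochainComplex C₁ ℤ) (hL : ∀ p : ℤ, p ≠ 0 → IsZero (L.X p))
  (K : CochainComplex C₂ ℤ) [HasMapBifunctor L K F (ComplexShape.up ℤ)]

include hL in
lemma isIso_ι (n : ℤ) :
    IsIso (ιMapBifunctor L K F (ComplexShape.up ℤ) 0 n n (zero_add n)) := by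
  classical
  refine ⟨mapBifunctorDesc (K₁ := L) (K₂ := K) (F := F) (c := ComplexShape.up ℤ)
    (fun p' q' h' => if hp : p' = 0 then eqToHom (by
      have h1 : p' + q' = n := h'
      have hq : q' = n := by omega
      rw [hq, hp]) else 0), ?_, ?_⟩
  · rw [ι_mapBifunctorDesc, dif_pos rfl]
    simp
  · apply mapBifunctor.hom_ext (K₁ := L) (K₂ := K) (F := F) (c := ComplexShape.up ℤ)
    intro p' q' h'
    rw [ι_mapBifunctorDesc_assoc, Category.comp_id]
    by_cases hp : p' = 0
    · subst hp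
      have h1 : (0 : ℤ) + q' = n := h'
      have hq : q' = n := by omega
      subst hq
      simp
    · apply IsZero.eq_of_src
      rw [IsZero.iff_id_eq_zero]
      have h0 : 𝟙 (L.X p') = 0 := (IsZero.iff_id_eq_zero _).1 (hL p' hp)
      have : (F.map (𝟙 (L.X p'))).app (K.X q') = 0 := by
        rw [h0, Functor.map_zero]; rfl
      rw [← this, CategoryTheory.Functor.map_id]; rfl

include hL in
lemma ι_d (n n' : ℤ) (h : n + 1 = n') :
    ιMapBifunctor L K F (ComplexShape.up ℤ) 0 n n (zero_add n) ≫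
        (mapBifunctor L K F (ComplexShape.up ℤ)).d n n' =
      (F.obj (L.X 0)).map (K.d n n') ≫
        ιMapBifunctor L K F (ComplexShape.up ℤ) 0 n' n' (zero_add n') := by
  have hd : L.d 0 1 = 0 := (hL 1 (by omega)).eq_of_tgt _ _
  have h2 : ComplexShape.π (ComplexShape.up ℤ) (ComplexShape.up ℤ) (ComplexShape.up ℤ)
      ((1 : ℤ), n) = n' := by
    change 1 + n = n'
    omega
  rw [mapBifunctor.d_eq, Preadditive.comp_add, mapBifunctor.ι_D₁, mapBifunctor.ι_D₂,
    mapBifunctor.d₁_eq L K F (ComplexShape.up ℤ)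
      (show (ComplexShape.up ℤ).Rel 0 1 from rfl) n n' h2,
    mapBifunctor.d₂_eq L K F (ComplexShape.up ℤ) 0
      (show (ComplexShape.up ℤ).Rel n n' from h) n' (zero_add n'),
    hd, Functor.map_zero]
  simp

/-- `Tot F(L, K) ≅ F(L⁰, K)` (termwise) when `L` is concentrated in degree `0`. -/
noncomputable def totIso :
    ((F.obj (L.X 0)).mapHomologicalComplex (ComplexShape.up ℤ)).obj K ≅
      mapBifunctor L K F (ComplexShape.up ℤ) :=
  Hom.isoOfComponents
    (fun n => @asIso _ _ _ _ (ιMapBifunctor L K F (ComplexShape.up ℤ) 0 n n (zero_add n))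
      (isIso_ι F L hL K n))
    (by
      intro i j hij
      exact (ι_d F L hL K i j hij).symm ▸ rfl)

@[simp]
lemma totIso_hom_f (n : ℤ) :
    (totIso F L hL K).hom.f n = ιMapBifunctor L K F (ComplexShape.up ℤ) 0 n n (zero_add n) := rfl

variable {K} {K' : CochainComplex C₂ ℤ} [HasMapBifunctor L K' F (ComplexShape.up ℤ)]

lemma totIso_naturality (α : K ⟶ K') :
    (totIso F L hL K).hom ≫ mapBifunctorMap (𝟙 L) α F (ComplexShape.up ℤ) =
      ((F.obj (L.X 0)).mapHomologicalComplex (ComplexShape.up ℤ)).map α ≫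
        (totIso F L hL K').hom := by
  ext n
  have h := ι_mapBifunctorMap (𝟙 L) α F (ComplexShape.up ℤ) 0 n n (zero_add n)
  rw [id_f, CategoryTheory.Functor.map_id] at h
  exact h.trans (Category.id_comp _)

end

section

variable {C₁ C₂ D : Type*} [Category C₁] [Category C₂] [Category D]
  [Preadditive C₁] [Preadditive C₂] [Abelian D]
  (F : C₁ ⥤ C₂ ⥤ D) [F.Additive] [∀ X₁, (F.obj X₁).Additive]
  (L : CochainComplex C₁ ℤ) (hL : ∀ p : ℤ, p ≠ 0 → IsZero (L.X p))
  {K K' : CochainComplex C₂ ℤ} [HasMapBifunctor L K F (ComplexShape.up ℤ)]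
  [HasMapBifunctor L K' F (ComplexShape.up ℤ)]

include hL in
lemma quasiIso_map_iff (α : K ⟶ K') :
    QuasiIso (((F.obj (L.X 0)).mapHomologicalComplex (ComplexShape.up ℤ)).map α) ↔
      QuasiIso (mapBifunctorMap (𝟙 L) α F (ComplexShape.up ℤ)) :=
  quasiIso_iff_of_arrow_mk_iso _ _
    (Arrow.isoMk (totIso F L hL K) (totIso F L hL K') (totIso_naturality F L hL α))

/-- naturally isomorphic additive functors: termwise images of a map are quasi-isos together -/
lemma quasiIso_map_iff_of_natIso {G G' : C₂ ⥤ D} [G.Additive] [G'.Additive] (e : G ≅ G')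
    (α : K ⟶ K') :
    QuasiIso ((G.mapHomologicalComplex (ComplexShape.up ℤ)).map α) ↔
      QuasiIso ((G'.mapHomologicalComplex (ComplexShape.up ℤ)).map α) :=
  quasiIso_iff_of_arrow_mk_iso _ _
    (Arrow.isoMk ((NatIso.mapHomologicalComplex e (ComplexShape.up ℤ)).app K)
      ((NatIso.mapHomologicalComplex e (ComplexShape.up ℤ)).app K')
      ((NatIso.mapHomologicalComplex e (ComplexShape.up ℤ)).hom.naturality α).symm)

end

end Groth.Agent.Lib.Helper25.TotSingle
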