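import Groth.Agent.Lib.Helper25.StalkKFlat
import Groth.Agent.Lib.Helper25.StalkPull
import Groth.Agent.Lib.Helper13.ExtKFlat

/-!
# The termwise pullback of a K-flat complex of `O_Y`-modules is K-flat

`isKFlat_pullback f K hK`, through the stalkwise criterion (`StalkKFlat`), the stalk of a pullback (`StalkPull`) and
helper13's `isKFlatR_extCx` (extension of scalars of a K-flat complex of modules is K-flat).
-/
set_option autoImplicit false
universe u
open CategoryTheory CategoryTheory.Limits AlgebraicGeometry Opposite TopologicalSpace MonoidalCategory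

namespace Groth.Agent.Lib.Helper25.PullKFlat

open Groth.Agent.Lib.Helper25.StalkKFlat Groth.Agent.Lib.Helper25.StalkSky
  Groth.Agent.Lib.Helper25.StalkTensorCx

lemma isKFlat_of_iso {A : Type u} [CommRing A] {K K' : DRing.Cx A} (e : K ≅ K')
    (hK : DRing.IsKFlat A K) : DRing.IsKFlat A K' := by
  intro L hL i
  exact (hK L hL i).of_iso ((HomologicalComplex.homologyFunctor _ _ i).mapIso (whiskerLeftIso L e.symm))

variable {X Y : Scheme.{u}} (f : X ⟶ Y)

/-- the complex of stalks of a termwise pullback -/
noncomputable def stalkCxPullbackIso (x : X) (K : CochainComplex Y.Modules ℤ) :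
    (stalkCx x).obj (((Scheme.Modules.pullback f).mapHomologicalComplex (ComplexShape.up ℤ)).obj K) ≅
      (Groth.Agent.Lib.helper13.ExtKFlat.extCx (f.stalkMap x).hom).obj ((stalkCx (f x)).obj K) :=
  (NatIso.mapHomologicalComplex (stalkPullbackIso f x) (ComplexShape.up ℤ)).app K

/-- the termwise pullback of a K-flat complex is K-flat -/
theorem isKFlat_pullback (K : CochainComplex Y.Modules ℤ) (hK : DCoh.IsKFlat K) :
    DCoh.IsKFlat (((Scheme.Modules.pullback f).mapHomologicalComplex (ComplexShape.up ℤ)).obj K) := by
  apply isKFlat_of_forall_stalk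
  intro x
  have h1 := isKFlat_stalk_of_isKFlat (f x) K hK
  have h2 := Groth.Agent.Lib.helper13.ExtKFlat.isKFlatR_extCx (f.stalkMap x).hom _ h1
  exact isKFlat_of_iso (stalkCxPullbackIso f x K).symm h2

end Groth.Agent.Lib.Helper25.PullKFlat
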