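import Mathlib
import Groth.Agent.Lib.Helper25.LDerAdapted2

/-!
# Left derived functors of triangulated functors preserve distinguished triangles (helper25)

Companion of `LDerAdapted`: the left-derived analogue of `RDerTri`.

* `exists_triangle_resolution A B hres T₀ hT₀`: every distinguished triangle receives a morphism with
  components in `B.trW` from a distinguished triangle with vertices in the adapted class `A`.
* `exists_distinguished A B hres L Φ hΦ LF ε hD T hT : ∃ h', Triangle.mk (LF.map T.mor₁) (LF.map T.mor₂) h' ∈ distTriang H`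
  (abstract version; `hD` says distinguished triangles of `D` come from `C`).
* `exists_distinguished_of_complex P₀ hzero hshift hcone hres₀ Φ hΦ₀ LF ε T hT` (derived categories).
* `isZero_homology_obj₂`: two-out-of-three for vanishing of `H^i(LF(-))`.
-/

set_option autoImplicit false
universe v₁ v₂ v₃ u₁ u₂ u₃
open CategoryTheory CategoryTheory.Limits Pretriangulated

namespace Groth.Agent.Lib.Helper25.LDerTri

open Groth.Agent.Lib.Helper25.LDerAdapted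

variable {C : Type u₁} [Category.{v₁} C] [HasZeroObject C] [HasShift C ℤ] [Preadditive C]
  [∀ n : ℤ, (shiftFunctor C n).Additive] [Pretriangulated C] [IsTriangulated C]
  {D : Type u₂} [Category.{v₂} D] [HasZeroObject D] [HasShift D ℤ] [Preadditive D]
  [∀ n : ℤ, (shiftFunctor D n).Additive] [Pretriangulated D]
  {H : Type u₃} [Category.{v₃} H] [HasZeroObject H] [HasShift H ℤ] [Preadditive H]
  [∀ n : ℤ, (shiftFunctor H n).Additive] [Pretriangulated H]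
  (A B : ObjectProperty C) [A.IsTriangulated] [A.IsClosedUnderIsomorphisms]
  [B.IsTriangulated] [B.IsClosedUnderIsomorphisms]
  (hres : ∀ X : C, ∃ (P : C) (s : P ⟶ X), A P ∧ B.trW s)
  (L : C ⥤ D) [L.IsLocalization B.trW] [L.CommShift ℤ] [L.IsTriangulated]

omit [A.IsClosedUnderIsomorphisms] [B.IsClosedUnderIsomorphisms] in
include hres in
/-- every distinguished triangle of `C` receives a morphism with components in `B.trW` from a
distinguished triangle with vertices in `A`. -/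
lemma exists_triangle_resolution (T₀ : Triangle C) (hT₀ : T₀ ∈ distTriang C) :
    ∃ (T' : Triangle C) (_ : T' ∈ distTriang C) (φ : T' ⟶ T₀), A T'.obj₁ ∧ A T'.obj₂ ∧ A T'.obj₃ ∧
      B.trW φ.hom₁ ∧ B.trW φ.hom₂ := by
  obtain ⟨P₂, s₂, hP₂, hs₂⟩ := hres T₀.obj₂
  obtain ⟨PX, sX, hPX, hsX⟩ := hres T₀.obj₁
  obtain ⟨P₁, t, g, hP₁, ht, fac⟩ := exists_arrow_resolution A B hres T₀.mor₁ sX s₂ hs₂
  obtain ⟨Z, hZ, b, c, hT'⟩ := A.distinguished_cocone_triangle g hP₁ hP₂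
  have fac' : g ≫ s₂ = (t ≫ sX) ≫ T₀.mor₁ := by rw [Category.assoc, fac]
  obtain ⟨s₃, h₂, h₃⟩ := complete_distinguished_triangle_morphism _ _ hT' hT₀ (t ≫ sX) s₂ fac'
  exact ⟨Triangle.mk g b c, hT', ⟨t ≫ sX, s₂, s₃, fac', h₂, h₃⟩, hP₁, hP₂, hZ,
    MorphismProperty.comp_mem _ _ _ ht hsX, hs₂⟩

variable (Φ : C ⥤ H) [Φ.CommShift ℤ] [Φ.IsTriangulated]
  (hΦ : ∀ ⦃P P' : C⦄ (s : P ⟶ P'), A P → A P' → B.trW s → IsIso (Φ.map s))
  (LF : D ⥤ H) (ε : L ⋙ LF ⟶ Φ) [LF.IsLeftDerivedFunctor ε B.trW]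
  (hD : ∀ T ∈ distTriang D, ∃ T₀ ∈ distTriang C, Nonempty (T ≅ L.mapTriangle.obj T₀))

include hres hΦ hD ε in
/-- A left derived functor (computed by an adapted triangulated class) of a triangulated functor
sends distinguished triangles to distinguished triangles (after changing the third map). -/
theorem exists_distinguished (T : Triangle D) (hT : T ∈ distTriang D) :
    ∃ h' : LF.obj T.obj₃ ⟶ (LF.obj T.obj₁)⟦(1 : ℤ)⟧,
      Triangle.mk (LF.map T.mor₁) (LF.map T.mor₂) h' ∈ distTriang H := by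
  obtain ⟨T₀, hT₀, ⟨e⟩⟩ := hD T hT
  obtain ⟨T', hT', φ, h₁, h₂, h₃, hφ₁, hφ₂⟩ := exists_triangle_resolution A B hres T₀ hT₀
  haveI i₁ : IsIso (L.map φ.hom₁) := Localization.inverts L B.trW _ hφ₁
  haveI i₂ : IsIso (L.map φ.hom₂) := Localization.inverts L B.trW _ hφ₂
  haveI i₃ : IsIso (L.map φ.hom₃) :=
    isIso₃_of_isIso₁₂ (L.mapTriangle.map φ) (L.map_distinguished _ hT')
      (L.map_distinguished _ hT₀) i₁ i₂
  let f₁ : L.obj T'.obj₁ ≅ L.obj T₀.obj₁ := asIso (L.map φ.hom₁)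
  let f₂ : L.obj T'.obj₂ ≅ L.obj T₀.obj₂ := asIso (L.map φ.hom₂)
  let f₃ : L.obj T'.obj₃ ≅ L.obj T₀.obj₃ := asIso (L.map φ.hom₃)
  let g₁ : T.obj₁ ≅ L.obj T₀.obj₁ := Triangle.π₁.mapIso e
  let g₂ : T.obj₂ ≅ L.obj T₀.obj₂ := Triangle.π₂.mapIso e
  let g₃ : T.obj₃ ≅ L.obj T₀.obj₃ := Triangle.π₃.mapIso e
  let e₁ : T.obj₁ ≅ L.obj T'.obj₁ := g₁ ≪≫ f₁.symm
  let e₂ : T.obj₂ ≅ L.obj T'.obj₂ := g₂ ≪≫ f₂.symm
  let e₃ : T.obj₃ ≅ L.obj T'.obj₃ := g₃ ≪≫ f₃.symm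
  have c₁ : T.mor₁ ≫ e₂.hom = e₁.hom ≫ L.map T'.mor₁ := by
    have h0 : T.mor₁ ≫ g₂.hom = g₁.hom ≫ L.map T₀.mor₁ := e.hom.comm₁
    have h : L.map T'.mor₁ ≫ f₂.hom = f₁.hom ≫ L.map T₀.mor₁ := by
      change L.map T'.mor₁ ≫ L.map φ.hom₂ = L.map φ.hom₁ ≫ L.map T₀.mor₁
      rw [← L.map_comp, ← L.map_comp, φ.comm₁]
    have h' : f₁.inv ≫ L.map T'.mor₁ = L.map T₀.mor₁ ≫ f₂.inv := by
      rw [Iso.inv_comp_eq, ← Category.assoc, Iso.eq_comp_inv, h]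
    change T.mor₁ ≫ g₂.hom ≫ f₂.inv = (g₁.hom ≫ f₁.inv) ≫ L.map T'.mor₁
    rw [Category.assoc, h', ← Category.assoc, ← Category.assoc, h0]
  have c₂ : T.mor₂ ≫ e₃.hom = e₂.hom ≫ L.map T'.mor₂ := by
    have h0 : T.mor₂ ≫ g₃.hom = g₂.hom ≫ L.map T₀.mor₂ := e.hom.comm₂
    have h : L.map T'.mor₂ ≫ f₃.hom = f₂.hom ≫ L.map T₀.mor₂ := by
      change L.map T'.mor₂ ≫ L.map φ.hom₃ = L.map φ.hom₂ ≫ L.map T₀.mor₂
      rw [← L.map_comp, ← L.map_comp, φ.comm₂]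
    have h' : f₂.inv ≫ L.map T'.mor₂ = L.map T₀.mor₂ ≫ f₃.inv := by
      rw [Iso.inv_comp_eq, ← Category.assoc, Iso.eq_comp_inv, h]
    change T.mor₂ ≫ g₃.hom ≫ f₃.inv = (g₂.hom ≫ f₂.inv) ≫ L.map T'.mor₂
    rw [Category.assoc, h', ← Category.assoc, ← Category.assoc, h0]
  haveI j₁ := isIso_counit_app A B hres L Φ hΦ LF ε T'.obj₁ h₁
  haveI j₂ := isIso_counit_app A B hres L Φ hΦ LF ε T'.obj₂ h₂
  haveI j₃ := isIso_counit_app A B hres L Φ hΦ LF ε T'.obj₃ h₃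
  let θ₁ : Φ.obj T'.obj₁ ≅ LF.obj T.obj₁ := (asIso (ε.app T'.obj₁)).symm ≪≫ LF.mapIso e₁.symm
  let θ₂ : Φ.obj T'.obj₂ ≅ LF.obj T.obj₂ := (asIso (ε.app T'.obj₂)).symm ≪≫ LF.mapIso e₂.symm
  let θ₃ : Φ.obj T'.obj₃ ≅ LF.obj T.obj₃ := (asIso (ε.app T'.obj₃)).symm ≪≫ LF.mapIso e₃.symm
  have n₁ : LF.map (L.map T'.mor₁) ≫ ε.app T'.obj₂ = ε.app T'.obj₁ ≫ Φ.map T'.mor₁ :=
    ε.naturality T'.mor₁
  have n₂ : LF.map (L.map T'.mor₂) ≫ ε.app T'.obj₃ = ε.app T'.obj₂ ≫ Φ.map T'.mor₂ :=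
    ε.naturality T'.mor₂
  refine ⟨θ₃.inv ≫ (Φ.mapTriangle.obj T').mor₃ ≫ θ₁.hom⟦(1 : ℤ)⟧', ?_⟩
  refine isomorphic_distinguished _ (Φ.map_distinguished _ hT') _
    (Triangle.isoMk _ _ θ₁ θ₂ θ₃ ?_ ?_ ?_).symm
  · -- Φ.map T'.mor₁ ≫ θ₂.hom = θ₁.hom ≫ LF.map T.mor₁
    have c₁' : e₁.inv ≫ T.mor₁ = L.map T'.mor₁ ≫ e₂.inv := by
      rw [Iso.inv_comp_eq, ← Category.assoc, Iso.eq_comp_inv, c₁]
    change Φ.map T'.mor₁ ≫ inv (ε.app T'.obj₂) ≫ LF.map e₂.inv =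
      (inv (ε.app T'.obj₁) ≫ LF.map e₁.inv) ≫ LF.map T.mor₁
    rw [Category.assoc, ← LF.map_comp, c₁', LF.map_comp, IsIso.eq_inv_comp, ← Category.assoc,
      ← Category.assoc, ← n₁, Category.assoc, Category.assoc, IsIso.hom_inv_id_assoc]
  · have c₂' : e₂.inv ≫ T.mor₂ = L.map T'.mor₂ ≫ e₃.inv := by
      rw [Iso.inv_comp_eq, ← Category.assoc, Iso.eq_comp_inv, c₂]
    change Φ.map T'.mor₂ ≫ inv (ε.app T'.obj₃) ≫ LF.map e₃.inv =
      (inv (ε.app T'.obj₂) ≫ LF.map e₂.inv) ≫ LF.map T.mor₂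
    rw [Category.assoc, ← LF.map_comp, c₂', LF.map_comp, IsIso.eq_inv_comp, ← Category.assoc,
      ← Category.assoc, ← n₂, Category.assoc, Category.assoc, IsIso.hom_inv_id_assoc]
  · exact (Iso.hom_inv_id_assoc θ₃ _).symm

end Groth.Agent.Lib.Helper25.LDerTri

namespace Groth.Agent.Lib.Helper25.LDerTri

universe w v u

open HomotopyCategory Groth.Agent.Lib.Helper25.LDerAdapted

variable {A₀ : Type u} [Category.{v} A₀] [Abelian A₀] [HasDerivedCategory.{w} A₀]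
  {H : Type u₃} [Category.{v₃} H] [HasZeroObject H] [HasShift H ℤ] [Preadditive H]
  [∀ n : ℤ, (shiftFunctor H n).Additive] [Pretriangulated H]
  (P₀ : ObjectProperty (CochainComplex A₀ ℤ))
  (hzero : ∃ Z : CochainComplex A₀ ℤ, IsZero Z ∧ P₀ Z)
  (hshift : ∀ (E : CochainComplex A₀ ℤ) (n : ℤ), P₀ E → P₀ (E⟦n⟧))
  (hcone : ∀ {E E' : CochainComplex A₀ ℤ} (f : E ⟶ E'), P₀ E → P₀ E' →
    P₀ (CochainComplex.mappingCone f))
  (hres₀ : ∀ E : CochainComplex A₀ ℤ, ∃ (E' : CochainComplex A₀ ℤ) (f : E' ⟶ E),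
    P₀ E' ∧ QuasiIso f)
  (Φ : HomotopyCategory A₀ (ComplexShape.up ℤ) ⥤ H) [Φ.CommShift ℤ] [Φ.IsTriangulated]
  (hΦ₀ : ∀ {E E' : CochainComplex A₀ ℤ} (f : E ⟶ E'), P₀ E → P₀ E' → QuasiIso f →
    IsIso (Φ.map ((quotient _ _).map f)))
  (LF : DerivedCategory A₀ ⥤ H) (ε : DerivedCategory.Qh ⋙ LF ⟶ Φ)
  [LF.IsLeftDerivedFunctor ε (HomotopyCategory.quasiIso A₀ (ComplexShape.up ℤ))]

include hzero hshift hcone hres₀ hΦ₀ ε in
/-- **Left derived functors of triangulated functors are triangulated** (up to the choice of the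
third map), when computed by an adapted class of complexes. -/
theorem exists_distinguished_of_complex (T : Triangle (DerivedCategory A₀))
    (hT : T ∈ distTriang (DerivedCategory A₀)) :
    ∃ h' : LF.obj T.obj₃ ⟶ (LF.obj T.obj₁)⟦(1 : ℤ)⟧,
      Triangle.mk (LF.map T.mor₁) (LF.map T.mor₂) h' ∈ distTriang H := by
  haveI := isTriangulated_strictP P₀ hzero hshift hcone
  haveI : LF.IsLeftDerivedFunctor ε (subcategoryAcyclic A₀).trW :=
    (Functor.isLeftDerivedFunctor_iff_isRightKanExtension LF ε _).2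
      ((Functor.isLeftDerivedFunctor_iff_isRightKanExtension LF ε
        (HomotopyCategory.quasiIso A₀ (ComplexShape.up ℤ))).1 inferInstance)
  refine exists_distinguished (strictP P₀).isoClosure (subcategoryAcyclic A₀)
    (hres_of_complex P₀ hres₀) DerivedCategory.Qh Φ (hΦ_of_complex P₀ Φ hΦ₀) LF ε ?_ T hT
  intro T hT
  obtain ⟨T', e, hT'⟩ := hT
  exact ⟨T', hT', ⟨e⟩⟩

section Homology

variable {B₀ : Type*} [Category B₀] [Abelian B₀] [HasDerivedCategory B₀]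
  (Φ' : HomotopyCategory A₀ (ComplexShape.up ℤ) ⥤ DerivedCategory B₀) [Φ'.CommShift ℤ]
  [Φ'.IsTriangulated]
  (hΦ₀' : ∀ {E E' : CochainComplex A₀ ℤ} (f : E ⟶ E'), P₀ E → P₀ E' → QuasiIso f →
    IsIso (Φ'.map ((quotient _ _).map f)))
  (LF' : DerivedCategory A₀ ⥤ DerivedCategory B₀) (ε' : DerivedCategory.Qh ⋙ LF' ⟶ Φ')
  [LF'.IsLeftDerivedFunctor ε' (HomotopyCategory.quasiIso A₀ (ComplexShape.up ℤ))]

include hzero hshift hcone hres₀ hΦ₀' ε' in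
/-- Two-out-of-three for vanishing of `H^i(LF(-))` along distinguished triangles. -/
theorem isZero_homology_obj₂ (T : Triangle (DerivedCategory A₀))
    (hT : T ∈ distTriang (DerivedCategory A₀)) (i : ℤ)
    (h₁ : IsZero ((DerivedCategory.homologyFunctor B₀ i).obj (LF'.obj T.obj₁)))
    (h₃ : IsZero ((DerivedCategory.homologyFunctor B₀ i).obj (LF'.obj T.obj₃))) :
    IsZero ((DerivedCategory.homologyFunctor B₀ i).obj (LF'.obj T.obj₂)) := by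
  obtain ⟨h', hd⟩ := exists_distinguished_of_complex P₀ hzero hshift hcone hres₀ Φ' hΦ₀' LF' ε' T hT
  have ex := DerivedCategory.HomologySequence.exact₂ _ hd i
  exact ex.isZero_of_both_zeros (h₁.eq_of_src _ _) (h₃.eq_of_tgt _ _)

end Homology

end Groth.Agent.Lib.Helper25.LDerTri
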