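import Mathlib
import Groth.Prelude.Def_DTor2
import Groth.Agent.Lib.Helper25.LDerAdapted2
import Groth.Agent.Lib.Helper25.LDerTri
import Groth.Agent.Lib.Helper25.KFlatTri
import Groth.Agent.Lib.Helper13.KRes5
import Groth.Agent.Lib.Helper13.KFlat11

/-!
# `K ⊗^L M` on schemes is computed on K-flat complexes (helper25)

Instantiation of `LDerAdapted` / `LDerTri` for `DCoh.LTensorMod M`, with the K-flat complexes of
`O_X`-modules as adapted class (`KFlatTri`, helper13 `KRes5`).  The only remaining input is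
`TensorRightQis M`: termwise `- ⊗ M` sends quasi-isomorphisms between K-flat complexes to
quasi-isomorphisms.

* `hasLTensorMod M hM : HasLTensorMod M`
* `isIso_counit_app M hM E hE`, `nonempty_LTensorMod_iso M hM E hE : (LTensorMod M).obj (Q.obj E) ≅ Q.obj (E ⊗ M)`
* `isZero_HD_LTensorMod_of_hasFlatAmplitudeIn`, `isZero_HD_LTensorMod_obj₂`
-/

set_option autoImplicit false
universe u
open CategoryTheory CategoryTheory.Limits AlgebraicGeometry Pretriangulated ZeroObject

attribute [local instance] HasDerivedCategory.standard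

namespace Groth.Agent.Lib.Helper25.LTensorDCoh

open DCoh Groth.Agent.Lib.Helper25.LDerAdapted Groth.Agent.Lib.Helper25.KFlatTri

variable {X : Scheme.{u}}

/-- `- ⊗ M` (termwise) sends quasi-isomorphisms between K-flat complexes to quasi-isomorphisms. -/
def TensorRightQis (M : X.Modules) : Prop :=
  ∀ {E E' : CochainComplex X.Modules ℤ} (f : E ⟶ E'), DCoh.IsKFlat E → DCoh.IsKFlat E' →
    QuasiIso f → QuasiIso (((tensorRightMod M).mapHomologicalComplex (ComplexShape.up ℤ)).map f)

lemma hzero : ∃ Z : CochainComplex X.Modules ℤ, IsZero Z ∧ DCoh.IsKFlat Z :=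
  ⟨0, isZero_zero _, dcoh_isKFlat_of_isZero _ (isZero_zero _)⟩

lemma hres₀ (E : CochainComplex X.Modules ℤ) :
    ∃ (E' : CochainComplex X.Modules ℤ) (f : E' ⟶ E), DCoh.IsKFlat E' ∧ QuasiIso f := by
  obtain ⟨K, q, hK, -, hq, -⟩ := Groth.Agent.Lib.helper13.KRes.dcoh_exists_kFlat_resolution E
  exact ⟨K, q, hK, hq⟩

variable (M : X.Modules) (hM : TensorRightQis M)

include hM in
lemma hΦ₀ {E E' : CochainComplex X.Modules ℤ} (f : E ⟶ E') (hE : DCoh.IsKFlat E)
    (hE' : DCoh.IsKFlat E') (hf : QuasiIso f) :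
    IsIso ((tensorModKh M).map ((HomotopyCategory.quotient _ _).map f)) := by
  have := hM f hE hE' hf
  change IsIso (DerivedCategory.Q.map
    (((tensorRightMod M).mapHomologicalComplex (ComplexShape.up ℤ)).map f))
  rw [DerivedCategory.isIso_Q_map_iff_quasiIso]
  exact this

include hM in
theorem hasLTensorMod : HasLTensorMod M :=
  hasLeftDerivedFunctor_Qh (fun E => DCoh.IsKFlat E) hzero
    (fun E n h => dcoh_isKFlat_shift E n h) (fun f h h' => dcoh_isKFlat_mappingCone f h h')
    hres₀ (tensorModKh M) (fun f hE hE' hf => hΦ₀ M hM f hE hE' hf)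

include hM in
theorem isIso_counit_app [HasLTensorMod M] (E : CochainComplex X.Modules ℤ) (hE : DCoh.IsKFlat E) :
    IsIso (((tensorModKh M).totalLeftDerivedCounit DerivedCategory.Qh
      (HomotopyCategory.quasiIso X.Modules (ComplexShape.up ℤ))).app
        ((HomotopyCategory.quotient _ _).obj E)) :=
  isIso_counit_app_quotient_obj (fun E => DCoh.IsKFlat E) hzero
    (fun E n h => dcoh_isKFlat_shift E n h) (fun f h h' => dcoh_isKFlat_mappingCone f h h')
    hres₀ (tensorModKh M) (fun f hE hE' hf => hΦ₀ M hM f hE hE' hf) _ _ E hE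

include hM in
/-- `K ⊗^L M` is computed termwise on K-flat complexes. -/
theorem nonempty_LTensorMod_iso [HasLTensorMod M] (E : CochainComplex X.Modules ℤ)
    (hE : DCoh.IsKFlat E) :
    Nonempty ((LTensorMod M).obj (DerivedCategory.Q.obj E) ≅
      DerivedCategory.Q.obj
        (((tensorRightMod M).mapHomologicalComplex (ComplexShape.up ℤ)).obj E)) := by
  have h := isIso_counit_app M hM E hE
  exact ⟨@asIso _ _ _ _ _ h⟩

include hM in
/-- vanishing of `H^i(K ⊗^L M)` from a flat representative in `[a, b]`. -/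
theorem isZero_HD_LTensorMod_of_hasFlatAmplitudeIn [HasLTensorMod M] (a b : ℤ) (K : D X)
    (hK : HasFlatAmplitudeIn a b K) (i : ℤ) (hi : i < a ∨ b < i) :
    IsZero (HD ((LTensorMod M).obj K) i) := by
  obtain ⟨E, hV, hfl, ⟨e⟩⟩ := hK
  have hE : DCoh.IsKFlat E :=
    Groth.Agent.Lib.helper13.KFlat.dcoh_isKFlat_of_bounded_above E b
      (fun q hq => hV q (Or.inr hq)) hfl
  obtain ⟨e'⟩ := nonempty_LTensorMod_iso M hM E hE
  refine IsZero.of_iso ?_ ((DerivedCategory.homologyFunctor X.Modules i).mapIso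
    ((LTensorMod M).mapIso e.symm ≪≫ e') ≪≫
      (DerivedCategory.homologyFunctorFactors X.Modules i).app _)
  exact (HomologicalComplex.ExactAt.of_isZero
    ((tensorRightMod M).map_isZero (hV i hi))).isZero_homology

include hM in
theorem isZero_HD_LTensorMod_obj₂ [HasLTensorMod M] (T : Triangle (D X))
    (hT : T ∈ distTriang (D X)) (i : ℤ)
    (h₁ : IsZero (HD ((LTensorMod M).obj T.obj₁) i))
    (h₃ : IsZero (HD ((LTensorMod M).obj T.obj₃) i)) :
    IsZero (HD ((LTensorMod M).obj T.obj₂) i) :=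
  Groth.Agent.Lib.Helper25.LDerTri.isZero_homology_obj₂ (fun E => DCoh.IsKFlat E) hzero
    (fun E n h => dcoh_isKFlat_shift E n h) (fun f h h' => dcoh_isKFlat_mappingCone f h h')
    hres₀ (tensorModKh M) (fun f hE hE' hf => hΦ₀ M hM f hE hE' hf) (LTensorMod M)
    ((tensorModKh M).totalLeftDerivedCounit DerivedCategory.Qh
      (HomotopyCategory.quasiIso X.Modules (ComplexShape.up ℤ))) T hT i h₁ h₃

end Groth.Agent.Lib.Helper25.LTensorDCoh
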