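import Mathlib
import Groth.Prelude.Def_KFlatSite
import Groth.Agent.Lib.Helper2.KFlatSite
import Groth.Agent.Lib.Helper13.KFlat10
import Groth.Agent.Lib.Helper21.FlatSES
import Groth.Agent.Lib.Helper21.ModGroth

/-!
# Derived tensor product with a K-flat complex on a ringed site (helper25)

* `isZero_sigma`, `isFlat_sigma`: a (`Type`-indexed) coproduct of flat `O`-modules is flat;
* `isFlat_tot_X`, `isZero_tot_X`: the terms of `Tot(P ⊗ F)`;
* `isInvertedBy_tensorCxQ`: for K-flat `F`, `- ⊗ F` preserves quasi-isomorphisms (helper2's S9050), hence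
  `nonempty_LTensorCx_iso : (LTensorCx F).obj (Q.obj E) ≅ Q.obj (Tot(E ⊗ F))` for EVERY complex `E`;
* `exists_flatModel_ltensor` (= S6247): flat amplitudes add under `⊗^L`.
-/

set_option autoImplicit false
universe u
open CategoryTheory Limits HomologicalComplex

attribute [local instance] HasDerivedCategory.standard

namespace Groth.Agent.Lib.Helper25.SiteLTensor

open Groth.Agent.Lib.Helper21.TensorMon Groth.Agent.Lib.Helper21.TensorAdj
  Groth.Agent.Lib.Helper21.FlatSES

variable {C : Type u} [SmallCategory C] {J : GrothendieckTopology C} (O : Sheaf J CommRingCat.{u})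

/-- a coproduct of zero objects is zero -/
lemma isZero_sigma {𝒜 : Type*} [Category 𝒜] [HasZeroMorphisms 𝒜] {A : Type*} (M : A → 𝒜)
    [HasCoproduct M] (h : ∀ a, IsZero (M a)) : IsZero (∐ M) := by
  rw [IsZero.iff_id_eq_zero]
  apply Sigma.hom_ext
  intro a
  exact (h a).eq_of_src _ _

/-- a small coproduct of flat modules is flat -/
theorem isFlat_sigma {A : Type} (M : A → ModSite.Mod O) [HasCoproduct M]
    (hM : ∀ a, ModSite.IsFlat (M a)) : ModSite.IsFlat (∐ M) := by
  haveI : AB5OfSize.{u, u} (ModSite.Mod O) :=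
    Groth.Agent.Lib.Helper21.ModGroth.ab5_mod (ModSite.ringSh O)
  haveI : HasFiniteBiproducts (ModSite.Mod O) := HasFiniteBiproducts.of_hasFiniteProducts
  haveI : AB4OfSize.{u} (ModSite.Mod O) := AB4.of_AB5 _
  haveI : AB4OfSize.{0} (ModSite.Mod O) := AB4OfSize_shrink.{0, u} (ModSite.Mod O)
  refine isFlat_of_mono _ (fun {N N'} f _ => ?_)
  haveI := isLeftAdjoint_tensL O N
  haveI := isLeftAdjoint_tensL O N'
  let c : Cofan M := Cofan.mk (∐ M) (Sigma.ι M)
  have hc : IsColimit c := coproductIsCoproduct M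
  have hc₁ : IsColimit ((tensL O N).mapCocone c) := isColimitOfPreserves (tensL O N) hc
  have hc₂ : IsColimit ((tensL O N').mapCocone c) := isColimitOfPreserves (tensL O N') hc
  let φ : Discrete.functor M ⋙ tensL O N ⟶ Discrete.functor M ⋙ tensL O N' :=
    { app := fun a => (tens O (M a.as)).map f
      naturality := by
        rintro ⟨a⟩ ⟨b⟩ ⟨⟨h⟩⟩
        cases h
        simp }
  haveI : ∀ a, Mono (φ.app a) := fun a => mono_tens_of_isFlat (M a.as) (hM a.as) f
  haveI : Mono φ := NatTrans.mono_of_mono_app φ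
  exact colim.map_mono' φ hc₁ hc₂ ((tens O (∐ M)).map f) (fun a =>
    (((ModSite.tensorBi O).map f).naturality (Sigma.ι M a.as)))

section tot

variable (P F : CochainComplex (ModSite.Mod O) ℤ)

/-- the terms of `Tot(P ⊗ F)` are flat when the terms of `P` and `F` are -/
theorem isFlat_tot_X (hP : ∀ i : ℤ, ModSite.IsFlat (P.X i)) (hF : ∀ i : ℤ, ModSite.IsFlat (F.X i))
    (k : ℤ) : ModSite.IsFlat ((((ModSite.tensorCx O).obj P).obj F).X k) := by
  change ModSite.IsFlat (∐ fun (i : (ComplexShape.π (ComplexShape.up ℤ) (ComplexShape.up ℤ)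
      (ComplexShape.up ℤ)) ⁻¹' {k}) =>
    ((ModSite.tensorBi O).obj (P.X i.1.1)).obj (F.X i.1.2))
  exact isFlat_sigma O _ (fun i => isFlat_tensor _ _ (hP _) (hF _))

theorem isZero_tot_X (k : ℤ)
    (h : ∀ i j : ℤ, i + j = k → IsZero (P.X i) ∨ IsZero (F.X j)) :
    IsZero ((((ModSite.tensorCx O).obj P).obj F).X k) := by
  change IsZero (∐ fun (i : (ComplexShape.π (ComplexShape.up ℤ) (ComplexShape.up ℤ)
      (ComplexShape.up ℤ)) ⁻¹' {k}) =>
    ((ModSite.tensorBi O).obj (P.X i.1.1)).obj (F.X i.1.2))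
  refine isZero_sigma _ (fun i => ?_)
  rcases h i.1.1 i.1.2 i.2 with h1 | h2
  · haveI := additive_tens (F.X i.1.2)
    exact (tens O (F.X i.1.2)).map_isZero h1
  · haveI := additive_tensL (P.X i.1.1)
    exact (tensL O (P.X i.1.1)).map_isZero h2

end tot

section derived

open Groth.Agent.Lib.helper2.KFlatSite Groth.Agent.Lib.helper2.BifunctorExact

variable (F : CochainComplex (ModSite.Mod O) ℤ)

/-- for K-flat `F`, `- ⊗ F` preserves quasi-isomorphisms -/
theorem isInvertedBy_tensorCxQ (hF : ModSite.IsKFlat F) :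
    (HomologicalComplex.quasiIso (ModSite.Mod O) (ComplexShape.up ℤ)).IsInvertedBy
      (ModSite.tensorCxQ F) := by
  intro K K' f hf
  haveI : QuasiIso f := hf
  change IsIso (DerivedCategory.Q.map
    (mapBifunctorMap f (𝟙 F) (ModSite.tensorBi O) (ComplexShape.up ℤ)))
  rw [DerivedCategory.isIso_Q_map_iff_quasiIso]
  exact quasiIso_Ψ_map (ModSite.tensorBi O) F ((isKFlat_iff F).1 hF) f

/-- for K-flat `F`, `E ⊗^L F = Tot(E ⊗ F)` for every complex `E` -/
theorem nonempty_LTensorCx_iso (hF : ModSite.IsKFlat F) [ModSite.HasLTensorCx F]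
    (E : CochainComplex (ModSite.Mod O) ℤ) :
    Nonempty ((ModSite.LTensorCx F).obj (DerivedCategory.Q.obj E) ≅
      DerivedCategory.Q.obj (((ModSite.tensorCx O).obj E).obj F)) := by
  have h := Functor.isIso_of_isLeftDerivedFunctor_of_inverts (ModSite.LTensorCx F)
    ((ModSite.tensorCxQ F).totalLeftDerivedCounit DerivedCategory.Q
      (HomologicalComplex.quasiIso (ModSite.Mod O) (ComplexShape.up ℤ)))
    (isInvertedBy_tensorCxQ O F hF)
  exact ⟨asIso (((ModSite.tensorCxQ F).totalLeftDerivedCounit DerivedCategory.Q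
      (HomologicalComplex.quasiIso (ModSite.Mod O) (ComplexShape.up ℤ))).app E)⟩

end derived

/-- flat amplitudes add under the derived tensor product -/
theorem exists_flatModel_ltensor (E P : CochainComplex (ModSite.Mod O) ℤ)
    (m n : ℤ) (hP : ∀ i : ℤ, ModSite.IsFlat (P.X i)) (hPb : ∀ i : ℤ, i < m ∨ n < i → IsZero (P.X i))
    (eP : DerivedCategory.Q.obj P ≅ DerivedCategory.Q.obj E) (F : CochainComplex (ModSite.Mod O) ℤ)
    (m' n' : ℤ) (hF : ∀ i : ℤ, ModSite.IsFlat (F.X i))
    (hFb : ∀ i : ℤ, i < m' ∨ n' < i → IsZero (F.X i))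
    [ModSite.HasLTensorCx F] :
    ∃ G : CochainComplex (ModSite.Mod O) ℤ, (∀ i : ℤ, ModSite.IsFlat (G.X i)) ∧
      (∀ i : ℤ, i < m + m' ∨ n + n' < i → IsZero (G.X i)) ∧
      Nonempty (DerivedCategory.Q.obj G ≅
        (ModSite.LTensorCx F).obj (DerivedCategory.Q.obj E)) := by
  have hFK : ModSite.IsKFlat F :=
    Groth.Agent.Lib.helper13.KFlat.isKFlat_of_bounded_above F n' (fun q hq => hFb q (Or.inr hq)) hF
  obtain ⟨e⟩ := nonempty_LTensorCx_iso O F hFK P
  refine ⟨((ModSite.tensorCx O).obj P).obj F, isFlat_tot_X O P F hP hF, ?_,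
    ⟨e.symm ≪≫ (ModSite.LTensorCx F).mapIso eP⟩⟩
  intro k hk
  refine isZero_tot_X O P F k (fun i j hij => ?_)
  by_cases h1 : i < m ∨ n < i
  · exact Or.inl (hPb i h1)
  · refine Or.inr (hFb j ?_)
    omega

end Groth.Agent.Lib.Helper25.SiteLTensor
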