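import Mathlib
import Groth.Prelude.Def_ModSite
import Groth.Agent.Lib.Helper21.TensorMon

/-!
# The associator of `ModSite.tensorBi` as an isomorphism of trifunctors (helper25)

* `assocApp A B D : (A ⊗ B) ⊗ D ≅ A ⊗ (B ⊗ D)` for sheaves of modules on a ringed site (sheafification of the
  presheaf associator, corrected by the sheafification units), natural in all three variables
  (`assocApp_nat₁/₂/₃`).
* `associator O : bifunctorComp₁₂ (tensorBi O) (tensorBi O) ≅ bifunctorComp₂₃ (tensorBi O) (tensorBi O)`: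
  the input of Mathlib's `HomologicalComplex.mapBifunctorAssociator`.
-/

set_option autoImplicit false
universe u
open CategoryTheory MonoidalCategory Opposite Limits

namespace Groth.Agent.Lib.Helper25.TensorAssoc1

open Groth.Agent.Lib.Helper21.TensorW Groth.Agent.Lib.Helper21.TensorAdj
  Groth.Agent.Lib.Helper21.TensorMon

variable {C : Type u} [SmallCategory C] {J : GrothendieckTopology C} (O : Sheaf J CommRingCat.{u})

/-- the tensor bifunctor, abbreviated -/
noncomputable abbrev T : ModSite.Mod O ⥤ ModSite.Mod O ⥤ ModSite.Mod O := ModSite.tensorBi O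

lemma T_obj_obj (A B : ModSite.Mod O) : ((T O).obj A).obj B = (shf O).obj (pv A ⊗ pv B) := rfl

lemma T_obj_map (A : ModSite.Mod O) {B B' : ModSite.Mod O} (g : B ⟶ B') :
    ((T O).obj A).map g = (shf O).map (pv A ◁ pvMap g) := rfl

lemma T_map_app {A A' : ModSite.Mod O} (f : A ⟶ A') (B : ModSite.Mod O) :
    ((T O).map f).app B = (shf O).map (pvMap f ▷ pv B) := rfl

variable {O}

/-- general naturality pattern -/
lemma nat_aux {P P' Q Q' R R' : PM O} (u : P ⟶ Q) (u' : P' ⟶ Q')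
    [IsIso ((shf O).map u)] [IsIso ((shf O).map u')] (m : P ⟶ R) (m' : P' ⟶ R')
    (f₀ : P ⟶ P') (f₁ : Q ⟶ Q') (f₂ : R ⟶ R') (h₁ : u ≫ f₁ = f₀ ≫ u') (h₂ : f₀ ≫ m' = m ≫ f₂) :
    (shf O).map f₁ ≫ inv ((shf O).map u') ≫ (shf O).map m' =
      (inv ((shf O).map u) ≫ (shf O).map m) ≫ (shf O).map f₂ := by
  rw [Category.assoc, IsIso.eq_inv_comp, ← Functor.map_comp, ← h₂, Functor.map_comp,
    ← Category.assoc, ← Functor.map_comp, h₁, Functor.map_comp, Category.assoc,
    IsIso.hom_inv_id_assoc]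

/-- the map `u` -/
noncomputable abbrev uMap (A B D : ModSite.Mod O) :
    (pv A ⊗ pv B) ⊗ pv D ⟶ pv ((shf O).obj (pv A ⊗ pv B)) ⊗ pv D :=
  unitP O (pv A ⊗ pv B) ▷ pv D

/-- the map `v` -/
noncomputable abbrev vMap (A B D : ModSite.Mod O) :
    pv A ⊗ (pv B ⊗ pv D) ⟶ pv A ⊗ pv ((shf O).obj (pv B ⊗ pv D)) :=
  pv A ◁ unitP O (pv B ⊗ pv D)

instance isIso_u (A B D : ModSite.Mod O) : IsIso ((shf O).map (uMap A B D)) :=
  isIso_shf_map_whiskerRight (unitP O (pv A ⊗ pv B)) (pv D)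

instance isIso_v (A B D : ModSite.Mod O) : IsIso ((shf O).map (vMap A B D)) :=
  isIso_shf_map_whiskerLeft (pv A) (unitP O (pv B ⊗ pv D))

/-- the components of the associator -/
noncomputable def assocApp (A B D : ModSite.Mod O) :
    ((T O).obj (((T O).obj A).obj B)).obj D ≅ ((T O).obj A).obj (((T O).obj B).obj D) :=
  (@asIso _ _ _ _ ((shf O).map (uMap A B D)) (isIso_u A B D)).symm ≪≫
    (shf O).mapIso (α_ (pv A) (pv B) (pv D)) ≪≫
    @asIso _ _ _ _ ((shf O).map (vMap A B D)) (isIso_v A B D)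

lemma assocApp_hom (A B D : ModSite.Mod O) :
    (assocApp A B D).hom = @inv _ _ _ _ ((shf O).map (uMap A B D)) (isIso_u A B D) ≫
      (shf O).map ((α_ (pv A) (pv B) (pv D)).hom ≫ vMap A B D) := by
  rw [Functor.map_comp]
  rfl

lemma unitP_nat' {P P' : PM O} (g : P ⟶ P') :
    g ≫ unitP O P' = unitP O P ≫ ((shf O).map g).val :=
  unitP_naturality O g

lemma assocApp_nat₃ (A B : ModSite.Mod O) {D D' : ModSite.Mod O} (g : D ⟶ D') :
    ((T O).obj (((T O).obj A).obj B)).map g ≫ (assocApp A B D').hom =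
      (assocApp A B D).hom ≫ ((T O).obj A).map (((T O).obj B).map g) := by
  rw [assocApp_hom, assocApp_hom]
  have h₁ : uMap A B D ≫ (pv ((shf O).obj (pv A ⊗ pv B)) ◁ pvMap g) =
      ((pv A ⊗ pv B) ◁ pvMap g) ≫ uMap A B D' := (whisker_exchange _ _).symm
  have h₂ : ((pv A ⊗ pv B) ◁ pvMap g) ≫ ((α_ (pv A) (pv B) (pv D')).hom ≫ vMap A B D') =
      ((α_ (pv A) (pv B) (pv D)).hom ≫ vMap A B D) ≫
        (pv A ◁ pvMap ((shf O).map (pv B ◁ pvMap g))) := by
    have e := unitP_nat' (pv B ◁ pvMap g)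
    calc ((pv A ⊗ pv B) ◁ pvMap g) ≫ ((α_ (pv A) (pv B) (pv D')).hom ≫ vMap A B D')
        = (α_ (pv A) (pv B) (pv D)).hom ≫ (pv A ◁ (pv B ◁ pvMap g)) ≫ vMap A B D' := by
          rw [← Category.assoc, associator_naturality_right, Category.assoc]
      _ = (α_ (pv A) (pv B) (pv D)).hom ≫ (pv A ◁ ((pv B ◁ pvMap g) ≫ unitP O (pv B ⊗ pv D'))) := by
          rw [MonoidalCategory.whiskerLeft_comp]
      _ = (α_ (pv A) (pv B) (pv D)).hom ≫
            (pv A ◁ (unitP O (pv B ⊗ pv D) ≫ pvMap ((shf O).map (pv B ◁ pvMap g)))) := by rw [e]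
      _ = _ := by rw [MonoidalCategory.whiskerLeft_comp, Category.assoc]
  exact @nat_aux _ _ _ _ _ _ _ _ _ _ (uMap A B D) (uMap A B D') (isIso_u A B D) (isIso_u A B D')
    _ _ _ _ _ h₁ h₂

lemma assocApp_nat₂ (A : ModSite.Mod O) {B B' : ModSite.Mod O} (g : B ⟶ B') (D : ModSite.Mod O) :
    ((T O).map (((T O).obj A).map g)).app D ≫ (assocApp A B' D).hom =
      (assocApp A B D).hom ≫ ((T O).obj A).map (((T O).map g).app D) := by
  rw [assocApp_hom, assocApp_hom]
  have h₁ : uMap A B D ≫ (pvMap ((shf O).map (pv A ◁ pvMap g)) ▷ pv D) =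
      ((pv A ◁ pvMap g) ▷ pv D) ≫ uMap A B' D := by
    have e := unitP_nat' (pv A ◁ pvMap g)
    calc uMap A B D ≫ (pvMap ((shf O).map (pv A ◁ pvMap g)) ▷ pv D)
        = (unitP O (pv A ⊗ pv B) ≫ pvMap ((shf O).map (pv A ◁ pvMap g))) ▷ pv D := by
          rw [comp_whiskerRight]
      _ = ((pv A ◁ pvMap g) ≫ unitP O (pv A ⊗ pv B')) ▷ pv D := by rw [e]
      _ = _ := by rw [comp_whiskerRight]
  have h₂ : ((pv A ◁ pvMap g) ▷ pv D) ≫ ((α_ (pv A) (pv B') (pv D)).hom ≫ vMap A B' D) =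
      ((α_ (pv A) (pv B) (pv D)).hom ≫ vMap A B D) ≫
        (pv A ◁ pvMap ((shf O).map (pvMap g ▷ pv D))) := by
    have e := unitP_nat' (pvMap g ▷ pv D)
    calc ((pv A ◁ pvMap g) ▷ pv D) ≫ ((α_ (pv A) (pv B') (pv D)).hom ≫ vMap A B' D)
        = (α_ (pv A) (pv B) (pv D)).hom ≫ (pv A ◁ (pvMap g ▷ pv D)) ≫ vMap A B' D := by
          rw [← Category.assoc, associator_naturality_middle, Category.assoc]
      _ = (α_ (pv A) (pv B) (pv D)).hom ≫ (pv A ◁ ((pvMap g ▷ pv D) ≫ unitP O (pv B' ⊗ pv D))) := by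
          rw [MonoidalCategory.whiskerLeft_comp]
      _ = (α_ (pv A) (pv B) (pv D)).hom ≫
            (pv A ◁ (unitP O (pv B ⊗ pv D) ≫ pvMap ((shf O).map (pvMap g ▷ pv D)))) := by rw [e]
      _ = _ := by rw [MonoidalCategory.whiskerLeft_comp, Category.assoc]
  exact @nat_aux _ _ _ _ _ _ _ _ _ _ (uMap A B D) (uMap A B' D) (isIso_u A B D) (isIso_u A B' D)
    _ _ _ _ _ h₁ h₂

lemma assocApp_nat₁ {A A' : ModSite.Mod O} (f : A ⟶ A') (B D : ModSite.Mod O) :
    ((T O).map (((T O).map f).app B)).app D ≫ (assocApp A' B D).hom =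
      (assocApp A B D).hom ≫ ((T O).map f).app (((T O).obj B).obj D) := by
  rw [assocApp_hom, assocApp_hom]
  have h₁ : uMap A B D ≫ (pvMap ((shf O).map (pvMap f ▷ pv B)) ▷ pv D) =
      ((pvMap f ▷ pv B) ▷ pv D) ≫ uMap A' B D := by
    have e := unitP_nat' (pvMap f ▷ pv B)
    calc uMap A B D ≫ (pvMap ((shf O).map (pvMap f ▷ pv B)) ▷ pv D)
        = (unitP O (pv A ⊗ pv B) ≫ pvMap ((shf O).map (pvMap f ▷ pv B))) ▷ pv D := by
          rw [comp_whiskerRight]
      _ = ((pvMap f ▷ pv B) ≫ unitP O (pv A' ⊗ pv B)) ▷ pv D := by rw [e]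
      _ = _ := by rw [comp_whiskerRight]
  have h₂ : ((pvMap f ▷ pv B) ▷ pv D) ≫ ((α_ (pv A') (pv B) (pv D)).hom ≫ vMap A' B D) =
      ((α_ (pv A) (pv B) (pv D)).hom ≫ vMap A B D) ≫
        (pvMap f ▷ pv ((shf O).obj (pv B ⊗ pv D))) := by
    calc ((pvMap f ▷ pv B) ▷ pv D) ≫ ((α_ (pv A') (pv B) (pv D)).hom ≫ vMap A' B D)
        = (α_ (pv A) (pv B) (pv D)).hom ≫ (pvMap f ▷ (pv B ⊗ pv D)) ≫ vMap A' B D := by
          rw [← Category.assoc, associator_naturality_left, Category.assoc]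
      _ = _ := by rw [← whisker_exchange, Category.assoc]
  exact @nat_aux _ _ _ _ _ _ _ _ _ _ (uMap A B D) (uMap A' B D) (isIso_u A B D) (isIso_u A' B D)
    _ _ _ _ _ h₁ h₂

variable (O)

/-- **The associator of `ModSite.tensorBi` as an isomorphism of trifunctors.** -/
noncomputable def associator : bifunctorComp₁₂ (T O) (T O) ≅ bifunctorComp₂₃ (T O) (T O) :=
  NatIso.ofComponents
    (fun A => NatIso.ofComponents
      (fun B => NatIso.ofComponents (fun D => assocApp A B D)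
        (fun {D D'} g => assocApp_nat₃ A B g))
      (fun {B B'} g => by
        ext D : 2
        exact assocApp_nat₂ A g D))
    (fun {A A'} f => by
      ext B : 2
      ext D : 2
      exact assocApp_nat₁ f B D)

lemma associator_hom_app (A B D : ModSite.Mod O) :
    (((associator O).hom.app A).app B).app D = (assocApp A B D).hom := rfl

end Groth.Agent.Lib.Helper25.TensorAssoc1
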