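import Mathlib
import Groth.Prelude.Def_KFlatSite
import Groth.Agent.Lib.Helper25.TensorAssoc1

/-!
# Associativity of the tensor product of complexes of modules on a ringed site (helper25)

* `good₁₂`, `good₂₃`: the `HasGoodTrifunctor` instances (tensoring with a module commutes with coproducts).
* `tensorCxAssoc O K₁ K₂ K₃ : (K₁ ⊗ K₂) ⊗ K₃ ≅ K₁ ⊗ (K₂ ⊗ K₃)` for `ModSite.tensorCx`
  (Mathlib's `HomologicalComplex.mapBifunctorAssociator` applied to `TensorAssoc1.associator`).
  For a scheme `X`, `DCoh.tensorCx` is `ModSite.tensorCx X.sheaf` definitionally.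
-/

set_option autoImplicit false
universe u
open CategoryTheory MonoidalCategory Opposite Limits

namespace Groth.Agent.Lib.Helper25.TensorAssoc2

open Groth.Agent.Lib.Helper21.TensorW Groth.Agent.Lib.Helper21.TensorAdj
  Groth.Agent.Lib.Helper21.TensorMon Groth.Agent.Lib.Helper25.TensorAssoc1

variable {C : Type u} [SmallCategory C] {J : GrothendieckTopology C} (O : Sheaf J CommRingCat.{u})

instance good₁₂ (K₁ K₂ K₃ : CochainComplex (ModSite.Mod O) ℤ) :
    HomologicalComplex.HasGoodTrifunctor₁₂Obj (T O) (T O) K₁ K₂ K₃ (ComplexShape.up ℤ)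
      (ComplexShape.up ℤ) := by
  intro i₁₂ i₃
  have h : PreservesColimitsOfSize.{0, 0} (tens O (K₃.X i₃)) :=
    preservesColimitsOfSize_shrink.{0, u, 0, u} _
  infer_instance

instance good₂₃ (K₁ K₂ K₃ : CochainComplex (ModSite.Mod O) ℤ) :
    HomologicalComplex.HasGoodTrifunctor₂₃Obj (T O) (T O) K₁ K₂ K₃ (ComplexShape.up ℤ)
      (ComplexShape.up ℤ) (ComplexShape.up ℤ) := by
  intro i₁ i₂₃
  have h : PreservesColimitsOfSize.{0, 0} (tensL O (K₁.X i₁)) :=
    preservesColimitsOfSize_shrink.{0, u, 0, u} _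
  infer_instance

/-- **Associativity of the tensor product of complexes of modules on a ringed site.** -/
noncomputable def tensorCxAssoc (K₁ K₂ K₃ : CochainComplex (ModSite.Mod O) ℤ) :
    ((ModSite.tensorCx O).obj (((ModSite.tensorCx O).obj K₁).obj K₂)).obj K₃ ≅
      ((ModSite.tensorCx O).obj K₁).obj (((ModSite.tensorCx O).obj K₂).obj K₃) :=
  HomologicalComplex.mapBifunctorAssociator (associator O) K₁ K₂ K₃ (ComplexShape.up ℤ)
    (ComplexShape.up ℤ) (ComplexShape.up ℤ)

end Groth.Agent.Lib.Helper25.TensorAssoc2
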