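import Mathlib

/-!
# Naturality of Mathlib's `HomologicalComplex.mapBifunctorAssociator` (helper25)

For bifunctors `F₁₂, G, F, G₂₃` with `associator : bifunctorComp₁₂ F₁₂ G ≅ bifunctorComp₂₃ F G₂₃` and morphisms of
complexes `φᵢ : Kᵢ ⟶ Lᵢ`:

* `mapBifunctor₁₂_ι_map`, `mapBifunctor₂₃_ι_map`: the inclusions of summands composed with the iterated
  `mapBifunctorMap`;
* `mapBifunctorAssociator_hom_naturality associator φ₁ φ₂ φ₃ c₁₂ c₂₃ c₄`: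
  `((φ₁ ⊗ φ₂) ⊗ φ₃) ≫ α_L = α_K ≫ (φ₁ ⊗ (φ₂ ⊗ φ₃))`.
-/

set_option autoImplicit false
open CategoryTheory Category Limits HomologicalComplex

namespace Groth.Agent.Lib.Helper25.TensorAssoc3

variable {C₁ C₂ C₁₂ C₂₃ C₃ C₄ : Type*}
  [Category C₁] [Category C₂] [Category C₃] [Category C₄] [Category C₁₂] [Category C₂₃]
  [HasZeroMorphisms C₁] [HasZeroMorphisms C₂] [HasZeroMorphisms C₃]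
  [Preadditive C₁₂] [Preadditive C₂₃] [Preadditive C₄]
  {F₁₂ : C₁ ⥤ C₂ ⥤ C₁₂} {G : C₁₂ ⥤ C₃ ⥤ C₄}
  {F : C₁ ⥤ C₂₃ ⥤ C₄} {G₂₃ : C₂ ⥤ C₃ ⥤ C₂₃}
  [F₁₂.PreservesZeroMorphisms] [∀ (X₁ : C₁), (F₁₂.obj X₁).PreservesZeroMorphisms]
  [G.Additive] [∀ (X₁₂ : C₁₂), (G.obj X₁₂).PreservesZeroMorphisms]
  [G₂₃.PreservesZeroMorphisms] [∀ (X₂ : C₂), (G₂₃.obj X₂).PreservesZeroMorphisms]
  [F.PreservesZeroMorphisms] [∀ (X₁ : C₁), (F.obj X₁).Additive]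
  (associator : bifunctorComp₁₂ F₁₂ G ≅ bifunctorComp₂₃ F G₂₃)
  {ι₁ ι₂ ι₃ ι₁₂ ι₂₃ ι₄ : Type*} [DecidableEq ι₄]
  {c₁ : ComplexShape ι₁} {c₂ : ComplexShape ι₂} {c₃ : ComplexShape ι₃}
  {K₁ L₁ : HomologicalComplex C₁ c₁} {K₂ L₂ : HomologicalComplex C₂ c₂}
  {K₃ L₃ : HomologicalComplex C₃ c₃}
  (φ₁ : K₁ ⟶ L₁) (φ₂ : K₂ ⟶ L₂) (φ₃ : K₃ ⟶ L₃)
  (c₁₂ : ComplexShape ι₁₂) (c₂₃ : ComplexShape ι₂₃) (c₄ : ComplexShape ι₄)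
  [TotalComplexShape c₁ c₂ c₁₂] [TotalComplexShape c₁₂ c₃ c₄]
  [TotalComplexShape c₂ c₃ c₂₃] [TotalComplexShape c₁ c₂₃ c₄]
  [HasMapBifunctor K₁ K₂ F₁₂ c₁₂] [HasMapBifunctor K₂ K₃ G₂₃ c₂₃]
  [HasMapBifunctor L₁ L₂ F₁₂ c₁₂] [HasMapBifunctor L₂ L₃ G₂₃ c₂₃]
  [ComplexShape.Associative c₁ c₂ c₃ c₁₂ c₂₃ c₄]
  [DecidableEq ι₁₂] [DecidableEq ι₂₃]
  [HasMapBifunctor (mapBifunctor K₁ K₂ F₁₂ c₁₂) K₃ G c₄]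
  [HasMapBifunctor K₁ (mapBifunctor K₂ K₃ G₂₃ c₂₃) F c₄]
  [HasMapBifunctor (mapBifunctor L₁ L₂ F₁₂ c₁₂) L₃ G c₄]
  [HasMapBifunctor L₁ (mapBifunctor L₂ L₃ G₂₃ c₂₃) F c₄]

set_option backward.isDefEq.respectTransparency false in
@[reassoc]
lemma mapBifunctor₁₂_ι_map (i₁ : ι₁) (i₂ : ι₂) (i₃ : ι₃) (j : ι₄)
    (h : ComplexShape.r c₁ c₂ c₃ c₁₂ c₄ (i₁, i₂, i₃) = j) :
    mapBifunctor₁₂.ι F₁₂ G K₁ K₂ K₃ c₁₂ c₄ i₁ i₂ i₃ j h ≫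
      (mapBifunctorMap (mapBifunctorMap φ₁ φ₂ F₁₂ c₁₂) φ₃ G c₄).f j =
    (G.map ((F₁₂.map (φ₁.f i₁)).app (K₂.X i₂))).app (K₃.X i₃) ≫
      (G.map ((F₁₂.obj (L₁.X i₁)).map (φ₂.f i₂))).app (K₃.X i₃) ≫
      (G.obj ((F₁₂.obj (L₁.X i₁)).obj (L₂.X i₂))).map (φ₃.f i₃) ≫
      mapBifunctor₁₂.ι F₁₂ G L₁ L₂ L₃ c₁₂ c₄ i₁ i₂ i₃ j h := by
  rw [mapBifunctor₁₂.ι_eq F₁₂ G K₁ K₂ K₃ c₁₂ c₄ i₁ i₂ i₃ _ j rfl h,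
    mapBifunctor₁₂.ι_eq F₁₂ G L₁ L₂ L₃ c₁₂ c₄ i₁ i₂ i₃ _ j rfl h, assoc, ι_mapBifunctorMap,
    ← NatTrans.comp_app_assoc, ← G.map_comp, ι_mapBifunctorMap, G.map_comp, G.map_comp,
    NatTrans.comp_app, NatTrans.comp_app, assoc, assoc, NatTrans.naturality_assoc]

omit [DecidableEq ι₁₂] in
set_option backward.isDefEq.respectTransparency false in
lemma mapBifunctor₂₃_ι_map (i₁ : ι₁) (i₂ : ι₂) (i₃ : ι₃) (j : ι₄)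
    (h : ComplexShape.r c₁ c₂ c₃ c₁₂ c₄ (i₁, i₂, i₃) = j) :
    mapBifunctor₂₃.ι F G₂₃ K₁ K₂ K₃ c₁₂ c₂₃ c₄ i₁ i₂ i₃ j h ≫
      (mapBifunctorMap φ₁ (mapBifunctorMap φ₂ φ₃ G₂₃ c₂₃) F c₄).f j =
    (F.map (φ₁.f i₁)).app ((G₂₃.obj (K₂.X i₂)).obj (K₃.X i₃)) ≫
      (F.obj (L₁.X i₁)).map ((G₂₃.map (φ₂.f i₂)).app (K₃.X i₃)) ≫
      (F.obj (L₁.X i₁)).map ((G₂₃.obj (L₂.X i₂)).map (φ₃.f i₃)) ≫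
      mapBifunctor₂₃.ι F G₂₃ L₁ L₂ L₃ c₁₂ c₂₃ c₄ i₁ i₂ i₃ j h := by
  have h' : ComplexShape.π c₁ c₂₃ c₄ (i₁, ComplexShape.π c₂ c₃ c₂₃ (i₂, i₃)) = j := by
    rw [← h, ← ComplexShape.assoc c₁ c₂ c₃ c₁₂ c₂₃ c₄]; rfl
  rw [mapBifunctor₂₃.ι_eq F G₂₃ K₁ K₂ K₃ c₁₂ c₂₃ c₄ i₁ i₂ i₃ _ j rfl h',
    mapBifunctor₂₃.ι_eq F G₂₃ L₁ L₂ L₃ c₁₂ c₂₃ c₄ i₁ i₂ i₃ _ j rfl h', assoc, ι_mapBifunctorMap,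
    NatTrans.naturality_assoc, ← Functor.map_comp_assoc, ι_mapBifunctorMap,
    Functor.map_comp, Functor.map_comp, assoc, assoc]

omit [HasMapBifunctor L₁ L₂ F₁₂ c₁₂] [HasMapBifunctor L₂ L₃ G₂₃ c₂₃]
  [HasMapBifunctor (mapBifunctor L₁ L₂ F₁₂ c₁₂) L₃ G c₄]
  [HasMapBifunctor L₁ (mapBifunctor L₂ L₃ G₂₃ c₂₃) F c₄] in
lemma mapBifunctorAssociator_hom_f
    [HasGoodTrifunctor₁₂Obj F₁₂ G K₁ K₂ K₃ c₁₂ c₄]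
    [HasGoodTrifunctor₂₃Obj F G₂₃ K₁ K₂ K₃ c₁₂ c₂₃ c₄] (j : ι₄) :
    (mapBifunctorAssociator associator K₁ K₂ K₃ c₁₂ c₂₃ c₄).hom.f j =
      (mapBifunctorAssociatorX associator K₁ K₂ K₃ c₁₂ c₂₃ c₄ j).hom := rfl

set_option backward.isDefEq.respectTransparency false in
/-- **Naturality of `mapBifunctorAssociator`** in all three variables. -/
lemma mapBifunctorAssociator_hom_naturality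
    [HasGoodTrifunctor₁₂Obj F₁₂ G K₁ K₂ K₃ c₁₂ c₄]
    [HasGoodTrifunctor₂₃Obj F G₂₃ K₁ K₂ K₃ c₁₂ c₂₃ c₄]
    [HasGoodTrifunctor₁₂Obj F₁₂ G L₁ L₂ L₃ c₁₂ c₄]
    [HasGoodTrifunctor₂₃Obj F G₂₃ L₁ L₂ L₃ c₁₂ c₂₃ c₄] :
    mapBifunctorMap (mapBifunctorMap φ₁ φ₂ F₁₂ c₁₂) φ₃ G c₄ ≫
      (mapBifunctorAssociator associator L₁ L₂ L₃ c₁₂ c₂₃ c₄).hom =
    (mapBifunctorAssociator associator K₁ K₂ K₃ c₁₂ c₂₃ c₄).hom ≫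
      mapBifunctorMap φ₁ (mapBifunctorMap φ₂ φ₃ G₂₃ c₂₃) F c₄ := by
  ext j i₁ i₂ i₃ h
  rw [comp_f, comp_f, mapBifunctorAssociator_hom_f, mapBifunctorAssociator_hom_f,
    mapBifunctor₁₂_ι_map_assoc, ι_mapBifunctorAssociatorX_hom,
    ι_mapBifunctorAssociatorX_hom_assoc, mapBifunctor₂₃_ι_map]
  have n₁ : (G.map ((F₁₂.map (φ₁.f i₁)).app (K₂.X i₂))).app (K₃.X i₃) ≫
      ((associator.hom.app (L₁.X i₁)).app (K₂.X i₂)).app (K₃.X i₃) =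
      ((associator.hom.app (K₁.X i₁)).app (K₂.X i₂)).app (K₃.X i₃) ≫
        (F.map (φ₁.f i₁)).app ((G₂₃.obj (K₂.X i₂)).obj (K₃.X i₃)) :=
    NatTrans.naturality_app_app associator.hom (φ₁.f i₁) (K₂.X i₂) (K₃.X i₃)
  have n₂ : (G.map ((F₁₂.obj (L₁.X i₁)).map (φ₂.f i₂))).app (K₃.X i₃) ≫
      ((associator.hom.app (L₁.X i₁)).app (L₂.X i₂)).app (K₃.X i₃) =
      ((associator.hom.app (L₁.X i₁)).app (K₂.X i₂)).app (K₃.X i₃) ≫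
        (F.obj (L₁.X i₁)).map ((G₂₃.map (φ₂.f i₂)).app (K₃.X i₃)) :=
    NatTrans.naturality_app (associator.hom.app (L₁.X i₁)) (K₃.X i₃) (φ₂.f i₂)
  have n₃ : (G.obj ((F₁₂.obj (L₁.X i₁)).obj (L₂.X i₂))).map (φ₃.f i₃) ≫
      ((associator.hom.app (L₁.X i₁)).app (L₂.X i₂)).app (L₃.X i₃) =
      ((associator.hom.app (L₁.X i₁)).app (L₂.X i₂)).app (K₃.X i₃) ≫
        (F.obj (L₁.X i₁)).map ((G₂₃.obj (L₂.X i₂)).map (φ₃.f i₃)) :=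
    ((associator.hom.app (L₁.X i₁)).app (L₂.X i₂)).naturality (φ₃.f i₃)
  rw [reassoc_of% n₃, reassoc_of% n₂, reassoc_of% n₁]

end Groth.Agent.Lib.Helper25.TensorAssoc3
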