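import Mathlib
import Groth.Prelude.Def_KFlatSite
import Groth.Prelude.Def_DCoh4
import Groth.Agent.Lib.Helper25.TensorAssoc2
import Groth.Agent.Lib.Helper25.TensorAssoc3
import Groth.Agent.Lib.Helper25.LDerAdapted2
import Groth.Agent.Lib.Helper25.LTensorDCoh
import Groth.Agent.Lib.Helper25.SiteLTensor
import Groth.Agent.Lib.Helper13.KFlat14

/-!
# `(- ⊗^L K) ⊗^L L ≅ - ⊗^L (K ⊗ L)` for K-flat `L` on a scheme (helper25)

* `isIso_leftDerivedLift_of_adapted`, `isoOfAdapted`: recognition of a left derived functor `LF` of `F` among pairs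
  `(G, β : L ⋙ G ⟶ F)`: if both counits are invertible on an adapted class with resolutions, then `G ≅ LF`.
* `assocNatSite O K L`, `assocNat K L : (- ⊗ K) ⋙ (- ⊗ L) ≅ - ⊗ (K ⊗ L)`: the associator of `tensorCx` as a natural
  isomorphism in the first variable (`tensorCxAssoc_naturality`).
* `quasiIso_tensorRight_of_isKFlat`: `α ⊗ F` is a quasi-isomorphism for `α` a quasi-isomorphism between K-flat
  complexes (right-handed version of helper13's `quasiIso_tensor_of_isKFlat`).
* `isIso_ε_app E P hP`: the counit `(P ⊗^L E) ⟶ P ⊗ E` is invertible for K-flat `P` and ARBITRARY `E`;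
  `isIso_ε_of_isKFlat L hL`: the counit of `- ⊗^L L` is invertible for K-flat `L`.
* `LTensorCxCompIso K L hL : LTensorCx K ⋙ LTensorCx L ≅ LTensorCx (K ⊗ L)`.
-/

set_option autoImplicit false
universe u
open CategoryTheory Limits HomologicalComplex

attribute [local instance] HasDerivedCategory.standard

namespace Groth.Agent.Lib.Helper25.LTensorComp

section Abstract

variable {C D H : Type*} [Category C] [Category D] [Category H]
  (L : C ⥤ D) (W : MorphismProperty C) [L.IsLocalization W]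
  (F : C ⥤ H) (LF : D ⥤ H) (α : L ⋙ LF ⟶ F) [LF.IsLeftDerivedFunctor α W]
  (G : D ⥤ H) (β : L ⋙ G ⟶ F) (P₀ : C → Prop)

/-- Recognition of left derived functors on an adapted class. -/
theorem isIso_leftDerivedLift_of_adapted
    (hres : ∀ X : C, ∃ (P : C) (s : P ⟶ X), P₀ P ∧ W s)
    (hα : ∀ P, P₀ P → IsIso (α.app P)) (hβ : ∀ P, P₀ P → IsIso (β.app P)) :
    IsIso (LF.leftDerivedLift α W G β) := by
  rw [NatTrans.isIso_iff_isIso_app]
  intro Y
  have : L.EssSurj := Localization.essSurj L W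
  obtain ⟨P, s, hP, hs⟩ := hres (L.objPreimage Y)
  have : IsIso (L.map s) := Localization.inverts L W s hs
  have h1 : IsIso ((LF.leftDerivedLift α W G β).app (L.obj P)) := by
    have fac := Functor.leftDerived_fac_app LF α W G β P
    haveI := hα P hP
    haveI := hβ P hP
    have : IsIso ((LF.leftDerivedLift α W G β).app (L.obj P) ≫ α.app P) := by
      rw [fac]; infer_instance
    exact IsIso.of_isIso_comp_right _ (α.app P)
  exact (NatTrans.isIso_app_iff_of_iso _ (asIso (L.map s) ≪≫ L.objObjPreimageIso Y)).1 h1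

/-- the resulting isomorphism `G ≅ LF` -/
noncomputable def isoOfAdapted
    (hres : ∀ X : C, ∃ (P : C) (s : P ⟶ X), P₀ P ∧ W s)
    (hα : ∀ P, P₀ P → IsIso (α.app P)) (hβ : ∀ P, P₀ P → IsIso (β.app P)) : G ≅ LF :=
  @asIso _ _ _ _ (LF.leftDerivedLift α W G β)
    (isIso_leftDerivedLift_of_adapted L W F LF α G β P₀ hres hα hβ)

end Abstract

section Site

variable {C : Type u} [SmallCategory C] {J : GrothendieckTopology C} (O : Sheaf J CommRingCat.{u})

/-- `- ⊗ K` on complexes (ringed sites) -/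
noncomputable abbrev tRs (K : CochainComplex (ModSite.Mod O) ℤ) :
    CochainComplex (ModSite.Mod O) ℤ ⥤ CochainComplex (ModSite.Mod O) ℤ :=
  (ModSite.tensorCx O).flip.obj K

lemma tensorCxAssoc_naturality {P P' : CochainComplex (ModSite.Mod O) ℤ} (φ : P ⟶ P')
    (K L : CochainComplex (ModSite.Mod O) ℤ) :
    mapBifunctorMap (mapBifunctorMap φ (𝟙 K) (ModSite.tensorBi O) (ComplexShape.up ℤ)) (𝟙 L)
        (ModSite.tensorBi O) (ComplexShape.up ℤ) ≫
      (Groth.Agent.Lib.Helper25.TensorAssoc2.tensorCxAssoc O P' K L).hom =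
    (Groth.Agent.Lib.Helper25.TensorAssoc2.tensorCxAssoc O P K L).hom ≫
      mapBifunctorMap φ (𝟙 (mapBifunctor K L (ModSite.tensorBi O) (ComplexShape.up ℤ)))
        (ModSite.tensorBi O) (ComplexShape.up ℤ) := by
  have h := Groth.Agent.Lib.Helper25.TensorAssoc3.mapBifunctorAssociator_hom_naturality
    (Groth.Agent.Lib.Helper25.TensorAssoc1.associator O) φ (𝟙 K) (𝟙 L)
    (ComplexShape.up ℤ) (ComplexShape.up ℤ) (ComplexShape.up ℤ)
  have e : mapBifunctorMap (𝟙 K) (𝟙 L) (ModSite.tensorBi O) (ComplexShape.up ℤ) = 𝟙 _ :=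
    ((ModSite.tensorCx O).obj K).map_id L
  rw [e] at h
  exact h

/-- the associativity isomorphism, natural in the first variable (ringed sites) -/
noncomputable def assocNatSite (K L : CochainComplex (ModSite.Mod O) ℤ) :
    tRs O K ⋙ tRs O L ≅ tRs O (((ModSite.tensorCx O).obj K).obj L) :=
  NatIso.ofComponents
    (fun P => Groth.Agent.Lib.Helper25.TensorAssoc2.tensorCxAssoc O P K L)
    (fun {P P'} φ => by
      simp only [Functor.comp_map, Functor.flip_obj_map, Functor.map₂HomologicalComplex_map_app]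
      exact tensorCxAssoc_naturality O φ K L)

open Groth.Agent.Lib.helper13.KFlat in
/-- tensoring (on the right) a quasi-isomorphism between K-flat complexes with any complex is a
quasi-isomorphism (ringed sites) -/
theorem quasiIso_tensorRight_of_isKFlat {P Q : CochainComplex (ModSite.Mod O) ℤ}
    (hP : ModSite.IsKFlat P) (hQ : ModSite.IsKFlat Q) (α : P ⟶ Q) [QuasiIso α]
    (F : CochainComplex (ModSite.Mod O) ℤ) :
    QuasiIso (mapBifunctorMap α (𝟙 F) (ModSite.tensorBi O) (ComplexShape.up ℤ)) := by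
  have h0 := quasiIso_tensor_of_isKFlat O hP hQ α F
  have e1 : mapBifunctorMap α (𝟙 F) (ModSite.tensorBi O).flip (ComplexShape.up ℤ) =
      (mapBifunctorFlipIso F P (ModSite.tensorBi O) (ComplexShape.up ℤ)).hom ≫
        mapBifunctorMap (𝟙 F) α (ModSite.tensorBi O) (ComplexShape.up ℤ) ≫
          (mapBifunctorFlipIso F Q (ModSite.tensorBi O) (ComplexShape.up ℤ)).inv := by
    rw [← mapBifunctorFlipIso_hom_naturality_assoc, Iso.hom_inv_id, Category.comp_id]
  have h1 : QuasiIso (mapBifunctorMap α (𝟙 F) (ModSite.tensorBi O).flip (ComplexShape.up ℤ)) := by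
    rw [e1]; infer_instance
  have e2 : mapBifunctorMap α (𝟙 F) (ModSite.tensorBi O) (ComplexShape.up ℤ) =
      (mapBifunctorNatIso P F (ComplexShape.up ℤ) (tensorBiBraiding O)).hom ≫
        mapBifunctorMap α (𝟙 F) (ModSite.tensorBi O).flip (ComplexShape.up ℤ) ≫
          (mapBifunctorNatIso Q F (ComplexShape.up ℤ) (tensorBiBraiding O)).inv := by
    have n := mapBifunctorNatTrans_naturality (tensorBiBraiding O).hom (ComplexShape.up ℤ) α (𝟙 F)
    rw [← Category.assoc, Iso.eq_comp_inv]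
    exact n
  rw [e2]
  infer_instance

end Site

section Scheme

open AlgebraicGeometry DCoh Groth.Agent.Lib.Helper25.LDerAdapted Groth.Agent.Lib.Helper25.KFlatTri
  Groth.Agent.Lib.Helper25.LTensorDCoh

variable {X : Scheme.{u}}

/-- `- ⊗ K` on complexes -/
noncomputable abbrev tR (K : CochainComplex X.Modules ℤ) :
    CochainComplex X.Modules ℤ ⥤ CochainComplex X.Modules ℤ :=
  (DCoh.tensorCx (X := X)).flip.obj K

lemma tR_map (K : CochainComplex X.Modules ℤ) {A B : CochainComplex X.Modules ℤ} (f : A ⟶ B) :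
    (tR K).map f = mapBifunctorMap f (𝟙 K) (DCoh.tensorBi (X := X)) (ComplexShape.up ℤ) := rfl

/-- the associativity isomorphism, natural in the first variable -/
noncomputable def assocNat (K L : CochainComplex X.Modules ℤ) :
    tR K ⋙ tR L ≅ tR ((DCoh.tensorCx.obj K).obj L) :=
  assocNatSite X.sheaf K L

/-- homotopy invariance of `tensorCxQ K` -/
lemma hF (K : CochainComplex X.Modules ℤ) (A B : CochainComplex X.Modules ℤ) (f g : A ⟶ B)
    (h : homotopic X.Modules (ComplexShape.up ℤ) f g) :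
    (DCoh.tensorCxQ K).map f = (DCoh.tensorCxQ K).map g := by
  obtain ⟨h⟩ := h
  have h' := mapBifunctorMapHomotopy₁ h (𝟙 K) (DCoh.tensorBi (X := X)) (ComplexShape.up ℤ)
  exact congrArg DerivedCategory.Qh.map (HomotopyCategory.eq_of_homotopy _ _ h')

/-- quasi-isomorphisms between K-flat complexes are inverted by `tensorCxQ K` -/
lemma hF₀ (K : CochainComplex X.Modules ℤ) {E E' : CochainComplex X.Modules ℤ} (f : E ⟶ E')
    (hE : DCoh.IsKFlat E) (hE' : DCoh.IsKFlat E') (hf : QuasiIso f) :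
    IsIso ((DCoh.tensorCxQ K).map f) := by
  change IsIso (DerivedCategory.Q.map
    (mapBifunctorMap f (𝟙 K) (DCoh.tensorBi (X := X)) (ComplexShape.up ℤ)))
  rw [DerivedCategory.isIso_Q_map_iff_quasiIso]
  exact @quasiIso_tensorRight_of_isKFlat _ _ _ X.sheaf E E' hE hE' f hf K

/-- the class of quasi-isomorphisms -/
abbrev W (X : Scheme.{u}) : MorphismProperty (CochainComplex X.Modules ℤ) :=
  HomologicalComplex.quasiIso X.Modules (ComplexShape.up ℤ)

/-- the counit of the derived tensor product -/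
noncomputable abbrev ε (E : CochainComplex X.Modules ℤ) [DCoh.HasLTensorCx E] :
    DerivedCategory.Q ⋙ DCoh.LTensorCx E ⟶ DCoh.tensorCxQ E :=
  (DCoh.tensorCxQ E).totalLeftDerivedCounit DerivedCategory.Q (W X)

/-- `P ⊗^L E = P ⊗ E` for K-flat `P` and any `E` -/
theorem isIso_ε_app (E : CochainComplex X.Modules ℤ) [DCoh.HasLTensorCx E]
    (P : CochainComplex X.Modules ℤ) (hP : DCoh.IsKFlat P) : IsIso ((ε E).app P) :=
  isIso_counit_app_Q (fun E => DCoh.IsKFlat E) hzero
    (fun E n h => dcoh_isKFlat_shift E n h) (fun f h h' => dcoh_isKFlat_mappingCone f h h')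
    hres₀ (DCoh.tensorCxQ E) (hF E) (fun f hE hE' hf => hF₀ E f hE hE' hf)
    (DCoh.LTensorCx E) (ε E) P hP

/-- `P ⊗^L L = P ⊗ L` for K-flat `L` and any `P` -/
theorem isIso_ε_of_isKFlat (L : CochainComplex X.Modules ℤ) (hL : DCoh.IsKFlat L)
    [DCoh.HasLTensorCx L] : IsIso (ε L) := by
  have h : (W X).IsInvertedBy (DCoh.tensorCxQ L) :=
    Groth.Agent.Lib.Helper25.SiteLTensor.isInvertedBy_tensorCxQ X.sheaf L hL
  exact Functor.isIso_of_isLeftDerivedFunctor_of_inverts (DCoh.LTensorCx L) (ε L) h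

variable (K L : CochainComplex X.Modules ℤ) [DCoh.HasLTensorCx K] [DCoh.HasLTensorCx L]

/-- the comparison transformation -/
noncomputable def β :
    DerivedCategory.Q ⋙ (DCoh.LTensorCx K ⋙ DCoh.LTensorCx L) ⟶
      DCoh.tensorCxQ ((DCoh.tensorCx.obj K).obj L) :=
  (Functor.associator _ _ _).inv ≫ Functor.whiskerRight (ε K) (DCoh.LTensorCx L) ≫
    (Functor.associator _ _ _).hom ≫ Functor.whiskerLeft (tR K) (ε L) ≫
    (Functor.associator _ _ _).inv ≫ Functor.whiskerRight (assocNat K L).hom DerivedCategory.Q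

lemma β_app (P : CochainComplex X.Modules ℤ) :
    (β K L).app P = (DCoh.LTensorCx L).map ((ε K).app P) ≫ (ε L).app ((tR K).obj P) ≫
      DerivedCategory.Q.map ((assocNat K L).hom.app P) := by
  simp [β]

theorem isIso_β_app (hL : DCoh.IsKFlat L) (P : CochainComplex X.Modules ℤ)
    (hP : DCoh.IsKFlat P) : IsIso ((β K L).app P) := by
  rw [β_app]
  haveI := isIso_ε_app K P hP
  haveI := isIso_ε_of_isKFlat L hL
  infer_instance

variable [DCoh.HasLTensorCx ((DCoh.tensorCx.obj K).obj L)]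

/-- **`(- ⊗^L K) ⊗^L L ≅ - ⊗^L (K ⊗ L)` for K-flat `L`.** -/
noncomputable def LTensorCxCompIso (hL : DCoh.IsKFlat L) :
    DCoh.LTensorCx K ⋙ DCoh.LTensorCx L ≅ DCoh.LTensorCx ((DCoh.tensorCx.obj K).obj L) :=
  isoOfAdapted DerivedCategory.Q (W X) (DCoh.tensorCxQ ((DCoh.tensorCx.obj K).obj L))
    (DCoh.LTensorCx ((DCoh.tensorCx.obj K).obj L)) (ε ((DCoh.tensorCx.obj K).obj L))
    (DCoh.LTensorCx K ⋙ DCoh.LTensorCx L) (β K L) (fun P => DCoh.IsKFlat P)
    (fun E => by
      obtain ⟨E', f, hE', hf⟩ := hres₀ E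
      exact ⟨E', f, hE', (HomologicalComplex.mem_quasiIso_iff f).2 hf⟩)
    (fun P hP => isIso_ε_app _ P hP)
    (fun P hP => isIso_β_app K L hL P hP)

end Scheme

end Groth.Agent.Lib.Helper25.LTensorComp
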