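import Mathlib
import Groth.Agent.Lib.Helper25.StalkEpi
import Groth.Agent.Lib.Helper25.FLFLocus
import Groth.Agent.Lib.Helper17.FlatSES
import Groth.Agent.Lib.Helper16.QCohAss
import Groth.Agent.Lib.Helper17.FlatOver2

/-!
# Stalkwise flat `O_X`-modules: closure properties (helper25)

For `FlatMod.IsFlat` (flat stalks), without quasi-coherence:
* `isFlat_of_iso`, `isFlat_of_isZero`, `isFlat_of_retract`, `isFlat_biprod`, `isFlat_of_shortExact` (extensions),
* `isFlat_kernel_of_epi`: the kernel of an epimorphism of flat modules is flat,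
* `resStalk`, `resRing`, `resStalk_smul`: the (semilinear) comparison of stalks for the restriction to an open,
* `isFlat_restrict`: the restriction of a flat module to an open subscheme is flat.
-/

set_option autoImplicit false
universe u
open CategoryTheory CategoryTheory.Limits AlgebraicGeometry TopologicalSpace Opposite
open Scheme.Modules

namespace Groth.Agent.Lib.helper25.FlatClass

open Groth.Agent.Lib.helper17.FlatOver7 Groth.Agent.Lib.helper17.FlatSES Groth.Agent.Lib.helper8

variable {X : Scheme.{u}}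

lemma isFlat_of_iso {M N : X.Modules} (e : M ≅ N) (h : FlatMod.IsFlat M) : FlatMod.IsFlat N :=
  fun x => (isFlatAt_iff_of_iso e x).1 (h x)

lemma isFlat_of_isZero {Z : X.Modules} (hZ : IsZero Z) : FlatMod.IsFlat Z :=
  Groth.Agent.Lib.helper16.FLF.isFlat_of_isFinLocFree Z
    (Groth.Agent.Lib.helper25.FLFKernel.isFinLocFree_of_isZero hZ)

/-- **The kernel of an epimorphism of flat `O_X`-modules is flat.** -/
theorem isFlat_kernel_of_epi {B C : X.Modules} (p : B ⟶ C) [Epi p] (hB : FlatMod.IsFlat B)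
    (hC : FlatMod.IsFlat C) : FlatMod.IsFlat (kernel p) := by
  intro x
  have hex : (ShortComplex.mk (kernel.ι p) p (kernel.condition p)).Exact :=
    ShortComplex.exact_of_f_is_kernel _ (kernelIsKernel p)
  have h1 := StalkLen.stalkAdd_injective_of_mono (kernel.ι p) x
  have h2 := StalkLen.stalkAdd_exact (kernel.ι p) p (kernel.condition p) hex x
  have h3 := Groth.Agent.Lib.helper25.StalkEpi.stalkAdd_surjective_of_epi p x
  haveI : Module.Flat (X.presheaf.stalk x) (C.presheaf.stalk x) := hC x
  haveI : Module.Flat (X.presheaf.stalk x) (B.presheaf.stalk x) := hB x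
  exact flat_left_of_exact (stalkLin (kernel.ι p) x) (stalkLin p x) h1 h3 h2

/-- a retract of a flat module is flat -/
theorem isFlat_of_retract {A B : X.Modules} (i : A ⟶ B) (r : B ⟶ A) (h : i ≫ r = 𝟙 A)
    (hB : FlatMod.IsFlat B) : FlatMod.IsFlat A := by
  intro x
  haveI : Module.Flat (X.presheaf.stalk x) (B.presheaf.stalk x) := hB x
  refine Module.Flat.of_retract (stalkLin i x) (stalkLin r x) ?_
  ext m
  change stalkAdd r x (stalkAdd i x m) = m
  rw [← stalkAdd_comp, h, stalkAdd_id]

/-- an extension of flat modules is flat -/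
theorem isFlat_of_shortExact {S : ShortComplex X.Modules} (hS : S.ShortExact)
    (h1 : FlatMod.IsFlat S.X₁) (h3 : FlatMod.IsFlat S.X₃) : FlatMod.IsFlat S.X₂ := by
  intro x
  haveI := hS.mono_f
  haveI := hS.epi_g
  have a1 := StalkLen.stalkAdd_injective_of_mono S.f x
  have a2 := StalkLen.stalkAdd_exact S.f S.g S.zero hS.exact x
  have a3 := Groth.Agent.Lib.helper25.StalkEpi.stalkAdd_surjective_of_epi S.g x
  haveI : Module.Flat (X.presheaf.stalk x) (S.X₃.presheaf.stalk x) := h3 x
  haveI : Module.Flat (X.presheaf.stalk x) (S.X₁.presheaf.stalk x) := h1 x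
  exact flat_mid_of_exact (stalkLin S.f x) (stalkLin S.g x) a1 a3 a2

theorem isFlat_biprod {A B : X.Modules} (hA : FlatMod.IsFlat A) (hB : FlatMod.IsFlat B) :
    FlatMod.IsFlat (A ⊞ B) := by
  have hS : (ShortComplex.mk (biprod.inl : A ⟶ A ⊞ B) biprod.snd (by simp)).ShortExact :=
    (ShortComplex.Splitting.ofHasBinaryBiproduct A B).shortExact
  exact isFlat_of_shortExact hS hA hB

section Restrict

open Groth.Agent.Lib.helper16.QCohAss Groth.Agent.Lib.helper25.FLFLocus

/-- the stalk comparison for the restriction of a module to an open, as an additive map -/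
noncomputable def resStalk (M : X.Modules) (V : X.Opens) (y : (V : Scheme.{u})) :
    (M.restrict V.ι).presheaf.stalk y →+ M.presheaf.stalk (V.ι y) :=
  ((restrictStalkNatIso V.ι y).hom.app M).hom

lemma resStalk_bijective (M : X.Modules) (V : X.Opens) (y : (V : Scheme.{u})) :
    Function.Bijective (resStalk M V y) :=
  ConcreteCategory.bijective_of_isIso ((restrictStalkNatIso V.ι y).hom.app M)

lemma resStalk_germ (M : X.Modules) (V : X.Opens) (y : (V : Scheme.{u})) (W : (V : Scheme.{u}).Opens) (hy : y ∈ W)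
    (s : Γ(M.restrict V.ι, W)) :
    resStalk M V y (((M.restrict V.ι).presheaf.germ W y hy).hom s) =
      (M.presheaf.germ (V.ι ''ᵁ W) (V.ι y) ⟨y, hy, rfl⟩).hom s := by
  have := germ_restrictStalkNatIso_hom_app V.ι y M hy
  exact congrArg (fun f => f.hom s) this

/-- the stalk comparison for the structure sheaf of an open subscheme -/
noncomputable def resRing (V : X.Opens) (y : (V : Scheme.{u})) :
    (V : Scheme.{u}).presheaf.stalk y →+* X.presheaf.stalk (V.ι y) :=
  (V.stalkIso y).hom.hom

lemma resRing_bijective (V : X.Opens) (y : (V : Scheme.{u})) : Function.Bijective (resRing V y) :=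
  ConcreteCategory.bijective_of_isIso (V.stalkIso y).hom

lemma resRing_germ (V : X.Opens) (y : (V : Scheme.{u})) (W : (V : Scheme.{u}).Opens) (hy : y ∈ W)
    (a : Γ((V : Scheme.{u}), W)) :
    resRing V y (((V : Scheme.{u}).presheaf.germ W y hy).hom a) =
      (X.presheaf.germ (V.ι ''ᵁ W) (V.ι y) ⟨y, hy, rfl⟩).hom a := by
  have := V.germ_stalkIso_hom y hy
  exact congrArg (fun f => f.hom a) this

lemma smul_restrict_eq (M : X.Modules) (V : X.Opens) (U' : (V : Scheme.{u}).Opens)
    (r : Γ((V : Scheme.{u}), U')) (m : Γ(M.restrict V.ι, U')) :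
    @HSMul.hSMul Γ((V : Scheme.{u}), U') Γ(M.restrict V.ι, U') Γ(M.restrict V.ι, U') _ r m =
      @HSMul.hSMul Γ(X, V.ι ''ᵁ U') Γ(M, V.ι ''ᵁ U') Γ(M, V.ι ''ᵁ U') _ r m := by
  have h := Scheme.Modules.smul_restrictAppIso_hom_apply V.ι M U' r m
  rw [Scheme.Opens.ι_appIso] at h
  exact h

lemma resStalk_smul (M : X.Modules) (V : X.Opens) (y : (V : Scheme.{u})) (r : (V : Scheme.{u}).presheaf.stalk y)
    (m : (M.restrict V.ι).presheaf.stalk y) :
    resStalk M V y (r • m) = resRing V y r • resStalk M V y m := by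
  obtain ⟨W₁, hy₁, a, rfl⟩ := (V : Scheme.{u}).presheaf.exists_germ_eq r
  obtain ⟨W₂, hy₂, s, rfl⟩ := (M.restrict V.ι).presheaf.exists_germ_eq m
  have hy : y ∈ W₁ ⊓ W₂ := ⟨hy₁, hy₂⟩
  have e1 : ((V : Scheme.{u}).presheaf.germ W₁ y hy₁).hom a =
      ((V : Scheme.{u}).presheaf.germ (W₁ ⊓ W₂) y hy).hom
        ((V : Scheme.{u}).presheaf.map (homOfLE inf_le_left).op a) :=
    (TopCat.Presheaf.germ_res_apply (V : Scheme.{u}).presheaf (homOfLE inf_le_left) y hy a).symm
  have e2 : ((M.restrict V.ι).presheaf.germ W₂ y hy₂).hom s =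
      ((M.restrict V.ι).presheaf.germ (W₁ ⊓ W₂) y hy).hom
        ((M.restrict V.ι).presheaf.map (homOfLE inf_le_right).op s) :=
    (TopCat.Presheaf.germ_res_apply (M.restrict V.ι).presheaf (homOfLE inf_le_right) y hy s).symm
  rw [e1, e2, ← germ_smul', resStalk_germ, resStalk_germ, resRing_germ]
  have h := germ_smul' M (V.ι ''ᵁ (W₁ ⊓ W₂)) (V.ι y) ⟨y, hy, rfl⟩
    ((V : Scheme.{u}).presheaf.map (homOfLE inf_le_left).op a)
    ((M.restrict V.ι).presheaf.map (homOfLE inf_le_right).op s)
  refine Eq.trans ?_ h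
  congr 1
  exact smul_restrict_eq M V (W₁ ⊓ W₂) _ _

/-- **The restriction of a flat module to an open subscheme is flat.** -/
theorem isFlat_restrict (M : X.Modules) (V : X.Opens) (h : FlatMod.IsFlat M) :
    FlatMod.IsFlat (M.restrict V.ι) := by
  intro y
  letI inst : Module ((V : Scheme.{u}).presheaf.stalk y) (M.presheaf.stalk (V.ι y)) :=
    Module.compHom _ (resRing V y)
  have h1 : Module.Flat ((V : Scheme.{u}).presheaf.stalk y) (M.presheaf.stalk (V.ι y)) :=
    (Groth.Agent.Lib.helper17.FlatOver2.flat_compHom_iff_of_bijective (resRing V y)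
      (resRing_bijective V y)).2 (h (V.ι y))
  let e : (M.restrict V.ι).presheaf.stalk y ≃ₗ[(V : Scheme.{u}).presheaf.stalk y]
      M.presheaf.stalk (V.ι y) :=
    { AddEquiv.ofBijective (resStalk M V y) (resStalk_bijective M V y) with
      map_smul' := fun r m => resStalk_smul M V y r m }
  exact (Module.Flat.equiv_iff e).2 h1

end Restrict

end Groth.Agent.Lib.helper25.FlatClass
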