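import Mathlib
import Groth.Prelude.Def_DerSch
import Groth.Prelude.Def_FlatMod2
import Groth.Agent.Lib.Helper25.StalkPull
import Groth.Agent.Lib.Helper25.StalkExact
import Groth.Agent.Lib.Helper13.KFlat16
import Groth.Agent.Lib.Helper13.KRes5

/-!
# Pullback of modules and exactness (helper25)

* `mono_pullback_map_of_flat f S hS h3`: `f^*` keeps the left map of a short exact sequence with (stalkwise) flat
  cokernel a monomorphism (via `stalkPullbackIso`).
* `acyclic_map_of_mono_iCycles F K hac hm` (abstract): a right exact additive functor which keeps the inclusions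
  of cycles of an acyclic complex `K` monomorphisms sends `K` to an acyclic complex.
* `acyclic_pullback_of_isKFlat f C hK hfl hac`: **`f^*` of an acyclic K-flat complex with flat terms is acyclic.**
-/

set_option autoImplicit false
universe u
open CategoryTheory CategoryTheory.Limits AlgebraicGeometry Opposite TopologicalSpace

namespace Groth.Agent.Lib.Helper25.StalkPullExact

open Groth.Agent.Lib.Helper25.StalkSky Groth.Agent.Lib.Helper25.StalkExact

variable {X Y : Scheme.{u}} (f : X ⟶ Y)

/-- `f^*` preserves short exact sequences with flat cokernel: the left map stays a monomorphism. -/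
theorem mono_pullback_map_of_flat (S : ShortComplex Y.Modules) (hS : S.ShortExact)
    (h3 : FlatMod.IsFlat S.X₃) : Mono ((Scheme.Modules.pullback f).map S.f) := by
  apply mono_of_forall_stalk
  intro x
  have hnat := (stalkPullbackIso f x).hom.naturality S.f
  have hS' : (S.map (DerSch.stalkFunctor Y (f x))).ShortExact := hS.map_of_exact _
  have hmono : Mono ((DerSch.stalkFunctor Y (f x) ⋙
      ModuleCat.extendScalars.{u, u, u} (f.stalkMap x).hom).map S.f) := by
    rw [ModuleCat.mono_iff_injective]
    have : Module.Flat (Y.presheaf.stalk (f x)) ((DerSch.stalkFunctor Y (f x)).obj S.X₃) := h3 (f x)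
    refine extendScalars_map_injective (f.stalkMap x).hom
      ((DerSch.stalkFunctor Y (f x)).map S.f) ((DerSch.stalkFunctor Y (f x)).map S.g) ?_ ?_ ?_
    · have := hS'.mono_f
      exact (ModuleCat.mono_iff_injective _).1 (inferInstanceAs (Mono (S.map (DerSch.stalkFunctor Y (f x))).f))
    · exact (ShortComplex.ShortExact.moduleCat_exact_iff_function_exact _).1 hS'.exact
    · have := hS'.epi_g
      exact (ModuleCat.epi_iff_surjective _).1 (inferInstanceAs (Epi (S.map (DerSch.stalkFunctor Y (f x))).g))
  have h1 : Mono ((Scheme.Modules.pullback f ⋙ DerSch.stalkFunctor X x).map S.f ≫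
      (stalkPullbackIso f x).hom.app S.X₂) := by
    rw [hnat]
    have : Mono ((stalkPullbackIso f x).hom.app S.X₁) := IsIso.mono_of_iso _
    exact mono_comp ((stalkPullbackIso f x).hom.app S.X₁) _
  exact @mono_of_mono _ _ _ _ _ ((DerSch.stalkFunctor X x).map ((Scheme.Modules.pullback f).map S.f))
    ((stalkPullbackIso f x).hom.app S.X₂) h1

section splice

variable {𝒜 ℬ : Type*} [Category 𝒜] [Abelian 𝒜] [Category ℬ] [Abelian ℬ]
  (F : 𝒜 ⥤ ℬ) [F.Additive] [PreservesFiniteColimits F]

open HomologicalComplex Groth.Agent.Lib.helper13.KFlat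

/-- A right exact functor which keeps the inclusions of the cycles of an acyclic complex `K`
monomorphisms sends `K` to an acyclic complex. -/
theorem acyclic_map_of_mono_iCycles (K : CochainComplex 𝒜 ℤ) (hac : K.Acyclic)
    (hm : ∀ n : ℤ, Mono (F.map (K.iCycles n))) :
    ((F.mapHomologicalComplex (ComplexShape.up ℤ)).obj K).Acyclic := by
  intro n
  rw [exactAt_iff' _ (n - 1) n (n + 1) (by simp) (by simp),
    ShortComplex.exact_iff_exact_up_to_refinements]
  intro B (y : B ⟶ F.obj (K.X n)) (hy : y ≫ F.map (K.d n (n + 1)) = 0)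
  have hd : K.d n (n + 1) = K.toCycles n (n + 1) ≫ K.iCycles (n + 1) := (K.toCycles_i n (n + 1)).symm
  have hd' : K.d (n - 1) n = K.toCycles (n - 1) n ≫ K.iCycles n := (K.toCycles_i (n - 1) n).symm
  have hy' : y ≫ F.map (K.toCycles n (n + 1)) = 0 := by
    have := hm (n + 1)
    rw [← cancel_mono (F.map (K.iCycles (n + 1))), Category.assoc, ← F.map_comp, ← hd, hy, zero_comp]
  have hex : ((cyclesSC K n).map F).Exact :=
    (cyclesSC_shortExact hac n).exact.map_of_epi_of_preservesCokernel F
      (cyclesSC_shortExact hac n).epi_g inferInstance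
  obtain ⟨B', π, hπ, z₀, hz₀⟩ := hex.exact_up_to_refinements y hy'
  obtain ⟨z, hz⟩ : ∃ z : B' ⟶ F.obj (K.cycles n), π ≫ y = z ≫ F.map (K.iCycles n) := ⟨z₀, hz₀⟩
  clear hz₀ z₀
  have : Epi (K.toCycles (n - 1) n) := epi_toCycles_of_acyclic' hac (n - 1) n (by omega)
  have : Epi (F.map (K.toCycles (n - 1) n)) := inferInstance
  obtain ⟨B'', π', hπ', w, hw⟩ := surjective_up_to_refinements_of_epi (F.map (K.toCycles (n - 1) n)) z
  refine ⟨B'', π' ≫ π, epi_comp _ _, w, ?_⟩
  change (π' ≫ π) ≫ y = w ≫ F.map (K.d (n - 1) n)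
  rw [hd', F.map_comp, ← Category.assoc w, ← hw, Category.assoc, Category.assoc, hz]

end splice

section star

open Groth.Agent.Lib.helper13.KFlat Groth.Agent.Lib.helper13.KRes

/-- **`f^*` of an acyclic K-flat complex with flat terms is acyclic.** -/
theorem acyclic_pullback_of_isKFlat (C : CochainComplex Y.Modules ℤ) (hK : DCoh.IsKFlat C)
    (hfl : ∀ n : ℤ, FlatMod.IsFlat (C.X n)) (hac : C.Acyclic) :
    (((Scheme.Modules.pullback f).mapHomologicalComplex (ComplexShape.up ℤ)).obj C).Acyclic := by
  have hcyc : ∀ n : ℤ, FlatMod.IsFlat (C.cycles n) := fun n =>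
    flatMod_of_isFlat _ (isFlat_cycles_of_isKFlat_of_acyclic (O := Y.sheaf) C hK hac
      (fun i => isFlat_of_flatMod _ (hfl i)) n)
  exact acyclic_map_of_mono_iCycles (Scheme.Modules.pullback f) C hac (fun n =>
    mono_pullback_map_of_flat f (cyclesSC C n) (cyclesSC_shortExact hac n) (hcyc (n + 1)))

end star

end Groth.Agent.Lib.Helper25.StalkPullExact
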