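import Mathlib
import Groth.Prelude.Def_DDual2
import Groth.Agent.Lib.Helper25.StalkPullExact
import Groth.Agent.Lib.Helper25.LDerAdapted2
import Groth.Agent.Lib.Helper25.KFlatTri
import Groth.Agent.Lib.Helper25.FlatClass

/-!
# The derived pullback `Lf^*` exists and is computed on K-flat complexes with flat terms (helper25)

* `P₀ Y`: K-flat complexes of `O_Y`-modules with (stalkwise) flat terms; `hzero`, `hshift`, `hcone`, `hres₀`:
  it is an adapted class in the sense of `LDerAdapted`.
* `quasiIso_pullback_map f g h h' hg`: `f^*` preserves quasi-isomorphisms between complexes in `P₀ Y`;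
  `hΦ₀` (the `DCoh.pullKh` form).
* `hasLpull f : DCoh.HasLpull f`.
-/

set_option autoImplicit false
universe u
open CategoryTheory CategoryTheory.Limits AlgebraicGeometry
open ZeroObject

attribute [local instance] HasDerivedCategory.standard

namespace Groth.Agent.Lib.Helper25.LpullAdapted

open Groth.Agent.Lib.Helper25.StalkPullExact Groth.Agent.Lib.Helper25.LDerAdapted
  Groth.Agent.Lib.Helper25.KFlatTri Groth.Agent.Lib.helper25.FlatClass

section cone
variable {C : Type*} [Category C] [Abelian C]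

lemma quasiIso_iff_mappingCone_exactAt {K L : CochainComplex C ℤ} (φ : K ⟶ L) :
    QuasiIso φ ↔ ∀ n, (CochainComplex.mappingCone φ).ExactAt n := by
  rw [← HomologicalComplex.mem_quasiIso_iff, ← HomotopyCategory.quotient_map_mem_quasiIso_iff φ,
    HomotopyCategory.quasiIso_eq_trW_subcategoryAcyclic]
  have h := (HomotopyCategory.subcategoryAcyclic C).trW_iff_of_distinguished _
    (HomotopyCategory.mappingCone_triangleh_distinguished φ)
  exact h.trans (HomotopyCategory.quotient_obj_mem_subcategoryAcyclic_iff_exactAt _)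

end cone

variable {X Y : Scheme.{u}}

/-- the adapted class for `f^*`: K-flat complexes with flat terms -/
def P₀ (Y : Scheme.{u}) : ObjectProperty (CochainComplex Y.Modules ℤ) :=
  fun K => DCoh.IsKFlat K ∧ ∀ n : ℤ, FlatMod.IsFlat (K.X n)

lemma hzero (Y : Scheme.{u}) : ∃ Z : CochainComplex Y.Modules ℤ, IsZero Z ∧ P₀ Y Z :=
  ⟨0, isZero_zero _, dcoh_isKFlat_of_isZero _ (isZero_zero _), fun n =>
    isFlat_of_isZero ((HomologicalComplex.eval _ _ n).map_isZero (isZero_zero _))⟩

lemma hshift (E : CochainComplex Y.Modules ℤ) (n : ℤ) (h : P₀ Y E) : P₀ Y (E⟦n⟧) :=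
  ⟨dcoh_isKFlat_shift E n h.1, fun _ => h.2 _⟩

lemma hcone {E E' : CochainComplex Y.Modules ℤ} (g : E ⟶ E') (h : P₀ Y E) (h' : P₀ Y E') :
    P₀ Y (CochainComplex.mappingCone g) :=
  ⟨dcoh_isKFlat_mappingCone g h.1 h'.1, fun n =>
    isFlat_of_iso (HomologicalComplex.homotopyCofiber.XIsoBiprod g n (n + 1) rfl).symm
      (isFlat_biprod (h.2 _) (h'.2 _))⟩

lemma hres₀ (E : CochainComplex Y.Modules ℤ) :
    ∃ (E' : CochainComplex Y.Modules ℤ) (g : E' ⟶ E), P₀ Y E' ∧ QuasiIso g := by
  obtain ⟨K, q, h1, h2, h3, -⟩ := Groth.Agent.Lib.helper13.KRes.dcoh_exists_kFlat_resolution E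
  exact ⟨K, q, ⟨h1, h2⟩, h3⟩

variable (f : X ⟶ Y)

/-- `f^*` preserves quasi-isomorphisms between K-flat complexes with flat terms -/
theorem quasiIso_pullback_map {E E' : CochainComplex Y.Modules ℤ} (g : E ⟶ E') (h : P₀ Y E)
    (h' : P₀ Y E') (hg : QuasiIso g) :
    QuasiIso (((Scheme.Modules.pullback f).mapHomologicalComplex (ComplexShape.up ℤ)).map g) := by
  rw [quasiIso_iff_mappingCone_exactAt]
  intro n
  refine HomologicalComplex.ExactAt.of_iso ?_
    (CochainComplex.mappingCone.mapHomologicalComplexIso g (Scheme.Modules.pullback f))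
  have hc := hcone g h h'
  exact acyclic_pullback_of_isKFlat f _ hc.1 hc.2
    (fun n => (quasiIso_iff_mappingCone_exactAt g).1 hg n) n

lemma hΦ₀ {E E' : CochainComplex Y.Modules ℤ} (g : E ⟶ E') (h : P₀ Y E)
    (h' : P₀ Y E') (hg : QuasiIso g) :
    IsIso ((DCoh.pullKh f).map ((HomotopyCategory.quotient _ _).map g)) := by
  have := quasiIso_pullback_map f g h h' hg
  change IsIso (DerivedCategory.Qh.map (((Scheme.Modules.pullback f).mapHomotopyCategory
    (ComplexShape.up ℤ)).map ((HomotopyCategory.quotient _ _).map g)))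
  have : IsIso (DerivedCategory.Q.map
      (((Scheme.Modules.pullback f).mapHomologicalComplex (ComplexShape.up ℤ)).map g)) :=
    inferInstance
  exact this

/-- **`Lf^*` exists.** -/
theorem hasLpull : DCoh.HasLpull f :=
  hasLeftDerivedFunctor_Qh (P₀ Y) (hzero Y) hshift (fun g h h' => hcone g h h') hres₀
    (DCoh.pullKh f) (fun g h h' hg => hΦ₀ f g h h' hg)

end Groth.Agent.Lib.Helper25.LpullAdapted
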