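import Mathlib
import Groth.Agent.Lib.Helper25.LTensorDCoh
import Groth.Agent.Lib.Helper25.TotSingle
import Groth.Agent.Lib.Helper13.KFlat14

/-!
# `TensorRightQis M` for every `O_X`-module `M` (helper25)

`tensorRightQis M : LTensorDCoh.TensorRightQis M`: termwise `- ⊗ M` sends quasi-isomorphisms between K-flat
complexes of `O_X`-modules to quasi-isomorphisms.  From helper13's `dcoh_quasiIso_tensor_of_isKFlat`
(`Tot(F ⊗ -)` does, for every complex `F`) applied to `F = M[0]`, the identification `TotSingle.totIso` of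
`Tot(M[0] ⊗ E)` with the termwise `M ⊗ E`, and the braiding `tensorBiBraiding`.

Consequences (all unconditional now): `LTensorDCoh.hasLTensorMod M (tensorRightQis M) : HasLTensorMod M`,
`LTensorDCoh.nonempty_LTensorMod_iso`, `TorAmpDCoh.torAmplitude_of_biprod`, `TorAmpDCoh.torAmplitude_triangle`.
-/

set_option autoImplicit false
universe u
open CategoryTheory CategoryTheory.Limits AlgebraicGeometry HomologicalComplex

namespace Groth.Agent.Lib.Helper25.TensorRightQisAll

open DCoh Groth.Agent.Lib.Helper25.LTensorDCoh Groth.Agent.Lib.Helper25.TotSingle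

variable {X : Scheme.{u}}

/-- `- ⊗ M` and `M ⊗ -`. -/
noncomputable def tensorRightModIso (M : X.Modules) :
    (DCoh.tensorBi (X := X)).obj M ≅ DCoh.tensorRightMod M :=
  (Groth.Agent.Lib.helper13.KFlat.tensorBiBraiding X.sheaf).app M ≪≫
    NatIso.ofComponents (fun _ => Iso.refl _) (by
      intro A B g
      change _ ≫ 𝟙 _ = 𝟙 _ ≫ _
      rw [Category.comp_id]
      exact (Category.id_comp _).symm)

theorem tensorRightQis (M : X.Modules) : TensorRightQis M := by
  intro E E' f hE hE' hf
  let S : CochainComplex X.Modules ℤ :=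
    (HomologicalComplex.single X.Modules (ComplexShape.up ℤ) 0).obj M
  have hS : ∀ p : ℤ, p ≠ 0 → IsZero (S.X p) := fun p hp =>
    HomologicalComplex.isZero_single_obj_X _ _ _ _ hp
  have h1 : QuasiIso (mapBifunctorMap (𝟙 S) f (DCoh.tensorBi (X := X)) (ComplexShape.up ℤ)) :=
    Groth.Agent.Lib.helper13.KFlat.dcoh_quasiIso_tensor_of_isKFlat hE hE' f S
  have h2 := (quasiIso_map_iff (DCoh.tensorBi (X := X)) S hS f).2 h1
  let e : (DCoh.tensorBi (X := X)).obj (S.X 0) ≅ DCoh.tensorRightMod M :=
    (DCoh.tensorBi (X := X)).mapIso (HomologicalComplex.singleObjXSelf (ComplexShape.up ℤ) 0 M) ≪≫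
      tensorRightModIso M
  exact (quasiIso_map_iff_of_natIso e f).1 h2

end Groth.Agent.Lib.Helper25.TensorRightQisAll
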