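import Mathlib
import Groth.Prelude.Def_ModSite
import Groth.Prelude.Def_DTor2
import Groth.Agent.Lib.Helper21.FlatSES
import Groth.Agent.Lib.Helper25.LTensorDCoh
import Groth.Agent.Lib.Helper25.TensorRightQisAll

/-!
# Flatness from `Tor₁`-vanishing (helper25)

* `mono_of_tor_chase`: the abstract diagram chase.
* `mono_tensL_cokernel`, `isFlat_cokernel` (ringed sites): if `P₀` is flat, `d₂ ≫ d₁ = 0` and
  `P₂ ⊗ G ⟶ P₁ ⊗ G ⟶ P₀ ⊗ G` is exact for every `G`, then `coker (d₁ : P₁ ⟶ P₀)` is flat.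
* `dcoh_isFlat_cokernel` (schemes, `FlatMod.IsFlat`, `DCoh.tensorRightMod`).
* `isFlat_cokernel_d`: for a bounded above complex `E` of flat `O_X`-modules with
  `H^{a-1}(E ⊗^L G) = 0` for all `G`, the cokernel of `E^{a-1} ⟶ E^a` is flat.
-/

set_option autoImplicit false
universe u
open CategoryTheory Limits AlgebraicGeometry

attribute [local instance] HasDerivedCategory.standard

namespace Groth.Agent.Lib.Helper25.TorFlat

section chase

variable {𝒜 : Type*} [Category 𝒜] [Abelian 𝒜]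

/-- The diagram chase behind "`Tor₁(M, G'') = 0 ⇒ M ⊗ G' → M ⊗ G` mono" for a flat presentation. -/
theorem mono_of_tor_chase {A₁' A₀' M' A₂ A₁ A₀ M A₂'' A₁'' A₀'' : 𝒜}
    (d₁' : A₁' ⟶ A₀') (π' : A₀' ⟶ M')
    (d₂ : A₂ ⟶ A₁) (d₁ : A₁ ⟶ A₀) (π : A₀ ⟶ M)
    (d₂'' : A₂'' ⟶ A₁'') (d₁'' : A₁'' ⟶ A₀'')
    (i₁ : A₁' ⟶ A₁) (i₀ : A₀' ⟶ A₀) (m : M' ⟶ M)
    (p₂ : A₂ ⟶ A₂'') (p₁ : A₁ ⟶ A₁'') (p₀ : A₀ ⟶ A₀'')
    (c₁ : i₁ ≫ d₁ = d₁' ≫ i₀) (c₂ : d₂ ≫ p₁ = p₂ ≫ d₂'') (c₃ : d₁ ≫ p₀ = p₁ ≫ d₁'')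
    (c₄ : π' ≫ m = i₀ ≫ π)
    (w' : d₁' ≫ π' = 0) (w : d₁ ≫ π = 0) (hπ : (ShortComplex.mk d₁ π w).Exact)
    (w₂ : d₂ ≫ d₁ = 0)
    (w'' : d₂'' ≫ d₁'' = 0) (h'' : (ShortComplex.mk d₂'' d₁'' w'').Exact)
    (wc₁ : i₁ ≫ p₁ = 0) (hc₁ : (ShortComplex.mk i₁ p₁ wc₁).Exact)
    (wc₀ : i₀ ≫ p₀ = 0)
    [Epi π'] [Epi p₂] [Mono i₀] : Mono m := by
  rw [Preadditive.mono_iff_cancel_zero]
  intro T x hx
  -- lift x to a₀'
  obtain ⟨T1, q1, hq1, a₀', e1⟩ := surjective_up_to_refinements_of_epi π' x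
  -- (a₀' ≫ i₀) ≫ π = 0
  have h1 : (a₀' ≫ i₀) ≫ π = 0 := by
    rw [Category.assoc, ← c₄, ← Category.assoc, ← e1, Category.assoc, hx, comp_zero]
  obtain ⟨T2, q2, hq2, a₁, e2⟩ := hπ.exact_up_to_refinements (a₀' ≫ i₀) h1
  -- e2 : q2 ≫ a₀' ≫ i₀ = a₁ ≫ d₁
  have h2 : (a₁ ≫ p₁) ≫ d₁'' = 0 := by
    rw [Category.assoc, ← c₃, ← Category.assoc, ← e2, Category.assoc, Category.assoc, wc₀,
      comp_zero, comp_zero]
  obtain ⟨T3, q3, hq3, a₂'', e3⟩ := h''.exact_up_to_refinements (a₁ ≫ p₁) h2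
  -- e3 : q3 ≫ a₁ ≫ p₁ = a₂'' ≫ d₂''
  obtain ⟨T4, q4, hq4, a₂, e4⟩ := surjective_up_to_refinements_of_epi p₂ a₂''
  -- e4 : q4 ≫ a₂'' = a₂ ≫ p₂
  have h3 : (q4 ≫ q3 ≫ a₁ - a₂ ≫ d₂) ≫ p₁ = 0 := by
    rw [Preadditive.sub_comp, Category.assoc, Category.assoc, Category.assoc, e3, c₂,
      ← Category.assoc a₂, ← e4, Category.assoc, sub_self]
  obtain ⟨T5, q5, hq5, a₁', e5⟩ := hc₁.exact_up_to_refinements _ h3
  -- e5 : q5 ≫ (q4 ≫ q3 ≫ a₁ - a₂ ≫ d₂) = a₁' ≫ i₁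
  have h4 : a₁' ≫ d₁' = q5 ≫ q4 ≫ q3 ≫ q2 ≫ a₀' := by
    rw [← cancel_mono i₀, Category.assoc, ← c₁, ← Category.assoc, ← e5]
    simp only [Preadditive.sub_comp, Preadditive.comp_sub, Category.assoc, w₂, comp_zero,
      sub_zero]
    rw [e2]
  have h5 : (q5 ≫ q4 ≫ q3 ≫ q2 ≫ q1) ≫ x = 0 := by
    simp only [Category.assoc]
    rw [e1, ← Category.assoc q2, ← Category.assoc q3, ← Category.assoc q4, ← Category.assoc q5]
    simp only [Category.assoc]
    rw [← Category.assoc q2, ← Category.assoc q3, ← Category.assoc q4, ← Category.assoc q5]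
    simp only [Category.assoc] at h4 ⊢
    rw [← reassoc_of% h4, w', comp_zero]
  haveI : Epi (q5 ≫ q4 ≫ q3 ≫ q2 ≫ q1) := by
    haveI := hq1; haveI := hq2; haveI := hq3; haveI := hq4; haveI := hq5
    infer_instance
  exact (cancel_epi (q5 ≫ q4 ≫ q3 ≫ q2 ≫ q1)).1 (h5.trans comp_zero.symm)

end chase

section site

open Groth.Agent.Lib.Helper21.TensorMon Groth.Agent.Lib.Helper21.TensorAdj
  Groth.Agent.Lib.Helper21.FlatSES

variable {C : Type u} [SmallCategory C] {J : GrothendieckTopology C} (O : Sheaf J CommRingCat.{u})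

/-- the key step: `C ⊗ -` preserves monomorphisms for `C = coker (P₁ ⟶ P₀)` when `P₀` is flat and
`P₂ ⊗ G ⟶ P₁ ⊗ G ⟶ P₀ ⊗ G` is exact for every `G`. -/
theorem mono_tensL_cokernel {P₂ P₁ P₀ : ModSite.Mod O} (d₂ : P₂ ⟶ P₁) (d₁ : P₁ ⟶ P₀)
    (w : d₂ ≫ d₁ = 0) (h₀ : ModSite.IsFlat P₀)
    (hex : ∀ (G : ModSite.Mod O) (wG : (tens O G).map d₂ ≫ (tens O G).map d₁ = 0),
      (ShortComplex.mk _ _ wG).Exact)
    {M M' : ModSite.Mod O} (f : M ⟶ M') [Mono f] :
    Mono ((tensL O (cokernel d₁)).map f) := by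
  haveI := additive_tens M
  haveI := additive_tens M'
  haveI := additive_tens (cokernel f)
  haveI := additive_tensL P₂
  haveI := additive_tensL P₁
  haveI := additive_tensL P₀
  haveI := isLeftAdjoint_tens O M
  haveI := isLeftAdjoint_tens O M'
  haveI := isLeftAdjoint_tensL O P₂
  haveI := isLeftAdjoint_tensL O P₁
  haveI := preservesFiniteLimits_tensL_of_isFlat P₀ h₀
  have w'' : (tens O (cokernel f)).map d₂ ≫ (tens O (cokernel f)).map d₁ = 0 := by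
    rw [← Functor.map_comp, w, Functor.map_zero]
  have hP : (ShortComplex.mk d₁ (cokernel.π d₁) (cokernel.condition d₁)).Exact :=
    ShortComplex.exact_cokernel d₁
  have hM : (ShortComplex.mk f (cokernel.π f) (cokernel.condition f)).Exact :=
    ShortComplex.exact_cokernel f
  have hπ := hP.map_of_epi_of_preservesCokernel (tens O M') inferInstance inferInstance
  have hc₁ := hM.map_of_epi_of_preservesCokernel (tensL O P₁) inferInstance inferInstance
  exact mono_of_tor_chase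
    ((tens O M).map d₁) ((tens O M).map (cokernel.π d₁))
    ((tens O M').map d₂) ((tens O M').map d₁) ((tens O M').map (cokernel.π d₁))
    ((tens O (cokernel f)).map d₂) ((tens O (cokernel f)).map d₁)
    ((tensL O P₁).map f) ((tensL O P₀).map f) ((tensL O (cokernel d₁)).map f)
    ((tensL O P₂).map (cokernel.π f)) ((tensL O P₁).map (cokernel.π f))
    ((tensL O P₀).map (cokernel.π f))
    (((ModSite.tensorBi O).map d₁).naturality f)
    (((ModSite.tensorBi O).map d₂).naturality (cokernel.π f)).symm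
    (((ModSite.tensorBi O).map d₁).naturality (cokernel.π f)).symm
    (((ModSite.tensorBi O).map (cokernel.π d₁)).naturality f).symm
    (by rw [← Functor.map_comp, cokernel.condition, Functor.map_zero])
    (by rw [← Functor.map_comp, cokernel.condition, Functor.map_zero])
    hπ
    (by rw [← Functor.map_comp, w, Functor.map_zero])
    w'' (hex _ w'')
    (by rw [← Functor.map_comp, cokernel.condition, Functor.map_zero])
    hc₁
    (by rw [← Functor.map_comp, cokernel.condition, Functor.map_zero])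

/-- `coker (P₁ ⟶ P₀)` is flat when `P₀` is flat and `P₂ ⊗ G ⟶ P₁ ⊗ G ⟶ P₀ ⊗ G` is exact for
every `G` ("`Tor₁(coker, G) = 0` for all `G`"). -/
theorem isFlat_cokernel {P₂ P₁ P₀ : ModSite.Mod O} (d₂ : P₂ ⟶ P₁) (d₁ : P₁ ⟶ P₀)
    (w : d₂ ≫ d₁ = 0) (h₀ : ModSite.IsFlat P₀)
    (hex : ∀ (G : ModSite.Mod O) (wG : (tens O G).map d₂ ≫ (tens O G).map d₁ = 0),
      (ShortComplex.mk _ _ wG).Exact) :
    ModSite.IsFlat (cokernel d₁) := by
  refine isFlat_of_mono _ (fun {M M'} f _ => ?_)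
  haveI := mono_tensL_cokernel O d₂ d₁ w h₀ hex f
  have e : (tens O (cokernel d₁)).map f =
      (braidIso O (cokernel d₁)).inv.app M ≫ (tensL O (cokernel d₁)).map f ≫
        (braidIso O (cokernel d₁)).hom.app M' := by
    rw [(braidIso O (cokernel d₁)).hom.naturality f, ← Category.assoc, Iso.inv_hom_id_app,
      Category.id_comp]
  rw [e]
  infer_instance

end site

section scheme

open DCoh Groth.Agent.Lib.Helper25.LTensorDCoh Groth.Agent.Lib.Helper25.TensorRightQisAll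

variable {X : Scheme.{u}}

/-- scheme version of `isFlat_cokernel`, in terms of `FlatMod.IsFlat` and `DCoh.tensorRightMod`. -/
theorem dcoh_isFlat_cokernel {P₂ P₁ P₀ : X.Modules} (d₂ : P₂ ⟶ P₁) (d₁ : P₁ ⟶ P₀)
    (w : d₂ ≫ d₁ = 0) (h₀ : FlatMod.IsFlat P₀)
    (hex : ∀ (G : X.Modules)
      (wG : (DCoh.tensorRightMod G).map d₂ ≫ (DCoh.tensorRightMod G).map d₁ = 0),
      (ShortComplex.mk _ _ wG).Exact) :
    FlatMod.IsFlat (cokernel d₁) := by
  rw [Groth.Agent.Lib.helper13.KRes.flatMod_iff_isFlat] at h₀ ⊢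
  exact isFlat_cokernel X.sheaf d₂ d₁ w h₀ (fun G wG => hex G wG)

/-- For a bounded above complex `E` of flat modules with `H^{a-1}(E ⊗^L G) = 0` for all `G`, the
cokernel of `E^{a-1} ⟶ E^a` is flat. -/
theorem isFlat_cokernel_d (E : CochainComplex X.Modules ℤ) (n : ℤ)
    (hn : ∀ q : ℤ, n < q → IsZero (E.X q)) (hflat : ∀ i : ℤ, FlatMod.IsFlat (E.X i)) (a : ℤ)
    (h : ∀ (G : X.Modules) [HasLTensorMod G],
      IsZero (HD ((LTensorMod G).obj (toD X E)) (a - 1))) :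
    FlatMod.IsFlat (cokernel (E.d (a - 1) a)) := by
  have hE : DCoh.IsKFlat E :=
    Groth.Agent.Lib.helper13.KFlat.dcoh_isKFlat_of_bounded_above E n hn hflat
  refine dcoh_isFlat_cokernel (E.d (a - 2) (a - 1)) (E.d (a - 1) a) (E.d_comp_d _ _ _)
    (hflat a) (fun G wG => ?_)
  haveI : HasLTensorMod G := hasLTensorMod G (tensorRightQis G)
  obtain ⟨e'⟩ := nonempty_LTensorMod_iso G (tensorRightQis G) E hE
  have hz : IsZero ((((tensorRightMod G).mapHomologicalComplex (ComplexShape.up ℤ)).obj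
      E).homology (a - 1)) :=
    IsZero.of_iso (h G) (((DerivedCategory.homologyFunctor X.Modules (a - 1)).mapIso e' ≪≫
      (DerivedCategory.homologyFunctorFactors X.Modules (a - 1)).app _).symm)
  have hex : (((tensorRightMod G).mapHomologicalComplex (ComplexShape.up ℤ)).obj E).ExactAt
      (a - 1) := by
    rw [HomologicalComplex.exactAt_iff_isZero_homology]
    exact hz
  rw [HomologicalComplex.exactAt_iff' _ (a - 2) (a - 1) a (by simp; omega) (by simp)] at hex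
  exact hex

end scheme

end Groth.Agent.Lib.Helper25.TorFlat
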