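import Mathlib
import Groth.Prelude.Def_DTor2
import Groth.Agent.Lib.Helper25.TorFlat
import Groth.Agent.Lib.Helper13.KRes4
import Groth.Agent.Lib.Helper13.KRes5

/-!
# Flat `O_X`-modules and `Tor₁` (helper25)

* `hasFlatAmplitudeIn_inD F hF : HasFlatAmplitudeIn 0 0 (inD X F)` for a flat module `F`;
* `flatMod_of_tor_vanishing`, `flatMod_iff_tor_vanishing`: `F` is flat iff `H^{-1}(F ⊗^L G) = 0` for all `G`;
* `flatMod_of_iso`, `flatMod_of_isZero` (light-weight versions).
-/

set_option autoImplicit false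
universe u
open CategoryTheory Limits AlgebraicGeometry

attribute [local instance] HasDerivedCategory.standard

namespace Groth.Agent.Lib.Helper25.TorFlat2

open DCoh Groth.Agent.Lib.Helper25.LTensorDCoh Groth.Agent.Lib.Helper25.TensorRightQisAll
  Groth.Agent.Lib.Helper25.TorFlat

variable {X : Scheme.{u}}

lemma flatMod_of_iso {M N : X.Modules} (e : M ≅ N) (h : FlatMod.IsFlat M) : FlatMod.IsFlat N := by
  rw [Groth.Agent.Lib.helper13.KRes.flatMod_iff_isFlat] at h ⊢
  exact Groth.Agent.Lib.helper13.KFlat.isFlat_of_iso (O := X.sheaf) e h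

lemma flatMod_of_isZero {Z : X.Modules} (hZ : IsZero Z) : FlatMod.IsFlat Z := by
  rw [Groth.Agent.Lib.helper13.KRes.flatMod_iff_isFlat]
  exact Groth.Agent.Lib.Helper21.FlatSES.isFlat_of_isZero (O := X.sheaf) Z hZ

/-- a flat module, placed in degree `0`, has flat amplitude `[0, 0]`. -/
theorem hasFlatAmplitudeIn_inD (F : X.Modules) (hF : FlatMod.IsFlat F) :
    HasFlatAmplitudeIn 0 0 (inD X F) := by
  refine ⟨(CochainComplex.singleFunctor X.Modules 0).obj F, ?_, ?_,
    ⟨((DerivedCategory.singleFunctorIsoCompQ X.Modules 0).app F).symm⟩⟩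
  · intro i hi
    exact HomologicalComplex.isZero_single_obj_X _ _ _ _ (by omega)
  · intro i
    by_cases hi : i = 0
    · subst hi
      exact flatMod_of_iso (HomologicalComplex.singleObjXSelf (ComplexShape.up ℤ) 0 F).symm hF
    · exact flatMod_of_isZero (HomologicalComplex.isZero_single_obj_X _ _ _ _ hi)

/-- `Tor₁(F, G) = 0` for all `G` implies `F` flat. -/
theorem flatMod_of_tor_vanishing (F : X.Modules)
    (h : ∀ (G : X.Modules) [HasLTensorMod G], IsZero (HD ((LTensorMod G).obj (inD X F)) (-1))) :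
    FlatMod.IsFlat F := by
  let G₀ : CochainComplex X.Modules ℤ := (CochainComplex.singleFunctor X.Modules 0).obj F
  have hG₀ : G₀.IsStrictlyLE 0 :=
    inferInstanceAs (((CochainComplex.singleFunctor X.Modules 0).obj F).IsStrictlyLE 0)
  obtain ⟨P, α, hPle, hPflat, -, hα⟩ :=
    @Groth.Agent.Lib.helper13.KRes.exists_flat_resolution (ModSite.Mod X.sheaf) _ _ _
      (Groth.Agent.Lib.helper13.KRes.flatClass_isFlat (O := X.sheaf)) G₀ 0 hG₀
  let P' : CochainComplex X.Modules ℤ := P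
  let α' : P' ⟶ G₀ := α
  haveI : QuasiIso α' := hα
  have hP'le : ∀ q : ℤ, 0 < q → IsZero (P'.X q) := fun q hq =>
    @CochainComplex.isZero_of_isStrictlyLE _ _ _ P 0 q hq hPle
  let e : toD X P' ≅ inD X F := asIso (DerivedCategory.Q.map α') ≪≫
    ((DerivedCategory.singleFunctorIsoCompQ X.Modules 0).app F).symm
  have hfl : FlatMod.IsFlat (cokernel (P'.d (0 - 1) 0)) :=
    isFlat_cokernel_d P' 0 hP'le
      (fun i => Groth.Agent.Lib.helper13.KRes.flatMod_of_isFlat _ (hPflat i)) 0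
      (fun G _ => IsZero.of_iso (h G)
        ((DerivedCategory.homologyFunctor X.Modules (0 - 1)).mapIso ((LTensorMod G).mapIso e)))
  have hd : P'.d 0 1 = 0 := (hP'le 1 (by omega)).eq_of_tgt _ _
  haveI := P'.isIso_homologyι 0 1 (by simp) hd
  let i1 : cokernel (P'.d (0 - 1) 0) ≅ P'.opcycles 0 :=
    (colimit.isColimit _).coconePointUniqueUpToIso (P'.opcyclesIsCokernel (0 - 1) 0 (by simp))
  let i2 : P'.opcycles 0 ≅ P'.homology 0 := (asIso (P'.homologyι 0)).symm
  let i3 : P'.homology 0 ≅ G₀.homology 0 := asIso (HomologicalComplex.homologyMap α' 0)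
  let i4 : G₀.homology 0 ≅ F :=
    HomologicalComplex.singleObjHomologySelfIso (ComplexShape.up ℤ) 0 F
  exact flatMod_of_iso (i1 ≪≫ i2 ≪≫ i3 ≪≫ i4) hfl

/-- `F` is flat iff `Tor₁(F, G) = 0` for every `G`. -/
theorem flatMod_iff_tor_vanishing (F : X.Modules) :
    FlatMod.IsFlat F ↔ ∀ (G : X.Modules) [HasLTensorMod G],
      IsZero (HD ((LTensorMod G).obj (inD X F)) (-1)) := by
  refine ⟨fun hF G _ => ?_, flatMod_of_tor_vanishing F⟩
  exact isZero_HD_LTensorMod_of_hasFlatAmplitudeIn G (tensorRightQis G) 0 0 _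
    (hasFlatAmplitudeIn_inD F hF) (-1) (Or.inl (by omega))

end Groth.Agent.Lib.Helper25.TorFlat2
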