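import Mathlib
import Groth.Prelude.Def_DTor2
import Groth.Prelude.Def_SecTwist
import Groth.Agent.Lib.Helper25.TorFlat2

/-!
# The unit of the tensor product of `O_X`-modules, derived (helper25)

* `unitorR_naturality`, `tensorRightUnitIso : DCoh.tensorRightMod O_X ≅ 𝟭`, `tensorRightUnitCxIso K : K ⊗ O_X ≅ K`;
* `nonempty_LTensorMod_unit_iso E : E ⊗^L O_X ≅ E` in `D(O_X)`;
* `isZero_HD_of_hasTorAmplitudeIn`: tor amplitude in `[a, b]` (derived-tensor form) kills `H^i(E)` outside `[a, b]`.
-/

set_option autoImplicit false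
universe u
open CategoryTheory Limits AlgebraicGeometry MonoidalCategory

attribute [local instance] HasDerivedCategory.standard

namespace Groth.Agent.Lib.Helper25.TensorUnit

open DCoh

variable {X : Scheme.{u}}

lemma unitorR_naturality {F F' : X.Modules} (f : F ⟶ F') :
    (DCoh.tensorRightMod (Coh.structureModule X)).map f ≫ (SecTwist.unitorR F').hom =
      (SecTwist.unitorR F).hom ≫ f := by
  let adj := PresheafOfModules.sheafificationAdjunction.{u, u, u, u}
    (J := Opens.grothendieckTopology X) (𝟙 X.ringCatSheaf.obj)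
  have h1 : (DCoh.tensorRightMod (Coh.structureModule X)).map f =
      (CohB1.sheafifyMod X).map
        ((DCoh.toP.map f ▷ CohB1.toPMod (Coh.structureModule X) :
          (CohB1.tensorPre F (Coh.structureModule X) : CohB1.PMod X) ⟶
            (CohB1.tensorPre F' (Coh.structureModule X) : CohB1.PMod X))) := rfl
  have h2 : ∀ G : X.Modules, (SecTwist.unitorR G).hom =
      (CohB1.sheafifyMod X).map (SecTwist.unitorPre G).hom ≫ adj.counit.app G := fun G => rfl
  have h3 : (DCoh.toP.map f ▷ CohB1.toPMod (Coh.structureModule X) :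
      (CohB1.tensorPre F (Coh.structureModule X) : CohB1.PMod X) ⟶
        (CohB1.tensorPre F' (Coh.structureModule X) : CohB1.PMod X)) ≫
        (SecTwist.unitorPre F').hom = (SecTwist.unitorPre F).hom ≫ DCoh.toP.map f :=
    rightUnitor_naturality (DCoh.toP.map f)
  have e1 : (CohB1.sheafifyMod X).map
        ((DCoh.toP.map f ▷ CohB1.toPMod (Coh.structureModule X) :
          (CohB1.tensorPre F (Coh.structureModule X) : CohB1.PMod X) ⟶
            (CohB1.tensorPre F' (Coh.structureModule X) : CohB1.PMod X))) ≫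
        (CohB1.sheafifyMod X).map (SecTwist.unitorPre F').hom =
      (CohB1.sheafifyMod X).map (SecTwist.unitorPre F).hom ≫
        (CohB1.sheafifyMod X).map (DCoh.toP.map f) :=
    ((CohB1.sheafifyMod X).map_comp _ _).symm.trans
      ((congrArg (CohB1.sheafifyMod X).map h3).trans ((CohB1.sheafifyMod X).map_comp _ _))
  have e2 : (CohB1.sheafifyMod X).map (DCoh.toP.map f) ≫ adj.counit.app F' =
      adj.counit.app F ≫ f := adj.counit.naturality f
  rw [h1, h2, h2]
  exact (Category.assoc _ _ _).symm.trans ((congrArg (· ≫ adj.counit.app F') e1).trans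
    ((Category.assoc _ _ _).trans ((congrArg ((CohB1.sheafifyMod X).map
      (SecTwist.unitorPre F).hom ≫ ·) e2).trans (Category.assoc _ _ _).symm)))

/-- `- ⊗ O_X ≅ id` -/
noncomputable def tensorRightUnitIso :
    DCoh.tensorRightMod (Coh.structureModule X) ≅ 𝟭 X.Modules :=
  NatIso.ofComponents (fun F => SecTwist.unitorR F) (fun f => unitorR_naturality f)

/-- `K ⊗ O_X ≅ K` for complexes -/
noncomputable def tensorRightUnitCxIso (K : CochainComplex X.Modules ℤ) :
    ((DCoh.tensorRightMod (Coh.structureModule X)).mapHomologicalComplex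
      (ComplexShape.up ℤ)).obj K ≅ K :=
  HomologicalComplex.Hom.isoOfComponents (fun i => SecTwist.unitorR (K.X i))
    (fun i j _ => (unitorR_naturality (K.d i j)).symm)

open Groth.Agent.Lib.Helper25.LTensorDCoh Groth.Agent.Lib.Helper25.TensorRightQisAll
  Groth.Agent.Lib.Helper25.TorFlat Groth.Agent.Lib.Helper25.TorFlat2

/-- `E ⊗^L O_X ≅ E` -/
theorem nonempty_LTensorMod_unit_iso [HasLTensorMod (Coh.structureModule X)] (E : D X) :
    Nonempty ((LTensorMod (Coh.structureModule X)).obj E ≅ E) := by
  obtain ⟨K, q, hK, hq⟩ := hres₀ (DerivedCategory.Q.objPreimage E)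
  haveI := hq
  let e : DerivedCategory.Q.obj K ≅ E :=
    asIso (DerivedCategory.Q.map q) ≪≫ DerivedCategory.Q.objObjPreimageIso E
  obtain ⟨e'⟩ := nonempty_LTensorMod_iso (Coh.structureModule X) (tensorRightQis _) K hK
  exact ⟨(LTensorMod (Coh.structureModule X)).mapIso e.symm ≪≫ e' ≪≫
    DerivedCategory.Q.mapIso (tensorRightUnitCxIso K) ≪≫ e⟩

/-- tor amplitude in `[a, b]` forces the cohomology sheaves to vanish outside `[a, b]`. -/
theorem isZero_HD_of_hasTorAmplitudeIn (E : D X) (a b : ℤ) (h : HasTorAmplitudeIn a b E) (i : ℤ)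
    (hi : i < a ∨ b < i) : IsZero (HD E i) := by
  haveI : HasLTensorMod (Coh.structureModule X) := hasLTensorMod _ (tensorRightQis _)
  obtain ⟨e⟩ := nonempty_LTensorMod_unit_iso E
  exact IsZero.of_iso (h (Coh.structureModule X) i hi)
    ((DerivedCategory.homologyFunctor X.Modules i).mapIso e.symm)

end Groth.Agent.Lib.Helper25.TensorUnit
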