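import Mathlib
import Groth.Prelude.Def_DTor2
import Groth.Agent.Lib.Helper25.TensorUnit
import Groth.Agent.Lib.Helper13.KRes4
import Groth.Agent.Lib.Helper13.KRes5

/-!
# Tor amplitude (derived-tensor form) ⇔ flat amplitude (representative form) on a scheme (helper25)

* `hasFlatAmplitudeIn_of_hasTorAmplitudeIn`: if `H^i(E ⊗^L G) = 0` outside `[a, b]` for all `G`, then `E` is
  represented by a complex of flat modules in `[a, b]` (bounded above flat resolution, then `truncGE a`,
  whose bottom term is flat by `TorFlat.isFlat_cokernel_d`);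
* `hasTorAmplitudeIn_iff_hasFlatAmplitudeIn`.
-/

set_option autoImplicit false
universe u
open CategoryTheory Limits AlgebraicGeometry

attribute [local instance] HasDerivedCategory.standard

namespace Groth.Agent.Lib.Helper25.TorAmpFlat

open DCoh Groth.Agent.Lib.Helper25.LTensorDCoh Groth.Agent.Lib.Helper25.TensorRightQisAll
  Groth.Agent.Lib.Helper25.TorFlat Groth.Agent.Lib.Helper25.TorFlat2
  Groth.Agent.Lib.Helper25.TensorUnit

variable {X : Scheme.{u}}

theorem hasFlatAmplitudeIn_of_hasTorAmplitudeIn (E : D X) (a b : ℤ) (hab : a ≤ b)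
    (h : HasTorAmplitudeIn a b E) : HasFlatAmplitudeIn a b E := by
  have hH := isZero_HD_of_hasTorAmplitudeIn E a b h
  haveI : E.IsLE b := by
    rw [DerivedCategory.isLE_iff]
    exact fun i hi => hH i (Or.inr hi)
  obtain ⟨K, hK, ⟨e⟩⟩ := DerivedCategory.exists_iso_Q_obj_of_isLE E b
  obtain ⟨P, α, hPle, hPflat, -, hα⟩ :=
    @Groth.Agent.Lib.helper13.KRes.exists_flat_resolution (ModSite.Mod X.sheaf) _ _ _
      (Groth.Agent.Lib.helper13.KRes.flatClass_isFlat (O := X.sheaf)) K b hK
  let P' : CochainComplex X.Modules ℤ := P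
  let α' : P' ⟶ K := α
  haveI : QuasiIso α' := hα
  have hP'le : ∀ q : ℤ, b < q → IsZero (P'.X q) := fun q hq =>
    @CochainComplex.isZero_of_isStrictlyLE _ _ _ P b q hq hPle
  have hP'flat : ∀ i : ℤ, FlatMod.IsFlat (P'.X i) := fun i =>
    Groth.Agent.Lib.helper13.KRes.flatMod_of_isFlat _ (hPflat i)
  let eP : toD X P' ≅ E := asIso (DerivedCategory.Q.map α') ≪≫ e.symm
  have hC : FlatMod.IsFlat (cokernel (P'.d (a - 1) a)) :=
    isFlat_cokernel_d P' b hP'le hP'flat a
      (fun G _ => IsZero.of_iso (h G (a - 1) (Or.inl (by omega)))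
        ((DerivedCategory.homologyFunctor X.Modules (a - 1)).mapIso ((LTensorMod G).mapIso eP)))
  haveI : P'.IsGE a := by
    rw [CochainComplex.isGE_iff]
    intro i hi
    rw [HomologicalComplex.exactAt_iff_isZero_homology]
    exact IsZero.of_iso (hH i (Or.inl hi))
      (((DerivedCategory.homologyFunctorFactors X.Modules i).app P').symm ≪≫
        (DerivedCategory.homologyFunctor X.Modules i).mapIso eP)
  refine ⟨P'.truncGE a, ?_, ?_, ⟨(asIso (DerivedCategory.Q.map (P'.πTruncGE a))).symm ≪≫ eP⟩⟩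
  · intro i hi
    rcases hi with hi | hi
    · exact (P'.truncGE a).isZero_of_isStrictlyGE a i hi
    · exact IsZero.of_iso (hP'le i hi) (P'.truncGEXIso a i (by omega))
  · intro i
    rcases lt_trichotomy i a with hi | hi | hi
    · exact flatMod_of_isZero ((P'.truncGE a).isZero_of_isStrictlyGE a i hi)
    · subst hi
      have i1 : cokernel (P'.d (i - 1) i) ≅ P'.opcycles i :=
        (colimit.isColimit _).coconePointUniqueUpToIso
          (P'.opcyclesIsCokernel (i - 1) i (by simp))
      exact flatMod_of_iso (i1 ≪≫ (P'.truncGEXIsoOpcycles i).symm) hC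
    · exact flatMod_of_iso (P'.truncGEXIso a i hi).symm (hP'flat i)

theorem hasTorAmplitudeIn_iff_hasFlatAmplitudeIn (E : D X) (a b : ℤ) (hab : a ≤ b) :
    HasTorAmplitudeIn a b E ↔ HasFlatAmplitudeIn a b E :=
  ⟨hasFlatAmplitudeIn_of_hasTorAmplitudeIn E a b hab, fun h G _ i hi =>
    isZero_HD_LTensorMod_of_hasFlatAmplitudeIn G (tensorRightQis G) a b E h i hi⟩

end Groth.Agent.Lib.Helper25.TorAmpFlat
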