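import Mathlib
import Groth.Prelude.Def_DerSch
import Groth.Prelude.Def_FlatMod2
import Groth.Agent.Lib.Helper25.StalkPull
import Groth.Agent.Lib.Helper25.LpullAdapted
import Groth.Agent.Lib.Helper25.TorAmpFlat

/-!
# Pullback of flat modules; `Lf^*` on K-flat complexes with flat terms (helper25)

* `isFlat_pullback f A hA`: the pullback of a stalkwise flat module (no quasi-coherence) is flat.
* `nonempty_Lpull_iso f G hG : Nonempty ((Lpull f).obj (toD Y G) ≅ toD X (f^* G))` for `G` K-flat with flat terms,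
  under any `[DCoh.HasLpull f]` binder.
* `P₀_of_vanishesOutside`, `hasFlatAmplitudeIn_Lpull`.
-/

set_option autoImplicit false
universe u
open CategoryTheory CategoryTheory.Limits AlgebraicGeometry Opposite TopologicalSpace

attribute [local instance] HasDerivedCategory.standard

namespace Groth.Agent.Lib.Helper25.StalkPullFlat

open Groth.Agent.Lib.Helper25.StalkSky

theorem flat_extendScalars {R S : Type u} [CommRing R] [CommRing S] (φ : R →+* S)
    (N : ModuleCat.{u} R) [Module.Flat R N] :
    Module.Flat S ((ModuleCat.extendScalars.{u, u, u} φ).obj N) := by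
  letI := φ.toAlgebra
  exact (inferInstance : Module.Flat S (TensorProduct R S N))

variable {X Y : Scheme.{u}} (f : X ⟶ Y)

/-- the pullback of a (stalkwise) flat module is flat -/
theorem isFlat_pullback (A : Y.Modules) (hA : FlatMod.IsFlat A) :
    FlatMod.IsFlat ((Scheme.Modules.pullback f).obj A) := by
  intro x
  have : Module.Flat (Y.presheaf.stalk (f x)) ((DerSch.stalkFunctor Y (f x)).obj A) := hA (f x)
  have h := flat_extendScalars (f.stalkMap x).hom ((DerSch.stalkFunctor Y (f x)).obj A)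
  exact (Module.Flat.equiv_iff ((stalkPullbackIso f x).app A).toLinearEquiv).2 h

open Groth.Agent.Lib.Helper25.LpullAdapted Groth.Agent.Lib.Helper25.LDerAdapted

/-- **`Lf^*` is computed termwise on K-flat complexes with flat terms.** -/
theorem nonempty_Lpull_iso [DCoh.HasLpull f] (G : CochainComplex Y.Modules ℤ) (hG : P₀ Y G) :
    Nonempty ((DCoh.Lpull f).obj (DCoh.toD Y G) ≅
      DCoh.toD X (((Scheme.Modules.pullback f).mapHomologicalComplex (ComplexShape.up ℤ)).obj G)) := by
  have h := isIso_counit_app_quotient_obj (P₀ Y) (hzero Y) hshift (fun g h h' => hcone g h h') hres₀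
    (DCoh.pullKh f) (fun g h h' hg => hΦ₀ f g h h' hg) _
    ((DCoh.pullKh f).totalLeftDerivedCounit DerivedCategory.Qh
      (HomotopyCategory.quasiIso Y.Modules (ComplexShape.up ℤ))) G hG
  exact ⟨@asIso _ _ _ _ _ h ≪≫ DerivedCategory.Qh.mapIso
    (((Scheme.Modules.pullback f).mapHomotopyCategoryFactors (ComplexShape.up ℤ)).app G)⟩

/-- K-flat from bounded above with flat terms, packaged for `P₀` -/
lemma P₀_of_vanishesOutside (G : CochainComplex Y.Modules ℤ) (a b : ℤ)
    (hV : DCoh.VanishesOutside G a b) (hfl : ∀ i : ℤ, FlatMod.IsFlat (G.X i)) : P₀ Y G :=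
  ⟨Groth.Agent.Lib.helper13.KFlat.dcoh_isKFlat_of_bounded_above G b
    (fun q hq => hV q (Or.inr hq)) hfl, hfl⟩

/-- flat amplitude is preserved by `Lf^*` -/
theorem hasFlatAmplitudeIn_Lpull [DCoh.HasLpull f] (E : DCoh.D Y) (a b : ℤ)
    (hE : DCoh.HasFlatAmplitudeIn a b E) : DCoh.HasFlatAmplitudeIn a b ((DCoh.Lpull f).obj E) := by
  obtain ⟨G, hV, hfl, ⟨e⟩⟩ := hE
  obtain ⟨e'⟩ := nonempty_Lpull_iso f G (P₀_of_vanishesOutside G a b hV hfl)
  refine ⟨((Scheme.Modules.pullback f).mapHomologicalComplex (ComplexShape.up ℤ)).obj G, ?_, ?_,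
    ⟨e'.symm ≪≫ (DCoh.Lpull f).mapIso e⟩⟩
  · intro i hi
    exact (Scheme.Modules.pullback f).map_isZero (hV i hi)
  · intro i
    exact isFlat_pullback f _ (hfl i)

end Groth.Agent.Lib.Helper25.StalkPullFlat
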