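import Groth.Agent.Lib.Helper25.PullKFlat
import Groth.Agent.Lib.Helper25.StalkPullFlat
import Groth.Agent.Lib.Helper25.LTensorComp

/-!
# `Lf^* ∘ Lg^* ≅ L(g ∘ f)^*` on schemes

The adapted class `P₀` (K-flat complexes with flat terms) is preserved by `g^*` (`P₀_pullback`, via `isKFlat_pullback` and
`isFlat_pullback`), both counits are invertible on it (`isIso_ε_app`), hence the comparison `β` is invertible on `P₀` and
`isoOfAdapted` gives `nonempty_Lpull_comp`.
-/
set_option autoImplicit false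
universe u
open CategoryTheory CategoryTheory.Limits AlgebraicGeometry

attribute [local instance] HasDerivedCategory.standard

namespace Groth.Agent.Lib.Helper25.LpullComp

open Groth.Agent.Lib.Helper25.LpullAdapted Groth.Agent.Lib.Helper25.LDerAdapted
  Groth.Agent.Lib.Helper25.StalkPullFlat Groth.Agent.Lib.Helper25.PullKFlat
  Groth.Agent.Lib.Helper25.LTensorComp

variable {X Y Z : Scheme.{u}}

/-- quasi-isomorphisms in the homotopy category -/
abbrev Wh (Y : Scheme.{u}) : MorphismProperty (HomotopyCategory Y.Modules (ComplexShape.up ℤ)) :=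
  HomotopyCategory.quasiIso Y.Modules (ComplexShape.up ℤ)

/-- the counit of `Lf^*` -/
noncomputable abbrev ε (f : X ⟶ Y) [DCoh.HasLpull f] :
    DerivedCategory.Qh ⋙ DCoh.Lpull f ⟶ DCoh.pullKh f :=
  (DCoh.pullKh f).totalLeftDerivedCounit DerivedCategory.Qh (Wh Y)

theorem isIso_ε_app (f : X ⟶ Y) [DCoh.HasLpull f] (G : CochainComplex Y.Modules ℤ) (hG : P₀ Y G) :
    IsIso ((ε f).app ((HomotopyCategory.quotient _ _).obj G)) :=
  isIso_counit_app_quotient_obj (P₀ Y) (hzero Y) hshift (fun g h h' => hcone g h h') hres₀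
    (DCoh.pullKh f) (fun g h h' hg => hΦ₀ f g h h' hg) _ (ε f) G hG

/-- the adapted class is preserved by pullbacks -/
lemma P₀_pullback (g : Y ⟶ Z) (G : CochainComplex Z.Modules ℤ) (hG : P₀ Z G) :
    P₀ Y (((Scheme.Modules.pullback g).mapHomologicalComplex (ComplexShape.up ℤ)).obj G) :=
  ⟨isKFlat_pullback g G hG.1, fun n => isFlat_pullback g _ (hG.2 n)⟩

variable (f : X ⟶ Y) (g : Y ⟶ Z) [DCoh.HasLpull f] [DCoh.HasLpull g] [DCoh.HasLpull (f ≫ g)]

/-- the comparison `Lf^* Lg^* Q ⟶ (gf)^*` -/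
noncomputable def β : DerivedCategory.Qh ⋙ (DCoh.Lpull g ⋙ DCoh.Lpull f) ⟶ DCoh.pullKh (f ≫ g) :=
  (Functor.associator _ _ _).inv ≫ Functor.whiskerRight (ε g) (DCoh.Lpull f) ≫
    (Functor.associator _ _ _).hom ≫
    Functor.whiskerLeft ((Scheme.Modules.pullback g).mapHomotopyCategory (ComplexShape.up ℤ)) (ε f) ≫
    (Functor.associator _ _ _).inv ≫
    Functor.whiskerRight (Functor.mapHomotopyCategoryCompIso (Scheme.Modules.pullbackComp f g)
      (ComplexShape.up ℤ)).hom DerivedCategory.Qh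

omit [DCoh.HasLpull (f ≫ g)] in
lemma β_app (P : HomotopyCategory Z.Modules (ComplexShape.up ℤ)) :
    (β f g).app P = (DCoh.Lpull f).map ((ε g).app P) ≫
      (ε f).app (((Scheme.Modules.pullback g).mapHomotopyCategory (ComplexShape.up ℤ)).obj P) ≫
      DerivedCategory.Qh.map ((Functor.mapHomotopyCategoryCompIso (Scheme.Modules.pullbackComp f g)
        (ComplexShape.up ℤ)).hom.app P) := by
  simp [β]

omit [DCoh.HasLpull (f ≫ g)] in
theorem isIso_β_app (G : CochainComplex Z.Modules ℤ) (hG : P₀ Z G) :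
    IsIso ((β f g).app ((HomotopyCategory.quotient _ _).obj G)) := by
  rw [β_app]
  have := isIso_ε_app g G hG
  have : IsIso ((ε f).app (((Scheme.Modules.pullback g).mapHomotopyCategory (ComplexShape.up ℤ)).obj
      ((HomotopyCategory.quotient _ _).obj G))) :=
    isIso_ε_app f _ (P₀_pullback g G hG)
  infer_instance

/-- **`Lf^* ∘ Lg^* ≅ L(g f)^*`.** -/
theorem nonempty_Lpull_comp : Nonempty (DCoh.Lpull g ⋙ DCoh.Lpull f ≅ DCoh.Lpull (f ≫ g)) := by
  refine ⟨isoOfAdapted DerivedCategory.Qh (Wh Z) (DCoh.pullKh (f ≫ g)) (DCoh.Lpull (f ≫ g)) (ε (f ≫ g))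
    (DCoh.Lpull g ⋙ DCoh.Lpull f) (β f g)
    (fun P => ∃ G : CochainComplex Z.Modules ℤ, P₀ Z G ∧ P = (HomotopyCategory.quotient _ _).obj G)
    ?_ ?_ ?_⟩
  · intro K
    obtain ⟨K, rfl⟩ := K.quotient_obj_surjective
    obtain ⟨E', s, hE', hs⟩ := hres₀ K
    refine ⟨(HomotopyCategory.quotient _ _).obj E', (HomotopyCategory.quotient _ _).map s, ⟨E', hE', rfl⟩, ?_⟩
    change HomotopyCategory.quasiIso Z.Modules (ComplexShape.up ℤ) _
    rw [HomotopyCategory.quotient_map_mem_quasiIso_iff, HomologicalComplex.mem_quasiIso_iff]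
    exact hs
  · rintro P ⟨G, hG, rfl⟩
    exact isIso_ε_app (f ≫ g) G hG
  · rintro P ⟨G, hG, rfl⟩
    exact isIso_β_app f g G hG

end Groth.Agent.Lib.Helper25.LpullComp
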