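import Groth.Agent.Lib.Helper25.LpullComp
import Groth.Agent.Lib.Helper25.DCohRestrict
import Groth.Agent.Lib.Helper25.FlatClass
import Groth.Agent.Lib.Helper13.RestrKFlat2

/-!
# `Lf^*` preserves perfect objects

* `pullRestrictIso f V : f^* ⋙ (-)|_{f⁻¹V} ≅ (-)|_V ⋙ (f∣_V)^*` (natural), `pullRestrictCxIso` on complexes.
* `P₀_restrict`, `P₀_of_isStrictlyPerfect`, `isStrictlyPerfect_pullback`, `exists_P₀_rep`.
* `isPerfect_Lpull f E hE`.
-/
set_option autoImplicit false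
universe u
open CategoryTheory CategoryTheory.Limits AlgebraicGeometry

attribute [local instance] HasDerivedCategory.standard

namespace Groth.Agent.Lib.Helper25.LpullPerfect

open Groth.Agent.Lib.Helper25.LpullAdapted Groth.Agent.Lib.Helper25.LDerAdapted
  Groth.Agent.Lib.Helper25.StalkPullFlat Groth.Agent.Lib.Helper25.PullKFlat
  Groth.Agent.Lib.helper25.DCohRestrict Groth.Agent.Lib.helper25.FlatClass

variable {X Y : Scheme.{u}}

/-- restriction of a pullback to the preimage of an open is the pullback of the restriction, naturally -/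
noncomputable def pullRestrictIso (f : X ⟶ Y) (V : Y.Opens) :
    Scheme.Modules.pullback f ⋙ Scheme.Modules.restrictFunctor (f ⁻¹ᵁ V).ι ≅
      Scheme.Modules.restrictFunctor V.ι ⋙ Scheme.Modules.pullback (f ∣_ V) :=
  Functor.isoWhiskerLeft _ (Scheme.Modules.restrictFunctorIsoPullback _) ≪≫
    Scheme.Modules.pullbackComp (f ⁻¹ᵁ V).ι f ≪≫
    Scheme.Modules.pullbackCongr (morphismRestrict_ι f V).symm ≪≫
    (Scheme.Modules.pullbackComp (f ∣_ V) V.ι).symm ≪≫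
    Functor.isoWhiskerRight (Scheme.Modules.restrictFunctorIsoPullback V.ι).symm _

/-- complex version -/
noncomputable def pullRestrictCxIso (f : X ⟶ Y) (V : Y.Opens) (P : CochainComplex Y.Modules ℤ) :
    (resCx (f ⁻¹ᵁ V).ι).obj (((Scheme.Modules.pullback f).mapHomologicalComplex (ComplexShape.up ℤ)).obj P) ≅
      ((Scheme.Modules.pullback (f ∣_ V)).mapHomologicalComplex (ComplexShape.up ℤ)).obj ((resCx V.ι).obj P) :=
  (NatIso.mapHomologicalComplex (pullRestrictIso f V) (ComplexShape.up ℤ)).app P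

lemma P₀_restrict (V : Y.Opens) (P : CochainComplex Y.Modules ℤ) (hP : P₀ Y P) :
    P₀ V ((resCx V.ι).obj P) :=
  ⟨Groth.Agent.Lib.helper13.RestrKFlat.dcoh_isKFlat_restrict V P hP.1,
    fun n => isFlat_restrict (P.X n) V (hP.2 n)⟩

lemma P₀_of_isStrictlyPerfect (S : CochainComplex Y.Modules ℤ) (hS : DCoh.IsStrictlyPerfect S) : P₀ Y S := by
  obtain ⟨⟨a, b, hab⟩, hf⟩ := hS
  exact P₀_of_vanishesOutside S a b hab
    (fun i => Groth.Agent.Lib.helper16.FLF.isFlat_of_isFinLocFree _ (hf i))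

lemma isStrictlyPerfect_pullback (f : X ⟶ Y) (S : CochainComplex Y.Modules ℤ)
    (hS : DCoh.IsStrictlyPerfect S) :
    DCoh.IsStrictlyPerfect (((Scheme.Modules.pullback f).mapHomologicalComplex (ComplexShape.up ℤ)).obj S) := by
  obtain ⟨⟨a, b, hab⟩, hf⟩ := hS
  exact ⟨⟨a, b, fun i hi => (Scheme.Modules.pullback f).map_isZero (hab i hi)⟩,
    fun i => Groth.Agent.Lib.helper16.FLF.isFinLocFree_pullback f (hf i)⟩

/-- every object of `D(O_Y)` is represented by a K-flat complex with flat terms -/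
lemma exists_P₀_rep (E : DCoh.D Y) :
    ∃ P : CochainComplex Y.Modules ℤ, P₀ Y P ∧ Nonempty (DCoh.toD Y P ≅ E) := by
  obtain ⟨G₀, ⟨e₀⟩⟩ := exists_rep E
  obtain ⟨P, q, hP, hq⟩ := hres₀ G₀
  have : IsIso (DerivedCategory.Q.map q) := by
    rw [DerivedCategory.isIso_Q_map_iff_quasiIso]; exact hq
  exact ⟨P, hP, ⟨asIso (DerivedCategory.Q.map q) ≪≫ e₀⟩⟩

/-- **`Lf^*` preserves perfect objects.** -/
theorem isPerfect_Lpull (f : X ⟶ Y) [DCoh.HasLpull f] (E : DCoh.D Y) (hE : DCoh.IsPerfect E) :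
    DCoh.IsPerfect ((DCoh.Lpull f).obj E) := by
  intro x
  obtain ⟨V, hyV, hV⟩ := hE (f x)
  obtain ⟨P, hP, ⟨eP⟩⟩ := exists_P₀_rep E
  obtain ⟨S, hS, ⟨eS⟩⟩ := hV P ⟨eP⟩
  obtain ⟨e1⟩ := nonempty_Lpull_iso f P hP
  have : DCoh.HasLpull (f ∣_ V) := hasLpull _
  obtain ⟨e2⟩ := nonempty_Lpull_iso (f ∣_ V) _ (P₀_restrict V P hP)
  obtain ⟨e3⟩ := nonempty_Lpull_iso (f ∣_ V) S (P₀_of_isStrictlyPerfect S hS)
  refine isPerfect_at_of_openImmersion _ x (f ⁻¹ᵁ V).ι ?_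
    (((Scheme.Modules.pullback f).mapHomologicalComplex (ComplexShape.up ℤ)).obj P)
    ⟨e1.symm ≪≫ (DCoh.Lpull f).mapIso eP⟩ _ (isStrictlyPerfect_pullback (f ∣_ V) S hS) ⟨?_⟩
  · rw [Scheme.Opens.opensRange_ι]
    exact hyV
  · exact DerivedCategory.Q.mapIso (pullRestrictCxIso f V P) ≪≫ e2.symm ≪≫
      (DCoh.Lpull (f ∣_ V)).mapIso eS ≪≫ e3

end Groth.Agent.Lib.Helper25.LpullPerfect
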