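import Mathlib

/-!
# Morphisms of a derived category which are isomorphisms on `H^i` for `i > m` and epimorphisms on `H^m` (helper25)

* `IsoAbove m α`.
* `isoAbove_iff_cone`: in terms of the vanishing of `H^i` (`i ≥ m`) of the cone.
* `IsoAbove.comp_iso`, `IsoAbove.iso_comp`, `IsoAbove.comp`, `IsoAbove.map_Q` (from a chain map).
* `IsoAbove.shift`.
-/

set_option autoImplicit false
open CategoryTheory CategoryTheory.Limits Pretriangulated

namespace Groth.Agent.Lib.helper25.IsoAbove

open DerivedCategory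

variable {C : Type*} [Category C] [Abelian C] [HasDerivedCategory C]

/-- `α` is an isomorphism on `H^i` for `i > m` and an epimorphism on `H^m` -/
def IsoAbove (m : ℤ) {K L : DerivedCategory C} (α : K ⟶ L) : Prop :=
  (∀ i : ℤ, m < i → IsIso ((homologyFunctor C i).map α)) ∧ Epi ((homologyFunctor C m).map α)

lemma IsoAbove.epi {m : ℤ} {K L : DerivedCategory C} {α : K ⟶ L} (h : IsoAbove m α) (i : ℤ) (hi : m ≤ i) :
    Epi ((homologyFunctor C i).map α) := by
  rcases eq_or_lt_of_le hi with rfl | h'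
  · exact h.2
  · have := h.1 i h'
    infer_instance

lemma IsoAbove.isIso {m : ℤ} {K L : DerivedCategory C} {α : K ⟶ L} (h : IsoAbove m α) (i : ℤ) (hi : m < i) :
    IsIso ((homologyFunctor C i).map α) := h.1 i hi

lemma IsoAbove.mono {m : ℤ} {K L : DerivedCategory C} {α : K ⟶ L} (h : IsoAbove m α) (i : ℤ) (hi : m < i) :
    Mono ((homologyFunctor C i).map α) := by
  have := h.1 i hi
  infer_instance

lemma isoAbove_of_isIso (m : ℤ) {K L : DerivedCategory C} (α : K ⟶ L) [IsIso α] : IsoAbove m α :=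
  ⟨fun _ _ => inferInstance, inferInstance⟩

lemma IsoAbove.comp {m : ℤ} {K L M : DerivedCategory C} {α : K ⟶ L} {β : L ⟶ M} (h : IsoAbove m α)
    (h' : IsoAbove m β) : IsoAbove m (α ≫ β) := by
  refine ⟨fun i hi => ?_, ?_⟩
  · have := h.1 i hi
    have := h'.1 i hi
    rw [Functor.map_comp]
    infer_instance
  · have := h.2
    have := h'.2
    rw [Functor.map_comp]
    infer_instance

lemma IsoAbove.comp_iso {m : ℤ} {K L M : DerivedCategory C} {α : K ⟶ L} (h : IsoAbove m α) (β : L ⟶ M)
    [IsIso β] : IsoAbove m (α ≫ β) := h.comp (isoAbove_of_isIso m β)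

lemma IsoAbove.iso_comp {m : ℤ} {K L M : DerivedCategory C} (β : K ⟶ L) [IsIso β] {α : L ⟶ M}
    (h : IsoAbove m α) : IsoAbove m (β ≫ α) := (isoAbove_of_isIso m β).comp h

lemma IsoAbove.of_comp_iso {m : ℤ} {K L M : DerivedCategory C} {α : K ⟶ L} (β : L ⟶ M) [IsIso β]
    (h : IsoAbove m (α ≫ β)) : IsoAbove m α := by
  have := h.comp_iso (inv β)
  simpa using this

lemma IsoAbove.mono_le {m m' : ℤ} {K L : DerivedCategory C} {α : K ⟶ L} (h : IsoAbove m α) (hm : m ≤ m') :
    IsoAbove m' α :=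
  ⟨fun i hi => h.1 i (by omega), h.epi m' hm⟩

/-- the criterion through the cone -/
lemma isoAbove_iff_cone (T : Triangle (DerivedCategory C)) (hT : T ∈ distTriang (DerivedCategory C)) (m : ℤ) :
    IsoAbove m T.mor₁ ↔ ∀ i : ℤ, m ≤ i → IsZero ((homologyFunctor C i).obj T.obj₃) := by
  constructor
  · intro h i hi
    refine (HomologySequence.exact₃ T hT i (i + 1) rfl).isZero_of_both_zeros ?_ ?_
    · exact (HomologySequence.epi_homologyMap_mor₁_iff T hT i).1 (h.epi i hi)
    · exact (HomologySequence.mono_homologyMap_mor₁_iff T hT i (i + 1) rfl).1 (h.mono (i + 1) (by omega))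
  · intro h
    refine ⟨fun i hi => ?_, ?_⟩
    · have h1 : Mono ((homologyFunctor C i).map T.mor₁) := by
        have hz := h (i - 1) (by omega)
        exact (HomologySequence.mono_homologyMap_mor₁_iff T hT (i - 1) i (by omega)).2 (hz.eq_of_src _ _)
      have h2 : Epi ((homologyFunctor C i).map T.mor₁) :=
        (HomologySequence.epi_homologyMap_mor₁_iff T hT i).2 ((h i (by omega)).eq_of_tgt _ _)
      exact isIso_of_mono_of_epi _
    · exact (HomologySequence.epi_homologyMap_mor₁_iff T hT m).2 ((h m le_rfl).eq_of_tgt _ _)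

lemma epi_map_iff_of_natIso {A B : Type*} [Category A] [Category B] {F G : A ⥤ B} (e : F ≅ G) {X Y : A}
    (f : X ⟶ Y) : Epi (F.map f) ↔ Epi (G.map f) := by
  constructor
  · intro h
    rw [← NatIso.naturality_1 e f]
    infer_instance
  · intro h
    rw [← NatIso.naturality_2 e f]
    infer_instance

/-- `Q` of a chain map: the conditions can be checked on the homology of complexes -/
lemma isoAbove_Q_map_iff {K L : CochainComplex C ℤ} (f : K ⟶ L) (m : ℤ) :
    IsoAbove m (Q.map f) ↔ (∀ i : ℤ, m < i → IsIso (HomologicalComplex.homologyMap f i)) ∧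
      Epi (HomologicalComplex.homologyMap f m) := by
  have h1 : ∀ i : ℤ, IsIso ((homologyFunctor C i).map (Q.map f)) ↔
      IsIso (HomologicalComplex.homologyMap f i) := fun i =>
    NatIso.isIso_map_iff (homologyFunctorFactors C i) f
  have h2 : ∀ i : ℤ, Epi ((homologyFunctor C i).map (Q.map f)) ↔
      Epi (HomologicalComplex.homologyMap f i) := fun i =>
    epi_map_iff_of_natIso (homologyFunctorFactors C i) f
  exact ⟨fun h => ⟨fun i hi => (h1 i).1 (h.1 i hi), (h2 m).1 h.2⟩,
    fun h => ⟨fun i hi => (h1 i).2 (h.1 i hi), (h2 m).2 h.2⟩⟩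

/-- shifting -/
lemma IsoAbove.shift {m : ℤ} {K L : DerivedCategory C} {α : K ⟶ L} (h : IsoAbove m α) (n m' : ℤ)
    (hm : m' + n = m) : IsoAbove m' (α⟦n⟧') := by
  have h1 : ∀ (i j : ℤ) (_ : n + i = j), IsIso ((homologyFunctor C i).map (α⟦n⟧')) ↔
      IsIso ((homologyFunctor C j).map α) := fun i j hij =>
    NatIso.isIso_map_iff ((homologyFunctor C 0).shiftIso n i j hij) α
  have h2 : ∀ (i j : ℤ) (_ : n + i = j), Epi ((homologyFunctor C i).map (α⟦n⟧')) ↔
      Epi ((homologyFunctor C j).map α) := fun i j hij =>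
    epi_map_iff_of_natIso ((homologyFunctor C 0).shiftIso n i j hij) α
  exact ⟨fun i hi => (h1 i (n + i) rfl).2 (h.1 _ (by omega)),
    (h2 m' (n + m') rfl).2 (h.epi _ (by omega))⟩

end Groth.Agent.Lib.helper25.IsoAbove
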