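import Mathlib

/-!
# Four lemmas for the homology of a morphism of distinguished triangles in a derived category (helper25)

* `four_epi`, `four_mono`: the two four lemmas in an abelian category, with explicit morphisms.
* `epi_homologyMap_hom₃`, `mono_homologyMap_hom₃`: for a morphism `φ : T₁ ⟶ T₂` of distinguished triangles of
  `DerivedCategory C`.
-/

set_option autoImplicit false
open CategoryTheory CategoryTheory.Limits

namespace Groth.Agent.Lib.helper25.TriFour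

section Abelian

variable {A : Type*} [Category A] [Abelian A]
  {X₀ X₁ X₂ X₃ Y₀ Y₁ Y₂ Y₃ : A} (f₀ : X₀ ⟶ X₁) (f₁ : X₁ ⟶ X₂) (f₂ : X₂ ⟶ X₃)
  (g₀ : Y₀ ⟶ Y₁) (g₁ : Y₁ ⟶ Y₂) (g₂ : Y₂ ⟶ Y₃)
  (a₀ : X₀ ⟶ Y₀) (a₁ : X₁ ⟶ Y₁) (a₂ : X₂ ⟶ Y₂) (a₃ : X₃ ⟶ Y₃)
  (w₀ : f₀ ≫ a₁ = a₀ ≫ g₀) (w₁ : f₁ ≫ a₂ = a₁ ≫ g₁) (w₂ : f₂ ≫ a₃ = a₂ ≫ g₂)

include w₀ w₁ w₂ in
lemma four_epi (zf : f₁ ≫ f₂ = 0) (hf : (ShortComplex.mk f₁ f₂ zf).Exact)
    (zg : g₀ ≫ g₁ = 0) (hg : (ShortComplex.mk g₀ g₁ zg).Exact) (zg' : g₁ ≫ g₂ = 0)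
    (h₀ : Epi a₀) (h₂ : Epi a₂) (h₃ : Mono a₃) : Epi a₁ :=
  Abelian.epi_of_epi_of_epi_of_mono'
    (R₁ := ComposableArrows.mk₃ f₀ f₁ f₂) (R₂ := ComposableArrows.mk₃ g₀ g₁ g₂)
    (ComposableArrows.homMk₃ a₀ a₁ a₂ a₃ w₀ w₁ w₂)
    hf.exact_toComposableArrows hg.exact_toComposableArrows zg' h₀ h₂ h₃

include w₀ w₁ w₂ in
lemma four_mono (zf : f₀ ≫ f₁ = 0) (zf' : f₁ ≫ f₂ = 0) (hf : (ShortComplex.mk f₁ f₂ zf').Exact)
    (zg : g₀ ≫ g₁ = 0) (hg : (ShortComplex.mk g₀ g₁ zg).Exact)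
    (h₀ : Epi a₀) (h₁ : Mono a₁) (h₃ : Mono a₃) : Mono a₂ :=
  Abelian.mono_of_epi_of_mono_of_mono'
    (R₁ := ComposableArrows.mk₃ f₀ f₁ f₂) (R₂ := ComposableArrows.mk₃ g₀ g₁ g₂)
    (ComposableArrows.homMk₃ a₀ a₁ a₂ a₃ w₀ w₁ w₂)
    zf hf.exact_toComposableArrows hg.exact_toComposableArrows h₀ h₁ h₃

end Abelian

section Derived

open DerivedCategory Pretriangulated

variable {C : Type*} [Category C] [Abelian C] [HasDerivedCategory C]
  {T₁ T₂ : Triangle (DerivedCategory C)}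

lemma epi_homologyMap_hom₃ (hT₁ : T₁ ∈ distTriang (DerivedCategory C))
    (hT₂ : T₂ ∈ distTriang (DerivedCategory C)) (φ : T₁ ⟶ T₂) (n : ℤ)
    (h₂ : Epi ((homologyFunctor C n).map φ.hom₂))
    (h₁' : Epi ((homologyFunctor C (n + 1)).map φ.hom₁))
    (h₂' : Mono ((homologyFunctor C (n + 1)).map φ.hom₂)) :
    Epi ((homologyFunctor C n).map φ.hom₃) := by
  refine four_epi ((homologyFunctor C n).map T₁.mor₂) (HomologySequence.δ T₁ n (n + 1) rfl)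
    ((homologyFunctor C (n + 1)).map T₁.mor₁)
    ((homologyFunctor C n).map T₂.mor₂) (HomologySequence.δ T₂ n (n + 1) rfl)
    ((homologyFunctor C (n + 1)).map T₂.mor₁)
    ((homologyFunctor C n).map φ.hom₂) ((homologyFunctor C n).map φ.hom₃)
    ((homologyFunctor C (n + 1)).map φ.hom₁) ((homologyFunctor C (n + 1)).map φ.hom₂)
    ?_ ?_ ?_ (HomologySequence.δ_comp T₁ hT₁ n (n + 1) rfl) (HomologySequence.exact₁ T₁ hT₁ n (n + 1) rfl)
    (HomologySequence.comp_δ T₂ hT₂ n (n + 1) rfl) (HomologySequence.exact₃ T₂ hT₂ n (n + 1) rfl)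
    (HomologySequence.δ_comp T₂ hT₂ n (n + 1) rfl) h₂ h₁' h₂'
  · rw [← Functor.map_comp, ← Functor.map_comp, φ.comm₂]
  · exact ((homologyFunctor C 0).homologySequenceδ_naturality T₁ T₂ φ n (n + 1) rfl).symm
  · rw [← Functor.map_comp, ← Functor.map_comp, φ.comm₁]

lemma mono_homologyMap_hom₃ (hT₁ : T₁ ∈ distTriang (DerivedCategory C))
    (hT₂ : T₂ ∈ distTriang (DerivedCategory C)) (φ : T₁ ⟶ T₂) (n : ℤ)
    (h₁ : Epi ((homologyFunctor C n).map φ.hom₁))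
    (h₂ : Mono ((homologyFunctor C n).map φ.hom₂))
    (h₁' : Mono ((homologyFunctor C (n + 1)).map φ.hom₁)) :
    Mono ((homologyFunctor C n).map φ.hom₃) := by
  refine four_mono ((homologyFunctor C n).map T₁.mor₁) ((homologyFunctor C n).map T₁.mor₂)
    (HomologySequence.δ T₁ n (n + 1) rfl)
    ((homologyFunctor C n).map T₂.mor₁) ((homologyFunctor C n).map T₂.mor₂)
    (HomologySequence.δ T₂ n (n + 1) rfl)
    ((homologyFunctor C n).map φ.hom₁) ((homologyFunctor C n).map φ.hom₂)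
    ((homologyFunctor C n).map φ.hom₃) ((homologyFunctor C (n + 1)).map φ.hom₁)
    ?_ ?_ ?_ ?_ (HomologySequence.comp_δ T₁ hT₁ n (n + 1) rfl)
    (HomologySequence.exact₃ T₁ hT₁ n (n + 1) rfl) ?_ (HomologySequence.exact₂ T₂ hT₂ n) h₁ h₂ h₁'
  · rw [← Functor.map_comp, ← Functor.map_comp, φ.comm₁]
  · rw [← Functor.map_comp, ← Functor.map_comp, φ.comm₂]
  · exact ((homologyFunctor C 0).homologySequenceδ_naturality T₁ T₂ φ n (n + 1) rfl).symm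
  · rw [← Functor.map_comp, comp_distTriang_mor_zero₁₂ _ hT₁, Functor.map_zero]
  · rw [← Functor.map_comp, comp_distTriang_mor_zero₁₂ _ hT₂, Functor.map_zero]

/-- combined: isomorphism on `H^n` of the third vertices -/
lemma isIso_homologyMap_hom₃ (hT₁ : T₁ ∈ distTriang (DerivedCategory C))
    (hT₂ : T₂ ∈ distTriang (DerivedCategory C)) (φ : T₁ ⟶ T₂) (n : ℤ)
    (h₁ : Epi ((homologyFunctor C n).map φ.hom₁))
    (h₂ : IsIso ((homologyFunctor C n).map φ.hom₂))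
    (h₁' : IsIso ((homologyFunctor C (n + 1)).map φ.hom₁))
    (h₂' : Mono ((homologyFunctor C (n + 1)).map φ.hom₂)) :
    IsIso ((homologyFunctor C n).map φ.hom₃) := by
  have := epi_homologyMap_hom₃ hT₁ hT₂ φ n inferInstance inferInstance h₂'
  have := mono_homologyMap_hom₃ hT₁ hT₂ φ n h₁ inferInstance inferInstance
  exact isIso_of_mono_of_epi _

end Derived

end Groth.Agent.Lib.helper25.TriFour
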