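import Mathlib
import Groth.Agent.Lib.Helper25.DCohPC
import Groth.Agent.Lib.Helper25.IsoAbove
import Groth.Agent.Lib.Helper25.TriFour
import Groth.Agent.Lib.Helper25.SigmaGE
import Groth.Agent.Lib.Helper25.FLFKernel

/-!
# Pseudo-coherent objects: restriction, shift, truncation and the triangle lemma (helper25)

* `IsoAbove.restrict`, `PCData.restrict`, `PCData.shift`, `PCData.truncate`.
* `exists_pcData_obj₃`: in a distinguished triangle `K ⟶ L ⟶ M`, global `(m+1)`-data for `K` and `m`-data for `L`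
  give, locally, `m`-data for `M`.
-/

set_option autoImplicit false
universe u
open CategoryTheory CategoryTheory.Limits AlgebraicGeometry TopologicalSpace Opposite
open Scheme.Modules

attribute [local instance] HasDerivedCategory.standard

namespace Groth.Agent.Lib.helper25.DCohPC2

open Groth.Agent.Lib.helper25.DCohRestrict Groth.Agent.Lib.helper25.DCohPerfect
  Groth.Agent.Lib.helper25.DCohHomology Groth.Agent.Lib.helper25.DCohPC
  Groth.Agent.Lib.helper25.IsoAbove Groth.Agent.Lib.helper25.TriFour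
  Groth.Agent.Lib.helper25.SigmaGE Groth.Agent.Lib.helper25.FLFKernel

variable {X Y Z : Scheme.{u}}

/-- restriction to an open preserves `IsoAbove` -/
lemma isoAbove_restrict (j : Z ⟶ Y) [IsOpenImmersion j] {m : ℤ} {K L : DCoh.D Y} {α : K ⟶ L}
    (h : IsoAbove m α) : IsoAbove m ((DCoh.restrictD j).map α) := by
  obtain ⟨C, g, hh, hT⟩ := Pretriangulated.distinguished_cocone_triangle α
  have h1 := (isoAbove_iff_cone _ hT m).1 h
  have hT' := (DCoh.restrictD j).map_distinguished _ hT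
  refine (isoAbove_iff_cone _ hT' m).2 (fun i hi => ?_)
  obtain ⟨e⟩ := nonempty_HD_restrict_iso j C i
  exact ((restrictFunctor j).map_isZero (h1 i hi)).of_iso e.symm

lemma PCData.restrict (j : Z ⟶ Y) [IsOpenImmersion j] {m : ℤ} {K : DCoh.D Y} (h : PCData m K) :
    PCData m ((DCoh.restrictD j).obj K) := by
  obtain ⟨E, α, hE, hα⟩ := h
  exact ⟨(resCx j).obj E, (resDQIso j E).inv ≫ (DCoh.restrictD j).map α, isStrictlyPerfect_res j hE,
    (isoAbove_restrict j hα).iso_comp _⟩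

lemma PCData.shift {m : ℤ} {K : DCoh.D Y} (h : PCData m K) (n m' : ℤ) (hm : m' + n = m) :
    PCData m' (K⟦n⟧) := by
  obtain ⟨E, α, hE, hα⟩ := h
  exact ⟨E⟦n⟧, ((DerivedCategory.Q.commShiftIso n).app E).hom ≫ α⟦n⟧', isStrictlyPerfect_shift hE n,
    (IsoAbove.shift hα n m' hm).iso_comp _⟩

lemma PCData.truncate {m : ℤ} {K : DCoh.D Y} (h : PCData m K) :
    ∃ (E : CochainComplex Y.Modules ℤ) (α : DerivedCategory.Q.obj E ⟶ K), DCoh.IsStrictlyPerfect E ∧
      (∀ j : ℤ, j < m → IsZero (E.X j)) ∧ IsoAbove m α := by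
  obtain ⟨E, α, hE, hα⟩ := h
  refine ⟨sigmaGE E m, DerivedCategory.Q.map (sigmaGEι E m) ≫ α, ?_,
    fun j hj => isZero_sigmaGE_X E m j hj, ?_⟩
  · obtain ⟨⟨a, b, hab⟩, hf⟩ := hE
    refine ⟨⟨a, b, fun i hi => ?_⟩, fun i => ?_⟩
    · by_cases h : m ≤ i
      · exact (hab i hi).of_iso (sigmaGEXIso E m i h)
      · exact isZero_sigmaGE_X E m i (by omega)
    · by_cases h : m ≤ i
      · exact Groth.Agent.Lib.helper16.FLF.isFinLocFree_of_iso (sigmaGEXIso E m i h).symm (hf i)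
      · exact isFinLocFree_of_isZero (isZero_sigmaGE_X E m i (by omega))
  · exact IsoAbove.comp ((isoAbove_Q_map_iff _ m).2
      ⟨fun i hi => isIso_homologyMap_sigmaGEι E m i hi, epi_homologyMap_sigmaGEι E m⟩) hα

open DerivedCategory in
/-- **The triangle lemma, local form.** -/
theorem exists_pcData_obj₃ (T : Pretriangulated.Triangle (DCoh.D Y))
    (hT : T ∈ Pretriangulated.distinguishedTriangles) (m : ℤ)
    (h₁ : PCData (m + 1) T.obj₁) (h₂ : PCData m T.obj₂) (y : Y) :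
    ∃ (V : Y.Opens), y ∈ V ∧ PCData m ((DCoh.restrictD V.ι).obj T.obj₃) := by
  obtain ⟨P, α, hP, hPz, hα⟩ := PCData.truncate h₁
  obtain ⟨R, β, hR, hβ⟩ := h₂
  obtain ⟨F, ⟨a⟩⟩ := exists_rep T.obj₂
  obtain ⟨F', g, s, hs, eq1⟩ := DerivedCategory.left_fac (β ≫ a.inv)
  obtain ⟨F'', h, t, ht, eq2⟩ := DerivedCategory.left_fac (α ≫ T.mor₁ ≫ a.inv ≫ Q.map s)
  let u : T.obj₂ ⟶ Q.obj F'' := a.inv ≫ Q.map s ≫ Q.map t
  have hu : IsIso u := inferInstance
  have hβu : β ≫ u = Q.map (g ≫ t) := by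
    have h0 : β ≫ a.inv ≫ Q.map s = Q.map g := by
      rw [← Category.assoc, eq1, Category.assoc, IsIso.inv_hom_id, Category.comp_id]
    change β ≫ a.inv ≫ Q.map s ≫ Q.map t = _
    rw [Functor.map_comp, ← h0]
    simp only [Category.assoc]
  have hαu : α ≫ T.mor₁ ≫ u = Q.map h := by
    have h0 : (α ≫ T.mor₁ ≫ a.inv ≫ Q.map s) ≫ Q.map t = Q.map h := by
      rw [eq2, Category.assoc, IsIso.inv_hom_id, Category.comp_id]
    change α ≫ T.mor₁ ≫ a.inv ≫ Q.map s ≫ Q.map t = _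
    simpa only [Category.assoc] using h0
  have hgt : IsoAbove m (Q.map (g ≫ t)) := by
    rw [← hβu]
    exact IsoAbove.comp_iso hβ u
  obtain ⟨hgt1, hgt2⟩ := (isoAbove_Q_map_iff _ m).1 hgt
  obtain ⟨V, b, hyV, ⟨hb⟩⟩ := Groth.Agent.S0933.result h (g ≫ t) hP m
    (fun j hj => hPz j (by omega)) hgt1 hgt2 y
  refine ⟨V, hyV, ?_⟩
  let A₁ : Q.obj ((resCx V.ι).obj P) ⟶ (DCoh.restrictD V.ι).obj T.obj₁ :=
    (resDQIso V.ι P).inv ≫ (DCoh.restrictD V.ι).map α
  let B₁ : Q.obj ((resCx V.ι).obj R) ⟶ (DCoh.restrictD V.ι).obj T.obj₂ :=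
    (resDQIso V.ι R).inv ≫ (DCoh.restrictD V.ι).map β
  have hA₁ : IsoAbove (m + 1) A₁ := (isoAbove_restrict V.ι hα).iso_comp _
  have hB₁ : IsoAbove m B₁ := (isoAbove_restrict V.ι hβ).iso_comp _
  have n1 : (DCoh.restrictD V.ι).map (Q.map (g ≫ t)) =
      (resDQIso V.ι R).hom ≫ Q.map ((resCx V.ι).map (g ≫ t)) ≫ (resDQIso V.ι F'').inv := by
    rw [← Category.assoc]
    exact (Iso.eq_comp_inv (resDQIso V.ι F'')).2
      ((restrictFunctor V.ι).mapDerivedCategoryFactors_hom_naturality (g ≫ t))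
  have n2 : (DCoh.restrictD V.ι).map (Q.map h) =
      (resDQIso V.ι P).hom ≫ Q.map ((resCx V.ι).map h) ≫ (resDQIso V.ι F'').inv := by
    rw [← Category.assoc]
    exact (Iso.eq_comp_inv (resDQIso V.ι F'')).2
      ((restrictFunctor V.ι).mapDerivedCategoryFactors_hom_naturality h)
  have hQ : Q.map b ≫ Q.map ((resCx V.ι).map (g ≫ t)) = Q.map ((resCx V.ι).map h) := by
    rw [← Functor.map_comp]
    exact DerivedCategory.Q_map_eq_of_homotopy _ hb
  have comm : Q.map b ≫ B₁ = A₁ ≫ (DCoh.restrictD V.ι).map T.mor₁ := by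
    rw [← cancel_mono ((DCoh.restrictD V.ι).map u)]
    have l1 : (Q.map b ≫ B₁) ≫ (DCoh.restrictD V.ι).map u =
        Q.map ((resCx V.ι).map h) ≫ (resDQIso V.ι F'').inv := by
      change (Q.map b ≫ (resDQIso V.ι R).inv ≫ (DCoh.restrictD V.ι).map β) ≫ (DCoh.restrictD V.ι).map u = _
      rw [Category.assoc, Category.assoc, ← Functor.map_comp, hβu, n1, Iso.inv_hom_id_assoc,
        ← Category.assoc, hQ]
    have l2 : (A₁ ≫ (DCoh.restrictD V.ι).map T.mor₁) ≫ (DCoh.restrictD V.ι).map u =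
        Q.map ((resCx V.ι).map h) ≫ (resDQIso V.ι F'').inv := by
      change (((resDQIso V.ι P).inv ≫ (DCoh.restrictD V.ι).map α) ≫ (DCoh.restrictD V.ι).map T.mor₁) ≫
        (DCoh.restrictD V.ι).map u = _
      rw [Category.assoc, Category.assoc, ← Functor.map_comp, ← Functor.map_comp, hαu, n2,
        Iso.inv_hom_id_assoc]
    rw [l1, l2]
  have hT₁ := DerivedCategory.mappingCone_triangle_distinguished b
  have hT₂ := (DCoh.restrictD V.ι).map_distinguished _ hT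
  obtain ⟨c, hc₂, hc₃⟩ :=
    Pretriangulated.complete_distinguished_triangle_morphism _ _ hT₁ hT₂ A₁ B₁ comm
  let φ : Q.mapTriangle.obj (CochainComplex.mappingCone.triangle b) ⟶
      (DCoh.restrictD V.ι).mapTriangle.obj T :=
    { hom₁ := A₁, hom₂ := B₁, hom₃ := c, comm₁ := comm, comm₂ := hc₂, comm₃ := hc₃ }
  refine ⟨CochainComplex.mappingCone b, c,
    Groth.Agent.S6516.result b (isStrictlyPerfect_res V.ι hP) (isStrictlyPerfect_res V.ι hR),
    fun i hi => ?_, ?_⟩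
  · exact isIso_homologyMap_hom₃ hT₁ hT₂ φ i (hA₁.epi i (by omega)) (hB₁.isIso i hi)
      (hA₁.isIso (i + 1) (by omega)) (hB₁.mono (i + 1) (by omega))
  · exact epi_homologyMap_hom₃ hT₁ hT₂ φ m hB₁.2 (hA₁.epi (m + 1) le_rfl) (hB₁.mono (m + 1) (by omega))

end Groth.Agent.Lib.helper25.DCohPC2
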