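import Mathlib
import Groth.Agent.Lib.Helper25.DCohPC2

/-!
# Pseudo-coherent objects of `D(O_X)`: the triangle lemma, shifts, isomorphisms (helper25)

* `isPseudoCoherentD_of_iso`, `isPseudoCoherentD_shift`.
* `pcData_of_openImmersion`, `pcData_of_le`, `isPseudoCoherentD_of_local`.
* `isPseudoCoherentD_obj₃`, `isPseudoCoherentD_triangle` (all three parts).
-/

set_option autoImplicit false
universe u
open CategoryTheory CategoryTheory.Limits AlgebraicGeometry TopologicalSpace Opposite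
open Scheme.Modules

attribute [local instance] HasDerivedCategory.standard

namespace Groth.Agent.Lib.helper25.DCohPC3

open Groth.Agent.Lib.helper25.DCohRestrict Groth.Agent.Lib.helper25.DCohPerfect
  Groth.Agent.Lib.helper25.DCohHomology Groth.Agent.Lib.helper25.DCohPC
  Groth.Agent.Lib.helper25.DCohPC2

variable {X Y Z : Scheme.{u}}

lemma isPseudoCoherentD_of_iso {m : ℤ} {K K' : DCoh.D X} (e : K ≅ K') (h : DCoh.IsPseudoCoherentD m K) :
    DCoh.IsPseudoCoherentD m K' := by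
  intro x
  obtain ⟨V, hxV, hV⟩ := h x
  exact ⟨V, hxV, fun F ⟨a⟩ => hV F ⟨a ≪≫ e.symm⟩⟩

/-- data over an open immersion gives data over its range -/
lemma pcData_of_openImmersion {m : ℤ} (K : DCoh.D X) {U : Scheme.{u}} (j : U ⟶ X) [IsOpenImmersion j]
    (h : PCData m ((DCoh.restrictD j).obj K)) : PCData m ((DCoh.restrictD j.opensRange.ι).obj K) := by
  have h1 := PCData.restrict j.isoOpensRange.inv h
  have hj : j.isoOpensRange.inv ≫ j = j.opensRange.ι := by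
    rw [Iso.inv_comp_eq, Scheme.Hom.isoOpensRange_hom_ι]
  obtain ⟨c⟩ := nonempty_restrictD_comp_iso j.isoOpensRange.inv j K
  obtain ⟨d⟩ := nonempty_restrictD_congr_iso hj K
  exact h1.of_iso (c.symm ≪≫ d)

lemma pcData_of_le {m : ℤ} (K : DCoh.D X) {V' V : X.Opens} (h : V' ≤ V)
    (hK : PCData m ((DCoh.restrictD V.ι).obj K)) : PCData m ((DCoh.restrictD V'.ι).obj K) := by
  have h1 := PCData.restrict (X.homOfLE h) hK
  obtain ⟨c⟩ := nonempty_restrictD_comp_iso (X.homOfLE h) V.ι K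
  obtain ⟨d⟩ := nonempty_restrictD_congr_iso (X.homOfLE_ι h) K
  exact h1.of_iso (c.symm ≪≫ d)

/-- pseudo-coherence is local, in a flexible form -/
lemma isPseudoCoherentD_of_local {m : ℤ} {K : DCoh.D X}
    (h : ∀ x : X, ∃ (U : Scheme.{u}) (j : U ⟶ X) (_ : IsOpenImmersion j),
      x ∈ Set.range j ∧ PCData m ((DCoh.restrictD j).obj K)) : DCoh.IsPseudoCoherentD m K := by
  refine isPseudoCoherentD_of_pcData (fun x => ?_)
  obtain ⟨U, j, hj, hx, hd⟩ := h x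
  exact ⟨j.opensRange, hx, pcData_of_openImmersion K j hd⟩

lemma isPseudoCoherentD_shift {m : ℤ} {K : DCoh.D X} (h : DCoh.IsPseudoCoherentD m K) (n m' : ℤ)
    (hm : m' + n = m) : DCoh.IsPseudoCoherentD m' (K⟦n⟧) := by
  refine isPseudoCoherentD_of_pcData (fun x => ?_)
  obtain ⟨V, hxV, hV⟩ := exists_pcData h x
  exact ⟨V, hxV, (PCData.shift hV n m' hm).of_iso (((DCoh.restrictD V.ι).commShiftIso n).app K).symm⟩

/-- **Triangle lemma, part (1).** -/
theorem isPseudoCoherentD_obj₃ (T : Pretriangulated.Triangle (DCoh.D X))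
    (hT : T ∈ Pretriangulated.distinguishedTriangles) (m : ℤ)
    (h₁ : DCoh.IsPseudoCoherentD (m + 1) T.obj₁) (h₂ : DCoh.IsPseudoCoherentD m T.obj₂) :
    DCoh.IsPseudoCoherentD m T.obj₃ := by
  refine isPseudoCoherentD_of_local (fun x => ?_)
  obtain ⟨V₁, hx₁, d₁⟩ := exists_pcData h₁ x
  obtain ⟨V₂, hx₂, d₂⟩ := exists_pcData h₂ x
  have hxV : x ∈ V₁ ⊓ V₂ := ⟨hx₁, hx₂⟩
  have d₁' := pcData_of_le T.obj₁ (inf_le_left : V₁ ⊓ V₂ ≤ V₁) d₁
  have d₂' := pcData_of_le T.obj₂ (inf_le_right : V₁ ⊓ V₂ ≤ V₂) d₂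
  have hT' := (DCoh.restrictD (V₁ ⊓ V₂).ι).map_distinguished _ hT
  obtain ⟨W, hyW, dW⟩ := exists_pcData_obj₃ _ hT' m d₁' d₂' (⟨x, hxV⟩ : ((V₁ ⊓ V₂ : X.Opens) : Scheme.{u}))
  obtain ⟨c⟩ := nonempty_restrictD_comp_iso W.ι (V₁ ⊓ V₂).ι T.obj₃
  exact ⟨_, W.ι ≫ (V₁ ⊓ V₂).ι, inferInstance, ⟨⟨⟨x, hxV⟩, hyW⟩, rfl⟩, dW.of_iso c.symm⟩

/-- **Triangle lemma**, all three parts. -/
theorem isPseudoCoherentD_triangle (m : ℤ) (T : Pretriangulated.Triangle (DCoh.D X))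
    (hT : T ∈ Pretriangulated.distinguishedTriangles) :
    (DCoh.IsPseudoCoherentD (m + 1) T.obj₁ → DCoh.IsPseudoCoherentD m T.obj₂ → DCoh.IsPseudoCoherentD m T.obj₃) ∧
    (DCoh.IsPseudoCoherentD m T.obj₁ → DCoh.IsPseudoCoherentD m T.obj₃ → DCoh.IsPseudoCoherentD m T.obj₂) ∧
    (DCoh.IsPseudoCoherentD (m + 1) T.obj₂ → DCoh.IsPseudoCoherentD m T.obj₃ →
      DCoh.IsPseudoCoherentD (m + 1) T.obj₁) := by
  refine ⟨isPseudoCoherentD_obj₃ T hT m, fun h₁ h₃ => ?_, fun h₂ h₃ => ?_⟩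
  · exact isPseudoCoherentD_obj₃ T.invRotate (Pretriangulated.inv_rot_of_distTriang T hT) m
      (isPseudoCoherentD_shift h₃ (-1) (m + 1) (by omega)) h₁
  · have h := isPseudoCoherentD_obj₃ T.rotate (Pretriangulated.rot_of_distTriang T hT) m h₂ h₃
    exact isPseudoCoherentD_of_iso ((shiftFunctorCompIsoId (DCoh.D X) (1 : ℤ) (-1) (by simp)).app T.obj₁)
      (isPseudoCoherentD_shift h (-1) (m + 1) (by omega))

end Groth.Agent.Lib.helper25.DCohPC3
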