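import Groth.Agent.Lib.Helper25.LpullPerfect
import Groth.Agent.Lib.Helper25.DCohPC3
import Groth.Agent.Lib.Helper25.IsoAbove
import Groth.Agent.Lib.Helper13.KRes5

/-!
# `Lf^*` preserves `m`-pseudo-coherent objects

* `flatClass_flatMod Y`: flat `O_Y`-modules form a `FlatClass` (helper13 `KRes`), so bounded above complexes have bounded
  above flat resolutions.
* `exactAt_pullCx_of_P₀`: right t-exactness of `f^*` on K-flat complexes with flat terms.
* `isoAbove_Q_map_pullCx`: `f^*` keeps "iso on `H^i` for `i > m`, epi on `H^m`" for chain maps between such complexes.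
* `isPseudoCoherentD_Lpull f m E hE`.
-/
set_option autoImplicit false
universe u
open CategoryTheory CategoryTheory.Limits AlgebraicGeometry

attribute [local instance] HasDerivedCategory.standard

namespace Groth.Agent.Lib.Helper25.LpullPC

open Groth.Agent.Lib.Helper25.LpullAdapted Groth.Agent.Lib.Helper25.LDerAdapted
  Groth.Agent.Lib.Helper25.StalkPullFlat Groth.Agent.Lib.Helper25.PullKFlat
  Groth.Agent.Lib.helper25.DCohRestrict Groth.Agent.Lib.helper25.FlatClass
  Groth.Agent.Lib.Helper25.LpullPerfect Groth.Agent.Lib.helper25.DCohPC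
  Groth.Agent.Lib.helper25.IsoAbove

variable {X Y : Scheme.{u}}

/-- the termwise pullback of complexes -/
noncomputable abbrev pullCx (f : X ⟶ Y) : CochainComplex Y.Modules ℤ ⥤ CochainComplex X.Modules ℤ :=
  (Scheme.Modules.pullback f).mapHomologicalComplex (ComplexShape.up ℤ)

/-- the class of flat `O_Y`-modules is a `FlatClass` -/
theorem flatClass_flatMod (Y : Scheme.{u}) :
    Groth.Agent.Lib.helper13.KRes.FlatClass (fun M : Y.Modules => FlatMod.IsFlat M) where
  iso _ _ e h := isFlat_of_iso e h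
  zero _ h := isFlat_of_isZero h
  biprod _ _ hM hN := isFlat_biprod hM hN
  cover M := by
    obtain ⟨P, π, hP, hπ⟩ := (Groth.Agent.Lib.helper13.KRes.flatClass_isFlat (O := Y.sheaf)).cover M
    exact ⟨P, π, Groth.Agent.Lib.helper13.KRes.flatMod_of_isFlat _ hP, hπ⟩

/-- **Right t-exactness of `f^*` on the adapted class**: if `D` is K-flat with flat terms and acyclic in degrees `> n`,
so is `f^* D`. -/
theorem exactAt_pullCx_of_P₀ (f : X ⟶ Y) (D : CochainComplex Y.Modules ℤ) (hD : P₀ Y D) (n : ℤ)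
    (h : ∀ i : ℤ, n < i → D.ExactAt i) : ∀ i : ℤ, n < i → ((pullCx f).obj D).ExactAt i := by
  have : D.IsLE n := (D.isLE_iff n).2 (fun i hi => h i hi)
  obtain ⟨F, β, hF, hfl, -, hβ⟩ := Groth.Agent.Lib.helper13.KRes.exists_flat_resolution
    (flatClass_flatMod Y) (D.truncLE n) n
  have hFP : P₀ Y F :=
    ⟨Groth.Agent.Lib.helper13.KFlat.dcoh_isKFlat_of_bounded_above F n
      (fun q hq => F.isZero_of_isStrictlyLE n q hq) hfl, hfl⟩
  have hq : QuasiIso (β ≫ D.ιTruncLE n) := inferInstance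
  have hq' := quasiIso_pullback_map f (β ≫ D.ιTruncLE n) hFP hD hq
  intro i hi
  have h1 : ((pullCx f).obj F).ExactAt i :=
    ShortComplex.exact_of_isZero_X₂ _
      ((Scheme.Modules.pullback f).map_isZero (F.isZero_of_isStrictlyLE n i hi))
  exact (quasiIsoAt_iff_exactAt ((pullCx f).map (β ≫ D.ιTruncLE n)) i h1).1 inferInstance

lemma exactAt_iff_isZero_homologyFunctor_Q {C : Type*} [Category C] [Abelian C] [HasDerivedCategory C]
    (K : CochainComplex C ℤ) (i : ℤ) :
    K.ExactAt i ↔ IsZero ((DerivedCategory.homologyFunctor C i).obj (DerivedCategory.Q.obj K)) := by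
  rw [HomologicalComplex.exactAt_iff_isZero_homology]
  exact ((DerivedCategory.homologyFunctorFactors C i).app K).symm.isZero_iff

/-- `f^*` keeps the property "isomorphism on `H^i` for `i > m`, epimorphism on `H^m`" for chain maps between
K-flat complexes with flat terms -/
theorem isoAbove_Q_map_pullCx (f : X ⟶ Y) {A B : CochainComplex Y.Modules ℤ} (g : A ⟶ B)
    (hA : P₀ Y A) (hB : P₀ Y B) (m : ℤ) (h : IsoAbove m (DerivedCategory.Q.map g)) :
    IsoAbove m (DerivedCategory.Q.map ((pullCx f).map g)) := by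
  have hT := DerivedCategory.mappingCone_triangle_distinguished g
  have h1 := (isoAbove_iff_cone _ hT m).1 h
  have h2 : ∀ i : ℤ, m - 1 < i → (CochainComplex.mappingCone g).ExactAt i := fun i hi =>
    (exactAt_iff_isZero_homologyFunctor_Q _ i).2 (h1 i (by omega))
  have h3 := exactAt_pullCx_of_P₀ f _ (hcone g hA hB) (m - 1) h2
  have hT' := DerivedCategory.mappingCone_triangle_distinguished ((pullCx f).map g)
  refine (isoAbove_iff_cone _ hT' m).2 (fun i hi => ?_)
  refine (exactAt_iff_isZero_homologyFunctor_Q _ i).1 ?_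
  exact HomologicalComplex.ExactAt.of_iso (h3 i (by omega))
    (CochainComplex.mappingCone.mapHomologicalComplexIso g (Scheme.Modules.pullback f))

/-- **`Lf^*` preserves `m`-pseudo-coherent objects.** -/
theorem isPseudoCoherentD_Lpull (f : X ⟶ Y) [DCoh.HasLpull f] (m : ℤ) (E : DCoh.D Y)
    (hE : DCoh.IsPseudoCoherentD m E) : DCoh.IsPseudoCoherentD m ((DCoh.Lpull f).obj E) := by
  refine Groth.Agent.Lib.helper25.DCohPC3.isPseudoCoherentD_of_local (fun x => ?_)
  obtain ⟨V, hyV, hV⟩ := exists_pcData hE (f x)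
  obtain ⟨P, hP, ⟨eP⟩⟩ := exists_P₀_rep E
  have hV' : PCData m (DerivedCategory.Q.obj ((resCx V.ι).obj P)) :=
    hV.of_iso ((DCoh.restrictD V.ι).mapIso eP.symm ≪≫ resDQIso V.ι P)
  obtain ⟨S, α, hS, hα1, hα2⟩ := hV'
  have hα : IsoAbove m α := ⟨hα1, hα2⟩
  obtain ⟨A', s, hs, g, rfl⟩ := DerivedCategory.right_fac α
  obtain ⟨A'', r, hA'', hr⟩ := hres₀ A'
  have hSP := P₀_of_isStrictlyPerfect S hS
  have hBP := P₀_restrict V P hP
  have hr' : IsIso (DerivedCategory.Q.map r) := by
    rw [DerivedCategory.isIso_Q_map_iff_quasiIso]; exact hr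
  have hs' : IsIso (DerivedCategory.Q.map (r ≫ s)) := by
    rw [Functor.map_comp]; infer_instance
  have hqs : QuasiIso (r ≫ s) := by
    rw [← DerivedCategory.isIso_Q_map_iff_quasiIso]; exact hs'
  -- `Q (r ≫ g)` is `IsoAbove m`
  have hg : IsoAbove m (DerivedCategory.Q.map (r ≫ g)) := by
    have : DerivedCategory.Q.map (r ≫ g) =
        DerivedCategory.Q.map (r ≫ s) ≫ (inv (DerivedCategory.Q.map s) ≫ DerivedCategory.Q.map g) := by
      rw [Functor.map_comp, Functor.map_comp, Category.assoc, IsIso.hom_inv_id_assoc]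
    rw [this]
    exact hα.iso_comp _
  have : DCoh.HasLpull (f ∣_ V) := hasLpull _
  have hg' := isoAbove_Q_map_pullCx (f ∣_ V) (r ≫ g) hA'' hBP m hg
  have hqs' : QuasiIso ((pullCx (f ∣_ V)).map (r ≫ s)) :=
    quasiIso_pullback_map (f ∣_ V) (r ≫ s) hA'' hSP hqs
  have hs'' : IsIso (DerivedCategory.Q.map ((pullCx (f ∣_ V)).map (r ≫ s))) := by
    rw [DerivedCategory.isIso_Q_map_iff_quasiIso]; exact hqs'
  obtain ⟨e1⟩ := nonempty_Lpull_iso f P hP
  refine ⟨(f ⁻¹ᵁ V : Scheme.{u}), (f ⁻¹ᵁ V).ι, inferInstance, ?_, ?_⟩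
  · rw [Scheme.Opens.range_ι]
    exact hyV
  · refine PCData.of_iso ⟨(pullCx (f ∣_ V)).obj S,
      inv (DerivedCategory.Q.map ((pullCx (f ∣_ V)).map (r ≫ s))) ≫
        DerivedCategory.Q.map ((pullCx (f ∣_ V)).map (r ≫ g)),
      isStrictlyPerfect_pullback (f ∣_ V) S hS, ?_, ?_⟩
      (DerivedCategory.Q.mapIso (pullRestrictCxIso f V P).symm ≪≫
        (resDQIso (f ⁻¹ᵁ V).ι _).symm ≪≫
        (DCoh.restrictD (f ⁻¹ᵁ V).ι).mapIso (e1.symm ≪≫ (DCoh.Lpull f).mapIso eP))
    · exact (hg'.iso_comp _).1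
    · exact (hg'.iso_comp _).2

end Groth.Agent.Lib.Helper25.LpullPC
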