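import Mathlib
import Groth.Agent.Lib.Helper25.DProd

/-!
# Exact products and the derived category (helper25)

* `toCx`, `toCxMap`, `quasiIso_toCxMap`: a functor to complexes as a complex of functors.
* `limCx`, `limCone`, `isLimitLimCone`: limits of complexes computed by applying `lim` degreewise.
* `quasiIso_limMap`, `quasiIso_piMap`: if `lim : (T ⥤ B) ⥤ B` preserves epimorphisms (exact limits
  of shape `T`), then limits (products) of quasi-isomorphisms are quasi-isomorphisms.
* `exists_quasiIso_comp_homotopy_zero`: a chain map killed by `Q` is null-homotopic after composing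
  with a quasi-isomorphism.
* `existsUnique_lift`: if products of shape `J` are exact in `B`, then `Q (∏ C)` is a product of
  the `Q (C j)` in the derived category (Bökstedt–Neeman).
-/

set_option autoImplicit false
universe w' w v u
open CategoryTheory CategoryTheory.Limits

namespace Groth.Agent.Lib.Helper25.DProdExact

section Fam

variable {B : Type u} [Category.{v} B] [Abelian B] {T : Type w} [Category.{w'} T]
  {ι : Type*} {c : ComplexShape ι}

/-- a functor to complexes, as a complex of functors -/
@[simps]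
def toCx (F : T ⥤ HomologicalComplex B c) : HomologicalComplex (T ⥤ B) c where
  X i := F ⋙ HomologicalComplex.eval B c i
  d i j := { app := fun t => (F.obj t).d i j
             naturality := fun s t g => ((F.map g).comm i j) }
  shape i j h := by ext t; exact (F.obj t).shape i j h
  d_comp_d' i j k _ _ := by ext t; exact (F.obj t).d_comp_d i j k

@[simps]
def toCxMap {F F' : T ⥤ HomologicalComplex B c} (α : F ⟶ F') : toCx F ⟶ toCx F' where
  f i := Functor.whiskerRight α (HomologicalComplex.eval B c i)
  comm' i j _ := by ext t; exact (α.app t).comm i j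

lemma quasiIso_toCxMap {F F' : T ⥤ HomologicalComplex B c} (α : F ⟶ F')
    (h : ∀ t, QuasiIso (α.app t)) : QuasiIso (toCxMap α) := by
  rw [HomologicalComplex.quasiIso_iff_evaluation]
  intro t
  let e₁ : (((evaluation T B).obj t).mapHomologicalComplex c).obj (toCx F) ≅ F.obj t :=
    HomologicalComplex.Hom.isoOfComponents (fun i => Iso.refl _)
      (by intro i j _; simp; exact (Category.id_comp _).trans (Category.comp_id _).symm)
  let e₂ : (((evaluation T B).obj t).mapHomologicalComplex c).obj (toCx F') ≅ F'.obj t :=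
    HomologicalComplex.Hom.isoOfComponents (fun i => Iso.refl _)
      (by intro i j _; simp; exact (Category.id_comp _).trans (Category.comp_id _).symm)
  have hcomm : (((evaluation T B).obj t).mapHomologicalComplex c).map (toCxMap α) ≫ e₂.hom =
      e₁.hom ≫ α.app t := by
    ext i
    simp [e₁, e₂]
    exact (Category.comp_id _).trans (Category.id_comp _).symm
  haveI := h t
  exact (quasiIso_iff_of_arrow_mk_iso _ _ (Arrow.isoMk e₁ e₂ hcomm.symm)).2 inferInstance

end Fam

section Lim

variable {B : Type u} [Category.{v} B] [Abelian B] {T : Type w} [Category.{w'} T]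
  [HasLimitsOfShape T B] {ι : Type*} {c : ComplexShape ι}

instance : (lim : (T ⥤ B) ⥤ B).Additive := by
  haveI : (lim : (T ⥤ B) ⥤ B).IsRightAdjoint := constLimAdj.isRightAdjoint
  haveI : PreservesBinaryBiproducts (lim : (T ⥤ B) ⥤ B) :=
    preservesBinaryBiproducts_of_preservesBinaryProducts _
  exact Functor.additive_of_preservesBinaryBiproducts _

/-- the limit complex, computed by applying `lim` degreewise -/
noncomputable abbrev limCx (F : T ⥤ HomologicalComplex B c) : HomologicalComplex B c :=
  ((lim : (T ⥤ B) ⥤ B).mapHomologicalComplex c).obj (toCx F)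

/-- the limit cone -/
@[simps]
noncomputable def limCone (F : T ⥤ HomologicalComplex B c) : Cone F where
  pt := limCx F
  π := { app := fun t => { f := fun i => limit.π (F ⋙ HomologicalComplex.eval B c i) t
                           comm' := fun i j _ => by
                             exact (limMap_π ((toCx F).d i j) t).symm }
         naturality := fun s t g => by
           ext i
           exact (Category.id_comp _).trans
             (limit.w (F ⋙ HomologicalComplex.eval B c i) g).symm }

noncomputable def isLimitLimCone (F : T ⥤ HomologicalComplex B c) : IsLimit (limCone F) :=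
  HomologicalComplex.isLimitOfEval _ _ (fun i =>
    IsLimit.ofIsoLimit (limit.isLimit (F ⋙ HomologicalComplex.eval B c i))
      (Cone.ext (Iso.refl _) (fun _ => (Category.id_comp _).symm)))

lemma limCx_map_π {F F' : T ⥤ HomologicalComplex B c} (α : F ⟶ F') (t : T) :
    ((lim : (T ⥤ B) ⥤ B).mapHomologicalComplex c).map (toCxMap α) ≫ (limCone F').π.app t =
      (limCone F).π.app t ≫ α.app t := by
  ext i
  dsimp
  exact limMap_π _ _

variable [(lim : (T ⥤ B) ⥤ B).PreservesEpimorphisms]

instance : (lim : (T ⥤ B) ⥤ B).PreservesHomology := by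
  haveI : (lim : (T ⥤ B) ⥤ B).IsRightAdjoint := constLimAdj.isRightAdjoint
  exact Functor.preservesHomology_of_preservesEpis_and_kernels _

/-- **Exact limits preserve quasi-isomorphisms.** -/
theorem quasiIso_limMap {F F' : T ⥤ HomologicalComplex B c} (α : F ⟶ F')
    (h : ∀ t, QuasiIso (α.app t)) : QuasiIso (limMap α) := by
  haveI := quasiIso_toCxMap α h
  have h1 : QuasiIso (((lim : (T ⥤ B) ⥤ B).mapHomologicalComplex c).map (toCxMap α)) :=
    inferInstance
  let e₁ : limit F ≅ (limCone F).pt := (limit.isLimit F).conePointUniqueUpToIso (isLimitLimCone F)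
  let e₂ : limit F' ≅ (limCone F').pt :=
    (limit.isLimit F').conePointUniqueUpToIso (isLimitLimCone F')
  have hcomm : limMap α ≫ e₂.hom =
      e₁.hom ≫ ((lim : (T ⥤ B) ⥤ B).mapHomologicalComplex c).map (toCxMap α) := by
    apply (isLimitLimCone F').hom_ext
    intro t
    have h2 := limCx_map_π α t
    have h3 : e₂.hom ≫ (limCone F').π.app t = limit.π F' t :=
      IsLimit.conePointUniqueUpToIso_hom_comp _ _ t
    have h4 : e₁.hom ≫ (limCone F).π.app t = limit.π F t :=
      IsLimit.conePointUniqueUpToIso_hom_comp _ _ t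
    calc (limMap α ≫ e₂.hom) ≫ (limCone F').π.app t
        = limMap α ≫ e₂.hom ≫ (limCone F').π.app t := Category.assoc _ _ _
      _ = limit.π F t ≫ α.app t := by rw [h3, limMap_π]
      _ = e₁.hom ≫ (limCone F).π.app t ≫ α.app t := by rw [← h4, Category.assoc]
      _ = e₁.hom ≫ ((lim : (T ⥤ B) ⥤ B).mapHomologicalComplex c).map (toCxMap α) ≫
            (limCone F').π.app t := congrArg (fun x => e₁.hom ≫ x) h2.symm
      _ = _ := (Category.assoc _ _ _).symm
  exact (quasiIso_iff_of_arrow_mk_iso _ _ (Arrow.isoMk e₁ e₂ hcomm.symm)).2 h1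

theorem quasiIso_piMap {J : Type w} [HasLimitsOfShape (Discrete J) B]
    [(lim : (Discrete J ⥤ B) ⥤ B).PreservesEpimorphisms]
    {C C' : J → HomologicalComplex B c} (f : ∀ j, C j ⟶ C' j) (h : ∀ j, QuasiIso (f j)) :
    QuasiIso (Limits.Pi.map f) :=
  quasiIso_limMap _ (fun j => h j.as)

end Lim

section Derived

open DerivedCategory

variable {B : Type u} [Category.{v} B] [Abelian B] [HasDerivedCategory.{w} B]

/-- a chain map killed by `Q` becomes null-homotopic after composing with a quasi-isomorphism -/
lemma exists_quasiIso_comp_homotopy_zero {K L : CochainComplex B ℤ} (h : K ⟶ L)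
    (hh : Q.map h = 0) :
    ∃ (L' : CochainComplex B ℤ) (t : L ⟶ L'), QuasiIso t ∧ Nonempty (Homotopy (h ≫ t) 0) := by
  have h1 : Qh.map ((HomotopyCategory.quotient _ _).map h) =
      Qh.map ((HomotopyCategory.quotient _ _).map (0 : K ⟶ L)) := by
    have e1 := quotientCompQhIso_hom_naturality h
    have e2 := quotientCompQhIso_hom_naturality (0 : K ⟶ L)
    rw [hh] at e1
    rw [Q.map_zero] at e2
    rw [← cancel_mono ((quotientCompQhIso B).hom.app L), e1, e2]
  rw [MorphismProperty.map_eq_iff_postcomp Qh (HomotopyCategory.quasiIso B (ComplexShape.up ℤ))] at h1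
  obtain ⟨Z, s, hs, hfs⟩ := h1
  obtain ⟨L', rfl⟩ := HomotopyCategory.quotient_obj_surjective Z
  obtain ⟨t, rfl⟩ := (HomotopyCategory.quotient _ _).map_surjective s
  rw [HomotopyCategory.quotient_map_mem_quasiIso_iff] at hs
  refine ⟨L', t, hs, ⟨HomotopyCategory.homotopyOfEq _ _ ?_⟩⟩
  rw [Functor.map_comp, hfs, Functor.map_zero, Functor.map_zero, zero_comp]

variable {J : Type w'} [HasLimitsOfShape (Discrete J) B]
  [(lim : (Discrete J ⥤ B) ⥤ B).PreservesEpimorphisms]

/-- **Products of complexes give products in the derived category when products are exact**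
(Bökstedt–Neeman). -/
theorem existsUnique_lift (C : J → CochainComplex B ℤ) (Z : DerivedCategory B)
    (p : ∀ j, Z ⟶ Q.obj (C j)) :
    ∃! m : Z ⟶ Q.obj (∏ᶜ C), ∀ j, m ≫ Q.map (Pi.π C j) = p j := by
  obtain ⟨K, ⟨iT⟩⟩ : ∃ K : CochainComplex B ℤ, Nonempty (Q.obj K ≅ Z) :=
    ⟨Q.objPreimage Z, ⟨Q.objObjPreimageIso Z⟩⟩
  -- existence
  have hfac : ∀ j, ∃ (Y' : CochainComplex B ℤ) (g : K ⟶ Y') (s : C j ⟶ Y') (_ : QuasiIso s),
      iT.hom ≫ p j = Q.map g ≫ inv (Q.map s) := by
    intro j
    obtain ⟨Y', g, s, hs, h⟩ := left_fac (iT.hom ≫ p j)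
    rw [isIso_Q_map_iff_quasiIso] at hs
    exact ⟨Y', g, s, hs, h⟩
  choose C' g s hs hgs using hfac
  haveI : QuasiIso (Limits.Pi.map s) := quasiIso_piMap s hs
  haveI : IsIso (Q.map (Limits.Pi.map s)) := by rw [isIso_Q_map_iff_quasiIso]; infer_instance
  haveI : ∀ j, IsIso (Q.map (s j)) := fun j => by rw [isIso_Q_map_iff_quasiIso]; exact hs j
  have hπ : ∀ j, inv (Q.map (Limits.Pi.map s)) ≫ Q.map (Pi.π C j) =
      Q.map (Pi.π C' j) ≫ inv (Q.map (s j)) := by
    intro j
    rw [IsIso.eq_comp_inv, Category.assoc, IsIso.inv_comp_eq, ← Q.map_comp, ← Q.map_comp,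
      Limits.Pi.map_π]
  refine ⟨iT.inv ≫ Q.map (Pi.lift g) ≫ inv (Q.map (Limits.Pi.map s)), fun j => ?_, ?_⟩
  · rw [Category.assoc, Category.assoc, hπ, ← Category.assoc (Q.map _), ← Q.map_comp,
      Pi.lift_π, ← hgs, Iso.inv_hom_id_assoc]
  · -- uniqueness
    have key : ∀ d : Z ⟶ Q.obj (∏ᶜ C), (∀ j, d ≫ Q.map (Pi.π C j) = 0) → d = 0 := by
      intro d hd
      obtain ⟨K', σ, hσ, γ, hγ⟩ := right_fac (iT.hom ≫ d)
      have h0 : ∀ j, Q.map (γ ≫ Pi.π C j) = 0 := by
        intro j
        have := hd j
        rw [Q.map_comp, ← cancel_epi (inv (Q.map σ)), ← Category.assoc, ← hγ, Category.assoc,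
          this, comp_zero, comp_zero]
      have h1 : ∀ j, ∃ (L' : CochainComplex B ℤ) (t : C j ⟶ L'), QuasiIso t ∧
          Nonempty (Homotopy ((γ ≫ Pi.π C j) ≫ t) 0) :=
        fun j => exists_quasiIso_comp_homotopy_zero _ (h0 j)
      choose C'' t ht hht using h1
      haveI : QuasiIso (Limits.Pi.map t) := quasiIso_piMap t ht
      haveI : IsIso (Q.map (Limits.Pi.map t)) := by
        rw [isIso_Q_map_iff_quasiIso]; infer_instance
      have h2 : Nonempty (Homotopy (γ ≫ Limits.Pi.map t) 0) := by
        apply DProd.homotopy_zero_of_pi C''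
        intro j
        obtain ⟨hj⟩ := hht j
        refine ⟨(Homotopy.ofEq ?_).trans hj⟩
        rw [Category.assoc, Limits.Pi.map_π, Category.assoc]
      obtain ⟨h2⟩ := h2
      have h3 : Q.map γ ≫ Q.map (Limits.Pi.map t) = 0 := by
        rw [← Q.map_comp, DerivedCategory.Q_map_eq_of_homotopy B h2, Q.map_zero]
      have h4 : Q.map γ = 0 := by
        rw [← cancel_mono (Q.map (Limits.Pi.map t)), h3, zero_comp]
      have h5 : iT.hom ≫ d = 0 := by rw [hγ, h4, comp_zero]
      rw [← cancel_epi iT.hom, h5, comp_zero]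
    intro m' hm'
    rw [← sub_eq_zero]
    apply key
    intro j
    rw [Preadditive.sub_comp, hm' j, sub_eq_zero]
    rw [Category.assoc, Category.assoc, hπ, ← Category.assoc (Q.map _), ← Q.map_comp,
      Pi.lift_π, ← hgs, Iso.inv_hom_id_assoc]

end Derived

end Groth.Agent.Lib.Helper25.DProdExact
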