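import Mathlib
import Groth.Agent.Lib.Helper25.DerAdjK

/-!
# Right derived functors (computed by K-injective resolutions) preserve distinguished triangles

Let `A` be an abelian category in which every complex has a K-injective resolution, `Φ : K(A) ⥤ H`
a triangulated functor and `G : D(A) ⥤ H`, `α : Φ ⟶ Qh ⋙ G` such that `α` is invertible at
K-injective complexes (e.g. `G` a right derived functor of `Φ`).
* `isKInjective_of_distinguished`: the third vertex of a distinguished triangle in `K(A)` whose first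
  two vertices are K-injective is K-injective.
* `exists_distinguished`: for every distinguished triangle `T` of `D(A)` there is a distinguished
  triangle `G T₁ ⟶ G T₂ ⟶ G T₃ ⟶ (G T₁)⟦1⟧` whose first two maps are `G.map T.mor₁`, `G.map T.mor₂`.
-/

set_option autoImplicit false
universe w₁ w₂ v₁ v₂ u₁ u₂
open CategoryTheory CategoryTheory.Limits Pretriangulated

namespace Groth.Agent.Lib.Helper25.RDerTri

open Groth.Agent.Lib.Helper25.DerAdjK

variable {A : Type u₁} [Category.{v₁} A] [Abelian A] [HasDerivedCategory.{w₁} A]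

omit [HasDerivedCategory A] in
lemma isKInjective_of_distinguished (T : Triangle (HomotopyCategory A (ComplexShape.up ℤ)))
    (hT : T ∈ distTriang _) (I J : CochainComplex A ℤ) [hI : I.IsKInjective] [hJ : J.IsKInjective]
    (e₁ : T.obj₁ ≅ (HomotopyCategory.quotient A (ComplexShape.up ℤ)).obj I)
    (e₂ : T.obj₂ ≅ (HomotopyCategory.quotient A (ComplexShape.up ℤ)).obj J) :
    CochainComplex.IsKInjective T.obj₃.as := by
  rw [CochainComplex.isKInjective_iff_rightOrthogonal] at hI hJ ⊢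
  have h1 : (HomotopyCategory.subcategoryAcyclic A).rightOrthogonal T.obj₁ :=
    ObjectProperty.prop_of_iso _ e₁.symm hI
  have h2 : (HomotopyCategory.subcategoryAcyclic A).rightOrthogonal T.obj₂ :=
    ObjectProperty.prop_of_iso _ e₂.symm hJ
  exact (HomotopyCategory.subcategoryAcyclic A).rightOrthogonal.ext_of_isTriangulatedClosed₃ _ hT h1 h2

variable {H : Type u₂} [Category.{v₂} H] [HasZeroObject H] [HasShift H ℤ] [Preadditive H]
  [∀ n : ℤ, (shiftFunctor H n).Additive] [Pretriangulated H]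
  (hKinj : ∀ K : CochainComplex A ℤ, ∃ (I : CochainComplex A ℤ) (f : K ⟶ I),
    I.IsKInjective ∧ QuasiIso f)
  (Φ : HomotopyCategory A (ComplexShape.up ℤ) ⥤ H) [Φ.CommShift ℤ] [Φ.IsTriangulated]
  (G : DerivedCategory A ⥤ H) (α : Φ ⟶ DerivedCategory.Qh ⋙ G)
  (hα : ∀ (I : CochainComplex A ℤ), I.IsKInjective →
    IsIso (α.app ((HomotopyCategory.quotient A (ComplexShape.up ℤ)).obj I)))

include hKinj hα in
theorem exists_distinguished (T : Triangle (DerivedCategory A)) (hT : T ∈ distTriang _) :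
    ∃ h' : G.obj T.obj₃ ⟶ (G.obj T.obj₁)⟦(1 : ℤ)⟧,
      Triangle.mk (G.map T.mor₁) (G.map T.mor₂) h' ∈ distTriang H := by
  obtain ⟨r, e, hr, hI⟩ := exists_fibrant hKinj
  obtain ⟨I, hI₁, hI₂⟩ := hI T.obj₁
  obtain ⟨J, hJ₁, hJ₂⟩ := hI T.obj₂
  obtain ⟨φ, hφ⟩ := (hr (r T.obj₁) T.obj₂).surjective ((e T.obj₁).hom ≫ T.mor₁ ≫ (e T.obj₂).inv)
  dsimp only at hφ
  obtain ⟨Z, g, h, hT₀⟩ := distinguished_cocone_triangle φ
  haveI : CochainComplex.IsKInjective Z.as :=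
    isKInjective_of_distinguished _ hT₀ I J (eqToIso hI₂) (eqToIso hJ₂)
  have hQ : DerivedCategory.Qh.mapTriangle.obj (Triangle.mk φ g h) ∈ distTriang _ :=
    DerivedCategory.Qh.map_distinguished _ hT₀
  let E := isoTriangleOfIso₁₂ _ _ hQ hT (e T.obj₁) (e T.obj₂) (by
    change DerivedCategory.Qh.map φ ≫ (e T.obj₂).hom = (e T.obj₁).hom ≫ T.mor₁
    rw [hφ, Category.assoc, Category.assoc, Iso.inv_hom_id, Category.comp_id])
  have hΦ : Φ.mapTriangle.obj (Triangle.mk φ g h) ∈ distTriang _ := Φ.map_distinguished _ hT₀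
  haveI h₁ : IsIso (α.app (r T.obj₁)) := by rw [hI₂]; exact hα I hI₁
  haveI h₂ : IsIso (α.app (r T.obj₂)) := by rw [hJ₂]; exact hα J hJ₁
  haveI h₃ : IsIso (α.app Z) := hα Z.as inferInstance
  let θ₁ : Φ.obj (r T.obj₁) ≅ G.obj T.obj₁ :=
    asIso (α.app (r T.obj₁)) ≪≫ G.mapIso (Triangle.π₁.mapIso E)
  let θ₂ : Φ.obj (r T.obj₂) ≅ G.obj T.obj₂ :=
    asIso (α.app (r T.obj₂)) ≪≫ G.mapIso (Triangle.π₂.mapIso E)
  let θ₃ : Φ.obj Z ≅ G.obj T.obj₃ :=
    asIso (α.app Z) ≪≫ G.mapIso (Triangle.π₃.mapIso E)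
  refine ⟨θ₃.inv ≫ (Φ.mapTriangle.obj (Triangle.mk φ g h)).mor₃ ≫ θ₁.hom⟦(1 : ℤ)⟧', ?_⟩
  refine isomorphic_distinguished _ hΦ _ (Triangle.isoMk _ _ θ₁ θ₂ θ₃ ?_ ?_ ?_).symm
  · have e1 : Φ.map φ ≫ α.app (r T.obj₂) = α.app (r T.obj₁) ≫ G.map (DerivedCategory.Qh.map φ) :=
      α.naturality φ
    have e2 : DerivedCategory.Qh.map φ ≫ E.hom.hom₂ = E.hom.hom₁ ≫ T.mor₁ := E.hom.comm₁
    have e3 : G.map (DerivedCategory.Qh.map φ) ≫ G.map E.hom.hom₂ =
        G.map E.hom.hom₁ ≫ G.map T.mor₁ :=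
      (G.map_comp _ _).symm.trans ((congrArg G.map e2).trans (G.map_comp _ _))
    calc Φ.map φ ≫ α.app (r T.obj₂) ≫ G.map E.hom.hom₂
        = (Φ.map φ ≫ α.app (r T.obj₂)) ≫ G.map E.hom.hom₂ := (Category.assoc _ _ _).symm
      _ = (α.app (r T.obj₁) ≫ G.map (DerivedCategory.Qh.map φ)) ≫ G.map E.hom.hom₂ :=
          congrArg (fun x => x ≫ G.map E.hom.hom₂) e1
      _ = α.app (r T.obj₁) ≫ G.map (DerivedCategory.Qh.map φ) ≫ G.map E.hom.hom₂ :=
          Category.assoc _ _ _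
      _ = α.app (r T.obj₁) ≫ G.map E.hom.hom₁ ≫ G.map T.mor₁ :=
          congrArg (fun x => α.app (r T.obj₁) ≫ x) e3
      _ = (α.app (r T.obj₁) ≫ G.map E.hom.hom₁) ≫ G.map T.mor₁ := (Category.assoc _ _ _).symm
  · have e1 : Φ.map g ≫ α.app Z = α.app (r T.obj₂) ≫ G.map (DerivedCategory.Qh.map g) :=
      α.naturality g
    have e2 : DerivedCategory.Qh.map g ≫ E.hom.hom₃ = E.hom.hom₂ ≫ T.mor₂ := E.hom.comm₂
    have e3 : G.map (DerivedCategory.Qh.map g) ≫ G.map E.hom.hom₃ =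
        G.map E.hom.hom₂ ≫ G.map T.mor₂ :=
      (G.map_comp _ _).symm.trans ((congrArg G.map e2).trans (G.map_comp _ _))
    calc Φ.map g ≫ α.app Z ≫ G.map E.hom.hom₃
        = (Φ.map g ≫ α.app Z) ≫ G.map E.hom.hom₃ := (Category.assoc _ _ _).symm
      _ = (α.app (r T.obj₂) ≫ G.map (DerivedCategory.Qh.map g)) ≫ G.map E.hom.hom₃ :=
          congrArg (fun x => x ≫ G.map E.hom.hom₃) e1
      _ = α.app (r T.obj₂) ≫ G.map (DerivedCategory.Qh.map g) ≫ G.map E.hom.hom₃ :=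
          Category.assoc _ _ _
      _ = α.app (r T.obj₂) ≫ G.map E.hom.hom₂ ≫ G.map T.mor₂ :=
          congrArg (fun x => α.app (r T.obj₂) ≫ x) e3
      _ = (α.app (r T.obj₂) ≫ G.map E.hom.hom₂) ≫ G.map T.mor₂ := (Category.assoc _ _ _).symm
  · exact (Iso.hom_inv_id_assoc θ₃ _).symm

end Groth.Agent.Lib.Helper25.RDerTri
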