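import Mathlib
import Groth.Agent.Lib.Helper25.RDerTri
import Groth.Agent.Lib.Helper25.DProdExact

/-!
# Right derived functors commute with products and derived limits (helper25)

`F : A ⥤ B` additive, `A` with K-injective resolutions (`hKinj`), `G : D(A) ⥤ D(B)` with
`α : F.mapHomotopyCategory ⋙ Qh ⟶ Qh ⋙ G` invertible at K-injective complexes (`hα`; e.g. `G` the total
right derived functor and `α` its unit).
* `uQ`, `isIso_uQ_app`: the unit `Q (F I) ⟶ G (Q I)` on complexes, an isomorphism for K-injective `I`.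
* `additive`: `G` is additive.
* `IsProd`, `isProd_pi`, `IsProd.of_iso`, `IsProd.exists_iso`: elementary API for products.
* `isProd_map_pi`: if `F` preserves products of shape `J` and these are exact in `B`, then `G` preserves
  products of shape `J`.
* `isRlim_map`: `G` sends derived limits (`DCoh.IsRlim`, stated in unfolded form) to derived limits.
-/

set_option autoImplicit false
universe w' w₁ w₂ v₁ v₂ u₁ u₂
open CategoryTheory CategoryTheory.Limits Pretriangulated

namespace Groth.Agent.Lib.Helper25.RDerRlim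

open Groth.Agent.Lib.Helper25.DerAdjK DerivedCategory

variable {A : Type u₁} [Category.{v₁} A] [Abelian A] [HasDerivedCategory.{w₁} A]
  {B : Type u₂} [Category.{v₂} B] [Abelian B] [HasDerivedCategory.{w₂} B]
  (F : A ⥤ B) [F.Additive]
  (G : DerivedCategory A ⥤ DerivedCategory B)
  (α : F.mapHomotopyCategory (ComplexShape.up ℤ) ⋙ DerivedCategory.Qh ⟶ DerivedCategory.Qh ⋙ G)

/-- the unit, at the level of complexes -/
noncomputable def uQ :
    F.mapHomologicalComplex (ComplexShape.up ℤ) ⋙ (Q : CochainComplex B ℤ ⥤ _) ⟶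
      (Q : CochainComplex A ℤ ⥤ _) ⋙ G where
  app I := (quotientCompQhIso B).inv.app ((F.mapHomologicalComplex _).obj I) ≫
    Qh.map ((F.mapHomotopyCategoryFactors (ComplexShape.up ℤ)).inv.app I) ≫
    α.app ((HomotopyCategory.quotient A (ComplexShape.up ℤ)).obj I) ≫
    G.map ((quotientCompQhIso A).hom.app I)
  naturality I J f := by
    have h1 := (quotientCompQhIso B).inv.naturality ((F.mapHomologicalComplex _).map f)
    have h2 := (F.mapHomotopyCategoryFactors (ComplexShape.up ℤ)).inv.naturality f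
    have h3 := α.naturality ((HomotopyCategory.quotient A (ComplexShape.up ℤ)).map f)
    have h4 := (quotientCompQhIso A).hom.naturality f
    simp only [Functor.comp_map, Functor.comp_obj] at h1 h2 h3 h4 ⊢
    rw [reassoc_of% h1, ← Qh.map_comp_assoc, h2, Qh.map_comp_assoc, reassoc_of% h3,
      ← G.map_comp, h4, G.map_comp]
    simp only [Category.assoc]

variable
  (hα : ∀ (I : CochainComplex A ℤ), I.IsKInjective →
    IsIso (α.app ((HomotopyCategory.quotient A (ComplexShape.up ℤ)).obj I)))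

include hα in
lemma isIso_uQ_app (I : CochainComplex A ℤ) [hI : I.IsKInjective] : IsIso ((uQ F G α).app I) := by
  haveI := hα I hI
  dsimp only [uQ]
  infer_instance

variable
  (hKinj : ∀ K : CochainComplex A ℤ, ∃ (I : CochainComplex A ℤ) (f : K ⟶ I),
    I.IsKInjective ∧ QuasiIso f)

include hKinj hα in
/-- a right derived functor of an additive functor is additive -/
theorem additive : G.Additive := by
  obtain ⟨r, e, hr, hI⟩ := exists_fibrant hKinj
  refine ⟨fun {X Y f g} => ?_⟩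
  obtain ⟨φ, hφ⟩ := (hr (r X) Y).surjective ((e X).hom ≫ f ≫ (e Y).inv)
  obtain ⟨ψ, hψ⟩ := (hr (r X) Y).surjective ((e X).hom ≫ g ≫ (e Y).inv)
  dsimp only at hφ hψ
  haveI : IsIso (α.app (r X)) := by
    obtain ⟨I, hI₁, hI₂⟩ := hI X
    rw [hI₂]; exact hα I hI₁
  have key : ∀ χ : r X ⟶ r Y, G.map (Qh.map χ) =
      inv (α.app (r X)) ≫ (F.mapHomotopyCategory (ComplexShape.up ℤ) ⋙ Qh).map χ ≫ α.app (r Y) := by
    intro χ
    rw [IsIso.eq_inv_comp]
    exact (α.naturality χ).symm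
  have hf : f = (e X).inv ≫ Qh.map φ ≫ (e Y).hom := by
    rw [hφ]; simp
  have hg : g = (e X).inv ≫ Qh.map ψ ≫ (e Y).hom := by
    rw [hψ]; simp
  have hfg : f + g = (e X).inv ≫ Qh.map (φ + ψ) ≫ (e Y).hom := by
    rw [Functor.map_add, Preadditive.add_comp, Preadditive.comp_add, ← hf, ← hg]
  rw [hfg, G.map_comp, G.map_comp, key, Functor.map_add, Preadditive.add_comp,
    Preadditive.comp_add, Preadditive.add_comp, Preadditive.comp_add, ← key, ← key,
    ← G.map_comp, ← G.map_comp, ← G.map_comp, ← G.map_comp, ← hf, ← hg]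

section IsProd

variable {C : Type*} [Category C] {J : Type*}

/-- `(X, q)` is a product of the family `T` -/
def IsProd {T : J → C} (X : C) (q : ∀ j, X ⟶ T j) : Prop :=
  ∀ (Z : C) (p : ∀ j, Z ⟶ T j), ∃! m : Z ⟶ X, ∀ j, m ≫ q j = p j

lemma isProd_pi (T : J → C) [HasProduct T] : IsProd (∏ᶜ T) (Pi.π T) := fun Z p =>
  ⟨Pi.lift p, fun j => Pi.lift_π _ _, fun m hm => Pi.hom_ext _ _ (fun j => by rw [hm, Pi.lift_π])⟩

lemma IsProd.of_iso {T T' : J → C} {X Y : C} {q : ∀ j, X ⟶ T j} (h : IsProd X q) (ζ : Y ≅ X)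
    (w : ∀ j, T j ≅ T' j) (q' : ∀ j, Y ⟶ T' j) (hq : ∀ j, ζ.hom ≫ q j ≫ (w j).hom = q' j) :
    IsProd Y q' := by
  intro Z p'
  obtain ⟨m, hm, hu⟩ := h Z (fun j => p' j ≫ (w j).inv)
  refine ⟨m ≫ ζ.inv, fun j => ?_, fun m'' hm'' => ?_⟩
  · rw [← hq, Category.assoc, Iso.inv_hom_id_assoc, reassoc_of% (hm j), Iso.inv_hom_id,
      Category.comp_id]
  · have : m'' ≫ ζ.hom = m := by
      apply hu
      intro j
      rw [← hm'' j, ← hq j]
      simp
    rw [← this, Category.assoc, Iso.hom_inv_id, Category.comp_id]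

lemma IsProd.exists_iso {T : J → C} {X Y : C} {q : ∀ j, X ⟶ T j} {q' : ∀ j, Y ⟶ T j}
    (h : IsProd X q) (h' : IsProd Y q') : ∃ ζ : Y ≅ X, ∀ j, ζ.hom ≫ q j = q' j := by
  obtain ⟨a, ha, -⟩ := h Y q'
  obtain ⟨b, hb, -⟩ := h' X q
  refine ⟨⟨a, b, ?_, ?_⟩, ha⟩
  · obtain ⟨_, _, hu⟩ := h' Y q'
    rw [hu (a ≫ b) (fun j => by rw [Category.assoc, hb, ha]), hu (𝟙 Y) (fun j => Category.id_comp _)]
  · obtain ⟨_, _, hu⟩ := h X q
    rw [hu (b ≫ a) (fun j => by rw [Category.assoc, ha, hb]), hu (𝟙 X) (fun j => Category.id_comp _)]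

end IsProd

section Prod

variable {J : Type w'} [HasLimitsOfShape (Discrete J) A] [HasLimitsOfShape (Discrete J) B]
  [(lim : (Discrete J ⥤ B) ⥤ B).PreservesEpimorphisms] [PreservesLimitsOfShape (Discrete J) F]

omit [HasDerivedCategory A] [HasDerivedCategory B] [HasLimitsOfShape (Discrete J) B]
  [(lim : (Discrete J ⥤ B) ⥤ B).PreservesEpimorphisms] in
lemma preservesLimitsOfShape_mapHomologicalComplex :
    PreservesLimitsOfShape (Discrete J) (F.mapHomologicalComplex (ComplexShape.up ℤ)) :=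
  HomologicalComplex.preservesLimitsOfShape_of_eval _ (fun i =>
    preservesLimitsOfShape_of_natIso
      (NatIso.ofComponents (fun _ => Iso.refl _)
        (by intros; exact (Category.comp_id _).trans (Category.id_comp _).symm) :
        HomologicalComplex.eval A (ComplexShape.up ℤ) i ⋙ F ≅
          F.mapHomologicalComplex (ComplexShape.up ℤ) ⋙ HomologicalComplex.eval B _ i))

include hKinj hα in
/-- **A right derived functor of a product preserving functor, with values in a category with exact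
products, preserves products.** -/
theorem isProd_map_pi (K : J → DerivedCategory A) [HasProduct K] :
    IsProd (G.obj (∏ᶜ K)) (fun j => G.map (Pi.π K j)) := by
  classical
  haveI := preservesLimitsOfShape_mapHomologicalComplex F (J := J)
  have hex : ∀ j, ∃ (I : CochainComplex A ℤ), I.IsKInjective ∧ Nonempty (Q.obj I ≅ K j) := by
    intro j
    obtain ⟨I, f, hI, hf⟩ := hKinj (Q.objPreimage (K j))
    haveI : IsIso (Q.map f) := by rw [isIso_Q_map_iff_quasiIso]; exact hf
    exact ⟨I, hI, ⟨(asIso (Q.map f)).symm ≪≫ Q.objObjPreimageIso (K j)⟩⟩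
  choose I hI he using hex
  obtain ⟨e⟩ : Nonempty (∀ j, Q.obj (I j) ≅ K j) := ⟨fun j => (he j).some⟩
  haveI := hI
  haveI : (∏ᶜ I).IsKInjective := DProd.isKInjective_pi I hI
  -- the product of the `I j` computes the product of the `K j`
  have h1 : IsProd (Q.obj (∏ᶜ I)) (fun j => Q.map (Pi.π I j)) :=
    fun Z p => DProd.existsUnique_lift I hI Z p
  have h2 : IsProd (Q.obj (∏ᶜ I)) (fun j => Q.map (Pi.π I j) ≫ (e j).hom) :=
    h1.of_iso (Iso.refl _) e _ (fun j => Category.id_comp _)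
  obtain ⟨ζ, hζ⟩ := h2.exists_iso (isProd_pi K)
  -- the product of the `F (I j)`
  let FI : J → CochainComplex B ℤ := fun j => (F.mapHomologicalComplex _).obj (I j)
  have h3 : IsProd (Q.obj (∏ᶜ FI)) (fun j => Q.map (Pi.π FI j)) :=
    fun Z p => DProdExact.existsUnique_lift FI Z p
  let ν : (F.mapHomologicalComplex (ComplexShape.up ℤ)).obj (∏ᶜ I) ≅ ∏ᶜ FI :=
    PreservesProduct.iso (F.mapHomologicalComplex (ComplexShape.up ℤ)) I
  have hν : ∀ j, ν.hom ≫ Pi.π FI j = (F.mapHomologicalComplex (ComplexShape.up ℤ)).map (Pi.π I j) :=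
    fun j => by
      simp only [ν, PreservesProduct.iso_hom]
      exact piComparison_comp_π _ _ _
  haveI : IsIso ((uQ F G α).app (∏ᶜ I)) := isIso_uQ_app F G α hα _
  haveI : ∀ j, IsIso ((uQ F G α).app (I j)) := fun j => isIso_uQ_app F G α hα _
  refine h3.of_iso (G.mapIso ζ ≪≫ (asIso ((uQ F G α).app (∏ᶜ I))).symm ≪≫ Q.mapIso ν)
    (fun j => asIso ((uQ F G α).app (I j)) ≪≫ G.mapIso (e j)) _ (fun j => ?_)
  have hn := (uQ F G α).naturality (Pi.π I j)
  simp only [Functor.comp_map] at hn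
  simp only [Iso.trans_hom, Functor.mapIso_hom, Iso.symm_hom, asIso_inv, asIso_hom, Category.assoc]
  rw [← Q.map_comp_assoc, hν, reassoc_of% hn, IsIso.inv_hom_id_assoc, ← G.map_comp, ← G.map_comp,
    hζ]

end Prod

section Rlim

variable [HasLimitsOfShape (Discrete ℕ) A] [HasLimitsOfShape (Discrete ℕ) B]
  [(lim : (Discrete ℕ ⥤ B) ⥤ B).PreservesEpimorphisms] [PreservesLimitsOfShape (Discrete ℕ) F]

include hKinj hα in
/-- **A right derived functor commutes with derived limits** (when the target has exact countable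
products and the functor commutes with countable products). -/
theorem isRlim_map (K : ℕ → DerivedCategory A) (t : ∀ n, K (n + 1) ⟶ K n)
    (L : DerivedCategory A) [HasProduct K] [HasProduct fun n => G.obj (K n)]
    (hL : ∃ (a : L ⟶ ∏ᶜ K) (c : ∏ᶜ K ⟶ L⟦(1 : ℤ)⟧),
      Triangle.mk a (Pi.lift fun n => Pi.π K n - Pi.π K (n + 1) ≫ t n) c ∈ distTriang _) :
    ∃ (a' : G.obj L ⟶ ∏ᶜ fun n => G.obj (K n))
      (c' : (∏ᶜ fun n => G.obj (K n)) ⟶ (G.obj L)⟦(1 : ℤ)⟧),
      Triangle.mk a' (Pi.lift fun n => Pi.π (fun n => G.obj (K n)) n -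
        Pi.π (fun n => G.obj (K n)) (n + 1) ≫ G.map (t n)) c' ∈ distTriang _ := by
  obtain ⟨a, c, hT⟩ := hL
  haveI := additive F G α hα hKinj
  obtain ⟨h', hT'⟩ := RDerTri.exists_distinguished hKinj
    (F.mapHomotopyCategory (ComplexShape.up ℤ) ⋙ Qh) G α hα _ hT
  obtain ⟨ψ, hψ⟩ := (isProd_pi (fun n => G.obj (K n))).exists_iso
    (isProd_map_pi F G α hα hKinj K)
  refine ⟨G.map a ≫ ψ.hom, ψ.inv ≫ h', isomorphic_distinguished _ hT' _
    (Triangle.isoMk _ _ (Iso.refl _) ψ.symm ψ.symm ?_ ?_ ?_)⟩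
  · change (G.map a ≫ ψ.hom) ≫ ψ.inv = 𝟙 _ ≫ G.map a
    rw [Category.assoc, Iso.hom_inv_id, Category.comp_id, Category.id_comp]
  · change (Pi.lift fun n => Pi.π (fun n => G.obj (K n)) n -
        Pi.π (fun n => G.obj (K n)) (n + 1) ≫ G.map (t n)) ≫ ψ.inv =
      ψ.inv ≫ G.map (Pi.lift fun n => Pi.π K n - Pi.π K (n + 1) ≫ t n)
    rw [← cancel_mono ψ.hom, Category.assoc, Category.assoc, Iso.inv_hom_id, Category.comp_id,
      ← cancel_epi ψ.hom, Iso.hom_inv_id_assoc]
    apply Pi.hom_ext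
    intro n
    simp only [Category.assoc, Pi.lift_π, Preadditive.comp_sub]
    rw [reassoc_of% (hψ (n + 1)), hψ n, ← G.map_comp, ← G.map_comp, ← G.map_sub, Pi.lift_π]
  · change (ψ.inv ≫ h') ≫ (𝟙 _)⟦(1 : ℤ)⟧' = ψ.inv ≫ h'
    rw [CategoryTheory.Functor.map_id, Category.comp_id]

end Rlim

end Groth.Agent.Lib.Helper25.RDerRlim
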