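import Mathlib
import Groth.Agent.Lib.Helper25.RDerRlim
import Groth.Agent.Lib.Helper27.Leray3
import Groth.Agent.Lib.Helper27.SSGroth2

/-!
# Leray acyclicity for unbounded right derived functors, abstract part (helper25)

Setting of `RDerRlim`: `F : A ⥤ B` additive, `G : D(A) ⥤ D(B)`, `α : F ⋙ Qh ⟶ Qh ⋙ G` invertible at K-injectives.
* `isIso_α_app_iff`: the unit at `K` is invertible iff its complex-level form `uQ` is.
* `isIso_uQ_app_iff`: for a K-injective resolution `a : K ⟶ I`, the unit at `K` is invertible iff `F a` is a quasi-iso.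
* `isIso_uQ_app_of_acyc`: the unit is invertible at bounded below complexes with `F`-acyclic terms (helper27's Leray lib).
* `exists_distinguished_of_square`: from `a ≫ u = u' ≫ b`, `u'` iso: distinguished `cone a ⟶ cone b ⟶ cone u ⟶` (octahedron).
-/

set_option autoImplicit false
universe w₁ w₂ v₁ v₂ u₁ u₂
open CategoryTheory CategoryTheory.Limits Pretriangulated

namespace Groth.Agent.Lib.Helper25.RDerAcyc

open Groth.Agent.Lib.Helper25.RDerRlim DerivedCategory Groth.Agent.Lib.helper27

section Abstract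

variable {A : Type u₁} [Category.{v₁} A] [Abelian A] [HasDerivedCategory.{w₁} A]
  {B : Type u₂} [Category.{v₂} B] [Abelian B] [HasDerivedCategory.{w₂} B]
  (F : A ⥤ B) [F.Additive]
  (G : DerivedCategory A ⥤ DerivedCategory B)
  (α : F.mapHomotopyCategory (ComplexShape.up ℤ) ⋙ DerivedCategory.Qh ⟶ DerivedCategory.Qh ⋙ G)

/-- the unit on the homotopy category is invertible at `K` iff its complex-level form is -/
lemma isIso_α_app_iff (K : CochainComplex A ℤ) :
    IsIso (α.app ((HomotopyCategory.quotient A (ComplexShape.up ℤ)).obj K)) ↔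
      IsIso ((uQ F G α).app K) := by
  constructor
  · intro h
    dsimp only [uQ]
    infer_instance
  · intro h
    have e : α.app ((HomotopyCategory.quotient A (ComplexShape.up ℤ)).obj K) =
        Qh.map ((F.mapHomotopyCategoryFactors (ComplexShape.up ℤ)).hom.app K) ≫
        (quotientCompQhIso B).hom.app ((F.mapHomologicalComplex _).obj K) ≫
        (uQ F G α).app K ≫ G.map ((quotientCompQhIso A).inv.app K) := by
      dsimp only [uQ]
      simp only [Category.assoc, ← G.map_comp, Iso.hom_inv_id_app,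
        Iso.hom_inv_id_app_assoc, ← Functor.map_comp_assoc]
      erw [CategoryTheory.Functor.map_id, CategoryTheory.Functor.map_id, Category.id_comp,
        Category.comp_id]
    rw [e]
    infer_instance

variable (hα : ∀ (I : CochainComplex A ℤ), I.IsKInjective →
    IsIso (α.app ((HomotopyCategory.quotient A (ComplexShape.up ℤ)).obj I)))

include hα in
/-- the unit at `K` is invertible iff `F` preserves the quasi-isomorphism `K ⟶ I` to a K-injective resolution -/
lemma isIso_uQ_app_iff {K I : CochainComplex A ℤ} (a : K ⟶ I) [QuasiIso a] [I.IsKInjective] :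
    IsIso ((uQ F G α).app K) ↔ QuasiIso ((F.mapHomologicalComplex (ComplexShape.up ℤ)).map a) := by
  have hnat := (uQ F G α).naturality a
  simp only [Functor.comp_map] at hnat
  haveI : IsIso (Q.map a) := by rw [isIso_Q_map_iff_quasiIso]; infer_instance
  haveI hI := isIso_uQ_app F G α hα I
  rw [← isIso_Q_map_iff_quasiIso]
  constructor
  · intro h
    have : Q.map ((F.mapHomologicalComplex (ComplexShape.up ℤ)).map a) =
        ((uQ F G α).app K ≫ G.map (Q.map a)) ≫ inv ((uQ F G α).app I) := by
      rw [← hnat]; simp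
    rw [this]
    infer_instance
  · intro h
    have : (uQ F G α).app K =
        (Q.map ((F.mapHomologicalComplex (ComplexShape.up ℤ)).map a) ≫ (uQ F G α).app I) ≫
          inv (G.map (Q.map a)) := by
      rw [hnat]; simp
    rw [this]
    infer_instance

include hα in
/-- **Leray's acyclicity lemma** for the unbounded right derived functor: the unit is invertible at bounded below
complexes with `F`-acyclic terms -/
theorem isIso_uQ_app_of_acyc [HasInjectiveResolutions A] [PreservesFiniteLimits F]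
    (K : CochainComplex A ℤ) (m : ℤ) [K.IsStrictlyGE m]
    (hK : ∀ n, Leray.Acyc F (K.X n)) : IsIso ((uQ F G α).app K) := by
  haveI : EnoughInjectives A := SSGroth.enoughInjectives_of_hasInjectiveResolutions A
  obtain ⟨L, hL, i, hi⟩ := CochainComplex.Plus.exists_quasiIso_injective
    (⟨K, ⟨m, inferInstance⟩⟩ : CochainComplex.Plus A) m
  let I : CochainComplex A ℤ :=
    ((InjectiveObject.ι A).mapHomologicalComplex (ComplexShape.up ℤ)).obj L.obj
  haveI : I.IsStrictlyGE m := inferInstance
  haveI : ∀ n, Injective (I.X n) := fun n => (L.obj.X n).2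
  haveI hI : I.IsKInjective := CochainComplex.isKInjective_of_injective I m
  let a : K ⟶ I := i.hom
  haveI hq : QuasiIso a := hi
  rw [isIso_uQ_app_iff F G α hα a]
  exact Leray.quasiIso_map_of_acyc F a m m hK (fun n => Leray.acyc_of_injective F _)

end Abstract

section Octa

variable {D : Type u₁} [Category.{v₁} D] [HasZeroObject D] [HasShift D ℤ] [Preadditive D]
  [∀ n : ℤ, (shiftFunctor D n).Additive] [Pretriangulated D] [IsTriangulated D]

/-- from a commutative square `a ≫ u = u' ≫ b` with `u'` invertible: a distinguished triangle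
`cone a ⟶ cone b ⟶ cone u ⟶` -/
lemma exists_distinguished_of_square {X₁ X₂ X₁' X₃ Za Zb Zu : D} (a : X₁ ⟶ X₂) (u : X₂ ⟶ X₃)
    (u' : X₁ ⟶ X₁') [IsIso u'] (b : X₁' ⟶ X₃) (comm : a ≫ u = u' ≫ b)
    {va : X₂ ⟶ Za} {wa : Za ⟶ X₁⟦(1 : ℤ)⟧} (ha : Triangle.mk a va wa ∈ distTriang D)
    {vb : X₃ ⟶ Zb} {wb : Zb ⟶ X₁'⟦(1 : ℤ)⟧} (hb : Triangle.mk b vb wb ∈ distTriang D)
    {vu : X₃ ⟶ Zu} {wu : Zu ⟶ X₂⟦(1 : ℤ)⟧} (hu : Triangle.mk u vu wu ∈ distTriang D) :
    ∃ (m₁ : Za ⟶ Zb) (m₃ : Zb ⟶ Zu) (w : Zu ⟶ Za⟦(1 : ℤ)⟧),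
      Triangle.mk m₁ m₃ w ∈ distTriang D := by
  let e : X₁ ≅ X₁' := asIso u'
  have h₁₃ : Triangle.mk (e.hom ≫ b) vb (wb ≫ e.inv⟦(1 : ℤ)⟧') ∈ distTriang D := by
    refine isomorphic_distinguished _ hb _ (Triangle.isoMk _ _ e (Iso.refl _) (Iso.refl _)
      (by exact Category.comp_id _)
      (by exact (Category.comp_id _).trans (Category.id_comp _).symm) ?_)
    change (wb ≫ (shiftFunctor D (1 : ℤ)).map e.inv) ≫ (shiftFunctor D (1 : ℤ)).map e.hom =
      𝟙 Zb ≫ wb
    rw [Category.assoc, ← CategoryTheory.Functor.map_comp, Iso.inv_hom_id,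
      CategoryTheory.Functor.map_id, Category.comp_id, Category.id_comp]
  have comm' : a ≫ u = e.hom ≫ b := comm
  have o := Triangulated.someOctahedron comm' ha hu h₁₃
  exact ⟨o.m₁, o.m₃, _, o.mem⟩

end Octa

end Groth.Agent.Lib.Helper25.RDerAcyc
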