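import Mathlib

/-!
# The Mayer–Vietoris short exact sequence of `O_X`-modules (helper25)

For opens `U V` of a scheme `X` with `U ⊔ V = ⊤` and `J T = j_{T*} j_T^*`:
* `mvS U V M`: the short complex `M ⟶ J_U M ⊞ J_V M ⟶ J_{U ⊓ V} M` (natural in `M`, via the objectwise
  biproduct functor `bp (J U) (J V)` and the natural transformations `mvF`, `mvG`).
* `mvS_shortExact`: it is short exact (checked locally on `U` and on `V`, where it is split).
* `shortExact_of_restrict`, `isZero_of_isZero_restrict`: local checks on a two-open cover.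
* `splittingOfBicone`, `bp` mini-API (`bpFst`, `bpSnd`, `bpInl`, `bpInr`, `bpLift`, `bpDesc`).
-/

set_option autoImplicit false
universe u
open CategoryTheory CategoryTheory.Limits AlgebraicGeometry

namespace Groth.Agent.Lib.Helper25.MVMod

open AlgebraicGeometry.Scheme.Modules

section Splitting

variable {D : Type*} [Category D] [Preadditive D]

/-- A short complex whose middle term is a biproduct (given by explicit data), such that the first
component of `f` and the second component of `g` are isomorphisms, is split. -/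
noncomputable def splittingOfBicone (S : ShortComplex D) {B₁ B₂ : D}
    (fst : S.X₂ ⟶ B₁) (snd : S.X₂ ⟶ B₂) (inl : B₁ ⟶ S.X₂) (inr : B₂ ⟶ S.X₂)
    (h2 : inr ≫ snd = 𝟙 _) (h4 : inr ≫ fst = 0)
    (htot : fst ≫ inl + snd ≫ inr = 𝟙 _)
    (h5 : IsIso (S.f ≫ fst)) (h6 : IsIso (inr ≫ S.g)) : S.Splitting where
  r := fst ≫ inv (S.f ≫ fst)
  s := inv (inr ≫ S.g) ≫ inr
  f_r := by rw [← Category.assoc, IsIso.hom_inv_id]
  s_g := by rw [Category.assoc, IsIso.inv_hom_id]
  id := by
    have hf : S.f = (S.f ≫ fst) ≫ inl + (S.f ≫ snd) ≫ inr := by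
      rw [Category.assoc, Category.assoc, ← Preadditive.comp_add, htot, Category.comp_id]
    have hg : S.g = fst ≫ (inl ≫ S.g) + snd ≫ (inr ≫ S.g) := by
      rw [← Category.assoc, ← Category.assoc, ← Preadditive.add_comp, htot, Category.id_comp]
    have hz : (S.f ≫ fst) ≫ (inl ≫ S.g) + (S.f ≫ snd) ≫ (inr ≫ S.g) = 0 := by
      have := S.zero
      rw [hf] at this
      simpa [Preadditive.add_comp] using this
    have key : inv (S.f ≫ fst) ≫ (S.f ≫ snd) + (inl ≫ S.g) ≫ inv (inr ≫ S.g) = 0 := by
      rw [← cancel_epi (S.f ≫ fst), ← cancel_mono (inr ≫ S.g)]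
      simp only [Preadditive.comp_add, Preadditive.add_comp, Category.assoc, IsIso.hom_inv_id_assoc,
        IsIso.inv_hom_id, Category.comp_id, comp_zero, zero_comp]
      rw [add_comm]
      simpa [Category.assoc] using hz
    have e1 : (fst ≫ inv (S.f ≫ fst) ≫ S.f + S.g ≫ inv (inr ≫ S.g) ≫ inr) ≫ fst = fst := by
      simp [Preadditive.add_comp, h4]
    have e2 : (fst ≫ inv (S.f ≫ fst) ≫ S.f + S.g ≫ inv (inr ≫ S.g) ≫ inr) ≫ snd = snd := by
      rw [Preadditive.add_comp]
      simp only [Category.assoc, h2, Category.comp_id]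
      have hg' : S.g ≫ inv (inr ≫ S.g) =
          fst ≫ (inl ≫ S.g) ≫ inv (inr ≫ S.g) + snd := by
        calc S.g ≫ inv (inr ≫ S.g)
            = (fst ≫ (inl ≫ S.g) + snd ≫ (inr ≫ S.g)) ≫ inv (inr ≫ S.g) :=
              congrArg (fun x => x ≫ inv (inr ≫ S.g)) hg
          _ = _ := by
              have h5 : (snd ≫ inr ≫ S.g) ≫ inv (inr ≫ S.g) = snd := by
                rw [Category.assoc, IsIso.hom_inv_id, Category.comp_id]
              rw [Preadditive.add_comp, h5, Category.assoc, Category.assoc]
      rw [hg', ← add_assoc, ← Preadditive.comp_add, key, comp_zero, zero_add]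
    calc (fst ≫ inv (S.f ≫ fst)) ≫ S.f + S.g ≫ inv (inr ≫ S.g) ≫ inr
        = (fst ≫ inv (S.f ≫ fst) ≫ S.f + S.g ≫ inv (inr ≫ S.g) ≫ inr) ≫
            (fst ≫ inl + snd ≫ inr) := by rw [htot, Category.comp_id, Category.assoc]
      _ = 𝟙 _ := by
          rw [Preadditive.comp_add, ← Category.assoc, e1, ← Category.assoc, e2, htot]

end Splitting

section Bp

variable {C D : Type*} [Category C] [Category D] [Preadditive D] [HasBinaryBiproducts D]

/-- the objectwise biproduct of two functors -/
@[simps]
noncomputable def bp (G H : C ⥤ D) : C ⥤ D where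
  obj X := G.obj X ⊞ H.obj X
  map φ := biprod.map (G.map φ) (H.map φ)
  map_id _ := by ext <;> simp
  map_comp _ _ := by ext <;> simp

variable (G H : C ⥤ D)

@[simps] noncomputable def bpFst : bp G H ⟶ G where
  app _ := biprod.fst
  naturality _ _ _ := biprod.map_fst _ _

@[simps] noncomputable def bpSnd : bp G H ⟶ H where
  app _ := biprod.snd
  naturality _ _ _ := biprod.map_snd _ _

@[simps] noncomputable def bpInl : G ⟶ bp G H where
  app _ := biprod.inl
  naturality _ _ _ := (biprod.inl_map _ _).symm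

@[simps] noncomputable def bpInr : H ⟶ bp G H where
  app _ := biprod.inr
  naturality _ _ _ := (biprod.inr_map _ _).symm

variable {G H} {K : C ⥤ D}

@[simps] noncomputable def bpLift (a : K ⟶ G) (b : K ⟶ H) : K ⟶ bp G H where
  app X := biprod.lift (a.app X) (b.app X)
  naturality X Y f := by
    change K.map f ≫ biprod.lift (a.app Y) (b.app Y) =
      biprod.lift (a.app X) (b.app X) ≫ biprod.map (G.map f) (H.map f)
    apply biprod.hom_ext <;> simp

@[simps] noncomputable def bpDesc (a : G ⟶ K) (b : H ⟶ K) : bp G H ⟶ K where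
  app X := biprod.desc (a.app X) (b.app X)
  naturality X Y f := by
    change biprod.map (G.map f) (H.map f) ≫ biprod.desc (a.app Y) (b.app Y) =
      biprod.desc (a.app X) (b.app X) ≫ K.map f
    apply biprod.hom_ext' <;> simp

lemma bpLift_fst_app (a : K ⟶ G) (b : K ⟶ H) (X : C) :
    (bpLift a b).app X ≫ (bpFst G H).app X = a.app X := biprod.lift_fst _ _

lemma bpLift_snd_app (a : K ⟶ G) (b : K ⟶ H) (X : C) :
    (bpLift a b).app X ≫ (bpSnd G H).app X = b.app X := biprod.lift_snd _ _

lemma bpInl_desc_app (a : G ⟶ K) (b : H ⟶ K) (X : C) :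
    (bpInl G H).app X ≫ (bpDesc a b).app X = a.app X := biprod.inl_desc _ _

lemma bpInr_desc_app (a : G ⟶ K) (b : H ⟶ K) (X : C) :
    (bpInr G H).app X ≫ (bpDesc a b).app X = b.app X := biprod.inr_desc _ _

lemma bpLift_desc_app {K' : C ⥤ D} (a : K ⟶ G) (b : K ⟶ H) (c : G ⟶ K') (d : H ⟶ K') (X : C) :
    (bpLift a b).app X ≫ (bpDesc c d).app X = a.app X ≫ c.app X + b.app X ≫ d.app X :=
  biprod.lift_desc

variable (G H) in
lemma bpInl_fst_app (X : C) : (bpInl G H).app X ≫ (bpFst G H).app X = 𝟙 _ := biprod.inl_fst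

variable (G H) in
lemma bpInl_snd_app (X : C) : (bpInl G H).app X ≫ (bpSnd G H).app X = 0 := biprod.inl_snd

variable (G H) in
lemma bpInr_fst_app (X : C) : (bpInr G H).app X ≫ (bpFst G H).app X = 0 := biprod.inr_fst

variable (G H) in
lemma bpInr_snd_app (X : C) : (bpInr G H).app X ≫ (bpSnd G H).app X = 𝟙 _ := biprod.inr_snd

variable (G H) in
lemma bp_total_app (X : C) : (bpFst G H).app X ≫ (bpInl G H).app X +
    (bpSnd G H).app X ≫ (bpInr G H).app X = 𝟙 _ := biprod.total

instance [Preadditive C] [G.Additive] [H.Additive] : (bp G H).Additive where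
  map_add {X Y f g} := by
    change biprod.map (G.map (f + g)) (H.map (f + g)) =
      biprod.map (G.map f) (H.map f) + biprod.map (G.map g) (H.map g)
    apply biprod.hom_ext <;> simp [Functor.map_add]

end Bp

section Mod

variable {X : Scheme.{u}}

/-- restriction maps of a module along an inclusion of opens which is an equality are isos -/
lemma isIso_presheaf_map (M : X.Modules) {A B : X.Opens} (i : A ⟶ B) (h : B ≤ A) :
    IsIso (M.presheaf.map i.op) := by
  haveI : IsIso i := ⟨homOfLE h, Subsingleton.elim _ _, Subsingleton.elim _ _⟩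
  infer_instance

/-- `j_* j^*` for the open `T` -/
noncomputable abbrev J (T : X.Opens) : X.Modules ⥤ X.Modules :=
  restrictFunctor T.ι ⋙ pushforward T.ι

lemma image_preimage_ι (T A : X.Opens) : T.ι ''ᵁ (T.ι ⁻¹ᵁ A) = T ⊓ A := by
  rw [T.ι.image_preimage_eq_opensRange_inf, Scheme.Opens.opensRange_ι]

lemma image_ι_le (T : X.Opens) (A : (T : Scheme.{u}).Opens) : T.ι ''ᵁ A ≤ T := by
  have := T.ι.image_le_opensRange A
  rwa [Scheme.Opens.opensRange_ι] at this

/-- (F1): the unit `M ⟶ j_{T*} j_T^* M` is an isomorphism over any open `W ≤ T` -/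
lemma isIso_restrict_unit {W T : X.Opens} (h : W ≤ T) (M : X.Modules) :
    IsIso ((restrictFunctor W.ι).map ((restrictAdjunction T.ι).unit.app M)) := by
  rw [Hom.isIso_iff_isIso_app]
  intro A
  change IsIso (((restrictAdjunction T.ι).unit.app M).app (W.ι ''ᵁ A))
  rw [restrictAdjunction_unit_app_app]
  apply isIso_presheaf_map
  rw [image_preimage_ι]
  exact le_inf ((image_ι_le W A).trans h) le_rfl

lemma isIso_J_map_unit {W T : X.Opens} (h : W ≤ T) (M : X.Modules) :
    IsIso ((J W).map ((restrictAdjunction T.ι).unit.app M)) := by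
  haveI := isIso_restrict_unit h M
  change IsIso ((pushforward W.ι).map ((restrictFunctor W.ι).map _))
  infer_instance

/-- the restriction transformation `j_{T*}j_T^* ⟶ j_{W*}j_W^*` for `W ≤ T` -/
noncomputable def ρ {W T : X.Opens} (h : W ≤ T) : J T ⟶ J W where
  app M :=
    haveI := isIso_J_map_unit h M
    (restrictAdjunction W.ι).unit.app ((J T).obj M) ≫
      inv ((J W).map ((restrictAdjunction T.ι).unit.app M))
  naturality M M' φ := by
    haveI := isIso_J_map_unit h M
    haveI := isIso_J_map_unit h M'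
    have h1 : (J T).map φ ≫ (restrictAdjunction W.ι).unit.app ((J T).obj M') =
        (restrictAdjunction W.ι).unit.app ((J T).obj M) ≫ (J W).map ((J T).map φ) :=
      (restrictAdjunction W.ι).unit.naturality ((J T).map φ)
    have h2 : φ ≫ (restrictAdjunction T.ι).unit.app M' =
        (restrictAdjunction T.ι).unit.app M ≫ (J T).map φ :=
      (restrictAdjunction T.ι).unit.naturality φ
    have h3 : (J W).map ((J T).map φ) ≫ inv ((J W).map ((restrictAdjunction T.ι).unit.app M')) =
        inv ((J W).map ((restrictAdjunction T.ι).unit.app M)) ≫ (J W).map φ := by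
      rw [IsIso.comp_inv_eq, Category.assoc, IsIso.eq_inv_comp, ← Functor.map_comp,
        ← Functor.map_comp]
      congr 1
      exact h2.symm
    rw [← Category.assoc, h1, Category.assoc, h3, Category.assoc]

lemma unit_ρ {W T : X.Opens} (h : W ≤ T) (M : X.Modules) :
    (restrictAdjunction T.ι).unit.app M ≫ (ρ h).app M = (restrictAdjunction W.ι).unit.app M := by
  haveI := isIso_J_map_unit h M
  have h1 : (restrictAdjunction T.ι).unit.app M ≫ (restrictAdjunction W.ι).unit.app ((J T).obj M) =
      (restrictAdjunction W.ι).unit.app M ≫ (J W).map ((restrictAdjunction T.ι).unit.app M) :=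
    (restrictAdjunction W.ι).unit.naturality ((restrictAdjunction T.ι).unit.app M)
  change _ ≫ (_ ≫ inv ((J W).map ((restrictAdjunction T.ι).unit.app M))) = _
  rw [← Category.assoc, h1, Category.assoc, IsIso.hom_inv_id, Category.comp_id]

/-- (F4): the restriction `j_{T*}j_T^* M ⟶ j_{W*}j_W^* M` is an isomorphism over any open `U`
with `U ⊓ T ≤ W`. -/
lemma isIso_restrict_ρ {W T U : X.Opens} (h : W ≤ T) (hU : U ⊓ T ≤ W) (M : X.Modules) :
    IsIso ((restrictFunctor U.ι).map ((ρ h).app M)) := by
  haveI := isIso_J_map_unit h M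
  have h1 : IsIso ((restrictFunctor U.ι).map
      ((restrictAdjunction W.ι).unit.app ((J T).obj M))) := by
    rw [Hom.isIso_iff_isIso_app]
    intro A
    change IsIso (((restrictAdjunction W.ι).unit.app ((J T).obj M)).app (U.ι ''ᵁ A))
    rw [restrictAdjunction_unit_app_app]
    change IsIso (((pushforward T.ι).obj ((restrictFunctor T.ι).obj M)).presheaf.map _)
    rw [pushforward_obj_presheaf_map]
    apply isIso_presheaf_map
    rw [image_preimage_ι]
    intro x hx
    refine ⟨hU ⟨image_ι_le U A hx, ?_⟩, hx⟩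
    exact x.2
  change IsIso ((restrictFunctor U.ι).map (_ ≫ inv _))
  rw [Functor.map_comp]
  infer_instance

section Local

lemma isIso_neg' {C : Type*} [Category C] [Preadditive C] {A B : C} (f : A ⟶ B) [IsIso f] :
    IsIso (-f) :=
  ⟨-(inv f), by simp, by simp⟩

/-- (helper7 `RestrictSupport`) -/
theorem isZero_iff_subsingleton_sections (M : X.Modules) :
    IsZero M ↔ ∀ V : X.Opens, Subsingleton Γ(M, V) := by
  constructor
  · intro h V
    refine ⟨fun a b => ?_⟩
    have h0 : (𝟙 M : M ⟶ M) = 0 := (IsZero.iff_id_eq_zero M).mp h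
    have ha : ((𝟙 M : M ⟶ M).app V).hom a = ((0 : M ⟶ M).app V).hom a := by rw [h0]
    have hb : ((𝟙 M : M ⟶ M).app V).hom b = ((0 : M ⟶ M).app V).hom b := by rw [h0]
    have ea : ((𝟙 M : M ⟶ M).app V).hom a = a := rfl
    have eb : ((𝟙 M : M ⟶ M).app V).hom b = b := rfl
    have za : ((0 : M ⟶ M).app V).hom a = 0 := rfl
    have zb : ((0 : M ⟶ M).app V).hom b = 0 := rfl
    rw [← ea, ← eb, ha, hb, za, zb]
  · intro h
    rw [IsZero.iff_id_eq_zero]
    refine Scheme.Modules.hom_ext _ _ (fun W => ?_)
    ext s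
    exact (h W).elim _ _

/-- (helper7 `RestrictSupport`) -/
theorem isZero_restrict_iff (K : X.Modules) (U : X.Opens) :
    IsZero ((restrictFunctor U.ι).obj K) ↔ ∀ V : X.Opens, V ≤ U → Subsingleton Γ(K, V) := by
  rw [isZero_iff_subsingleton_sections]
  constructor
  · intro h V hV
    have e : U.ι ''ᵁ (U.ι ⁻¹ᵁ V) = V := by
      rw [image_preimage_ι]
      exact inf_eq_right.mpr hV
    have := h (U.ι ⁻¹ᵁ V)
    change Subsingleton Γ(K, U.ι ''ᵁ (U.ι ⁻¹ᵁ V)) at this
    rwa [e] at this
  · intro h W
    change Subsingleton Γ(K, U.ι ''ᵁ W)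
    exact h _ (image_ι_le U W)

/-- an `O_X`-module vanishing on two opens covering `X` is zero -/
lemma isZero_of_isZero_restrict (U V : X.Opens) (hUV : U ⊔ V = ⊤) (Z : X.Modules)
    (hU : IsZero ((restrictFunctor U.ι).obj Z)) (hV : IsZero ((restrictFunctor V.ι).obj Z)) :
    IsZero Z := by
  rw [isZero_iff_subsingleton_sections]
  intro A
  refine ⟨fun a b => ?_⟩
  have h1 := (isZero_restrict_iff Z U).1 hU (A ⊓ U) inf_le_right
  have h2 := (isZero_restrict_iff Z V).1 hV (A ⊓ V) inf_le_right
  exact TopCat.Sheaf.eq_of_locally_eq₂ ⟨Z.presheaf, Z.isSheaf⟩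
    (homOfLE (inf_le_left : A ⊓ U ≤ A)) (homOfLE (inf_le_left : A ⊓ V ≤ A))
    (by rw [← inf_sup_left, hUV, inf_top_eq]) a b (Subsingleton.elim _ _) (Subsingleton.elim _ _)

end Local

section Exact

lemma preservesFiniteColimits_restrict {Y Z : Scheme.{u}} (j : Y ⟶ Z) [IsOpenImmersion j] :
    PreservesFiniteColimits (restrictFunctor j) := by
  haveI : PreservesColimitsOfSize.{0, 0} (restrictFunctor j) :=
    (restrictAdjunction j).leftAdjoint_preservesColimits
  infer_instance

lemma additive_restrict {Y Z : Scheme.{u}} (j : Y ⟶ Z) [IsOpenImmersion j] :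
    (restrictFunctor j).Additive :=
  (restrictAdjunction j).left_adjoint_additive

attribute [local instance] preservesFiniteColimits_restrict additive_restrict

/-- a morphism which is a monomorphism over two opens covering `X` is a monomorphism -/
lemma mono_of_restrict (U V : X.Opens) (hUV : U ⊔ V = ⊤)
    [PreservesFiniteLimits (restrictFunctor U.ι)] [PreservesFiniteLimits (restrictFunctor V.ι)]
    {M N : X.Modules} (φ : M ⟶ N) (hU : Mono ((restrictFunctor U.ι).map φ))
    (hV : Mono ((restrictFunctor V.ι).map φ)) : Mono φ := by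
  rw [Preadditive.mono_iff_isZero_kernel] at hU hV ⊢
  apply isZero_of_isZero_restrict U V hUV
  · exact (PreservesKernel.iso (restrictFunctor U.ι) φ).isZero_iff.2 hU
  · exact (PreservesKernel.iso (restrictFunctor V.ι) φ).isZero_iff.2 hV

lemma epi_of_restrict (U V : X.Opens) (hUV : U ⊔ V = ⊤)
    {M N : X.Modules} (φ : M ⟶ N) (hU : Epi ((restrictFunctor U.ι).map φ))
    (hV : Epi ((restrictFunctor V.ι).map φ)) : Epi φ := by
  rw [Preadditive.epi_iff_isZero_cokernel] at hU hV ⊢
  apply isZero_of_isZero_restrict U V hUV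
  · exact (PreservesCokernel.iso (restrictFunctor U.ι) φ).isZero_iff.2 hU
  · exact (PreservesCokernel.iso (restrictFunctor V.ι) φ).isZero_iff.2 hV

/-- short exactness can be checked on two opens covering `X` -/
lemma shortExact_of_restrict (U V : X.Opens) (hUV : U ⊔ V = ⊤)
    [PreservesFiniteLimits (restrictFunctor U.ι)] [PreservesFiniteLimits (restrictFunctor V.ι)]
    (S : ShortComplex X.Modules) (hU : (S.map (restrictFunctor U.ι)).ShortExact)
    (hV : (S.map (restrictFunctor V.ι)).ShortExact) : S.ShortExact where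
  exact := by
    rw [ShortComplex.exact_iff_isZero_homology]
    apply isZero_of_isZero_restrict U V hUV
    · exact (S.mapHomologyIso (restrictFunctor U.ι)).isZero_iff.1
        ((ShortComplex.exact_iff_isZero_homology _).1 hU.exact)
    · exact (S.mapHomologyIso (restrictFunctor V.ι)).isZero_iff.1
        ((ShortComplex.exact_iff_isZero_homology _).1 hV.exact)
  mono_f := mono_of_restrict U V hUV S.f hU.mono_f hV.mono_f
  epi_g := epi_of_restrict U V hUV S.g hU.epi_g hV.epi_g

end Exact

section MV

attribute [local instance] preservesFiniteColimits_restrict additive_restrict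

variable (U V : X.Opens)

/-- `M ⟶ j_{U*}(M|_U) ⊞ j_{V*}(M|_V)` -/
noncomputable def mvF : 𝟭 X.Modules ⟶ bp (J U) (J V) :=
  bpLift (restrictAdjunction U.ι).unit (restrictAdjunction V.ι).unit

/-- `j_{U*}(M|_U) ⊞ j_{V*}(M|_V) ⟶ j_{W*}(M|_W)`, `W = U ⊓ V` -/
noncomputable def mvG : bp (J U) (J V) ⟶ J (U ⊓ V) :=
  bpDesc (ρ inf_le_left) (-(ρ inf_le_right))

lemma mvF_mvG_app (M : X.Modules) : (mvF U V).app M ≫ (mvG U V).app M = 0 := by
  change (bpLift _ _).app M ≫ (bpDesc _ _).app M = 0
  rw [bpLift_desc_app]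
  change _ ≫ (ρ inf_le_left).app M + _ ≫ (-((ρ inf_le_right).app M)) = 0
  rw [Preadditive.comp_neg, unit_ρ, unit_ρ, add_neg_cancel]

/-- the Mayer–Vietoris short complex of `O_X`-modules -/
@[simps]
noncomputable def mvS (M : X.Modules) : ShortComplex X.Modules :=
  ShortComplex.mk _ _ (mvF_mvG_app U V M)

/-- over `U` the Mayer–Vietoris short complex is split -/
noncomputable def mvSplittingU (M : X.Modules) :
    ((mvS U V M).map (restrictFunctor U.ι)).Splitting := by
  haveI h1 : IsIso (((mvS U V M).map (restrictFunctor U.ι)).f ≫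
      (restrictFunctor U.ι).map ((bpFst (J U) (J V)).app M)) := by
    have e1 : (restrictFunctor U.ι).map ((mvF U V).app M) ≫
        (restrictFunctor U.ι).map ((bpFst (J U) (J V)).app M) =
        (restrictFunctor U.ι).map ((restrictAdjunction U.ι).unit.app M) := by
      rw [← Functor.map_comp]
      congr 1
      exact bpLift_fst_app _ _ M
    change IsIso ((restrictFunctor U.ι).map ((mvF U V).app M) ≫ (restrictFunctor U.ι).map _)
    rw [e1]
    exact isIso_restrict_unit le_rfl M
  haveI h2 : IsIso ((restrictFunctor U.ι).map ((bpInr (J U) (J V)).app M) ≫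
      ((mvS U V M).map (restrictFunctor U.ι)).g) := by
    have e2 : (restrictFunctor U.ι).map ((bpInr (J U) (J V)).app M) ≫
        (restrictFunctor U.ι).map ((mvG U V).app M) =
        -(restrictFunctor U.ι).map ((ρ (inf_le_right : U ⊓ V ≤ V)).app M) := by
      rw [← Functor.map_comp, ← Functor.map_neg]
      congr 1
      exact bpInr_desc_app _ _ M
    change IsIso ((restrictFunctor U.ι).map _ ≫ (restrictFunctor U.ι).map ((mvG U V).app M))
    rw [e2]
    haveI := isIso_restrict_ρ (inf_le_right : U ⊓ V ≤ V) (le_refl (U ⊓ V)) M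
    exact isIso_neg' _
  have k2 : (restrictFunctor U.ι).map ((bpInr (J U) (J V)).app M) ≫
      (restrictFunctor U.ι).map ((bpSnd (J U) (J V)).app M) = 𝟙 _ := by
    rw [← Functor.map_comp, bpInr_snd_app, CategoryTheory.Functor.map_id]
  have k4 : (restrictFunctor U.ι).map ((bpInr (J U) (J V)).app M) ≫
      (restrictFunctor U.ι).map ((bpFst (J U) (J V)).app M) = 0 := by
    rw [← Functor.map_comp, bpInr_fst_app, Functor.map_zero]
  have ktot : (restrictFunctor U.ι).map ((bpFst (J U) (J V)).app M) ≫
      (restrictFunctor U.ι).map ((bpInl (J U) (J V)).app M) +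
      (restrictFunctor U.ι).map ((bpSnd (J U) (J V)).app M) ≫
      (restrictFunctor U.ι).map ((bpInr (J U) (J V)).app M) = 𝟙 _ := by
    rw [← Functor.map_comp, ← Functor.map_comp, ← Functor.map_add, bp_total_app,
      CategoryTheory.Functor.map_id]
  exact splittingOfBicone _ _ _ _ _ k2 k4 ktot h1 h2

/-- over `V` the Mayer–Vietoris short complex is split -/
noncomputable def mvSplittingV (M : X.Modules) :
    ((mvS U V M).map (restrictFunctor V.ι)).Splitting := by
  haveI h1 : IsIso (((mvS U V M).map (restrictFunctor V.ι)).f ≫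
      (restrictFunctor V.ι).map ((bpSnd (J U) (J V)).app M)) := by
    have e1 : (restrictFunctor V.ι).map ((mvF U V).app M) ≫
        (restrictFunctor V.ι).map ((bpSnd (J U) (J V)).app M) =
        (restrictFunctor V.ι).map ((restrictAdjunction V.ι).unit.app M) := by
      rw [← Functor.map_comp]
      congr 1
      exact bpLift_snd_app _ _ M
    change IsIso ((restrictFunctor V.ι).map ((mvF U V).app M) ≫ (restrictFunctor V.ι).map _)
    rw [e1]
    exact isIso_restrict_unit le_rfl M
  haveI h2 : IsIso ((restrictFunctor V.ι).map ((bpInl (J U) (J V)).app M) ≫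
      ((mvS U V M).map (restrictFunctor V.ι)).g) := by
    have e2 : (restrictFunctor V.ι).map ((bpInl (J U) (J V)).app M) ≫
        (restrictFunctor V.ι).map ((mvG U V).app M) =
        (restrictFunctor V.ι).map ((ρ (inf_le_left : U ⊓ V ≤ U)).app M) := by
      rw [← Functor.map_comp]
      congr 1
      exact bpInl_desc_app _ _ M
    change IsIso ((restrictFunctor V.ι).map _ ≫ (restrictFunctor V.ι).map ((mvG U V).app M))
    rw [e2]
    exact isIso_restrict_ρ (inf_le_left : U ⊓ V ≤ U) (le_of_eq (inf_comm _ _)) M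
  have k2 : (restrictFunctor V.ι).map ((bpInl (J U) (J V)).app M) ≫
      (restrictFunctor V.ι).map ((bpFst (J U) (J V)).app M) = 𝟙 _ := by
    rw [← Functor.map_comp, bpInl_fst_app, CategoryTheory.Functor.map_id]
  have k4 : (restrictFunctor V.ι).map ((bpInl (J U) (J V)).app M) ≫
      (restrictFunctor V.ι).map ((bpSnd (J U) (J V)).app M) = 0 := by
    rw [← Functor.map_comp, bpInl_snd_app, Functor.map_zero]
  have ktot : (restrictFunctor V.ι).map ((bpSnd (J U) (J V)).app M) ≫
      (restrictFunctor V.ι).map ((bpInr (J U) (J V)).app M) +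
      (restrictFunctor V.ι).map ((bpFst (J U) (J V)).app M) ≫
      (restrictFunctor V.ι).map ((bpInl (J U) (J V)).app M) = 𝟙 _ := by
    rw [← Functor.map_comp, ← Functor.map_comp, ← Functor.map_add, add_comm, bp_total_app,
      CategoryTheory.Functor.map_id]
  exact splittingOfBicone _ _ _ _ _ k2 k4 ktot h1 h2

variable {U V} in
/-- the Mayer–Vietoris short complex of `O_X`-modules is short exact -/
lemma mvS_shortExact (hUV : U ⊔ V = ⊤)
    [PreservesFiniteLimits (restrictFunctor U.ι)] [PreservesFiniteLimits (restrictFunctor V.ι)]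
    (M : X.Modules) : (mvS U V M).ShortExact :=
  shortExact_of_restrict U V hUV _ (mvSplittingU U V M).shortExact (mvSplittingV U V M).shortExact

end MV

end Mod

end Groth.Agent.Lib.Helper25.MVMod
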