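import Mathlib
import Groth.Prelude.Def_DCoh3
import Groth.Agent.Lib.Helper25.DerBC
import Groth.Agent.Lib.Helper25.KInjMain
import Groth.Agent.Lib.Helper21.ModGroth
import Groth.Agent.Lib.Helper21.SchShriek
import Groth.Agent.Lib.Helper21.ModOpenBC
import Groth.Agent.Lib.Helper21.ModOpenBC2
import Groth.Agent.Lib.Helper21.KInjAdj

/-!
# K-injective complexes of `O`-modules on schemes (helper25)

* `hKinj X`: every complex of `O_X`-modules has a K-injective resolution.
* `isKInjective_restrict`: restriction to an open subscheme preserves K-injective complexes.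
* `nonempty_Rpush_restrict_iso`: `(Rf_* E)|_V ≅ R(f|_V)_* (E|_{f⁻¹V})` as functors on unbounded derived categories.
-/

set_option autoImplicit false
universe u
open CategoryTheory CategoryTheory.Limits AlgebraicGeometry
attribute [local instance] HasDerivedCategory.standard

namespace Groth.Agent.Lib.Helper25.SchKInj

open AlgebraicGeometry.Scheme.Modules

theorem hKinj (X : Scheme.{u}) (K : CochainComplex X.Modules ℤ) :
    ∃ (I : CochainComplex X.Modules ℤ) (f : K ⟶ I), I.IsKInjective ∧ QuasiIso f := by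
  haveI : IsGrothendieckAbelian.{u} X.Modules :=
    Groth.Agent.Lib.Helper21.ModGroth.isGrothendieckAbelian_mod _
  obtain ⟨I, f, hI, hf, -, -⟩ := Groth.Agent.Lib.Helper25.KInjMain.exists_kInjective_resolution K
  exact ⟨I, f, hI, hf⟩

theorem isKInjective_restrict {Y : Scheme.{u}} (W : Y.Opens) (I : CochainComplex Y.Modules ℤ)
    (hI : I.IsKInjective) :
    CochainComplex.IsKInjective
      (((restrictFunctor W.ι).mapHomologicalComplex (ComplexShape.up ℤ)).obj I) := by
  haveI : (Groth.Agent.Lib.helper21.SchShriek.shriek W).Additive :=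
    (Groth.Agent.Lib.helper21.SchShriek.adj W).left_adjoint_additive
  haveI : PreservesColimitsOfSize.{0, 0} (Groth.Agent.Lib.helper21.SchShriek.shriek W) :=
    (Groth.Agent.Lib.helper21.SchShriek.adj W).leftAdjoint_preservesColimits
  haveI : PreservesFiniteColimits (Groth.Agent.Lib.helper21.SchShriek.shriek W) := inferInstance
  exact Groth.Agent.Lib.Helper21.KInjAdj.isKInjective_obj
    (Groth.Agent.Lib.helper21.SchShriek.adj W) I

theorem nonempty_Rpush_restrict_iso {X Y : Scheme.{u}} (f : X ⟶ Y) (V : Y.Opens)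
    [DCoh.HasRpush f] [DCoh.HasRpush (f ∣_ V)]
    [PreservesFiniteLimits (Scheme.Modules.restrictFunctor V.ι)]
    [PreservesFiniteLimits (Scheme.Modules.restrictFunctor (f ⁻¹ᵁ V).ι)] :
    Nonempty (DCoh.Rpush f ⋙ DCoh.restrictD V.ι ≅
      DCoh.restrictD (f ⁻¹ᵁ V).ι ⋙ DCoh.Rpush (f ∣_ V)) :=
  Groth.Agent.Lib.Helper25.DerBC.nonempty_derived_baseChange_iso (hKinj X) (hKinj _)
    (pushforward f) (pushforward (f ∣_ V)) (restrictFunctor (f ⁻¹ᵁ V).ι) (restrictFunctor V.ι)
    (Groth.Agent.Lib.helper21.ModOpenBC.bcIso f V) (isKInjective_restrict _)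
    (DCoh.Rpush f)
    ((DCoh.pushKh f).totalRightDerivedUnit DerivedCategory.Qh
      (HomotopyCategory.quasiIso X.Modules (ComplexShape.up ℤ)))
    (DCoh.Rpush (f ∣_ V))
    ((DCoh.pushKh (f ∣_ V)).totalRightDerivedUnit DerivedCategory.Qh
      (HomotopyCategory.quasiIso _ (ComplexShape.up ℤ)))


end Groth.Agent.Lib.Helper25.SchKInj
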