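import Mathlib
import Groth.Prelude.Def_DCoh3
import Groth.Agent.Lib.Helper25.MVMod
import Groth.Agent.Lib.Helper25.SchKInj
import Groth.Agent.Lib.Helper25.RDerRlim

/-!
# Mayer–Vietoris distinguished triangles in derived categories of `O_X`-modules (helper25)

* `exists_mv_triangle`: for opens `U ⊔ V = ⊤` of a scheme `X`, an additive functor `G : Mod(O_X) ⥤ B`, functors
  `G_T ≅ j_{T*} ⋙ G` with right derived functors `RG_T` (units invertible at K-injectives), and `E ∈ D(O_X)`,
  there is a distinguished triangle `A₁ → RG_U(E|_U) ⊞ RG_V(E|_V) → RG_{U⊓V}(E|_{U⊓V}) → A₁[1]`, where `A₁` is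
  any object identified with `Q (G I)` for K-injective `I` representing `E` (e.g. `RG E`).
* `mvCx`, `mvCx_shortExact`: the termwise split short exact sequence of complexes behind it.
* `isIso_totalRightDerivedUnit`, `nonempty_iso_totalRightDerived`: units of total right derived functors on
  `D(O_X)` at K-injective complexes.
* `exists_distinguished_of_isos`, `nonempty_iso_biprod`, `exists_kInjective_injective`.
-/

set_option autoImplicit false
universe w₂ v₂ u₂ u
open CategoryTheory CategoryTheory.Limits AlgebraicGeometry Pretriangulated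
attribute [local instance] HasDerivedCategory.standard

namespace Groth.Agent.Lib.Helper25.MVDer

open AlgebraicGeometry.Scheme.Modules Groth.Agent.Lib.Helper25.MVMod DerivedCategory

section Tri

variable {C : Type*} [Category C] [HasZeroObject C] [HasShift C ℤ] [Preadditive C]
  [∀ n : ℤ, (shiftFunctor C n).Additive] [Pretriangulated C]

/-- transport a distinguished triangle along isomorphisms of its three vertices -/
lemma exists_distinguished_of_isos (T : Triangle C) (hT : T ∈ distTriang C) {A₁ A₂ A₃ : C}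
    (e₁ : T.obj₁ ≅ A₁) (e₂ : T.obj₂ ≅ A₂) (e₃ : T.obj₃ ≅ A₃) :
    ∃ (a : A₁ ⟶ A₂) (b : A₂ ⟶ A₃) (c : A₃ ⟶ A₁⟦(1 : ℤ)⟧), Triangle.mk a b c ∈ distTriang C :=
  ⟨e₁.inv ≫ T.mor₁ ≫ e₂.hom, e₂.inv ≫ T.mor₂ ≫ e₃.hom, e₃.inv ≫ T.mor₃ ≫ e₁.hom⟦(1 : ℤ)⟧',
    isomorphic_distinguished _ hT _
      (Triangle.isoMk _ _ e₁.symm e₂.symm e₃.symm
        (by
          change (e₁.inv ≫ T.mor₁ ≫ e₂.hom) ≫ e₂.inv = e₁.inv ≫ T.mor₁
          rw [Category.assoc, Category.assoc, Iso.hom_inv_id, Category.comp_id])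
        (by
          change (e₂.inv ≫ T.mor₂ ≫ e₃.hom) ≫ e₃.inv = e₂.inv ≫ T.mor₂
          rw [Category.assoc, Category.assoc, Iso.hom_inv_id, Category.comp_id])
        (by
          change (e₃.inv ≫ T.mor₃ ≫ e₁.hom⟦(1 : ℤ)⟧') ≫ e₁.inv⟦(1 : ℤ)⟧' = e₃.inv ≫ T.mor₃
          rw [Category.assoc, Category.assoc, ← Functor.map_comp, Iso.hom_inv_id,
            CategoryTheory.Functor.map_id, Category.comp_id]))⟩

end Tri

section Biprod

variable {C : Type*} [Category C] [Preadditive C] [HasBinaryBiproducts C]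

lemma nonempty_iso_biprod {Z A B : C} (fst : Z ⟶ A) (snd : Z ⟶ B) (inl : A ⟶ Z) (inr : B ⟶ Z)
    (h1 : inl ≫ fst = 𝟙 _) (h2 : inr ≫ snd = 𝟙 _) (h3 : inl ≫ snd = 0) (h4 : inr ≫ fst = 0)
    (htot : fst ≫ inl + snd ≫ inr = 𝟙 _) : Nonempty (Z ≅ A ⊞ B) :=
  ⟨{ hom := biprod.lift fst snd
     inv := biprod.desc inl inr
     hom_inv_id := by rw [biprod.lift_desc, htot]
     inv_hom_id := by
       apply biprod.hom_ext <;> apply biprod.hom_ext' <;> simp [h1, h2, h3, h4] }⟩

end Biprod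

section General

attribute [local instance] preservesFiniteColimits_restrict additive_restrict

variable {X : Scheme.{u}} (U V : X.Opens)
  {B : Type u₂} [Category.{v₂} B] [Abelian B] [HasDerivedCategory.{w₂} B]
  (G : X.Modules ⥤ B) [G.Additive]

/-- the map of complexes induced by a natural transformation, after applying `G` termwise -/
noncomputable abbrev cxMap {P P' : X.Modules ⥤ X.Modules} [P.Additive] [P'.Additive] (τ : P ⟶ P')
    (I : CochainComplex X.Modules ℤ) :
    ((P ⋙ G).mapHomologicalComplex (ComplexShape.up ℤ)).obj I ⟶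
      ((P' ⋙ G).mapHomologicalComplex (ComplexShape.up ℤ)).obj I :=
  (NatTrans.mapHomologicalComplex (Functor.whiskerRight τ G) (ComplexShape.up ℤ)).app I

/-- the Mayer–Vietoris short complex of complexes, after applying `G` termwise -/
noncomputable def mvCx (I : CochainComplex X.Modules ℤ) : ShortComplex (CochainComplex B ℤ) :=
  ShortComplex.mk (cxMap G (mvF U V) I) (cxMap G (mvG U V) I) (by
    ext n
    change G.map ((mvF U V).app (I.X n)) ≫ G.map ((mvG U V).app (I.X n)) = 0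
    rw [← G.map_comp, mvF_mvG_app, G.map_zero])

omit [HasDerivedCategory B] in
variable {U V} in
lemma mvCx_shortExact (hUV : U ⊔ V = ⊤)
    [PreservesFiniteLimits (restrictFunctor U.ι)] [PreservesFiniteLimits (restrictFunctor V.ι)]
    (I : CochainComplex X.Modules ℤ) (hI : ∀ n, Injective (I.X n)) :
    (mvCx U V G I).ShortExact := by
  apply HomologicalComplex.shortExact_of_degreewise_shortExact
  intro n
  haveI : Injective (mvS U V (I.X n)).X₁ := hI n
  exact (((mvS_shortExact hUV (I.X n)).splittingOfInjective).map G).shortExact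

omit [HasDerivedCategory B] in
lemma cxMap_comp_eq {P P' P'' : X.Modules ⥤ X.Modules} [P.Additive] [P'.Additive] [P''.Additive]
    (τ : P ⟶ P') (τ' : P' ⟶ P'') (σ : P ⟶ P'') (I : CochainComplex X.Modules ℤ)
    (h : ∀ M, τ.app M ≫ τ'.app M = σ.app M) :
    cxMap G τ I ≫ cxMap G τ' I = cxMap G σ I := by
  ext n
  change G.map (τ.app (I.X n)) ≫ G.map (τ'.app (I.X n)) = G.map (σ.app (I.X n))
  rw [← G.map_comp, h]

/-- `Q (G (J_U I ⊞ J_V I)) ≅ Q (G J_U I) ⊞ Q (G J_V I)` -/
lemma nonempty_iso_biprod_Q (I : CochainComplex X.Modules ℤ) :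
    Nonempty ((Q.obj (((bp (J U) (J V) ⋙ G).mapHomologicalComplex (ComplexShape.up ℤ)).obj I) :
        DerivedCategory B) ≅
      Q.obj (((J U ⋙ G).mapHomologicalComplex (ComplexShape.up ℤ)).obj I) ⊞
        Q.obj (((J V ⋙ G).mapHomologicalComplex (ComplexShape.up ℤ)).obj I)) := by
  refine nonempty_iso_biprod (Q.map (cxMap G (bpFst (J U) (J V)) I))
    (Q.map (cxMap G (bpSnd (J U) (J V)) I)) (Q.map (cxMap G (bpInl (J U) (J V)) I))
    (Q.map (cxMap G (bpInr (J U) (J V)) I)) ?_ ?_ ?_ ?_ ?_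
  · rw [← Q.map_comp, ← Q.map_id]
    congr 1
    ext n
    change G.map ((bpInl (J U) (J V)).app (I.X n)) ≫ G.map ((bpFst (J U) (J V)).app (I.X n)) = 𝟙 _
    rw [← G.map_comp, bpInl_fst_app, G.map_id]
  · rw [← Q.map_comp, ← Q.map_id]
    congr 1
    ext n
    change G.map ((bpInr (J U) (J V)).app (I.X n)) ≫ G.map ((bpSnd (J U) (J V)).app (I.X n)) = 𝟙 _
    rw [← G.map_comp, bpInr_snd_app, G.map_id]
  · rw [← Q.map_comp, ← Q.map_zero]
    congr 1
    ext n
    change G.map ((bpInl (J U) (J V)).app (I.X n)) ≫ G.map ((bpSnd (J U) (J V)).app (I.X n)) = 0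
    rw [← G.map_comp, bpInl_snd_app, G.map_zero]
  · rw [← Q.map_comp, ← Q.map_zero]
    congr 1
    ext n
    change G.map ((bpInr (J U) (J V)).app (I.X n)) ≫ G.map ((bpFst (J U) (J V)).app (I.X n)) = 0
    rw [← G.map_comp, bpInr_fst_app, G.map_zero]
  · rw [← Q.map_comp, ← Q.map_comp, ← Q.map_add, ← Q.map_id]
    congr 1
    ext n
    change G.map ((bpFst (J U) (J V)).app (I.X n)) ≫ G.map ((bpInl (J U) (J V)).app (I.X n)) +
      G.map ((bpSnd (J U) (J V)).app (I.X n)) ≫ G.map ((bpInr (J U) (J V)).app (I.X n)) = 𝟙 _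
    rw [← G.map_comp, ← G.map_comp, ← G.map_add, bp_total_app, G.map_id]

/-- `Q (G j_{T*} (I|_T)) ≅ RG_T ((Q I)|_T)` for `I` K-injective -/
lemma nonempty_iso_J (T : X.Opens) [PreservesFiniteLimits (restrictFunctor T.ι)]
    (GT : (T : Scheme.{u}).Modules ⥤ B) [GT.Additive] (θ : pushforward T.ι ⋙ G ≅ GT)
    (RGT : DCoh.D (T : Scheme.{u}) ⥤ DerivedCategory B)
    (αT : GT.mapHomotopyCategory (ComplexShape.up ℤ) ⋙ DerivedCategory.Qh ⟶
      DerivedCategory.Qh ⋙ RGT)
    (hαT : ∀ I : CochainComplex (T : Scheme.{u}).Modules ℤ, I.IsKInjective →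
      IsIso (αT.app ((HomotopyCategory.quotient _ (ComplexShape.up ℤ)).obj I)))
    (I : CochainComplex X.Modules ℤ) (hI : I.IsKInjective) :
    Nonempty ((Q.obj (((J T ⋙ G).mapHomologicalComplex (ComplexShape.up ℤ)).obj I) :
        DerivedCategory B) ≅ RGT.obj ((DCoh.restrictD T.ι).obj (Q.obj I))) := by
  haveI := SchKInj.isKInjective_restrict T I hI
  have h := RDerRlim.isIso_uQ_app GT RGT αT hαT
    (((restrictFunctor T.ι).mapHomologicalComplex (ComplexShape.up ℤ)).obj I)
  exact ⟨Q.mapIso ((NatIso.mapHomologicalComplex (Functor.associator _ _ _ ≪≫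
      Functor.isoWhiskerLeft (restrictFunctor T.ι) θ) (ComplexShape.up ℤ)).app I) ≪≫
    @asIso _ _ _ _ ((RDerRlim.uQ GT RGT αT).app
      (((restrictFunctor T.ι).mapHomologicalComplex (ComplexShape.up ℤ)).obj I)) h ≪≫
    RGT.mapIso (((restrictFunctor T.ι).mapDerivedCategoryFactors).symm.app I)⟩

/-- every object of `D(O_X)` is represented by a K-injective complex with injective terms -/
lemma exists_kInjective_injective (E : DCoh.D X) :
    ∃ (I : CochainComplex X.Modules ℤ), I.IsKInjective ∧ (∀ n, Injective (I.X n)) ∧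
      Nonempty (E ≅ Q.obj I) := by
  haveI : IsGrothendieckAbelian.{u} X.Modules :=
    Groth.Agent.Lib.Helper21.ModGroth.isGrothendieckAbelian_mod _
  obtain ⟨I, f, hI, hf, -, hinj⟩ :=
    Groth.Agent.Lib.Helper25.KInjMain.exists_kInjective_resolution (Q.objPreimage E)
  exact ⟨I, hI, hinj, ⟨(Q.objObjPreimageIso E).symm ≪≫ asIso (Q.map f)⟩⟩

variable {U V} in
/-- **Mayer–Vietoris**, general form: `G` an additive functor on `O_X`-modules, `G_T ≅ G ∘ j_{T*}` with
right derived functors `RG_T` (`T = U, V, U ⊓ V`); the first vertex `A₁` is any object identified with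
`Q (G I)` for K-injective resolutions `I` of `E`. -/
theorem exists_mv_triangle (hUV : U ⊔ V = ⊤)
    [PreservesFiniteLimits (restrictFunctor U.ι)] [PreservesFiniteLimits (restrictFunctor V.ι)]
    [PreservesFiniteLimits (restrictFunctor (U ⊓ V).ι)]
    (GU : (U : Scheme.{u}).Modules ⥤ B) [GU.Additive] (θU : pushforward U.ι ⋙ G ≅ GU)
    (RGU : DCoh.D (U : Scheme.{u}) ⥤ DerivedCategory B)
    (αU : GU.mapHomotopyCategory (ComplexShape.up ℤ) ⋙ DerivedCategory.Qh ⟶
      DerivedCategory.Qh ⋙ RGU)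
    (hαU : ∀ I : CochainComplex (U : Scheme.{u}).Modules ℤ, I.IsKInjective →
      IsIso (αU.app ((HomotopyCategory.quotient _ (ComplexShape.up ℤ)).obj I)))
    (GV : (V : Scheme.{u}).Modules ⥤ B) [GV.Additive] (θV : pushforward V.ι ⋙ G ≅ GV)
    (RGV : DCoh.D (V : Scheme.{u}) ⥤ DerivedCategory B)
    (αV : GV.mapHomotopyCategory (ComplexShape.up ℤ) ⋙ DerivedCategory.Qh ⟶
      DerivedCategory.Qh ⋙ RGV)
    (hαV : ∀ I : CochainComplex (V : Scheme.{u}).Modules ℤ, I.IsKInjective →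
      IsIso (αV.app ((HomotopyCategory.quotient _ (ComplexShape.up ℤ)).obj I)))
    (GW : ((U ⊓ V : X.Opens) : Scheme.{u}).Modules ⥤ B) [GW.Additive]
    (θW : pushforward (U ⊓ V).ι ⋙ G ≅ GW)
    (RGW : DCoh.D ((U ⊓ V : X.Opens) : Scheme.{u}) ⥤ DerivedCategory B)
    (αW : GW.mapHomotopyCategory (ComplexShape.up ℤ) ⋙ DerivedCategory.Qh ⟶
      DerivedCategory.Qh ⋙ RGW)
    (hαW : ∀ I : CochainComplex ((U ⊓ V : X.Opens) : Scheme.{u}).Modules ℤ, I.IsKInjective →
      IsIso (αW.app ((HomotopyCategory.quotient _ (ComplexShape.up ℤ)).obj I)))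
    (E : DCoh.D X) (A₁ : DerivedCategory B)
    (h₁ : ∀ I : CochainComplex X.Modules ℤ, I.IsKInjective → (E ≅ Q.obj I) →
      Nonempty ((Q.obj ((G.mapHomologicalComplex (ComplexShape.up ℤ)).obj I) :
        DerivedCategory B) ≅ A₁)) :
    ∃ (a : A₁ ⟶ RGU.obj ((DCoh.restrictD U.ι).obj E) ⊞ RGV.obj ((DCoh.restrictD V.ι).obj E))
      (b : RGU.obj ((DCoh.restrictD U.ι).obj E) ⊞ RGV.obj ((DCoh.restrictD V.ι).obj E) ⟶
        RGW.obj ((DCoh.restrictD (U ⊓ V).ι).obj E))
      (c : RGW.obj ((DCoh.restrictD (U ⊓ V).ι).obj E) ⟶ A₁⟦(1 : ℤ)⟧),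
      Triangle.mk a b c ∈ distTriang (DerivedCategory B) := by
  obtain ⟨I, hI, hinj, ⟨e⟩⟩ := exists_kInjective_injective E
  obtain ⟨e₁⟩ := h₁ I hI e
  obtain ⟨eU⟩ := nonempty_iso_J G U GU θU RGU αU hαU I hI
  obtain ⟨eV⟩ := nonempty_iso_J G V GV θV RGV αV hαV I hI
  obtain ⟨eW⟩ := nonempty_iso_J G (U ⊓ V) GW θW RGW αW hαW I hI
  obtain ⟨eB⟩ := nonempty_iso_biprod_Q U V G I
  have hT := DerivedCategory.triangleOfSES_distinguished (mvCx_shortExact G hUV I hinj)
  refine exists_distinguished_of_isos _ hT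
    (Q.mapIso ((NatIso.mapHomologicalComplex (Functor.leftUnitor G) (ComplexShape.up ℤ)).app I) ≪≫
      e₁)
    (eB ≪≫ biprod.mapIso (eU ≪≫ RGU.mapIso ((DCoh.restrictD U.ι).mapIso e.symm))
      (eV ≪≫ RGV.mapIso ((DCoh.restrictD V.ι).mapIso e.symm)))
    (eW ≪≫ RGW.mapIso ((DCoh.restrictD (U ⊓ V).ι).mapIso e.symm))

end General

section Units

variable {X : Scheme.{u}} {B : Type u₂} [Category.{v₂} B] [Abelian B] [HasDerivedCategory.{w₂} B]
  (F : X.Modules ⥤ B) [F.Additive]
  [(F.mapHomotopyCategory (ComplexShape.up ℤ) ⋙ DerivedCategory.Qh).HasRightDerivedFunctor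
    (HomotopyCategory.quasiIso X.Modules (ComplexShape.up ℤ))]

/-- the unit of the total right derived functor of an additive functor on `O_X`-modules is invertible
at K-injective complexes -/
lemma isIso_totalRightDerivedUnit (I : CochainComplex X.Modules ℤ) (hI : I.IsKInjective) :
    IsIso (((F.mapHomotopyCategory (ComplexShape.up ℤ) ⋙
      DerivedCategory.Qh).totalRightDerivedUnit DerivedCategory.Qh
        (HomotopyCategory.quasiIso X.Modules (ComplexShape.up ℤ))).app
          ((HomotopyCategory.quotient _ (ComplexShape.up ℤ)).obj I)) := by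
  haveI : ((F.mapHomotopyCategory (ComplexShape.up ℤ) ⋙ DerivedCategory.Qh).totalRightDerived
      DerivedCategory.Qh (HomotopyCategory.quasiIso X.Modules (ComplexShape.up ℤ))).IsLeftKanExtension
      ((F.mapHomotopyCategory (ComplexShape.up ℤ) ⋙ DerivedCategory.Qh).totalRightDerivedUnit
        DerivedCategory.Qh (HomotopyCategory.quasiIso X.Modules (ComplexShape.up ℤ))) :=
    Functor.IsRightDerivedFunctor.isLeftKanExtension _ _
      (HomotopyCategory.quasiIso X.Modules (ComplexShape.up ℤ))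
  exact Groth.Agent.Lib.Helper25.DerBC.isIso_unit_app_of_isKInjective (SchKInj.hKinj X) _ _ _ I

/-- `Q (F I) ≅ RF (E)` for a K-injective `I` representing `E` -/
lemma nonempty_iso_totalRightDerived (E : DCoh.D X) (I : CochainComplex X.Modules ℤ)
    (hI : I.IsKInjective) (e : E ≅ Q.obj I) :
    Nonempty ((Q.obj ((F.mapHomologicalComplex (ComplexShape.up ℤ)).obj I) : DerivedCategory B) ≅
      ((F.mapHomotopyCategory (ComplexShape.up ℤ) ⋙ DerivedCategory.Qh).totalRightDerived
        DerivedCategory.Qh (HomotopyCategory.quasiIso X.Modules (ComplexShape.up ℤ))).obj E) := by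
  have h := RDerRlim.isIso_uQ_app F _ _ (isIso_totalRightDerivedUnit F) I
  exact ⟨@asIso _ _ _ _ _ h ≪≫
    ((F.mapHomotopyCategory (ComplexShape.up ℤ) ⋙ DerivedCategory.Qh).totalRightDerived
      DerivedCategory.Qh (HomotopyCategory.quasiIso X.Modules (ComplexShape.up ℤ))).mapIso e.symm⟩

end Units

end Groth.Agent.Lib.Helper25.MVDer
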