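import Mathlib

/-!
# Conjugate (left adjoint) form of a Mayer–Vietoris short exact sequence (helper25)

* `homEquiv_conj`: conjugate natural transformations and hom-set bijections of adjunctions.
* `shortExact_of_injective_test`: in an abelian category with enough injectives, short exactness of a short
  complex can be tested after applying `Hom(-, N)` for injective objects `N`.
* `sL_shortExact`: given adjunctions `Lᵢ ⊣ Jᵢ` (`i = 1, 2, 3`) of endofunctors of `A`, natural transformations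
  `ηᵢ : 𝟭 ⟶ Jᵢ`, `ρᵢ : Jᵢ ⟶ J₃` (`i = 1, 2`) with `N ⟶ J₁ N ⊞ J₂ N ⟶ J₃ N` short exact for all `N`, the conjugate
  short complex `L₃ M ⟶ L₁ M ⊞ L₂ M ⟶ M` (`sL`, built from `sigOf`, `epsOf`) is short exact for all `M`.
-/

set_option autoImplicit false
open CategoryTheory CategoryTheory.Limits

namespace Groth.Agent.Lib.Helper25.MVDual

section Conj

variable {C D : Type*} [Category C] [Category D] {L₁ L₂ : C ⥤ D} {R₁ R₂ : D ⥤ C}
  (adj₁ : L₁ ⊣ R₁) (adj₂ : L₂ ⊣ R₂)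

/-- conjugate natural transformations and the hom-set bijections -/
lemma homEquiv_conj (α : R₁ ⟶ R₂) {c : C} {d : D} (g : L₁.obj c ⟶ d) :
    adj₂.homEquiv c d (((conjugateEquiv adj₁ adj₂).symm α).app c ≫ g) =
      adj₁.homEquiv c d g ≫ α.app d := by
  rw [Adjunction.homEquiv_unit, Adjunction.homEquiv_unit, Functor.map_comp, ← Category.assoc,
    ← unit_conjugateEquiv_symm, Category.assoc, Category.assoc, α.naturality]

end Conj

section Test

variable {A : Type*} [Category A] [Abelian A] [EnoughInjectives A]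

/-- short exactness can be tested with maps to injective objects -/
lemma shortExact_of_injective_test (S : ShortComplex A)
    (h1 : ∀ (N : A) [Injective N] (φ : S.X₁ ⟶ N), ∃ ψ : S.X₂ ⟶ N, S.f ≫ ψ = φ)
    (h2 : ∀ (N : A) [Injective N] (ψ : S.X₂ ⟶ N), S.f ≫ ψ = 0 → ∃ χ : S.X₃ ⟶ N, S.g ≫ χ = ψ)
    (h3 : ∀ (N : A) [Injective N] (χ : S.X₃ ⟶ N), S.g ≫ χ = 0 → χ = 0) : S.ShortExact where
  exact := by
    rw [S.exact_iff_mono_cokernel_desc]
    obtain ⟨χ, hχ⟩ := h2 (Injective.under (cokernel S.f)) (cokernel.π S.f ≫ Injective.ι _)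
      (by rw [← Category.assoc, cokernel.condition, zero_comp])
    have : cokernel.desc S.f S.g S.zero ≫ χ = Injective.ι (cokernel S.f) := by
      rw [← cancel_epi (cokernel.π S.f), ← Category.assoc, cokernel.π_desc, hχ]
    exact mono_of_mono_fac this
  mono_f := by
    obtain ⟨ψ, hψ⟩ := h1 (Injective.under S.X₁) (Injective.ι _)
    exact mono_of_mono_fac hψ
  epi_g := by
    apply Preadditive.epi_of_cokernel_zero
    have := h3 (Injective.under (cokernel S.g)) (cokernel.π S.g ≫ Injective.ι _)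
      (by rw [← Category.assoc, cokernel.condition, zero_comp])
    rw [← cancel_mono (Injective.ι (cokernel S.g)), this, zero_comp]

end Test

section Main

variable {A : Type*} [Category A] [Abelian A] [EnoughInjectives A]

/-- the conjugate `L ⟶ 𝟭` of `η : 𝟭 ⟶ J` -/
noncomputable def epsOf {L J : A ⥤ A} (adj : L ⊣ J) (η : 𝟭 A ⟶ J) : L ⟶ 𝟭 A :=
  (conjugateEquiv Adjunction.id adj).symm η

/-- the conjugate `L₃ ⟶ L` of `ρ : J ⟶ J₃` -/
noncomputable def sigOf {L J L₃ J₃ : A ⥤ A} (adj : L ⊣ J) (adj₃ : L₃ ⊣ J₃) (ρ : J ⟶ J₃) : L₃ ⟶ L :=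
  (conjugateEquiv adj adj₃).symm ρ

lemma homEquiv_eps {L J : A ⥤ A} (adj : L ⊣ J) (η : 𝟭 A ⟶ J) {M N : A} (χ : M ⟶ N) :
    adj.homEquiv M N ((epsOf adj η).app M ≫ χ) = χ ≫ η.app N := by
  have := homEquiv_conj Adjunction.id adj η (c := M) (d := N) χ
  have h : Adjunction.id.homEquiv M N χ = χ := by
    rw [Adjunction.homEquiv_unit]
    simp [Adjunction.id]
  rw [h] at this
  exact this

omit [Abelian A] [EnoughInjectives A] in
lemma homEquiv_sig {L J L₃ J₃ : A ⥤ A} (adj : L ⊣ J) (adj₃ : L₃ ⊣ J₃) (ρ : J ⟶ J₃) {M N : A}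
    (ψ : L.obj M ⟶ N) :
    adj₃.homEquiv M N ((sigOf adj adj₃ ρ).app M ≫ ψ) = adj.homEquiv M N ψ ≫ ρ.app N :=
  homEquiv_conj adj adj₃ ρ ψ

omit [Abelian A] [EnoughInjectives A] in
lemma sig_eps {L J L₃ J₃ : A ⥤ A} (adj : L ⊣ J) (adj₃ : L₃ ⊣ J₃) (η : 𝟭 A ⟶ J) (ρ : J ⟶ J₃) :
    sigOf adj adj₃ ρ ≫ epsOf adj η = epsOf adj₃ (η ≫ ρ) :=
  conjugateEquiv_symm_comp Adjunction.id adj adj₃ η ρ

variable {J₁ J₂ J₃ L₁ L₂ L₃ : A ⥤ A} [L₁.Additive] [L₂.Additive] [L₃.Additive]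
  (adj₁ : L₁ ⊣ J₁) (adj₂ : L₂ ⊣ J₂) (adj₃ : L₃ ⊣ J₃)
  (η₁ : 𝟭 A ⟶ J₁) (η₂ : 𝟭 A ⟶ J₂) (ρ₁ : J₁ ⟶ J₃) (ρ₂ : J₂ ⟶ J₃)

omit [L₁.Additive] [L₂.Additive] [L₃.Additive] [EnoughInjectives A] in
lemma wL (hηρ : η₁ ≫ ρ₁ = η₂ ≫ ρ₂) (M : A) :
    biprod.lift ((sigOf adj₁ adj₃ ρ₁).app M) (-((sigOf adj₂ adj₃ ρ₂).app M)) ≫
      biprod.desc ((epsOf adj₁ η₁).app M) ((epsOf adj₂ η₂).app M) = 0 := by
  rw [biprod.lift_desc, Preadditive.neg_comp, ← NatTrans.comp_app, ← NatTrans.comp_app, sig_eps,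
    sig_eps, hηρ, add_neg_cancel]

/-- the conjugate Mayer–Vietoris short complex `L₃ M ⟶ L₁ M ⊞ L₂ M ⟶ M` -/
noncomputable def sL (hηρ : η₁ ≫ ρ₁ = η₂ ≫ ρ₂) (M : A) : ShortComplex A :=
  ShortComplex.mk _ _ (wL adj₁ adj₂ adj₃ η₁ η₂ ρ₁ ρ₂ hηρ M)

/-- if `N ⟶ J₁ N ⊞ J₂ N ⟶ J₃ N` is short exact for every `N`, then the conjugate short complex
`L₃ M ⟶ L₁ M ⊞ L₂ M ⟶ M` is short exact for every `M` -/
theorem sL_shortExact (hηρ : η₁ ≫ ρ₁ = η₂ ≫ ρ₂)
    (wJ : ∀ N : A, biprod.lift (η₁.app N) (η₂.app N) ≫ biprod.desc (ρ₁.app N) (-(ρ₂.app N)) = 0)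
    (hJ : ∀ N : A, (ShortComplex.mk _ _ (wJ N)).ShortExact) (M : A) :
    (sL adj₁ adj₂ adj₃ η₁ η₂ ρ₁ ρ₂ hηρ M).ShortExact := by
  apply shortExact_of_injective_test
  · intro N _ φ
    suffices h : ∀ φ : L₃.obj M ⟶ N, ∃ ψ : L₁.obj M ⊞ L₂.obj M ⟶ N,
        biprod.lift ((sigOf adj₁ adj₃ ρ₁).app M) (-((sigOf adj₂ adj₃ ρ₂).app M)) ≫ ψ = φ from h φ
    intro φ
    obtain ⟨sec, hsec⟩ : ∃ sec : J₃.obj N ⟶ J₁.obj N ⊞ J₂.obj N,
        sec ≫ biprod.desc (ρ₁.app N) (-(ρ₂.app N)) = 𝟙 _ := by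
      haveI : Injective (ShortComplex.mk _ _ (wJ N)).X₁ := ‹Injective N›
      exact ⟨(hJ N).splittingOfInjective.s, (hJ N).splittingOfInjective.s_g⟩
    let a : M ⟶ J₁.obj N := adj₃.homEquiv M N φ ≫ sec ≫ biprod.fst
    let b : M ⟶ J₂.obj N := adj₃.homEquiv M N φ ≫ sec ≫ biprod.snd
    refine ⟨biprod.desc ((adj₁.homEquiv M N).symm a) ((adj₂.homEquiv M N).symm b), ?_⟩
    apply (adj₃.homEquiv M N).injective
    rw [biprod.lift_desc, Preadditive.neg_comp, ← sub_eq_add_neg, Adjunction.homAddEquiv_sub,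
      homEquiv_sig, homEquiv_sig, Equiv.apply_symm_apply, Equiv.apply_symm_apply]
    have : a ≫ ρ₁.app N - b ≫ ρ₂.app N =
        adj₃.homEquiv M N φ ≫ sec ≫ biprod.desc (ρ₁.app N) (-(ρ₂.app N)) := by
      rw [biprod.desc_eq, Preadditive.comp_neg, ← sub_eq_add_neg, Preadditive.comp_sub,
        Preadditive.comp_sub]
      simp only [a, b, Category.assoc]
    rw [this, hsec, Category.comp_id]
  · intro N _ ψ hψ
    suffices h : ∀ ψ : L₁.obj M ⊞ L₂.obj M ⟶ N,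
        biprod.lift ((sigOf adj₁ adj₃ ρ₁).app M) (-((sigOf adj₂ adj₃ ρ₂).app M)) ≫ ψ = 0 →
        ∃ χ : M ⟶ N, biprod.desc ((epsOf adj₁ η₁).app M) ((epsOf adj₂ η₂).app M) ≫ χ = ψ from h ψ hψ
    clear hψ ψ
    intro ψ hψ
    have hψ' : (sigOf adj₁ adj₃ ρ₁).app M ≫ biprod.inl ≫ ψ =
        (sigOf adj₂ adj₃ ρ₂).app M ≫ biprod.inr ≫ ψ := by
      have h : biprod.lift ((sigOf adj₁ adj₃ ρ₁).app M) (-((sigOf adj₂ adj₃ ρ₂).app M)) =
          (sigOf adj₁ adj₃ ρ₁).app M ≫ biprod.inl - (sigOf adj₂ adj₃ ρ₂).app M ≫ biprod.inr := by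
        rw [biprod.lift_eq, Preadditive.neg_comp, sub_eq_add_neg]
      rw [h, Preadditive.sub_comp, sub_eq_zero, Category.assoc, Category.assoc] at hψ
      exact hψ
    have h3 := congrArg (adj₃.homEquiv M N) hψ'
    rw [homEquiv_sig, homEquiv_sig] at h3
    let k : M ⟶ J₁.obj N ⊞ J₂.obj N :=
      biprod.lift (adj₁.homEquiv M N (biprod.inl ≫ ψ)) (adj₂.homEquiv M N (biprod.inr ≫ ψ))
    have hk : k ≫ biprod.desc (ρ₁.app N) (-(ρ₂.app N)) = 0 := by
      rw [biprod.lift_desc, Preadditive.comp_neg, h3, add_neg_cancel]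
    obtain ⟨χ, hχ⟩ : ∃ χ : M ⟶ N, χ ≫ biprod.lift (η₁.app N) (η₂.app N) = k := by
      haveI : Mono (ShortComplex.mk _ _ (wJ N)).f := (hJ N).mono_f
      exact (hJ N).exact.lift' k hk
    refine ⟨χ, ?_⟩
    apply biprod.hom_ext'
    · rw [biprod.inl_desc_assoc]
      apply (adj₁.homEquiv M N).injective
      rw [homEquiv_eps]
      have := congrArg (fun t => t ≫ biprod.fst) hχ
      simpa [k] using this
    · rw [biprod.inr_desc_assoc]
      apply (adj₂.homEquiv M N).injective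
      rw [homEquiv_eps]
      have := congrArg (fun t => t ≫ biprod.snd) hχ
      simpa [k] using this
  · intro N _ χ hχ
    suffices h : ∀ χ : M ⟶ N,
        biprod.desc ((epsOf adj₁ η₁).app M) ((epsOf adj₂ η₂).app M) ≫ χ = 0 → χ = 0 from h χ hχ
    clear hχ χ
    intro χ hχ
    haveI : Mono (biprod.lift (η₁.app N) (η₂.app N)) := (hJ N).mono_f
    rw [← cancel_mono (biprod.lift (η₁.app N) (η₂.app N)), zero_comp]
    apply biprod.hom_ext
    · rw [Category.assoc, biprod.lift_fst, zero_comp]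
      have := congrArg (fun t => biprod.inl ≫ t) hχ
      simp only [biprod.inl_desc_assoc, comp_zero] at this
      exact (homEquiv_eps adj₁ η₁ χ).symm.trans (by rw [this, Adjunction.homAddEquiv_zero])
    · rw [Category.assoc, biprod.lift_snd, zero_comp]
      have := congrArg (fun t => biprod.inr ≫ t) hχ
      simp only [biprod.inr_desc_assoc, comp_zero] at this
      exact (homEquiv_eps adj₂ η₂ χ).symm.trans (by rw [this, Adjunction.homAddEquiv_zero])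

end Main

end Groth.Agent.Lib.Helper25.MVDual
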