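import Mathlib
import Groth.Prelude.Def_CxOX
import Groth.Agent.Lib.Helper25.MVMod
import Groth.Agent.Lib.Helper25.MVDual
import Groth.Agent.Lib.Helper25.MVDer

/-!
# Mayer–Vietoris for extension by zero (helper25)

* `L T = j_{T!} j_T^*`, `adjLJ T : L T ⊣ J T`.
* `shS_shortExact`: `0 → j_{W!}(M|_W) → j_{U!}(M|_U) ⊞ j_{V!}(M|_V) → M → 0` is short exact (`U ⊔ V = ⊤`), obtained
  by conjugation (`MVDual.sL_shortExact`) from the `j_*` Mayer–Vietoris sequence of `MVMod`.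
* `exists_shriek_mv_triangle`: the distinguished triangle
  `j_{W!}(E|_W) → j_{U!}(E|_U) ⊞ j_{V!}(E|_V) → E → ` in `D(O_X)`.
* `nonempty_iso_biprod_Q`: `Q ((P₁ ⊞ P₂) K) ≅ Q (P₁ K) ⊞ Q (P₂ K)` for additive functors.
-/

set_option autoImplicit false
universe w₂ v₂ u₂ u
open CategoryTheory CategoryTheory.Limits AlgebraicGeometry Pretriangulated
attribute [local instance] HasDerivedCategory.standard

namespace Groth.Agent.Lib.Helper25.MVShriek

open AlgebraicGeometry.Scheme.Modules Groth.Agent.Lib.Helper25.MVMod DerivedCategory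
  Groth.Agent.Lib.Helper25.MVDual

section BiprodQ

variable {A : Type*} [Category A] [Abelian A]
  {B : Type u₂} [Category.{v₂} B] [Abelian B] [HasDerivedCategory.{w₂} B]
  (P₁ P₂ : A ⥤ B) [P₁.Additive] [P₂.Additive]

/-- `Q ((P₁ ⊞ P₂) K) ≅ Q (P₁ K) ⊞ Q (P₂ K)` -/
lemma nonempty_iso_biprod_Q (K : CochainComplex A ℤ) :
    Nonempty ((Q.obj (((bp P₁ P₂).mapHomologicalComplex (ComplexShape.up ℤ)).obj K) :
        DerivedCategory B) ≅
      Q.obj ((P₁.mapHomologicalComplex (ComplexShape.up ℤ)).obj K) ⊞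
        Q.obj ((P₂.mapHomologicalComplex (ComplexShape.up ℤ)).obj K)) := by
  refine MVDer.nonempty_iso_biprod
    (Q.map ((NatTrans.mapHomologicalComplex (bpFst P₁ P₂) (ComplexShape.up ℤ)).app K))
    (Q.map ((NatTrans.mapHomologicalComplex (bpSnd P₁ P₂) (ComplexShape.up ℤ)).app K))
    (Q.map ((NatTrans.mapHomologicalComplex (bpInl P₁ P₂) (ComplexShape.up ℤ)).app K))
    (Q.map ((NatTrans.mapHomologicalComplex (bpInr P₁ P₂) (ComplexShape.up ℤ)).app K))
    ?_ ?_ ?_ ?_ ?_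
  · rw [← Q.map_comp, ← Q.map_id]
    congr 1
    ext n
    exact bpInl_fst_app P₁ P₂ (K.X n)
  · rw [← Q.map_comp, ← Q.map_id]
    congr 1
    ext n
    exact bpInr_snd_app P₁ P₂ (K.X n)
  · rw [← Q.map_comp, ← Q.map_zero]
    congr 1
    ext n
    exact bpInl_snd_app P₁ P₂ (K.X n)
  · rw [← Q.map_comp, ← Q.map_zero]
    congr 1
    ext n
    exact bpInr_fst_app P₁ P₂ (K.X n)
  · rw [← Q.map_comp, ← Q.map_comp, ← Q.map_add, ← Q.map_id]
    congr 1
    ext n
    exact bp_total_app P₁ P₂ (K.X n)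

end BiprodQ

section Sch

attribute [local instance] preservesFiniteColimits_restrict additive_restrict

variable {X : Scheme.{u}}

/-- `j_{T!} j_T^*` -/
noncomputable abbrev L (T : X.Opens) : X.Modules ⥤ X.Modules :=
  restrictFunctor T.ι ⋙ CxOX.extZero T.ι

/-- `j_{T!} j_T^* ⊣ j_{T*} j_T^*` -/
noncomputable def adjLJ (T : X.Opens) : L T ⊣ J T :=
  (restrictAdjunction T.ι).comp (CxOX.extZeroAdj T.ι)

variable (U V : X.Opens)

lemma unit_ρ_eq : (restrictAdjunction U.ι).unit ≫ ρ (inf_le_left : U ⊓ V ≤ U) =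
    (restrictAdjunction V.ι).unit ≫ ρ (inf_le_right : U ⊓ V ≤ V) := by
  ext M
  rw [NatTrans.comp_app, NatTrans.comp_app, unit_ρ, unit_ρ]

/-- `j_{W!}(M|_W) ⟶ j_{U!}(M|_U) ⊞ j_{V!}(M|_V)` -/
noncomputable def shF : L (U ⊓ V) ⟶ bp (L U) (L V) :=
  bpLift (sigOf (adjLJ U) (adjLJ (U ⊓ V)) (ρ inf_le_left))
    (-(sigOf (adjLJ V) (adjLJ (U ⊓ V)) (ρ inf_le_right)))

/-- `j_{U!}(M|_U) ⊞ j_{V!}(M|_V) ⟶ M` -/
noncomputable def shG : bp (L U) (L V) ⟶ 𝟭 X.Modules :=
  bpDesc (epsOf (adjLJ U) (restrictAdjunction U.ι).unit)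
    (epsOf (adjLJ V) (restrictAdjunction V.ι).unit)

lemma shF_shG_app (M : X.Modules) : (shF U V).app M ≫ (shG U V).app M = 0 :=
  wL (adjLJ U) (adjLJ V) (adjLJ (U ⊓ V)) _ _ _ _ (unit_ρ_eq U V) M

variable {U V} in
/-- the extension-by-zero Mayer–Vietoris sequence of `O_X`-modules is short exact -/
lemma shS_shortExact (hUV : U ⊔ V = ⊤)
    [PreservesFiniteLimits (restrictFunctor U.ι)] [PreservesFiniteLimits (restrictFunctor V.ι)]
    (M : X.Modules) :
    (ShortComplex.mk _ _ (shF_shG_app U V M)).ShortExact := by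
  haveI : IsGrothendieckAbelian.{u} X.Modules :=
    Groth.Agent.Lib.Helper21.ModGroth.isGrothendieckAbelian_mod _
  exact sL_shortExact (adjLJ U) (adjLJ V) (adjLJ (U ⊓ V)) _ _ _ _ (unit_ρ_eq U V)
    (fun N => mvF_mvG_app U V N) (fun N => mvS_shortExact hUV N) M

/-- the extension-by-zero Mayer–Vietoris short complex of complexes -/
noncomputable def shCx (K : CochainComplex X.Modules ℤ) :
    ShortComplex (CochainComplex X.Modules ℤ) :=
  ShortComplex.mk ((NatTrans.mapHomologicalComplex (shF U V) (ComplexShape.up ℤ)).app K)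
    ((NatTrans.mapHomologicalComplex (shG U V) (ComplexShape.up ℤ)).app K)
    (HomologicalComplex.hom_ext _ _ (fun n => shF_shG_app U V (K.X n)))

variable {U V} in
lemma shCx_shortExact (hUV : U ⊔ V = ⊤)
    [PreservesFiniteLimits (restrictFunctor U.ι)] [PreservesFiniteLimits (restrictFunctor V.ι)]
    (K : CochainComplex X.Modules ℤ) : (shCx U V K).ShortExact := by
  apply HomologicalComplex.shortExact_of_degreewise_shortExact
  intro n
  exact shS_shortExact hUV (K.X n)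

/-- `Q (j_{T!} (K|_T)) ≅ j_{T!} ((Q K)|_T)` -/
lemma nonempty_iso_L (T : X.Opens) [PreservesFiniteLimits (restrictFunctor T.ι)]
    [PreservesFiniteLimits (CxOX.extZero T.ι)] (K : CochainComplex X.Modules ℤ) :
    Nonempty ((Q.obj (((L T).mapHomologicalComplex (ComplexShape.up ℤ)).obj K) : DCoh.D X) ≅
      (CxOX.extZeroD T.ι).obj ((DCoh.restrictD T.ι).obj (Q.obj K))) :=
  ⟨((CxOX.extZero T.ι).mapDerivedCategoryFactors.app
      (((restrictFunctor T.ι).mapHomologicalComplex (ComplexShape.up ℤ)).obj K)).symm ≪≫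
    (CxOX.extZeroD T.ι).mapIso (((restrictFunctor T.ι).mapDerivedCategoryFactors.app K).symm)⟩

variable {U V} in
/-- **Mayer–Vietoris for extension by zero** -/
theorem exists_shriek_mv_triangle (hUV : U ⊔ V = ⊤)
    [PreservesFiniteLimits (restrictFunctor U.ι)] [PreservesFiniteLimits (restrictFunctor V.ι)]
    [PreservesFiniteLimits (restrictFunctor (U ⊓ V).ι)]
    [PreservesFiniteLimits (CxOX.extZero U.ι)] [PreservesFiniteLimits (CxOX.extZero V.ι)]
    [PreservesFiniteLimits (CxOX.extZero (U ⊓ V).ι)] (E : DCoh.D X) :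
    ∃ (a : (CxOX.extZeroD (U ⊓ V).ι).obj ((DCoh.restrictD (U ⊓ V).ι).obj E) ⟶
        (CxOX.extZeroD U.ι).obj ((DCoh.restrictD U.ι).obj E) ⊞
          (CxOX.extZeroD V.ι).obj ((DCoh.restrictD V.ι).obj E))
      (b : (CxOX.extZeroD U.ι).obj ((DCoh.restrictD U.ι).obj E) ⊞
          (CxOX.extZeroD V.ι).obj ((DCoh.restrictD V.ι).obj E) ⟶ E)
      (c : E ⟶ ((CxOX.extZeroD (U ⊓ V).ι).obj ((DCoh.restrictD (U ⊓ V).ι).obj E))⟦(1 : ℤ)⟧),
      Triangle.mk a b c ∈ distTriang (DCoh.D X) := by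
  let K := Q.objPreimage E
  let e : Q.obj K ≅ E := Q.objObjPreimageIso E
  obtain ⟨eU⟩ := nonempty_iso_L U K
  obtain ⟨eV⟩ := nonempty_iso_L V K
  obtain ⟨eW⟩ := nonempty_iso_L (U ⊓ V) K
  obtain ⟨eB⟩ := nonempty_iso_biprod_Q (L U) (L V) K
  have hT := DerivedCategory.triangleOfSES_distinguished (shCx_shortExact hUV K)
  exact MVDer.exists_distinguished_of_isos _ hT
    (eW ≪≫ (CxOX.extZeroD (U ⊓ V).ι).mapIso ((DCoh.restrictD (U ⊓ V).ι).mapIso e))
    (eB ≪≫ biprod.mapIso (eU ≪≫ (CxOX.extZeroD U.ι).mapIso ((DCoh.restrictD U.ι).mapIso e))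
      (eV ≪≫ (CxOX.extZeroD V.ι).mapIso ((DCoh.restrictD V.ι).mapIso e)))
    (Q.mapIso ((Functor.mapHomologicalComplexIdIso X.Modules (ComplexShape.up ℤ)).app K) ≪≫ e)

end Sch

end Groth.Agent.Lib.Helper25.MVShriek
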