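import Mathlib
import Groth.Prelude.Def_DCoh3
import Groth.Prelude.Def_CohB1
import Groth.Agent.Lib.Helper25.SchKInj
import Groth.Agent.Lib.Helper25.DerBC2
import Groth.Agent.Lib.Helper7.RestrictSupport

/-!
# Supports and derived direct images (helper25)

* `hasRpush`: the unbounded derived direct image exists for every morphism of schemes.
* `isZero_restrictD_of_support`: `E|_U = 0` if the cohomology sheaves of `E` are supported off `U`.
* `support_HD_Rpush_subset`: for `f` a closed map, the cohomology sheaves of `Rf_* E` are supported on `f(Z)` if those of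
  `E` are supported on the closed set `Z`.
-/

set_option autoImplicit false
universe u
open CategoryTheory CategoryTheory.Limits AlgebraicGeometry
attribute [local instance] HasDerivedCategory.standard

namespace Groth.Agent.Lib.Helper25.SchKInj

open AlgebraicGeometry.Scheme.Modules Groth.Agent.Lib.Helper25.DerBC

theorem hasRpush {X Y : Scheme.{u}} (g : X ⟶ Y) : DCoh.HasRpush g :=
  hasRightDerivedFunctor (hKinj X) _

theorem isZero_restrictD_of_support {X : Scheme.{u}} (U : X.Opens) (E : DCoh.D X)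
    (h : ∀ i : ℤ, CohB1.support (DCoh.HD E i) ⊆ (U : Set X)ᶜ) :
    IsZero ((DCoh.restrictD U.ι).obj E) := by
  apply isZero_of_homology
  intro n
  obtain ⟨e⟩ := nonempty_homology_mapDerivedCategory_iso (restrictFunctor U.ι) E n
  refine IsZero.of_iso ?_ e
  exact (Groth.Agent.Lib.helper7.RestrictSupport.isZero_restrict_iff_support _ U).2 (h n)

theorem support_HD_restrictD {X : Scheme.{u}} (U : X.Opens) (E : DCoh.D X)
    (h : IsZero ((DCoh.restrictD U.ι).obj E)) (i : ℤ) :
    CohB1.support (DCoh.HD E i) ⊆ (U : Set X)ᶜ := by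
  rw [← Groth.Agent.Lib.helper7.RestrictSupport.isZero_restrict_iff_support]
  obtain ⟨e⟩ := nonempty_homology_mapDerivedCategory_iso (restrictFunctor U.ι) E i
  refine IsZero.of_iso ?_ e.symm
  exact Functor.map_isZero _ h

theorem support_HD_Rpush_subset {X Y : Scheme.{u}} (f : X ⟶ Y) (hf : IsClosedMap f.base)
    [DCoh.HasRpush f] (Z : Set ↥X) (hZ : IsClosed Z) (E : DCoh.D X)
    (hE : ∀ i : ℤ, CohB1.support (DCoh.HD E i) ⊆ Z) (i : ℤ) :
    CohB1.support (DCoh.HD ((DCoh.Rpush f).obj E) i) ⊆ f.base '' Z := by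
  obtain ⟨V, hV⟩ : ∃ V : Y.Opens, (V : Set Y) = (f.base '' Z)ᶜ :=
    ⟨⟨(f.base '' Z)ᶜ, (hf Z hZ).isOpen_compl⟩, rfl⟩
  haveI := hasRpush (f ∣_ V)
  have hU : Z ⊆ ((f ⁻¹ᵁ V : X.Opens) : Set X)ᶜ := by
    intro x hx hxU
    have h1 : f.base x ∈ (V : Set Y) := hxU
    rw [hV] at h1
    exact h1 ⟨x, hx, rfl⟩
  have h1 : IsZero ((DCoh.restrictD (f ⁻¹ᵁ V).ι).obj E) :=
    isZero_restrictD_of_support _ E (fun i => (hE i).trans hU)
  have h2 : IsZero ((DCoh.Rpush (f ∣_ V)).obj ((DCoh.restrictD (f ⁻¹ᵁ V).ι).obj E)) := by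
    haveI : (DCoh.Rpush (f ∣_ V)).IsLeftKanExtension
        ((DCoh.pushKh (f ∣_ V)).totalRightDerivedUnit DerivedCategory.Qh
          (HomotopyCategory.quasiIso _ (ComplexShape.up ℤ))) :=
      Functor.IsRightDerivedFunctor.isLeftKanExtension _ _
        (HomotopyCategory.quasiIso _ (ComplexShape.up ℤ))
    exact isZero_obj_of_isZero (hKinj _) (DCoh.pushKh (f ∣_ V)) _
      ((DCoh.pushKh (f ∣_ V)).totalRightDerivedUnit DerivedCategory.Qh
          (HomotopyCategory.quasiIso _ (ComplexShape.up ℤ))) _ h1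
  obtain ⟨e⟩ := nonempty_Rpush_restrict_iso f V
  have h3 : IsZero ((DCoh.restrictD V.ι).obj ((DCoh.Rpush f).obj E)) :=
    IsZero.of_iso h2 (e.app E)
  have h4 := support_HD_restrictD V _ h3 i
  rw [hV, compl_compl] at h4
  exact h4

end Groth.Agent.Lib.Helper25.SchKInj
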