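import Mathlib
import Groth.Prelude.Def_CxOX
import Groth.Agent.Lib.Helper25.MVDer
import Groth.Agent.Lib.Helper25.MVShriek
import Groth.Agent.Lib.Helper25.SchKInj2
import Groth.Agent.Lib.Helper21.SchShriek

/-!
# Complexes supported on a closed subset inside an open (helper25)

`j : U ⟶ X` open, `T ⊆ U` closed in `X`.
* `nonempty_iso_Rpush_restrict`: `E ≅ Rj_*(E|_U)` if the cohomology sheaves of `E` are supported on `T`.
* `nonempty_extZeroD_iso_Rpush`: `j_! F ≅ Rj_* F` if the cohomology sheaves of `F` are supported on `T`.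
* `preservesFiniteLimits_extZero`: `CxOX.extZero W.ι` is exact (from helper21's `SchShriek`).
* `nonempty_restrictD_Rpush_iso`: `(Rj_* F)|_U ≅ F`; `isZero_Rpush_of_isZero`, `isZero_restrictD_of_le`,
  `nonempty_biprod_iso_of_isZero_right`.
-/

set_option autoImplicit false
universe u
open CategoryTheory CategoryTheory.Limits AlgebraicGeometry Pretriangulated
attribute [local instance] HasDerivedCategory.standard

namespace Groth.Agent.Lib.Helper25.MVSupp

open AlgebraicGeometry.Scheme.Modules DerivedCategory Groth.Agent.Lib.Helper25.SchKInj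
  Groth.Agent.Lib.Helper25.DerBC

lemma nonempty_biprod_iso_of_isZero_right {C : Type*} [Category C] [Preadditive C]
    [HasBinaryBiproducts C] {A B : C} (hB : IsZero B) : Nonempty (A ⊞ B ≅ A) :=
  ⟨{ hom := biprod.fst
     inv := biprod.inl
     hom_inv_id := by
       have h : (biprod.snd : A ⊞ B ⟶ B) = 0 := hB.eq_of_tgt _ _
       rw [← biprod.total, h, zero_comp, add_zero]
     inv_hom_id := biprod.inl_fst }⟩

variable {X : Scheme.{u}}

lemma isZero_Rpush_of_isZero {Y : Scheme.{u}} (f : X ⟶ Y) [DCoh.HasRpush f] (E : DCoh.D X)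
    (hE : IsZero E) : IsZero ((DCoh.Rpush f).obj E) := by
  haveI : (DCoh.Rpush f).IsLeftKanExtension
      ((DCoh.pushKh f).totalRightDerivedUnit DerivedCategory.Qh
        (HomotopyCategory.quasiIso _ (ComplexShape.up ℤ))) :=
    Functor.IsRightDerivedFunctor.isLeftKanExtension _ _
      (HomotopyCategory.quasiIso _ (ComplexShape.up ℤ))
  exact isZero_obj_of_isZero (hKinj _) (DCoh.pushKh f) _
    ((DCoh.pushKh f).totalRightDerivedUnit DerivedCategory.Qh
        (HomotopyCategory.quasiIso _ (ComplexShape.up ℤ))) _ hE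

lemma isZero_restrictD_of_le {W V : X.Opens} (h : W ≤ V)
    [PreservesFiniteLimits (restrictFunctor V.ι)] [PreservesFiniteLimits (restrictFunctor W.ι)]
    (E : DCoh.D X) (hE : IsZero ((DCoh.restrictD V.ι).obj E)) :
    IsZero ((DCoh.restrictD W.ι).obj E) :=
  isZero_restrictD_of_support W E (fun i => (support_HD_restrictD V E hE i).trans
    (Set.compl_subset_compl.2 h))

/-- `(Rj_* F)|_U ≅ F` -/
lemma nonempty_restrictD_Rpush_iso (U : X.Opens) [DCoh.HasRpush U.ι]
    [PreservesFiniteLimits (restrictFunctor U.ι)] (F : DCoh.D (U : Scheme.{u})) :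
    Nonempty ((DCoh.restrictD U.ι).obj ((DCoh.Rpush U.ι).obj F) ≅ F) := by
  obtain ⟨I, hI, -, ⟨e⟩⟩ := MVDer.exists_kInjective_injective F
  obtain ⟨e₁⟩ := MVDer.nonempty_iso_totalRightDerived (pushforward U.ι) F I hI e
  exact ⟨(DCoh.restrictD U.ι).mapIso e₁.symm ≪≫
    (restrictFunctor U.ι).mapDerivedCategoryFactors.app _ ≪≫
    Q.mapIso ((NatIso.mapHomologicalComplex (restrictFunctorAdjCounitIso U.ι)
      (ComplexShape.up ℤ)).app I) ≪≫
    Q.mapIso ((Functor.mapHomologicalComplexIdIso _ (ComplexShape.up ℤ)).app I) ≪≫ e.symm⟩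

/-- extension by zero along an open subscheme is exact (helper21's `SchShriek`) -/
lemma preservesFiniteLimits_extZero (W : X.Opens) : PreservesFiniteLimits (CxOX.extZero W.ι) :=
  preservesFiniteLimits_of_natIso
    ((Groth.Agent.Lib.helper21.SchShriek.adj W).leftAdjointUniq (CxOX.extZeroAdj W.ι))

lemma isZero_extZeroD_of_isZero (W : X.Opens) [PreservesFiniteLimits (CxOX.extZero W.ι)]
    (F : DCoh.D (W : Scheme.{u})) (hF : IsZero F) : IsZero ((CxOX.extZeroD W.ι).obj F) :=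
  Functor.map_isZero _ hF

/-- part (1): `E ≅ Rj_*(E|_U)` if the cohomology of `E` is supported on a closed `T ⊆ U` -/
theorem nonempty_iso_Rpush_restrict (U : X.Opens) [DCoh.HasRpush U.ι] (T : Set X)
    (hT : IsClosed T) (hTU : T ⊆ (U : Set X)) (E : DCoh.D X)
    (hE : ∀ i : ℤ, CohB1.support (DCoh.HD E i) ⊆ T) :
    Nonempty (E ≅ (DCoh.Rpush U.ι).obj ((DCoh.restrictD U.ι).obj E)) := by
  let V : X.Opens := ⟨Tᶜ, hT.isOpen_compl⟩
  have hUV : U ⊔ V = ⊤ := by
    rw [eq_top_iff]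
    intro x _
    by_cases hx : x ∈ T
    · exact Or.inl (hTU hx)
    · exact Or.inr hx
  haveI := hasRpush V.ι
  haveI := hasRpush (U ⊓ V).ι
  have hV : IsZero ((DCoh.restrictD V.ι).obj E) :=
    isZero_restrictD_of_support V E (fun i => (hE i).trans (fun x hx hxV => hxV hx))
  have hW : IsZero ((DCoh.restrictD (U ⊓ V).ι).obj E) :=
    isZero_restrictD_of_le inf_le_right E hV
  obtain ⟨a, b, c, h⟩ := MVDer.exists_mv_triangle (𝟭 X.Modules) hUV
    (pushforward U.ι) (Functor.rightUnitor _) (DCoh.Rpush U.ι) _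
    (MVDer.isIso_totalRightDerivedUnit (pushforward U.ι))
    (pushforward V.ι) (Functor.rightUnitor _) (DCoh.Rpush V.ι) _
    (MVDer.isIso_totalRightDerivedUnit (pushforward V.ι))
    (pushforward (U ⊓ V).ι) (Functor.rightUnitor _) (DCoh.Rpush (U ⊓ V).ι) _
    (MVDer.isIso_totalRightDerivedUnit (pushforward (U ⊓ V).ι))
    E E
    (fun I _ e => ⟨DerivedCategory.Q.mapIso
      ((Functor.mapHomologicalComplexIdIso X.Modules (ComplexShape.up ℤ)).app I) ≪≫ e.symm⟩)
  have h3 : IsZero (Triangle.mk a b c).obj₃ := isZero_Rpush_of_isZero _ _ hW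
  haveI : IsIso a := (Triangle.isZero₃_iff_isIso₁ _ h).1 h3
  obtain ⟨e⟩ := nonempty_biprod_iso_of_isZero_right
    (A := (DCoh.Rpush U.ι).obj ((DCoh.restrictD U.ι).obj E))
    (isZero_Rpush_of_isZero V.ι _ hV)
  exact ⟨asIso a ≪≫ e⟩

/-- part (2): `j_! F ≅ Rj_* F` if the cohomology of `F` is supported on a subset closed in `X` -/
theorem nonempty_extZeroD_iso_Rpush (U : X.Opens) [DCoh.HasRpush U.ι]
    [PreservesFiniteLimits (CxOX.extZero U.ι)] (T : Set X)
    (hT : IsClosed T) (hTU : T ⊆ (U : Set X)) (F : DCoh.D (U : Scheme.{u}))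
    (hF : ∀ i : ℤ, (fun x : (U : Scheme.{u}) => U.ι.base x) '' CohB1.support (DCoh.HD F i) ⊆ T) :
    Nonempty ((CxOX.extZeroD U.ι).obj F ≅ (DCoh.Rpush U.ι).obj F) := by
  let V : X.Opens := ⟨Tᶜ, hT.isOpen_compl⟩
  have hUV : U ⊔ V = ⊤ := by
    rw [eq_top_iff]
    intro x _
    by_cases hx : x ∈ T
    · exact Or.inl (hTU hx)
    · exact Or.inr hx
  haveI := preservesFiniteLimits_extZero V
  haveI := preservesFiniteLimits_extZero (U ⊓ V)
  haveI := hasRpush (U.ι ∣_ V)
  have hFV : IsZero ((DCoh.restrictD (U.ι ⁻¹ᵁ V).ι).obj F) :=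
    isZero_restrictD_of_support _ F (fun i x hx hxV => hxV (hF i ⟨x, hx, rfl⟩))
  obtain ⟨e⟩ := nonempty_Rpush_restrict_iso U.ι V
  have hV : IsZero ((DCoh.restrictD V.ι).obj ((DCoh.Rpush U.ι).obj F)) :=
    IsZero.of_iso (isZero_Rpush_of_isZero _ _ hFV) (e.app F)
  have hW : IsZero ((DCoh.restrictD (U ⊓ V).ι).obj ((DCoh.Rpush U.ι).obj F)) :=
    isZero_restrictD_of_le inf_le_right _ hV
  obtain ⟨a, b, c, h⟩ := MVShriek.exists_shriek_mv_triangle hUV ((DCoh.Rpush U.ι).obj F)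
  have h1 : IsZero (Triangle.mk a b c).obj₁ := isZero_extZeroD_of_isZero _ _ hW
  haveI : IsIso b := (Triangle.isZero₁_iff_isIso₂ _ h).1 h1
  obtain ⟨e₂⟩ := nonempty_biprod_iso_of_isZero_right
    (A := (CxOX.extZeroD U.ι).obj ((DCoh.restrictD U.ι).obj ((DCoh.Rpush U.ι).obj F)))
    (isZero_extZeroD_of_isZero V _ hV)
  obtain ⟨e₃⟩ := nonempty_restrictD_Rpush_iso U F
  exact ⟨(CxOX.extZeroD U.ι).mapIso e₃.symm ≪≫ e₂.symm ≪≫ asIso b⟩

end Groth.Agent.Lib.Helper25.MVSupp
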