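import Mathlib
import Groth.Prelude.Def_CxOX
import Groth.Agent.Lib.Helper25.DerAdjK
import Groth.Agent.Lib.Helper25.MVDer
import Groth.Agent.Lib.Helper25.SchKInj2

/-!
# `RΓ_Z` and the adjunction `j^* ⊣ Rj_*` for an open immersion (helper25)

* `isIso_counit_of_isIso_counit`: iso-ness of the counit does not depend on the adjunction.
* `isIso_unit_of_iso`: counit invertible ⇒ unit invertible on the essential image of the right adjoint.
* `isIso_counit_app`: abstract: `F₀ ⊣ G₀`, `F₀` exact, `G₀` fully faithful ⇒ every adjunction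
  `F₀.mapDerivedCategory ⊣ RG₀` has invertible counit.
* `isIso_counit j adj`, `isIso_unit_of_iso_Rpush`, `nonempty_adj`: for an open immersion `j` of schemes.
* `isZero_restrict_gammaZ`, `isZero_restrictD_RgammaZ`: `Γ_Z(F)|_U = 0`, `RΓ_Z(B)|_U = 0`.
* `isZero_of_forall_isZero_X`.
-/

set_option autoImplicit false
universe u
open CategoryTheory CategoryTheory.Limits AlgebraicGeometry
attribute [local instance] HasDerivedCategory.standard

namespace Groth.Agent.Lib.Helper25.RGZ1

open AlgebraicGeometry.Scheme.Modules Groth.Agent.Lib.Helper25.SchKInj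

section General

variable {C D : Type*} [Category C] [Category D] {L : C ⥤ D} {R : D ⥤ C}

/-- iso-ness of the counit does not depend on the adjunction -/
lemma isIso_counit_of_isIso_counit (adj₁ adj₂ : L ⊣ R) (h : ∀ Y, IsIso (adj₁.counit.app Y)) (Y : D) :
    IsIso (adj₂.counit.app Y) := by
  have h1 := Adjunction.rightAdjointUniq_hom_app_counit adj₂ adj₁ Y
  haveI := h Y
  haveI : IsIso (L.map ((adj₂.rightAdjointUniq adj₁).hom.app Y)) := inferInstance
  rw [← h1]
  infer_instance

/-- if the counit is invertible, the unit is invertible on the essential image of the right adjoint -/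
lemma isIso_unit_of_iso (adj : L ⊣ R) (h : ∀ Y, IsIso (adj.counit.app Y)) (A : C) (B : D)
    (e : A ≅ R.obj B) : IsIso (adj.unit.app A) := by
  haveI := h B
  have h1 : IsIso (adj.unit.app (R.obj B)) := by
    have ht := adj.right_triangle_components B
    haveI : IsIso (R.map (adj.counit.app B)) := inferInstance
    haveI : IsIso (𝟙 (R.obj B)) := IsIso.id _
    exact IsIso.of_isIso_fac_right ht
  have h2 := adj.unit.naturality e.hom
  simp only [Functor.id_obj, Functor.id_map, Functor.comp_obj, Functor.comp_map] at h2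
  have h3 : adj.unit.app A = e.hom ≫ adj.unit.app (R.obj B) ≫ inv (R.map (L.map e.hom)) := by
    rw [← Category.assoc, h2, Category.assoc, IsIso.hom_inv_id, Category.comp_id]
  rw [h3]
  infer_instance

end General

section Abstract

open Groth.Agent.Lib.Helper25.DerAdjK

variable {B : Type*} {C : Type*} [Category B] [Category C] [Abelian B] [Abelian C]
  [HasDerivedCategory B] [HasDerivedCategory C]
  (hKinj : ∀ K : CochainComplex C ℤ, ∃ (I : CochainComplex C ℤ) (f : K ⟶ I),
    I.IsKInjective ∧ QuasiIso f)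
  {F₀ : B ⥤ C} {G₀ : C ⥤ B} (adj₀ : F₀ ⊣ G₀) [F₀.Additive] [G₀.Additive]
  [Limits.PreservesFiniteLimits F₀] [Limits.PreservesFiniteColimits F₀]
  (RG : DerivedCategory C ⥤ DerivedCategory B)
  (β : G₀.mapHomotopyCategory (ComplexShape.up ℤ) ⋙ DerivedCategory.Qh ⟶ DerivedCategory.Qh ⋙ RG)
  [RG.IsRightDerivedFunctor β (HomotopyCategory.quasiIso C (ComplexShape.up ℤ))]

include hKinj adj₀ β in
/-- if `G₀` is fully faithful (counit invertible) and `F₀` exact, then every adjunction
`F₀.mapDerivedCategory ⊣ RG₀` has invertible counit -/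
theorem isIso_counit_app [IsIso adj₀.counit] (adj : F₀.mapDerivedCategory ⊣ RG)
    (Y : DerivedCategory C) : IsIso (adj.counit.app Y) := by
  obtain ⟨adj', h'⟩ := exists_adjunction hKinj adj₀ RG β
  refine isIso_counit_of_isIso_counit adj' adj (fun Y => ?_) Y
  obtain ⟨I, f, hI, hf⟩ := hKinj (DerivedCategory.Q.objPreimage Y)
  haveI := hI
  haveI := hf
  have e : Y ≅ DerivedCategory.Qh.obj ((HomotopyCategory.quotient C (ComplexShape.up ℤ)).obj I) :=
    (DerivedCategory.Q.objObjPreimageIso Y).symm ≪≫ asIso (DerivedCategory.Q.map f) ≪≫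
      ((DerivedCategory.quotientCompQhIso C).app I).symm
  have h1 := h' ((HomotopyCategory.quotient C (ComplexShape.up ℤ)).obj I)
  haveI := isIso_unit_of_isKInjective hKinj RG β I
  have h2 : IsIso (counitCx adj₀ (ComplexShape.up ℤ) I) := by
    haveI : ∀ n, IsIso ((counitCx adj₀ (ComplexShape.up ℤ) I).f n) := fun n => by
      change IsIso (adj₀.counit.app (I.X n))
      infer_instance
    exact HomologicalComplex.Hom.isIso_of_components _
  have h3 : IsIso (adj'.counit.app
      (DerivedCategory.Qh.obj ((HomotopyCategory.quotient C (ComplexShape.up ℤ)).obj I))) := by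
    rw [adjK_counit_app] at h1
    have : IsIso (F₀.mapDerivedCategory.map
        (β.app ((HomotopyCategory.quotient C (ComplexShape.up ℤ)).obj I)) ≫ adj'.counit.app
      (DerivedCategory.Qh.obj ((HomotopyCategory.quotient C (ComplexShape.up ℤ)).obj I))) := by
      rw [h1]
      exact @IsIso.comp_isIso _ _ _ _ _ _ _ inferInstance
        (@Functor.map_isIso _ _ _ _ _ _ _ _ (@Functor.map_isIso _ _ _ _ _ _ _ _ h2))
    exact IsIso.of_isIso_comp_left (F₀.mapDerivedCategory.map
        (β.app ((HomotopyCategory.quotient C (ComplexShape.up ℤ)).obj I))) _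
  have h4 := adj'.counit.naturality e.hom
  simp only [Functor.id_obj, Functor.id_map, Functor.comp_obj, Functor.comp_map] at h4
  have h5 : adj'.counit.app Y = F₀.mapDerivedCategory.map (RG.map e.hom) ≫ adj'.counit.app _ ≫
      e.inv := by
    rw [← Category.assoc, h4, Category.assoc, e.hom_inv_id, Category.comp_id]
  rw [h5]
  infer_instance

end Abstract

section Scheme

variable {U X : Scheme.{u}} (j : U ⟶ X) [IsOpenImmersion j]

/-- the counit `j^* Rj_* F ⟶ F` of any adjunction `j^* ⊣ Rj_*` is invertible (`j` an open immersion) -/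
theorem isIso_counit [DCoh.HasRpush j] (adj : DCoh.restrictD j ⊣ DCoh.Rpush j) (F : DCoh.D U) :
    IsIso (adj.counit.app F) :=
  isIso_counit_app (hKinj U) (restrictAdjunction j) (DCoh.Rpush j)
    ((DCoh.pushKh j).totalRightDerivedUnit DerivedCategory.Qh
      (HomotopyCategory.quasiIso _ (ComplexShape.up ℤ))) adj F

/-- the unit `A ⟶ Rj_* j^* A` is invertible if `A ≅ Rj_* B` -/
theorem isIso_unit_of_iso_Rpush [DCoh.HasRpush j] (adj : DCoh.restrictD j ⊣ DCoh.Rpush j)
    (A : DCoh.D X) (B : DCoh.D U) (e : A ≅ (DCoh.Rpush j).obj B) : IsIso (adj.unit.app A) :=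
  isIso_unit_of_iso adj (isIso_counit j adj) A B e

/-- there is an adjunction `j^* ⊣ Rj_*` -/
theorem nonempty_adj [DCoh.HasRpush j] : Nonempty (DCoh.restrictD j ⊣ DCoh.Rpush j) := by
  obtain ⟨adj', -⟩ := Groth.Agent.Lib.Helper25.DerAdjK.exists_adjunction (hKinj U)
    (restrictAdjunction j) (DCoh.Rpush j)
    ((DCoh.pushKh j).totalRightDerivedUnit DerivedCategory.Qh
      (HomotopyCategory.quasiIso _ (ComplexShape.up ℤ)))
  exact ⟨adj'⟩

/-- `Γ_Z(F)|_U = 0` -/
lemma isZero_restrict_gammaZ (F : X.Modules) :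
    IsZero ((restrictFunctor j).obj ((DCoh.gammaZ j).obj F)) := by
  have h1 : (restrictFunctor j).map (kernel.ι ((restrictAdjunction j).unit.app F)) ≫
      (restrictFunctor j).map ((restrictAdjunction j).unit.app F) = 0 := by
    rw [← Functor.map_comp, kernel.condition, Functor.map_zero]
  haveI : Mono ((restrictFunctor j).map ((restrictAdjunction j).unit.app F)) :=
    (SplitMono.mk _ ((restrictAdjunction j).left_triangle_components F)).mono
  have h2 : (restrictFunctor j).map (kernel.ι ((restrictAdjunction j).unit.app F)) = 0 :=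
    zero_of_comp_mono _ h1
  haveI : (restrictFunctor j).PreservesMonomorphisms :=
    preservesMonomorphisms_of_preservesLimitsOfShape _
  have hm : Mono ((restrictFunctor j).map (kernel.ι ((restrictAdjunction j).unit.app F))) :=
    (restrictFunctor j).map_mono _
  exact @IsZero.of_mono_eq_zero _ _ _ _ _ _ hm h2

/-- a complex with zero terms is zero -/
lemma isZero_of_forall_isZero_X {A : Type*} [Category A] [Preadditive A]
    (K : CochainComplex A ℤ) (h : ∀ n, IsZero (K.X n)) : IsZero K := by
  rw [IsZero.iff_id_eq_zero]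
  ext n
  exact (h n).eq_of_src _ _

/-- `RΓ_Z(B)|_U = 0` -/
theorem isZero_restrictD_RgammaZ [CxOX.HasRgammaZ j] (B : DCoh.D X) :
    IsZero ((DCoh.restrictD j).obj ((CxOX.RgammaZ j).obj B)) := by
  obtain ⟨I, hI, -, ⟨e⟩⟩ := MVDer.exists_kInjective_injective B
  obtain ⟨e₁⟩ := MVDer.nonempty_iso_totalRightDerived (DCoh.gammaZ j) B I hI e
  refine IsZero.of_iso ?_ ((DCoh.restrictD j).mapIso e₁.symm ≪≫
    (restrictFunctor j).mapDerivedCategoryFactors.app _)
  refine Functor.map_isZero DerivedCategory.Q (isZero_of_forall_isZero_X _ (fun n => ?_))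
  exact isZero_restrict_gammaZ j (I.X n)

end Scheme

end Groth.Agent.Lib.Helper25.RGZ1
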