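import Groth.Agent.Lib.Helper25.LpullComp
import Groth.Agent.Lib.Helper25.DerAdjK
import Groth.Agent.Lib.Helper25.SchKInj2

/-!
# The derived adjunction `Lf^* ⊣ Rf_*` for schemes, and `Rg_* ∘ Rf_* ≅ R(g f)_*`

* `isLeftDerivedFunctor_of_adapted` (abstract): a functor whose comparison map is invertible on an adapted class is a left
  derived functor.
* `isLeftDerivedFunctor_comp`, `isRightDerivedFunctor_comp`: `Lf^* ⋙ Rf_*` and `Rf_* ⋙ Lf^*` are the derived functors
  required by Mathlib's `Adjunction.derived` (K-flat complexes with flat terms on one side, K-injective complexes on the other).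
* `adj f : DCoh.Lpull f ⊣ DCoh.Rpush f` with `adj_unit_fac`, `adj_counit_fac`.
* `nonempty_Rpush_comp f g`.
-/

set_option autoImplicit false
universe u
open CategoryTheory CategoryTheory.Limits AlgebraicGeometry

attribute [local instance] HasDerivedCategory.standard

namespace Groth.Agent.Lib.Helper25.LpullRpushAdj

open Groth.Agent.Lib.Helper25.LpullAdapted Groth.Agent.Lib.Helper25.LDerAdapted
  Groth.Agent.Lib.Helper25.LpullComp Groth.Agent.Lib.Helper25.LTensorComp
  Groth.Agent.Lib.Helper25.DerAdjK Groth.Agent.Lib.Helper25.DerAdjAbs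

section Abstract

variable {C D H : Type*} [Category C] [Category D] [Category H]
  (L : C ⥤ D) (W : MorphismProperty C) [L.IsLocalization W]
  (F : C ⥤ H) (LF : D ⥤ H) (α : L ⋙ LF ⟶ F) [LF.IsLeftDerivedFunctor α W]
  (G : D ⥤ H) (β : L ⋙ G ⟶ F) (P₀ : C → Prop)

/-- Recognition of left derived functors on an adapted class. -/
theorem isLeftDerivedFunctor_of_adapted
    (hres : ∀ X : C, ∃ (P : C) (s : P ⟶ X), P₀ P ∧ W s)
    (hα : ∀ P, P₀ P → IsIso (α.app P)) (hβ : ∀ P, P₀ P → IsIso (β.app P)) :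
    G.IsLeftDerivedFunctor β W :=
  (Functor.isLeftDerivedFunctor_iff_isIso_leftDerivedLift LF α W G β).2
    (isIso_leftDerivedLift_of_adapted L W F LF α G β P₀ hres hα hβ)

end Abstract

variable {X Y : Scheme.{u}} (f : X ⟶ Y) [DCoh.HasLpull f] [DCoh.HasRpush f]

/-- the unit of `Rf_*` -/
noncomputable abbrev η : DCoh.pushKh f ⟶ DerivedCategory.Qh ⋙ DCoh.Rpush f :=
  (DCoh.pushKh f).totalRightDerivedUnit DerivedCategory.Qh (Wh X)

/-- `f^* ⊣ f_*` on homotopy categories -/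
noncomputable abbrev adjKh :
    (Scheme.Modules.pullback f).mapHomotopyCategory (ComplexShape.up ℤ) ⊣
      (Scheme.Modules.pushforward f).mapHomotopyCategory (ComplexShape.up ℤ) :=
  adjK (Scheme.Modules.pullbackPushforwardAdjunction f) (ComplexShape.up ℤ)

/-- `Lf^* ⋙ Rf_*` is the left derived functor of `K(f^*) ⋙ Qh ⋙ Rf_*` -/
instance isLeftDerivedFunctor_comp :
    (DCoh.Lpull f ⋙ DCoh.Rpush f).IsLeftDerivedFunctor
      ((Functor.associator _ _ _).inv ≫ Functor.whiskerRight (ε f) (DCoh.Rpush f)) (Wh Y) := by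
  have hΦ : ∀ {E E' : CochainComplex Y.Modules ℤ} (g : E ⟶ E'), P₀ Y E → P₀ Y E' → QuasiIso g →
      IsIso ((DCoh.pullKh f ⋙ DCoh.Rpush f).map ((HomotopyCategory.quotient _ _).map g)) := by
    intro E E' g h h' hg
    have := hΦ₀ f g h h' hg
    change IsIso ((DCoh.Rpush f).map ((DCoh.pullKh f).map ((HomotopyCategory.quotient _ _).map g)))
    infer_instance
  have : (DCoh.pullKh f ⋙ DCoh.Rpush f).HasLeftDerivedFunctor (Wh Y) :=
    hasLeftDerivedFunctor_Qh (P₀ Y) (hzero Y) hshift (fun g h h' => hcone g h h') hres₀ _ hΦ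
  refine isLeftDerivedFunctor_of_adapted DerivedCategory.Qh (Wh Y) (DCoh.pullKh f ⋙ DCoh.Rpush f)
    ((DCoh.pullKh f ⋙ DCoh.Rpush f).totalLeftDerived DerivedCategory.Qh (Wh Y))
    ((DCoh.pullKh f ⋙ DCoh.Rpush f).totalLeftDerivedCounit DerivedCategory.Qh (Wh Y)) _ _
    (fun P => ∃ G : CochainComplex Y.Modules ℤ, P₀ Y G ∧ P = (HomotopyCategory.quotient _ _).obj G)
    ?_ ?_ ?_
  · intro K
    obtain ⟨K, rfl⟩ := K.quotient_obj_surjective
    obtain ⟨E', s, hE', hs⟩ := hres₀ K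
    refine ⟨(HomotopyCategory.quotient _ _).obj E', (HomotopyCategory.quotient _ _).map s, ⟨E', hE', rfl⟩, ?_⟩
    change HomotopyCategory.quasiIso Y.Modules (ComplexShape.up ℤ) _
    rw [HomotopyCategory.quotient_map_mem_quasiIso_iff, HomologicalComplex.mem_quasiIso_iff]
    exact hs
  · rintro P ⟨G, hG, rfl⟩
    exact isIso_counit_app_quotient_obj (P₀ Y) (hzero Y) hshift (fun g h h' => hcone g h h') hres₀
      _ hΦ _ _ G hG
  · rintro P ⟨G, hG, rfl⟩
    have := isIso_ε_app f G hG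
    change IsIso (𝟙 _ ≫ (DCoh.Rpush f).map ((ε f).app ((HomotopyCategory.quotient _ _).obj G)))
    infer_instance

/-- `Rf_* ⋙ Lf^*` is the right derived functor of `K(f_*) ⋙ Qh ⋙ Lf^*` -/
instance isRightDerivedFunctor_comp :
    (DCoh.Rpush f ⋙ DCoh.Lpull f).IsRightDerivedFunctor
      (Functor.whiskerRight (η f) (DCoh.Lpull f) ≫ (Functor.associator _ _ _).hom) (Wh X) := by
  obtain ⟨r, e, hr, -⟩ := exists_fibrant (Groth.Agent.Lib.Helper25.SchKInj.hKinj X)
  constructor
  apply isLeftKanExtension_of_isIso DerivedCategory.Qh r e hr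
  intro K
  have := isIso_β_app (Wh X) (η f) r e hr K
  change IsIso ((DCoh.Lpull f).map ((η f).app (r K)) ≫ 𝟙 _)
  infer_instance

/-- **the derived adjunction `Lf^* ⊣ Rf_*`** -/
noncomputable def adj : DCoh.Lpull f ⊣ DCoh.Rpush f :=
  (adjKh f).derived (Wh Y) (Wh X) (ε f) (η f)

lemma adj_unit_fac (K : HomotopyCategory Y.Modules (ComplexShape.up ℤ)) :
    (adj f).unit.app (DerivedCategory.Qh.obj K) ≫ (DCoh.Rpush f).map ((ε f).app K) =
      DerivedCategory.Qh.map ((adjKh f).unit.app K) ≫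
        (η f).app (((Scheme.Modules.pullback f).mapHomotopyCategory (ComplexShape.up ℤ)).obj K) :=
  (adjKh f).derivedη_fac_app (Wh Y) (ε f) (η f) K

lemma adj_counit_fac (K : HomotopyCategory X.Modules (ComplexShape.up ℤ)) :
    (DCoh.Lpull f).map ((η f).app K) ≫ (adj f).counit.app (DerivedCategory.Qh.obj K) =
      (ε f).app (((Scheme.Modules.pushforward f).mapHomotopyCategory (ComplexShape.up ℤ)).obj K) ≫
        DerivedCategory.Qh.map ((adjKh f).counit.app K) :=
  (adjKh f).derivedε_fac_app (Wh X) (ε f) (η f) K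

section comp

variable {Z : Scheme.{u}} (g : Y ⟶ Z) [DCoh.HasRpush g] [DCoh.HasRpush (f ≫ g)]

/-- **`Rg_* ∘ Rf_* ≅ R(g f)_*`**, by uniqueness of right adjoints and `Lf^* ∘ Lg^* ≅ L(g f)^*` -/
theorem nonempty_Rpush_comp : Nonempty (DCoh.Rpush f ⋙ DCoh.Rpush g ≅ DCoh.Rpush (f ≫ g)) := by
  have : DCoh.HasLpull g := hasLpull g
  have : DCoh.HasLpull (f ≫ g) := hasLpull (f ≫ g)
  obtain ⟨e⟩ := nonempty_Lpull_comp f g
  exact ⟨(((adj g).comp (adj f)).ofNatIsoLeft e).rightAdjointUniq (adj (f ≫ g))⟩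

end comp

end Groth.Agent.Lib.Helper25.LpullRpushAdj
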