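import Mathlib
import Groth.Prelude.Def_CxOX
import Groth.Agent.Lib.Helper25.RGZ1
import Groth.Agent.Lib.Helper25.MVSupp
import Groth.Agent.S0922

/-!
# Unit of `j^* ⊣ Rj_*` on complexes supported in a closed subset of the open (helper25)

* `exists_iso_Rpush_of_opensRange`: `R(j.opensRange.ι)_* C ≅ Rj_* B` for some `B`.
* `isIso_unit_of_support`: unit `A ⟶ Rj_* j^* A` invertible if the cohomology of `A` is supported on a closed
  `T ⊆ j(X)`.
* `isIso_unit_RgammaZ` (S14368).
-/

set_option autoImplicit false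
universe u
open CategoryTheory CategoryTheory.Limits AlgebraicGeometry
attribute [local instance] HasDerivedCategory.standard

namespace Groth.Agent.Lib.Helper25.RGZ2

open AlgebraicGeometry.Scheme.Modules Groth.Agent.Lib.Helper25.SchKInj Groth.Agent.Lib.Helper25.RGZ1

variable {X Xbar : Scheme.{u}} (j : X ⟶ Xbar) [IsOpenImmersion j]

/-- the essential image of `R(j.opensRange.ι)_*` is contained in that of `Rj_*` -/
lemma exists_iso_Rpush_of_opensRange [DCoh.HasRpush j] [DCoh.HasRpush j.opensRange.ι]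
    (C : DCoh.D (j.opensRange : Scheme.{u})) :
    ∃ B : DCoh.D X, Nonempty ((DCoh.Rpush j.opensRange.ι).obj C ≅ (DCoh.Rpush j).obj B) := by
  have key : ∀ (g : (j.opensRange : Scheme.{u}) ⟶ Xbar) [DCoh.HasRpush g]
      (_ : g = j.isoOpensRange.inv ≫ j),
      ∃ B : DCoh.D X, Nonempty ((DCoh.Rpush g).obj C ≅ (DCoh.Rpush j).obj B) := by
    intro g _ hg
    subst hg
    haveI := hasRpush j.isoOpensRange.inv
    haveI : DCoh.HasLpull j.isoOpensRange.inv :=
      Groth.Agent.Lib.Helper25.LpullAdapted.hasLpull j.isoOpensRange.inv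
    obtain ⟨e⟩ := Groth.Agent.Lib.Helper25.LpullRpushAdj.nonempty_Rpush_comp j.isoOpensRange.inv j
    exact ⟨(DCoh.Rpush j.isoOpensRange.inv).obj C, ⟨(e.app C).symm⟩⟩
  exact key _ j.isoOpensRange_inv_comp.symm

/-- if the cohomology sheaves of `A` are supported on a closed subset contained in the image of the
open immersion `j`, then the unit `A ⟶ Rj_* j^* A` (of any adjunction) is invertible -/
theorem isIso_unit_of_support [DCoh.HasRpush j] (adj : DCoh.restrictD j ⊣ DCoh.Rpush j)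
    (T : Set Xbar) (hT : IsClosed T) (hTj : T ⊆ Set.range j.base) (A : DCoh.D Xbar)
    (hA : ∀ i : ℤ, CohB1.support (DCoh.HD A i) ⊆ T) : IsIso (adj.unit.app A) := by
  haveI := hasRpush j.opensRange.ι
  obtain ⟨e⟩ := MVSupp.nonempty_iso_Rpush_restrict j.opensRange T hT
    (by rw [Scheme.Hom.coe_opensRange]; exact hTj) A hA
  obtain ⟨B, ⟨e'⟩⟩ := exists_iso_Rpush_of_opensRange j ((DCoh.restrictD j.opensRange.ι).obj A)
  exact isIso_unit_of_iso_Rpush j adj A B (e ≪≫ e')

/-- S14368 -/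
theorem isIso_unit_RgammaZ (W : Xbar.Opens) (hW : (W : Set Xbar)ᶜ ⊆ Set.range j.base)
    [DCoh.HasRpush j] [CxOX.HasRgammaZ W.ι]
    (adj : DCoh.restrictD j ⊣ DCoh.Rpush j) (G : DCoh.D Xbar) :
    IsIso (adj.unit.app ((CxOX.RgammaZ W.ι).obj G)) :=
  isIso_unit_of_support j adj _ W.isOpen.isClosed_compl hW _
    (support_HD_restrictD W _ (isZero_restrictD_RgammaZ W.ι G))

end Groth.Agent.Lib.Helper25.RGZ2
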