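import Mathlib
import Groth.Prelude.Def_CxOX
import Groth.Agent.Lib.Helper25.RGZ1
import Groth.Agent.Lib.Helper25.RDerRlim
import Groth.Agent.Lib.Helper25.MVSupp

/-!
# The localization triangle `RΓ_Z(B) ⟶ B ⟶ Rj_*(B|_W) ⟶` (helper25)

`W` an open of a scheme `X`, `Z` its closed complement.
* `γ j I`, `γ_f`: the termwise inclusion `Γ_Z(I) ⟶ I`; `gammaZKhι_app`; `uQ_RgammaZToId`: the canonical
  `RgammaZToId` at `Q I` is `Q (γ I)` up to the unit iso (`RDerRlim.uQ`).
* `ses W I`, `ses_shortExact`: `0 → Γ_Z(I) → I → j_* j^* I → 0` is exact for `I` with injective terms.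
* `exists_distinguished_of_isos'`: transport of distinguished triangles with prescribed first map.
* `exists_triangle`: distinguished triangle `RΓ_Z(B) ⟶ B ⟶ Rj_* D' ⟶` with first map `(CxOX.RgammaZToId W.ι).app B`.
-/

set_option autoImplicit false
universe u
open CategoryTheory CategoryTheory.Limits AlgebraicGeometry Pretriangulated
attribute [local instance] HasDerivedCategory.standard

namespace Groth.Agent.Lib.Helper25.RGZ3

open AlgebraicGeometry.Scheme.Modules Groth.Agent.Lib.Helper25.SchKInj Groth.Agent.Lib.Helper25.RGZ1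
  DerivedCategory

variable {U X : Scheme.{u}} (j : U ⟶ X) [IsOpenImmersion j]

/-- the termwise inclusion `Γ_Z(I) ⟶ I` of complexes -/
noncomputable def γ (I : CochainComplex X.Modules ℤ) :
    ((DCoh.gammaZ j).mapHomologicalComplex (ComplexShape.up ℤ)).obj I ⟶ I :=
  (NatTrans.mapHomologicalComplex (CxOX.gammaZι j) (ComplexShape.up ℤ)).app I ≫
    (Functor.mapHomologicalComplexIdIso X.Modules (ComplexShape.up ℤ)).hom.app I

lemma γ_f (I : CochainComplex X.Modules ℤ) (n : ℤ) :
    (γ j I).f n = kernel.ι ((restrictAdjunction j).unit.app (I.X n)) := by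
  simp only [γ, CxOX.gammaZι, HomologicalComplex.comp_f, NatTrans.mapHomologicalComplex_app_f,
    Functor.mapHomologicalComplexIdIso_hom_app_f, Functor.id_obj]
  exact Category.comp_id _

lemma gammaZKhι_app (I : CochainComplex X.Modules ℤ) :
    (CxOX.gammaZKhι j).app ((HomotopyCategory.quotient _ _).obj I) =
      Qh.map (((DCoh.gammaZ j).mapHomotopyCategoryFactors (ComplexShape.up ℤ)).hom.app I) ≫
        Qh.map ((HomotopyCategory.quotient _ _).map (γ j I)) := by
  unfold CxOX.gammaZKhι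
  erw [Quotient.natTransLift_app]
  simp only [γ, NatTrans.comp_app, Functor.map_comp]
  erw [Category.id_comp, Category.id_comp, Category.comp_id]

variable [CxOX.HasRgammaZ j]

/-- compatibility of the unit of `RΓ_Z` with `RΓ_Z ⟶ 𝟭` -/
lemma uQ_RgammaZToId (I : CochainComplex X.Modules ℤ) :
    (RDerRlim.uQ (DCoh.gammaZ j) (CxOX.RgammaZ j)
      ((CxOX.gammaZKh j).totalRightDerivedUnit DerivedCategory.Qh
        (HomotopyCategory.quasiIso X.Modules (ComplexShape.up ℤ)))).app I ≫
      (CxOX.RgammaZToId j).app (Q.obj I) = Q.map (γ j I) := by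
  have hfac := congrArg (fun τ => NatTrans.app τ ((HomotopyCategory.quotient _ _).obj I))
    ((CxOX.RgammaZ j).rightDerived_fac
      ((CxOX.gammaZKh j).totalRightDerivedUnit DerivedCategory.Qh
        (HomotopyCategory.quasiIso X.Modules (ComplexShape.up ℤ)))
      (HomotopyCategory.quasiIso X.Modules (ComplexShape.up ℤ)) (𝟭 (DCoh.D X))
      (CxOX.gammaZKhι j ≫ (Functor.rightUnitor _).inv))
  simp only [NatTrans.comp_app, Functor.whiskerLeft_app, Functor.rightUnitor_inv_app] at hfac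
  have hnat := (CxOX.RgammaZToId j).naturality ((quotientCompQhIso X.Modules).hom.app I)
  simp only [Functor.id_obj, Functor.id_map, Functor.comp_obj] at hnat
  have hq := (quotientCompQhIso X.Modules).hom.naturality (γ j I)
  simp only [Functor.comp_map] at hq
  change _ ≫ (CxOX.RgammaZToId j).app _ = _ at hfac
  rw [Category.comp_id, gammaZKhι_app] at hfac
  simp only [RDerRlim.uQ, Category.assoc]
  rw [hnat, reassoc_of% hfac, hq, ← Qh.map_comp_assoc, Iso.inv_hom_id_app]
  erw [Qh.map_id, Category.id_comp, Category.id_comp, Category.id_comp]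

omit [CxOX.HasRgammaZ j] in
/-- a triangle isomorphic to a distinguished one, with prescribed first map -/
lemma exists_distinguished_of_isos' {C : Type*} [Category C] [HasZeroObject C] [HasShift C ℤ]
    [Preadditive C] [∀ n : ℤ, (shiftFunctor C n).Additive] [Pretriangulated C]
    (T : Triangle C) (hT : T ∈ distTriang C) {A₁ A₂ A₃ : C}
    (e₁ : T.obj₁ ≅ A₁) (e₂ : T.obj₂ ≅ A₂) (e₃ : T.obj₃ ≅ A₃) (a : A₁ ⟶ A₂)
    (ha : T.mor₁ ≫ e₂.hom = e₁.hom ≫ a) :
    ∃ (b : A₂ ⟶ A₃) (c : A₃ ⟶ A₁⟦(1 : ℤ)⟧), Triangle.mk a b c ∈ distTriang C := by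
  refine ⟨e₂.inv ≫ T.mor₂ ≫ e₃.hom, e₃.inv ≫ T.mor₃ ≫ e₁.hom⟦(1 : ℤ)⟧', ?_⟩
  refine isomorphic_distinguished _ hT _ (Triangle.isoMk _ _ e₁.symm e₂.symm e₃.symm ?_ ?_ ?_)
  · change a ≫ e₂.inv = e₁.inv ≫ T.mor₁
    rw [← cancel_mono e₂.hom, Category.assoc, Category.assoc, e₂.inv_hom_id, Category.comp_id, ha,
      e₁.inv_hom_id_assoc]
  · change (e₂.inv ≫ T.mor₂ ≫ e₃.hom) ≫ e₃.inv = e₂.inv ≫ T.mor₂
    rw [Category.assoc, Category.assoc, Iso.hom_inv_id, Category.comp_id]
  · change (e₃.inv ≫ T.mor₃ ≫ e₁.hom⟦(1 : ℤ)⟧') ≫ e₁.inv⟦(1 : ℤ)⟧' = e₃.inv ≫ T.mor₃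
    rw [Category.assoc, Category.assoc, ← Functor.map_comp, Iso.hom_inv_id,
      CategoryTheory.Functor.map_id, Category.comp_id]

section Open

variable (W : X.Opens)

/-- the short complex of complexes `0 → Γ_Z(I) → I → j_* j^* I → 0` -/
noncomputable def ses (I : CochainComplex X.Modules ℤ) :
    ShortComplex (CochainComplex X.Modules ℤ) :=
  ShortComplex.mk (γ W.ι I) (DerAdjK.unitCx (restrictAdjunction W.ι) (ComplexShape.up ℤ) I) (by
    refine HomologicalComplex.hom_ext _ _ (fun n => ?_)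
    rw [HomologicalComplex.comp_f, γ_f]
    exact kernel.condition ((restrictAdjunction W.ι).unit.app (I.X n)))

lemma ses_shortExact (I : CochainComplex X.Modules ℤ) (hinj : ∀ n, Injective (I.X n)) :
    (ses W I).ShortExact := by
  apply HomologicalComplex.shortExact_of_degreewise_shortExact
  intro n
  haveI := hinj n
  have hepi : Epi ((restrictAdjunction W.ι).unit.app (I.X n)) :=
    Groth.Agent.Lib.helper21.SchShriek.epi_restrictAdjunction_unit W (I.X n)
  have hex := ShortComplex.exact_kernel ((restrictAdjunction W.ι).unit.app (I.X n))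
  have hf : ((ses W I).map (HomologicalComplex.eval _ _ n)).f =
      kernel.ι ((restrictAdjunction W.ι).unit.app (I.X n)) := γ_f W.ι I n
  refine { exact := ?_, mono_f := ?_, epi_g := hepi }
  · refine ShortComplex.exact_of_iso ?_ hex
    exact ShortComplex.isoMk (Iso.refl _) (Iso.refl _) (Iso.refl _)
      ((Category.id_comp _).trans (hf.trans (Category.comp_id _).symm))
      ((Category.id_comp _).trans (Category.comp_id _).symm)
  · rw [hf]
    exact equalizer.ι_mono

/-- **The localization triangle** `RΓ_Z(B) ⟶ B ⟶ Rj_*(D') ⟶ RΓ_Z(B)[1]` (with `D' ≅ B|_W`), whose first map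
is the canonical `RgammaZToId`. -/
theorem exists_triangle [CxOX.HasRgammaZ W.ι] [DCoh.HasRpush W.ι] (B : DCoh.D X) :
    ∃ (D' : DCoh.D (W : Scheme.{u})) (v : B ⟶ (DCoh.Rpush W.ι).obj D')
      (w : (DCoh.Rpush W.ι).obj D' ⟶ ((CxOX.RgammaZ W.ι).obj B)⟦(1 : ℤ)⟧),
      Triangle.mk ((CxOX.RgammaZToId W.ι).app B) v w ∈ distTriang (DCoh.D X) := by
  obtain ⟨I, hI, hinj, ⟨e⟩⟩ := MVDer.exists_kInjective_injective B
  have hT := DerivedCategory.triangleOfSES_distinguished (ses_shortExact W I hinj)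
  haveI := hI
  have hiso := RDerRlim.isIso_uQ_app (DCoh.gammaZ W.ι) (CxOX.RgammaZ W.ι)
      ((CxOX.gammaZKh W.ι).totalRightDerivedUnit DerivedCategory.Qh
        (HomotopyCategory.quasiIso X.Modules (ComplexShape.up ℤ)))
      (MVDer.isIso_totalRightDerivedUnit (DCoh.gammaZ W.ι)) I
  obtain ⟨e₃⟩ := MVDer.nonempty_iso_totalRightDerived (pushforward W.ι)
    (Q.obj (((restrictFunctor W.ι).mapHomologicalComplex (ComplexShape.up ℤ)).obj I))
    (((restrictFunctor W.ι).mapHomologicalComplex (ComplexShape.up ℤ)).obj I)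
    (isKInjective_restrict W I hI) (Iso.refl _)
  obtain ⟨v, w, h⟩ := exists_distinguished_of_isos' _ hT
    (@asIso _ _ _ _ _ hiso ≪≫
      (CxOX.RgammaZ W.ι).mapIso e.symm) e.symm e₃ ((CxOX.RgammaZToId W.ι).app B) (by
    have hnat := (CxOX.RgammaZToId W.ι).naturality e.inv
    simp only [Functor.id_obj, Functor.id_map] at hnat
    have hu := uQ_RgammaZToId W.ι I
    exact ((congrArg (· ≫ e.inv) hu).symm.trans (Category.assoc _ _ _)).trans
      (((congrArg (_ ≫ ·) hnat).symm).trans (Category.assoc _ _ _).symm))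
  exact ⟨_, v, w, h⟩

end Open

end Groth.Agent.Lib.Helper25.RGZ3
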