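import Mathlib
import Groth.Prelude.Def_CxOX
import Groth.Agent.Lib.Helper25.RGZ3
import Groth.Agent.Lib.Helper25.RGZ2
import Groth.Agent.Lib.Helper16.QCohFibre

/-!
# `RΓ_Z` as a coreflection; `j^*`, `Rj_*` on supported complexes (helper25)

* `hom_Rpush_eq_zero`: `Y|_U = 0 ⇒ Hom(Y, Rj_* D') = 0`.
* `exists_lift_RgammaZ`: `Y|_W = 0 ⇒` every `Y ⟶ B` factors through `RΓ_Z(B) ⟶ B` (`RgammaZToId`).
* `mono_unit_of_iso`, `isZero_gammaZ_pushforward`, `isZero_RgammaZ_Rpush`: `RΓ_{X∖T}(Rj_* F) = 0` if `j(X') ⊆ T`.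
* `isZero_restrict_restrict`, `isZero_restrictD_restrictD`: `(G|_{X'})|_U = 0` if `G|_{U'} = 0`, `j(U) ⊆ U'`.
* `isIso_unit_of_isZero_RgammaZ`: `G|_{U'} = 0`, `RΓ_{X∖(U'∪U₀)}(G) = 0 ⇒ G ≅ R(j₀)_*(G|_{U₀})`.
* `isQCohD_restrictD`; `equiv_supported` (S14366).
-/

set_option autoImplicit false
universe u
open CategoryTheory CategoryTheory.Limits AlgebraicGeometry Pretriangulated
attribute [local instance] HasDerivedCategory.standard

namespace Groth.Agent.Lib.Helper25.RGZ4

open AlgebraicGeometry.Scheme.Modules Groth.Agent.Lib.Helper25.SchKInj Groth.Agent.Lib.Helper25.RGZ1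
  Groth.Agent.Lib.Helper25.RGZ3 DerivedCategory

variable {X : Scheme.{u}}

/-- if `Y|_U = 0` then every morphism `Y ⟶ Rj_* D'` vanishes (`j` an open immersion) -/
lemma hom_Rpush_eq_zero {U : Scheme.{u}} (j : U ⟶ X) [IsOpenImmersion j] [DCoh.HasRpush j]
    (Y : DCoh.D X) (hY : IsZero ((DCoh.restrictD j).obj Y))
    (D' : DCoh.D U) (f : Y ⟶ (DCoh.Rpush j).obj D') : f = 0 := by
  obtain ⟨adj⟩ := nonempty_adj j
  apply (adj.homEquiv Y D').symm.injective
  exact hY.eq_of_src _ _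

/-- **coreflection** (surjectivity): if `Y|_W = 0`, every `Y ⟶ B` factors through `RΓ_Z(B) ⟶ B` -/
theorem exists_lift_RgammaZ (W : X.Opens) [CxOX.HasRgammaZ W.ι]
    (Y : DCoh.D X) (hY : IsZero ((DCoh.restrictD W.ι).obj Y)) (B : DCoh.D X) (f : Y ⟶ B) :
    ∃ g : Y ⟶ (CxOX.RgammaZ W.ι).obj B, g ≫ (CxOX.RgammaZToId W.ι).app B = f := by
  haveI := hasRpush W.ι
  obtain ⟨D', v, w, hT⟩ := exists_triangle W B
  obtain ⟨g, hg⟩ := Triangle.coyoneda_exact₂ _ hT f (hom_Rpush_eq_zero W.ι Y hY D' _)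
  exact ⟨g, hg.symm⟩

/-- the unit of an adjunction is a monomorphism at objects in the essential image of the right adjoint -/
lemma mono_unit_of_iso {A B : Type*} [Category A] [Category B] {L : A ⥤ B} {R : B ⥤ A}
    (adj : L ⊣ R) (M : A) (N : B) (e : M ≅ R.obj N) : Mono (adj.unit.app M) := by
  have h2 := adj.unit.naturality e.hom
  simp only [Functor.id_obj, Functor.id_map, Functor.comp_obj, Functor.comp_map] at h2
  haveI : Mono (adj.unit.app (R.obj N)) :=
    (SplitMono.mk _ (adj.right_triangle_components N)).mono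
  haveI : Mono (adj.unit.app M ≫ R.map (L.map e.hom)) := by
    rw [← h2]
    infer_instance
  exact mono_of_mono _ (R.map (L.map e.hom))

section

variable {X' : Scheme.{u}} (j : X' ⟶ X) [IsOpenImmersion j] (T : X.Opens)
  (hT : Set.range j.base ⊆ (T : Set X))

omit [IsOpenImmersion j] in
include hT in
/-- `Γ_{X ∖ T}(j_* M) = 0` if `j` factors through `T` -/
lemma isZero_gammaZ_pushforward (M : X'.Modules) :
    IsZero ((DCoh.gammaZ T.ι).obj ((pushforward j).obj M)) := by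
  have hr : Set.range j.base ⊆ Set.range T.ι.base := by
    rw [Scheme.Opens.range_ι]; exact hT
  have hfac : IsOpenImmersion.lift T.ι j hr ≫ T.ι = j := IsOpenImmersion.lift_fac _ _ _
  have e : (pushforward j).obj M ≅
      (pushforward T.ι).obj ((pushforward (IsOpenImmersion.lift T.ι j hr)).obj M) :=
    ((pushforwardCongr hfac).symm ≪≫ (pushforwardComp _ _).symm).app M
  haveI := mono_unit_of_iso (restrictAdjunction T.ι) _ _ e
  exact (Preadditive.mono_iff_isZero_kernel _).1 inferInstance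

include hT in
/-- `RΓ_{X ∖ T}(Rj_* F) = 0` if `j` factors through `T` -/
theorem isZero_RgammaZ_Rpush [DCoh.HasRpush j] [CxOX.HasRgammaZ T.ι] (F : DCoh.D X') :
    IsZero ((CxOX.RgammaZ T.ι).obj ((DCoh.Rpush j).obj F)) := by
  obtain ⟨I, hI, -, ⟨e⟩⟩ := MVDer.exists_kInjective_injective F
  obtain ⟨e₁⟩ := MVDer.nonempty_iso_totalRightDerived (pushforward j) F I hI e
  haveI := hI
  have hJ : CochainComplex.IsKInjective
      (((pushforward j).mapHomologicalComplex (ComplexShape.up ℤ)).obj I) :=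
    Groth.Agent.Lib.Helper21.KInjAdj.isKInjective_obj (restrictAdjunction j) I
  obtain ⟨e₂⟩ := MVDer.nonempty_iso_totalRightDerived (DCoh.gammaZ T.ι) _ _ hJ e₁.symm
  refine IsZero.of_iso ?_ e₂.symm
  refine Functor.map_isZero DerivedCategory.Q (isZero_of_forall_isZero_X _ (fun n => ?_))
  exact isZero_gammaZ_pushforward j T hT (I.X n)

end

section Restrict

open Groth.Agent.Lib.helper7.RestrictSupport Groth.Agent.Lib.Helper25.DerBC

variable {X' : Scheme.{u}} (j : X' ⟶ X) [IsOpenImmersion j] (U : X'.Opens) (U' : X.Opens)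
  (hU : ∀ x ∈ U, j.base x ∈ U')

include hU in
lemma isZero_restrict_restrict (M : X.Modules) (hM : IsZero ((restrictFunctor U'.ι).obj M)) :
    IsZero ((restrictFunctor U.ι).obj ((restrictFunctor j).obj M)) := by
  rw [isZero_restrict_iff] at hM ⊢
  intro V hV
  change Subsingleton Γ(M, j ''ᵁ V)
  apply hM
  rintro _ ⟨y, hy, rfl⟩
  exact hU y (hV hy)

include hU in
/-- `(G|_{X'})|_U = 0` if `G|_{U'} = 0` and `j(U) ⊆ U'` -/
theorem isZero_restrictD_restrictD (G : DCoh.D X) (hG : IsZero ((DCoh.restrictD U'.ι).obj G)) :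
    IsZero ((DCoh.restrictD U.ι).obj ((DCoh.restrictD j).obj G)) := by
  apply isZero_of_homology
  intro n
  obtain ⟨e⟩ := nonempty_homology_mapDerivedCategory_iso (restrictFunctor U.ι)
    ((DCoh.restrictD j).obj G) n
  obtain ⟨e'⟩ := nonempty_homology_mapDerivedCategory_iso (restrictFunctor j) G n
  obtain ⟨e''⟩ := nonempty_homology_mapDerivedCategory_iso (restrictFunctor U'.ι) G n
  refine IsZero.of_iso ?_ (e ≪≫ (restrictFunctor U.ι).mapIso e')
  apply isZero_restrict_restrict j U U' hU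
  exact IsZero.of_iso (Functor.map_isZero _ hG) e''.symm

end Restrict

/-- if `G|_{U'} = 0` and `RΓ_{X ∖ (U' ∪ U₀)}(G) = 0`, the unit `G ⟶ R(j₀)_* (G|_{U₀})` is invertible -/
theorem isIso_unit_of_isZero_RgammaZ (U₀ U' T : X.Opens) (hT : (T : Set X) = (U' : Set X) ∪ U₀)
    [DCoh.HasRpush U₀.ι] [CxOX.HasRgammaZ T.ι] (adj₀ : DCoh.restrictD U₀.ι ⊣ DCoh.Rpush U₀.ι)
    (G : DCoh.D X) (hG' : IsZero ((DCoh.restrictD U'.ι).obj G))
    (hΓ : IsZero ((CxOX.RgammaZ T.ι).obj G)) : IsIso (adj₀.unit.app G) := by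
  obtain ⟨C, v, w, hTri⟩ := distinguished_cocone_triangle (adj₀.unit.app G)
  have h1 : IsZero ((DCoh.restrictD U₀.ι).obj C) := by
    have hd := (DCoh.restrictD U₀.ι).map_distinguished _ hTri
    refine Triangle.isZero₃_of_isIso₁ _ hd ?_
    have ht := adj₀.left_triangle_components G
    have hc := isIso_counit U₀.ι adj₀ ((DCoh.restrictD U₀.ι).obj G)
    have hid : IsIso (𝟙 ((DCoh.restrictD U₀.ι).obj G)) := IsIso.id _
    exact @IsIso.of_isIso_fac_right _ _ _ _ _ _ _ _ hc hid ht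
  have h2 : IsZero ((DCoh.restrictD U'.ι).obj C) := by
    have hd := (DCoh.restrictD U'.ι).map_distinguished _ hTri
    haveI := hasRpush (U₀.ι ∣_ U')
    obtain ⟨e⟩ := nonempty_Rpush_restrict_iso U₀.ι U'
    have hU : ∀ x ∈ (U₀.ι ⁻¹ᵁ U'), U₀.ι.base x ∈ U' := by
      intro x hx
      rwa [Scheme.Hom.mem_preimage] at hx
    have hP : IsZero ((DCoh.restrictD U'.ι).obj ((DCoh.Rpush U₀.ι).obj
        ((DCoh.restrictD U₀.ι).obj G))) :=
      IsZero.of_iso (MVSupp.isZero_Rpush_of_isZero (U₀.ι ∣_ U')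
        ((DCoh.restrictD (U₀.ι ⁻¹ᵁ U').ι).obj ((DCoh.restrictD U₀.ι).obj G))
        (isZero_restrictD_restrictD U₀.ι (U₀.ι ⁻¹ᵁ U') U' hU G hG'))
        (e.app ((DCoh.restrictD U₀.ι).obj G))
    exact Triangle.isZero₃_of_isZero₁₂ _ hd hG' hP
  have h3 : IsZero ((DCoh.restrictD T.ι).obj C) := by
    apply isZero_restrictD_of_support
    intro i x hx hxT
    have hx' : x ∈ (U' : Set X) ∪ U₀ := hT ▸ hxT
    rcases hx' with h | h
    · exact support_HD_restrictD U' C h2 i hx h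
    · exact support_HD_restrictD U₀ C h1 i hx h
  have hw : w = 0 := by
    apply (shiftFunctor (DCoh.D X) (-1 : ℤ)).map_injective
    rw [Functor.map_zero]
    have h4 : IsZero ((DCoh.restrictD T.ι).obj (C⟦(-1 : ℤ)⟧)) :=
      IsZero.of_iso (Functor.map_isZero _ h3) (((DCoh.restrictD T.ι).commShiftIso (-1 : ℤ)).app C)
    obtain ⟨g, hg⟩ := exists_lift_RgammaZ T _ h4 G
      ((shiftFunctor (DCoh.D X) (-1 : ℤ)).map w ≫
        (shiftFunctorCompIsoId (DCoh.D X) (1 : ℤ) (-1) (by simp)).hom.app G)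
    have hg0 : g = 0 := hΓ.eq_of_tgt _ _
    rw [hg0, zero_comp] at hg
    rw [← cancel_mono ((shiftFunctorCompIsoId (DCoh.D X) (1 : ℤ) (-1) (by simp)).hom.app G),
      zero_comp]
    exact hg.symm
  obtain ⟨g, hg⟩ := Triangle.coyoneda_exact₃ _ hTri (𝟙 C) (by
    change 𝟙 C ≫ w = 0
    rw [hw, comp_zero])
  have hg0 : g = 0 := hom_Rpush_eq_zero U₀.ι C h1 _ g
  have hC : IsZero C := by
    rw [IsZero.iff_id_eq_zero, hg, hg0]
    exact zero_comp
  exact (Triangle.isZero₃_iff_isIso₁ _ hTri).1 hC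

section Main

open Groth.Agent.Lib.Helper25.DerBC

variable {X' : Scheme.{u}} (j : X' ⟶ X) [IsOpenImmersion j]

/-- restriction to an open subscheme preserves `D_QCoh` -/
lemma isQCohD_restrictD (G : DCoh.D X) (hG : DCoh.IsQCohD G) :
    DCoh.IsQCohD ((DCoh.restrictD j).obj G) := by
  intro i
  obtain ⟨e⟩ := nonempty_homology_mapDerivedCategory_iso (restrictFunctor j) G i
  haveI : (DCoh.HD G i).IsQuasicoherent := hG i
  exact Groth.Agent.Lib.helper16.QCohFibre.isQuasicoherent_of_iso e.symm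

/-- S14366 -/
theorem equiv_supported (U : X'.Opens) (U' T : X.Opens)
    (hU' : (U' : Set X) = (closure (j.base '' ((U : Set X')ᶜ)))ᶜ)
    (hT : (T : Set X) = (U' : Set X) ∪ Set.range j.base)
    [DCoh.HasRpush j] [CxOX.HasRgammaZ T.ι]
    (adj : DCoh.restrictD j ⊣ DCoh.Rpush j) :
    (∀ F : DCoh.D X', DCoh.IsQCohD F → CxOX.IsSuppD U.ι F →
        CxOX.IsSuppD U'.ι ((DCoh.Rpush j).obj F) ∧
          IsZero ((CxOX.RgammaZ T.ι).obj ((DCoh.Rpush j).obj F))) ∧
    (∀ F : DCoh.D X', IsIso (adj.counit.app F)) ∧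
    (∀ G : DCoh.D X, DCoh.IsQCohD G → CxOX.IsSuppD U'.ι G →
        IsZero ((CxOX.RgammaZ T.ι).obj G) →
        IsIso (adj.unit.app G) ∧ DCoh.IsQCohD ((DCoh.restrictD j).obj G) ∧
          CxOX.IsSuppD U.ι ((DCoh.restrictD j).obj G)) := by
  have hjU : ∀ x : X', j.base x ∈ U' → x ∈ U := by
    intro x hx
    by_contra hxU
    have h1 : j.base x ∈ (U' : Set X) := hx
    rw [hU'] at h1
    exact h1 (subset_closure ⟨x, hxU, rfl⟩)
  have hUj : ∀ x ∈ U, j.base x ∈ U' := by
    intro x hx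
    change j.base x ∈ (U' : Set X)
    rw [hU']
    intro h1
    have h2 : x ∈ closure ((U : Set X')ᶜ) := by
      rw [j.isOpenEmbedding.isInducing.closure_eq_preimage_closure_image]
      exact h1
    rw [U.isOpen.isClosed_compl.closure_eq] at h2
    exact h2 hx
  refine ⟨fun F _ hF => ⟨?_, ?_⟩, fun F => isIso_counit j adj F, fun G hG hGs hΓ => ⟨?_, ?_, ?_⟩⟩
  · -- support of `Rj_* F`
    haveI := hasRpush (j ∣_ U')
    obtain ⟨e⟩ := nonempty_Rpush_restrict_iso j U'
    have h1 : IsZero ((DCoh.restrictD (j ⁻¹ᵁ U').ι).obj F) := by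
      apply isZero_restrictD_of_support
      intro i x hx hxU
      have := hF i hx
      rw [Scheme.Opens.range_ι] at this
      exact this (hjU x hxU)
    have h2 : IsZero ((DCoh.restrictD U'.ι).obj ((DCoh.Rpush j).obj F)) :=
      IsZero.of_iso (MVSupp.isZero_Rpush_of_isZero (j ∣_ U') _ h1) (e.app F)
    intro i
    rw [Scheme.Opens.range_ι]
    exact support_HD_restrictD U' _ h2 i
  · exact isZero_RgammaZ_Rpush j T (by rw [hT]; exact Set.subset_union_right) F
  · -- the unit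
    haveI := hasRpush j.opensRange.ι
    obtain ⟨adj₀⟩ := nonempty_adj j.opensRange.ι
    have hG' : IsZero ((DCoh.restrictD U'.ι).obj G) := by
      apply isZero_restrictD_of_support
      intro i
      have := hGs i
      rwa [Scheme.Opens.range_ι] at this
    haveI := isIso_unit_of_isZero_RgammaZ j.opensRange U' T
      (by rw [hT, Scheme.Hom.coe_opensRange]) adj₀ G hG' hΓ
    obtain ⟨B, ⟨e'⟩⟩ := RGZ2.exists_iso_Rpush_of_opensRange j
      ((DCoh.restrictD j.opensRange.ι).obj G)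
    exact isIso_unit_of_iso_Rpush j adj G B (asIso (adj₀.unit.app G) ≪≫ e')
  · exact isQCohD_restrictD j G hG
  · intro i
    rw [Scheme.Opens.range_ι]
    have hG' : IsZero ((DCoh.restrictD U'.ι).obj G) := by
      apply isZero_restrictD_of_support
      intro i
      have := hGs i
      rwa [Scheme.Opens.range_ι] at this
    exact support_HD_restrictD U _ (isZero_restrictD_restrictD j U U' hUj G hG') i

end Main

end Groth.Agent.Lib.Helper25.RGZ4
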