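import Mathlib
import Groth.Prelude.Def_CxOX
import Groth.Agent.Lib.Helper25.RGZ4
import Groth.Agent.Lib.Helper25.RDerTri

/-!
# `Rf_* RΓ_{f⁻¹Z} ≅ RΓ_Z Rf_*` (helper25)

* `exists_distinguished_Rpush`: `Rf_*` sends distinguished triangles to distinguished triangles (first two maps
  `Rf_*(mor₁)`, `Rf_*(mor₂)`), from `RDerTri.exists_distinguished`.
* `Orth W P`: `Hom(Z, P) = 0` for all `Z` with `Z|_W = 0`; `orth_Rpush`, `orth_of_iso`, `isZero_restrictD_shift`.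
* `bij_of_orth`: for a distinguished triangle with third vertex in `Orth W`, composition with the first map is
  bijective on `Hom(Z, -)`, `Z|_W = 0`.
* `isIso_of_bij`: uniqueness of such "coreflections".
* `nonempty_Rpush_Rpush_iso`: `Rf_* Rj'_* ≅ Rj_* R(f|_U)_*`.
* `Rpush_RgammaZ` (S14364).
-/

set_option autoImplicit false
universe u
open CategoryTheory CategoryTheory.Limits AlgebraicGeometry Pretriangulated
attribute [local instance] HasDerivedCategory.standard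

namespace Groth.Agent.Lib.Helper25.RGZ5

open AlgebraicGeometry.Scheme.Modules Groth.Agent.Lib.Helper25.SchKInj Groth.Agent.Lib.Helper25.RGZ1
  Groth.Agent.Lib.Helper25.RGZ3 Groth.Agent.Lib.Helper25.RGZ4 DerivedCategory

variable {X Y : Scheme.{u}}

/-- `Rf_*` sends distinguished triangles to distinguished triangles -/
theorem exists_distinguished_Rpush (f : X ⟶ Y) [DCoh.HasRpush f] (T : Triangle (DCoh.D X))
    (hT : T ∈ distTriang _) :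
    ∃ c : (DCoh.Rpush f).obj T.obj₃ ⟶ ((DCoh.Rpush f).obj T.obj₁)⟦(1 : ℤ)⟧,
      Triangle.mk ((DCoh.Rpush f).map T.mor₁) ((DCoh.Rpush f).map T.mor₂) c ∈
        distTriang (DCoh.D Y) :=
  RDerTri.exists_distinguished (hKinj X) (DCoh.pushKh f) (DCoh.Rpush f)
    ((DCoh.pushKh f).totalRightDerivedUnit DerivedCategory.Qh
      (HomotopyCategory.quasiIso _ (ComplexShape.up ℤ)))
    (MVDer.isIso_totalRightDerivedUnit (pushforward f)) T hT

section Orth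

variable (W : Y.Opens)

/-- objects right orthogonal to the complexes vanishing on `W` -/
def Orth (P : DCoh.D Y) : Prop :=
  ∀ (Z : DCoh.D Y), IsZero ((DCoh.restrictD W.ι).obj Z) → ∀ g : Z ⟶ P, g = 0

lemma orth_of_iso {P P' : DCoh.D Y} (e : P ≅ P') (h : Orth W P) : Orth W P' := by
  intro Z hZ g
  have := h Z hZ (g ≫ e.inv)
  rw [← cancel_mono e.inv, this, zero_comp]

lemma orth_Rpush [DCoh.HasRpush W.ι] (D' : DCoh.D (W : Scheme.{u})) :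
    Orth W ((DCoh.Rpush W.ι).obj D') :=
  fun Z hZ g => hom_Rpush_eq_zero W.ι Z hZ D' g

lemma isZero_restrictD_shift (Z : DCoh.D Y) (hZ : IsZero ((DCoh.restrictD W.ι).obj Z)) (n : ℤ) :
    IsZero ((DCoh.restrictD W.ι).obj (Z⟦n⟧)) :=
  IsZero.of_iso (Functor.map_isZero _ hZ) (((DCoh.restrictD W.ι).commShiftIso n).app Z)

/-- for a distinguished triangle with third vertex in `Orth W`, composition with the first map is bijective on
morphisms from complexes vanishing on `W` -/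
lemma bij_of_orth (T : Triangle (DCoh.D Y)) (hT : T ∈ distTriang _) (hP : Orth W T.obj₃)
    (Z : DCoh.D Y) (hZ : IsZero ((DCoh.restrictD W.ι).obj Z)) :
    (∀ h : Z ⟶ T.obj₂, ∃ g : Z ⟶ T.obj₁, g ≫ T.mor₁ = h) ∧
    (∀ g : Z ⟶ T.obj₁, g ≫ T.mor₁ = 0 → g = 0) := by
  constructor
  · intro h
    obtain ⟨g, hg⟩ := Triangle.coyoneda_exact₂ _ hT h (hP Z hZ _)
    exact ⟨g, hg.symm⟩
  · intro g hg
    obtain ⟨g', hg'⟩ := Triangle.coyoneda_exact₂ _ (inv_rot_of_distTriang _ hT) g hg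
    have h0 : g' = 0 := by
      apply (shiftFunctor (DCoh.D Y) (1 : ℤ)).map_injective
      rw [Functor.map_zero]
      have := hP (Z⟦(1 : ℤ)⟧) (isZero_restrictD_shift W Z hZ 1)
        ((shiftFunctor (DCoh.D Y) (1 : ℤ)).map g' ≫
          (shiftFunctorCompIsoId (DCoh.D Y) (-1 : ℤ) 1 (by simp)).hom.app T.obj₃)
      exact (cancel_mono ((shiftFunctorCompIsoId (DCoh.D Y) (-1 : ℤ) 1 (by simp)).hom.app
        T.obj₃)).1 (this.trans zero_comp.symm)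
    rw [hg', h0]
    exact zero_comp

/-- two "coreflections" of the same object into the complexes vanishing on `W` are isomorphic -/
lemma isIso_of_bij {A A' B : DCoh.D Y} (a : A ⟶ B) (a' : A' ⟶ B)
    (hA : IsZero ((DCoh.restrictD W.ι).obj A)) (hA' : IsZero ((DCoh.restrictD W.ι).obj A'))
    (ha : ∀ (Z : DCoh.D Y), IsZero ((DCoh.restrictD W.ι).obj Z) →
      (∀ h : Z ⟶ B, ∃ g : Z ⟶ A, g ≫ a = h) ∧ (∀ g : Z ⟶ A, g ≫ a = 0 → g = 0))
    (ha' : ∀ (Z : DCoh.D Y), IsZero ((DCoh.restrictD W.ι).obj Z) →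
      (∀ h : Z ⟶ B, ∃ g : Z ⟶ A', g ≫ a' = h) ∧ (∀ g : Z ⟶ A', g ≫ a' = 0 → g = 0))
    (α : A ⟶ A') (hα : α ≫ a' = a) : IsIso α := by
  obtain ⟨β, hβ⟩ := (ha A' hA').1 a'
  refine ⟨β, ?_, ?_⟩
  · have h := (ha A hA).2 (α ≫ β - 𝟙 A) (by
      rw [Preadditive.sub_comp, Category.assoc, hβ, hα, Category.id_comp, sub_self])
    exact sub_eq_zero.1 h
  · have h := (ha' A' hA').2 (β ≫ α - 𝟙 A') (by
      rw [Preadditive.sub_comp, Category.assoc, hα, hβ, Category.id_comp, sub_self])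
    exact sub_eq_zero.1 h

end Orth

section Main

variable (f : X ⟶ Y) (U : Y.Opens)

/-- `Rf_* Rj'_* D' ≅ Rj_* Rf'_* D'` for the cartesian square of `f` and the open `U` -/
lemma nonempty_Rpush_Rpush_iso [DCoh.HasRpush f] [DCoh.HasRpush (f ⁻¹ᵁ U).ι] [DCoh.HasRpush U.ι]
    [DCoh.HasRpush (f ∣_ U)] (D' : DCoh.D ((f ⁻¹ᵁ U : X.Opens) : Scheme.{u})) :
    Nonempty ((DCoh.Rpush f).obj ((DCoh.Rpush (f ⁻¹ᵁ U).ι).obj D') ≅
      (DCoh.Rpush U.ι).obj ((DCoh.Rpush (f ∣_ U)).obj D')) := by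
  have key : ∀ (g : ((f ⁻¹ᵁ U : X.Opens) : Scheme.{u}) ⟶ Y) [DCoh.HasRpush g]
      (_ : g = (f ∣_ U) ≫ U.ι),
      Nonempty ((DCoh.Rpush g).obj D' ≅ (DCoh.Rpush U.ι).obj ((DCoh.Rpush (f ∣_ U)).obj D')) := by
    intro g _ hg
    subst hg
    haveI : DCoh.HasLpull (f ∣_ U) := Groth.Agent.Lib.Helper25.LpullAdapted.hasLpull _
    obtain ⟨e⟩ := Groth.Agent.Lib.Helper25.LpullRpushAdj.nonempty_Rpush_comp (f ∣_ U) U.ι
    exact ⟨(e.app D').symm⟩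
  haveI : DCoh.HasRpush ((f ⁻¹ᵁ U).ι ≫ f) := hasRpush _
  haveI : DCoh.HasLpull (f ⁻¹ᵁ U).ι := Groth.Agent.Lib.Helper25.LpullAdapted.hasLpull _
  obtain ⟨e⟩ := Groth.Agent.Lib.Helper25.LpullRpushAdj.nonempty_Rpush_comp (f ⁻¹ᵁ U).ι f
  obtain ⟨e'⟩ := key ((f ⁻¹ᵁ U).ι ≫ f) (morphismRestrict_ι f U).symm
  exact ⟨e.app D' ≪≫ e'⟩

/-- S14364 -/
theorem Rpush_RgammaZ [CxOX.HasRgammaZ U.ι] [CxOX.HasRgammaZ (f ⁻¹ᵁ U).ι] [DCoh.HasRpush f]
    (K : DCoh.D X) :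
    (∃ α : (DCoh.Rpush f).obj ((CxOX.RgammaZ (f ⁻¹ᵁ U).ι).obj K) ⟶
        (CxOX.RgammaZ U.ι).obj ((DCoh.Rpush f).obj K),
        α ≫ (CxOX.RgammaZToId U.ι).app ((DCoh.Rpush f).obj K) =
          (DCoh.Rpush f).map ((CxOX.RgammaZToId (f ⁻¹ᵁ U).ι).app K)) ∧
    ∀ α : (DCoh.Rpush f).obj ((CxOX.RgammaZ (f ⁻¹ᵁ U).ι).obj K) ⟶
        (CxOX.RgammaZ U.ι).obj ((DCoh.Rpush f).obj K),
        α ≫ (CxOX.RgammaZToId U.ι).app ((DCoh.Rpush f).obj K) =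
          (DCoh.Rpush f).map ((CxOX.RgammaZToId (f ⁻¹ᵁ U).ι).app K) → IsIso α := by
  haveI := hasRpush (f ∣_ U)
  haveI := hasRpush U.ι
  haveI := hasRpush (f ⁻¹ᵁ U).ι
  have hA : IsZero ((DCoh.restrictD U.ι).obj
      ((DCoh.Rpush f).obj ((CxOX.RgammaZ (f ⁻¹ᵁ U).ι).obj K))) := by
    obtain ⟨e⟩ := nonempty_Rpush_restrict_iso f U
    exact IsZero.of_iso (MVSupp.isZero_Rpush_of_isZero (f ∣_ U) _
      (isZero_restrictD_RgammaZ (f ⁻¹ᵁ U).ι K)) (e.app _)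
  have hA' := isZero_restrictD_RgammaZ U.ι ((DCoh.Rpush f).obj K)
  refine ⟨exists_lift_RgammaZ U _ hA _ _, fun α hα => ?_⟩
  obtain ⟨D₁, v₁, w₁, hT₁⟩ := exists_triangle U ((DCoh.Rpush f).obj K)
  obtain ⟨D₂, v₂, w₂, hT₂⟩ := exists_triangle (f ⁻¹ᵁ U) K
  obtain ⟨c, hT₃⟩ := exists_distinguished_Rpush f _ hT₂
  obtain ⟨e⟩ := nonempty_Rpush_Rpush_iso f U D₂
  exact isIso_of_bij U _ _ hA hA'
    (fun Z hZ => bij_of_orth U _ hT₃ (orth_of_iso U e.symm (orth_Rpush U _)) Z hZ)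
    (fun Z hZ => bij_of_orth U _ hT₁ (orth_Rpush U _) Z hZ) α hα

end Main

end Groth.Agent.Lib.Helper25.RGZ5
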