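import Mathlib
import Groth.Agent.S9065
import Groth.Agent.S1007
import Groth.Agent.Lib.Helper27.SerreVan5
import Groth.Agent.Lib.Helper11.RpushAbBridge
import Groth.Agent.S0030
import Groth.Prelude.Def_FSch6
import Groth.Agent.Lib.Helper25.RGZ4
import Groth.Agent.Lib.Helper25.SchKInj2
import Groth.Agent.Lib.Helper28.RestrictCover
import Groth.Prelude.Def_DDual2

/-!
# `Rf_*` preserves `D_QCoh` for quasi-compact quasi-separated `f` (helper25)

Transport of helper1's site-level theorem S9065 (finite cohomological dimension ⇒ unbounded `Rf_*` is computed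
by truncations) to schemes: `(ModSite.RMor.ofScheme f).push` is `Scheme.Modules.pushforward f` by `rfl`, so
`SiteCmp.RpushD (ofScheme f)` is `DCoh.Rpush f` by `rfl`.

* `exists_bound`: uniform vanishing of `R^p f_*` (of modules) on quasi-coherent modules (S0031 + helper11 bridge).
* `main_compact`: for `S` quasi-compact: `∃ N`, `R^p f_* M = 0` for `p > N`, `Rf_*` preserves `D_QCoh`,
  and `H^j(Rf_* K) ≅ H^j(Rf_* τ_{≥ -n} K)` for `j ≥ N - n`.
* `isQCohD_Rpush` (S0998): `Rf_*` preserves `D_QCoh`, any base.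
* `uniform_bound` (S0999).
-/

set_option autoImplicit false
universe u
open CategoryTheory CategoryTheory.Limits AlgebraicGeometry
attribute [local instance] HasDerivedCategory.standard

namespace Groth.Agent.Lib.Helper25.RpushQC

open Groth.Agent.S1007 (QC Baff hB hA)

/-- uniform vanishing of the higher direct images (of modules) of quasi-coherent modules -/
theorem exists_bound {X S : Scheme.{u}} (f : X ⟶ S) [QuasiCompact f] [QuasiSeparated f]
    [CompactSpace S] :
    ∃ n : ℕ, ∀ (M : X.Modules), M.IsQuasicoherent → ∀ p : ℕ, n ≤ p →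
      IsZero ((Coh.Rpush f p).obj M) := by
  obtain ⟨n, hn⟩ := Groth.Agent.Lib.helper27.SerreVan.exists_bound_RpushAb f
  exact ⟨n, fun M hM p hp =>
    Groth.Agent.Lib.helper11.RpushAbBridge.isZero_rpush_of_isZero_rpushAb f p M (hn M hM p hp)⟩

/-- the site-level theorem of helper1 (S9065) transported to schemes: quasi-compact base -/
theorem main_compact {X S : Scheme.{u}} (f : X ⟶ S) [QuasiCompact f] [QuasiSeparated f]
    [CompactSpace S] [DCoh.HasRpush f] :
    ∃ N : ℕ, (∀ (M : X.Modules), M.IsQuasicoherent → ∀ p : ℕ, N < p →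
        IsZero ((Coh.Rpush f p).obj M)) ∧
      ∀ K : DCoh.D X, DCoh.IsQCohD K → DCoh.IsQCohD ((DCoh.Rpush f).obj K) ∧
      ∀ (n : ℕ) (j : ℤ), (N : ℤ) - (n : ℤ) ≤ j →
        IsIso ((DerivedCategory.homologyFunctor S.Modules j).map
          ((DCoh.Rpush f).map ((DerivedCategory.TStructure.t.truncGEπ (-(n : ℤ))).app K))) := by
  obtain ⟨N, hN⟩ := exists_bound f
  refine ⟨N, fun M hM p hp => hN M hM p hp.le, fun K hK => ?_⟩
  haveI : HasInjectiveResolutions (ModSite.Mod X.sheaf) :=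
    Groth.Agent.Lib.helper21.ModOpenBC.hasInjectiveResolutions_modules X
  haveI : SiteCmp.HasRpushD (ModSite.RMor.ofScheme f) := ‹DCoh.HasRpush f›
  have hA1 := hA X
  have hA2 := hA S
  have h3 : ∀ F : ModSite.Mod X.sheaf, QC X F → ∀ p : ℕ,
      QC S (((ModSite.RMor.ofScheme f).Rpush p).obj F) := by
    intro F hF p
    haveI : Coh.IsQCoh (X := X) F := hF
    exact Groth.Agent.S0030.result f F p
  have h4 : ∀ F : ModSite.Mod X.sheaf, QC X F → ∀ p : ℕ, (N : ℤ) < (p : ℤ) →
      IsZero (((ModSite.RMor.ofScheme f).Rpush p).obj F) := by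
    intro F hF p hp
    exact hN F hF p (by omega)
  exact Groth.Agent.S9065.result (ModSite.RMor.ofScheme f) (QC X) (QC S) (Baff X) (Baff S)
    (hB X) hA1 (hB S) hA2 (N : ℤ) h3 h4 K hK

/-- **S0998**: `Rf_*` preserves `D_QCoh` for `f` quasi-compact and quasi-separated -/
theorem isQCohD_Rpush {X S : Scheme.{u}} (f : X ⟶ S) [QuasiCompact f] [QuasiSeparated f]
    [DCoh.HasRpush f] (K : DCoh.D X) (hK : DCoh.IsQCohD K) :
    DCoh.IsQCohD ((DCoh.Rpush f).obj K) := by
  intro i
  refine Groth.Agent.Lib.helper28.RestrictCover.isQuasicoherent_of_restrict_cover _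
    (ι := S.affineOpens) (fun V => (V.1 : Scheme.{u})) (fun V => V.1.ι) ?_ ?_
  · intro x
    obtain ⟨_, ⟨V, hV, rfl⟩, hx, -⟩ := S.isBasis_affineOpens.exists_subset_of_mem_open
      (Set.mem_univ x) isOpen_univ
    exact ⟨⟨V, hV⟩, ⟨x, hx⟩, rfl⟩
  · intro V
    haveI : IsAffine (V.1 : Scheme.{u}) := V.2
    haveI := Groth.Agent.Lib.Helper25.SchKInj.hasRpush (f ∣_ V.1)
    obtain ⟨e⟩ := Groth.Agent.Lib.Helper25.SchKInj.nonempty_Rpush_restrict_iso f V.1
    obtain ⟨N, -, h⟩ := main_compact (f ∣_ V.1)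
    have h1 := (h _ (Groth.Agent.Lib.Helper25.RGZ4.isQCohD_restrictD (f ⁻¹ᵁ V.1).ι K hK)).1 i
    obtain ⟨e2⟩ := Groth.Agent.Lib.Helper25.DerBC.nonempty_homology_mapDerivedCategory_iso
      (Scheme.Modules.restrictFunctor V.1.ι) ((DCoh.Rpush f).obj K) i
    haveI : (DCoh.HD ((DCoh.Rpush (f ∣_ V.1)).obj ((DCoh.restrictD (f ⁻¹ᵁ V.1).ι).obj K))
      i).IsQuasicoherent := h1
    have e3 : DCoh.HD ((DCoh.Rpush (f ∣_ V.1)).obj ((DCoh.restrictD (f ⁻¹ᵁ V.1).ι).obj K)) i ≅
        (Scheme.Modules.restrictFunctor V.1.ι).obj (DCoh.HD ((DCoh.Rpush f).obj K) i) :=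
      (DerivedCategory.homologyFunctor _ i).mapIso (e.app K).symm ≪≫ e2
    exact Groth.Agent.Lib.helper16.QCohFibre.isQuasicoherent_of_iso e3

/-- **S0999** -/
theorem uniform_bound {X S : Scheme.{u}} (f : X ⟶ S) [QuasiCompact f] [QuasiSeparated f]
    [CompactSpace S] [DCoh.HasRpush f] :
    ∃ N : ℤ, ∀ (E : DCoh.D X), DCoh.IsQCohD E → E.IsLE 0 → ∀ m : ℤ, N ≤ m →
      IsZero (DCoh.HD ((DCoh.Rpush f).obj E) m) := by
  obtain ⟨N, hN, h⟩ := main_compact f
  refine ⟨(N : ℤ) + 1, fun E hE hLE m hm => ?_⟩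
  have hiso : IsIso ((DerivedCategory.homologyFunctor S.Modules m).map
      ((DCoh.Rpush f).map ((DerivedCategory.TStructure.t.truncGEπ 0).app E))) := by
    have h00 : (-((0 : ℕ) : ℤ)) = 0 := by simp
    have := (h E hE).2 0 m (by simp; omega)
    rw [h00] at this
    exact this
  let t : Triangulated.TStructure (DCoh.D X) := DerivedCategory.TStructure.t
  have hGE : ((t.truncGE 0).obj E).IsGE 0 := by
    change t.IsGE ((t.truncGE 0).obj E) 0
    infer_instance
  have hLE' : ((t.truncGE 0).obj E).IsLE 0 := by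
    haveI : t.IsLE E 0 := hLE
    change t.IsLE ((t.truncGE 0).obj E) 0
    infer_instance
  obtain ⟨A, ⟨eA⟩⟩ := DerivedCategory.exists_iso_singleFunctor_obj_of_isGE_of_isLE
    ((t.truncGE 0).obj E) 0
  have hA : A.IsQuasicoherent := by
    have hi0 := Groth.Agent.H1.TruncCoh.isIso_homology_truncGEπ E 0 0 le_rfl
    have e0 : (DerivedCategory.homologyFunctor X.Modules 0).obj E ≅ A :=
      @asIso _ _ _ _ _ hi0 ≪≫
      (DerivedCategory.homologyFunctor X.Modules 0).mapIso eA ≪≫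
        (DerivedCategory.singleFunctorCompHomologyFunctorIso X.Modules 0).app A
    exact Groth.Agent.S1007.QC_iso X e0 (hE 0)
  obtain ⟨p, rfl⟩ : ∃ p : ℕ, m = (p : ℤ) := ⟨m.toNat, by omega⟩
  haveI : HasInjectiveResolutions (ModSite.Mod X.sheaf) :=
    Groth.Agent.Lib.helper21.ModOpenBC.hasInjectiveResolutions_modules X
  haveI : SiteCmp.HasRpushD (ModSite.RMor.ofScheme f) := ‹DCoh.HasRpush f›
  obtain ⟨e1⟩ := Groth.Agent.H1.PushLoc.nonempty_homology_rpush_single
    (ModSite.RMor.ofScheme f) A p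
  have hz : IsZero ((Coh.Rpush f p).obj A) := hN A hA p (by omega)
  have hz2 : IsZero ((DerivedCategory.homologyFunctor S.Modules (p : ℤ)).obj
      ((DCoh.Rpush f).obj ((t.truncGE 0).obj E))) :=
    IsZero.of_iso hz ((DerivedCategory.homologyFunctor S.Modules (p : ℤ)).mapIso
      ((DCoh.Rpush f).mapIso eA) ≪≫ e1)
  exact IsZero.of_iso hz2 (@asIso _ _ _ _ _ hiso)

end Groth.Agent.Lib.Helper25.RpushQC
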