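import Mathlib
import Groth.Agent.Lib.Helper25.RpushQC
import Groth.Agent.Lib.Helper25.RGZ5
import Groth.Agent.Lib.Helper27.RpushVanish
import Groth.Agent.Lib.Helper7.QCohZero
import Groth.Agent.Lib.Helper1.WSerreTri
import Groth.Agent.Lib.Helper1.WayOutCoh

/-!
# `Rf_*` for affine `f` on `D_QCoh` (helper25)

* `main_of_bound`: helper1's S9065 transported to schemes with a given bound `N` for the vanishing of `R^p f_*` on `QCoh`.
* `isZero_rpush_of_isAffineHom`: `R^p f_* M = 0`, `p > 0`, `M` quasi-coherent, `f` affine.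
* `nonempty_H0_Rpush_iso_of_isGE`: `H^0(Rf_* K) ≅ f_* H^0(K)` for `K ∈ D^{≥ 0}` (any `f`).
* `nonempty_H0_Rpush_iso`: `H^0(Rf_* K) ≅ f_* H^0(K)` for `K ∈ D_QCoh`, `f` affine.
* `isZero_of_isZero_pushforward`: `f_* M = 0 ⇒ M = 0` (`M` quasi-coherent, `f` affine).
* `isZero_of_isZero_Rpush`, `isIso_of_isIso_Rpush` (S7257): `Rf_*` is conservative on `D_QCoh` for `f` affine.
-/

set_option autoImplicit false
universe u
open CategoryTheory CategoryTheory.Limits AlgebraicGeometry Pretriangulated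
attribute [local instance] HasDerivedCategory.standard

namespace Groth.Agent.Lib.Helper25.RpushQC3

open AlgebraicGeometry.Scheme.Modules Groth.Agent.Lib.Helper25.SchKInj DerivedCategory
  Groth.Agent.Lib.Helper25.RpushQC
open Groth.Agent.S1007 (QC Baff hB hA)

/-- the site-level theorem of helper1 (S9065) transported to schemes, with a given bound `N` -/
theorem main_of_bound {X S : Scheme.{u}} (f : X ⟶ S) [QuasiCompact f] [QuasiSeparated f]
    [DCoh.HasRpush f] (N : ℕ)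
    (hN : ∀ (M : X.Modules), M.IsQuasicoherent → ∀ p : ℕ, N < p → IsZero ((Coh.Rpush f p).obj M))
    (K : DCoh.D X) (hK : DCoh.IsQCohD K) :
    DCoh.IsQCohD ((DCoh.Rpush f).obj K) ∧
      ∀ (n : ℕ) (j : ℤ), (N : ℤ) - (n : ℤ) ≤ j →
        IsIso ((DerivedCategory.homologyFunctor S.Modules j).map
          ((DCoh.Rpush f).map ((DerivedCategory.TStructure.t.truncGEπ (-(n : ℤ))).app K))) := by
  haveI : HasInjectiveResolutions (ModSite.Mod X.sheaf) :=
    Groth.Agent.Lib.helper21.ModOpenBC.hasInjectiveResolutions_modules X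
  haveI : SiteCmp.HasRpushD (ModSite.RMor.ofScheme f) := ‹DCoh.HasRpush f›
  have hA1 := hA X
  have hA2 := hA S
  have h3 : ∀ F : ModSite.Mod X.sheaf, QC X F → ∀ p : ℕ,
      QC S (((ModSite.RMor.ofScheme f).Rpush p).obj F) := by
    intro F hF p
    haveI : Coh.IsQCoh (X := X) F := hF
    exact Groth.Agent.S0030.result f F p
  have h4 : ∀ F : ModSite.Mod X.sheaf, QC X F → ∀ p : ℕ, (N : ℤ) < (p : ℤ) →
      IsZero (((ModSite.RMor.ofScheme f).Rpush p).obj F) := by
    intro F hF p hp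
    exact hN F hF p (by omega)
  exact Groth.Agent.S9065.result (ModSite.RMor.ofScheme f) (QC X) (QC S) (Baff X) (Baff S)
    (hB X) hA1 (hB S) hA2 (N : ℤ) h3 h4 K hK

/-- higher direct images of quasi-coherent modules vanish for affine morphisms -/
theorem isZero_rpush_of_isAffineHom {X S : Scheme.{u}} (f : X ⟶ S) [IsAffineHom f]
    (M : X.Modules) (hM : M.IsQuasicoherent) (p : ℕ) (hp : 0 < p) :
    IsZero ((Coh.Rpush f p).obj M) := by
  obtain ⟨q, rfl⟩ : ∃ q, p = q + 1 := ⟨p - 1, by omega⟩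
  exact Groth.Agent.Lib.helper11.RpushAbBridge.isZero_rpush_of_isZero_rpushAb f (q + 1) M
    (Groth.Agent.Lib.helper27.RpushVanish.isZero_RpushAb f M q)

/-- `H^0(Rf_* K) ≅ f_* H^0(K)` for `K ∈ D^{≥ 0}` -/
theorem nonempty_H0_Rpush_iso_of_isGE {X S : Scheme.{u}} (f : X ⟶ S) [DCoh.HasRpush f]
    (K : DCoh.D X) [K.IsGE 0] :
    Nonempty (DCoh.HD ((DCoh.Rpush f).obj K) 0 ≅ (pushforward f).obj (DCoh.HD K 0)) := by
  let t : Triangulated.TStructure (DCoh.D X) := DerivedCategory.TStructure.t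
  let T := (t.triangleLEGE 0 1 (by omega)).obj K
  have hT : T ∈ distTriang _ := t.triangleLEGE_distinguished 0 1 (by omega) K
  obtain ⟨c, hT'⟩ := Groth.Agent.Lib.Helper25.RGZ5.exists_distinguished_Rpush f T hT
  haveI : HasInjectiveResolutions (ModSite.Mod X.sheaf) :=
    Groth.Agent.Lib.helper21.ModOpenBC.hasInjectiveResolutions_modules X
  haveI : SiteCmp.HasRpushD (ModSite.RMor.ofScheme f) := ‹DCoh.HasRpush f›
  have h3GE : ((DCoh.Rpush f).obj T.obj₃).IsGE 1 := by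
    haveI : T.obj₃.IsGE 1 := by
      change t.IsGE ((t.truncGE 1).obj K) 1
      infer_instance
    exact @Groth.Agent.H1.PushLoc.isGE_rpush _ _ _ _ _ _ _ _ (ModSite.RMor.ofScheme f) _
      T.obj₃ 1 this
  have hiso : IsIso ((homologyFunctor S.Modules 0).map ((DCoh.Rpush f).map T.mor₁)) :=
    Groth.Agent.H1.PushLoc.isIso_homology_mor₁' _ hT' 0
      (isZero_of_isGE ((DCoh.Rpush f).obj T.obj₃) 1 (0 - 1) (by omega))
      (isZero_of_isGE ((DCoh.Rpush f).obj T.obj₃) 1 0 (by omega))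
  have h1GE : T.obj₁.IsGE 0 := by
    haveI : t.IsGE K 0 := ‹K.IsGE 0›
    change t.IsGE ((t.truncLE 0).obj K) 0
    infer_instance
  have h1LE : T.obj₁.IsLE 0 := by
    change t.IsLE ((t.truncLE 0).obj K) 0
    infer_instance
  obtain ⟨A, ⟨eA⟩⟩ := DerivedCategory.exists_iso_singleFunctor_obj_of_isGE_of_isLE T.obj₁ 0
  have hi0 := Groth.Agent.H1.WayOutCoh.isIso_homology_truncLEι K 0 0 le_rfl
  have e0 : A ≅ (homologyFunctor X.Modules 0).obj K :=
    ((singleFunctorCompHomologyFunctorIso X.Modules 0).app A).symm ≪≫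
      (homologyFunctor X.Modules 0).mapIso eA.symm ≪≫ @asIso _ _ _ _ _ hi0
  obtain ⟨e1⟩ := Groth.Agent.H1.PushLoc.nonempty_homology_rpush_single
    (ModSite.RMor.ofScheme f) A 0
  have e2 : (Coh.Rpush f 0).obj A ≅ (pushforward f).obj A :=
    (Functor.rightDerivedZeroIsoSelf (pushforward f)).app A
  exact ⟨(@asIso _ _ _ _ _ hiso).symm ≪≫
    (homologyFunctor S.Modules 0).mapIso ((DCoh.Rpush f).mapIso eA) ≪≫ e1 ≪≫ e2 ≪≫
    (pushforward f).mapIso e0⟩

/-- `H^0(Rf_* K) ≅ f_* H^0(K)` for `K ∈ D_QCoh` and `f` affine -/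
theorem nonempty_H0_Rpush_iso {X S : Scheme.{u}} (f : X ⟶ S) [IsAffineHom f] [DCoh.HasRpush f]
    (K : DCoh.D X) (hK : DCoh.IsQCohD K) :
    Nonempty (DCoh.HD ((DCoh.Rpush f).obj K) 0 ≅ (pushforward f).obj (DCoh.HD K 0)) := by
  have h : IsIso ((DerivedCategory.homologyFunctor S.Modules 0).map
      ((DCoh.Rpush f).map ((DerivedCategory.TStructure.t.truncGEπ 0).app K))) := by
    have h00 : (-((0 : ℕ) : ℤ)) = 0 := by simp
    have := (main_of_bound f 0
      (fun M hM p hp => isZero_rpush_of_isAffineHom f M hM p hp) K hK).2 0 0 (by simp)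
    rw [h00] at this
    exact this
  let t : Triangulated.TStructure (DCoh.D X) := DerivedCategory.TStructure.t
  haveI : ((t.truncGE 0).obj K).IsGE 0 := by
    change t.IsGE ((t.truncGE 0).obj K) 0
    infer_instance
  obtain ⟨e⟩ := nonempty_H0_Rpush_iso_of_isGE f ((t.truncGE 0).obj K)
  have hi0 := Groth.Agent.H1.TruncCoh.isIso_homology_truncGEπ K 0 0 le_rfl
  exact ⟨@asIso _ _ _ _ _ h ≪≫ e ≪≫ (pushforward f).mapIso (@asIso _ _ _ _ _ hi0).symm⟩

/-- `f_*` is faithful on quasi-coherent modules for `f` affine -/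
theorem isZero_of_isZero_pushforward {X S : Scheme.{u}} (f : X ⟶ S) [IsAffineHom f]
    (M : X.Modules) (hM : M.IsQuasicoherent) (h : IsZero ((pushforward f).obj M)) : IsZero M := by
  haveI := hM
  refine Groth.Agent.Lib.helper7.QCohZero.isZero_of_subsingleton_sections M
    (ι := S.affineOpens) (fun V => f ⁻¹ᵁ V.1) (fun V => V.2.preimage f) ?_ ?_
  · intro x
    obtain ⟨_, ⟨V, hV, rfl⟩, hx, -⟩ := S.isBasis_affineOpens.exists_subset_of_mem_open
      (Set.mem_univ (f.base x)) isOpen_univ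
    exact ⟨⟨V, hV⟩, hx⟩
  · intro V
    exact (Groth.Agent.Lib.Helper25.MVMod.isZero_iff_subsingleton_sections _).1 h V.1

/-- `Rf_*` is conservative on `D_QCoh` for `f` affine (object form) -/
theorem isZero_of_isZero_Rpush {X S : Scheme.{u}} (f : X ⟶ S) [IsAffineHom f] [DCoh.HasRpush f]
    (C : DCoh.D X) (hC : DCoh.IsQCohD C) (h : IsZero ((DCoh.Rpush f).obj C)) : IsZero C := by
  apply Groth.Agent.Lib.Helper25.DerBC.isZero_of_homology
  intro j
  haveI : HasInjectiveResolutions (ModSite.Mod X.sheaf) :=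
    Groth.Agent.Lib.helper21.ModOpenBC.hasInjectiveResolutions_modules X
  haveI : SiteCmp.HasRpushD (ModSite.RMor.ofScheme f) := ‹DCoh.HasRpush f›
  have hCj : DCoh.IsQCohD (C⟦j⟧) :=
    Groth.Agent.H1.WSerreTri.cohIn_shift (P := QC X) j hC
  obtain ⟨e⟩ := nonempty_H0_Rpush_iso f (C⟦j⟧) hCj
  obtain ⟨es⟩ := Groth.Agent.H1.PushLoc.nonempty_rpush_shift_iso (ModSite.RMor.ofScheme f) C j
  have hz : IsZero ((DCoh.Rpush f).obj (C⟦j⟧)) :=
    IsZero.of_iso ((shiftFunctor (DCoh.D S) j).map_isZero h) es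
  have hz1 : IsZero ((pushforward f).obj (DCoh.HD (C⟦j⟧) 0)) :=
    IsZero.of_iso ((homologyFunctor S.Modules 0).map_isZero hz) e.symm
  have hz2 : IsZero (DCoh.HD (C⟦j⟧) 0) := isZero_of_isZero_pushforward f _ (hCj 0) hz1
  exact IsZero.of_iso hz2
    (((homologyFunctor X.Modules 0).shiftIso j 0 j (by omega)).app C).symm

/-- **S7257**: `Rf_*` reflects isomorphisms on `D_QCoh` for `f` affine -/
theorem isIso_of_isIso_Rpush {X S : Scheme.{u}} (f : X ⟶ S) [IsAffineHom f] [DCoh.HasRpush f]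
    {E F : DCoh.D X} (hE : DCoh.IsQCohD E) (hF : DCoh.IsQCohD F) (α : E ⟶ F)
    (hα : IsIso ((DCoh.Rpush f).map α)) : IsIso α := by
  obtain ⟨C, g, k, hT⟩ := distinguished_cocone_triangle α
  have hC : DCoh.IsQCohD C := by
    have hT2 := rot_of_distTriang _ hT
    exact Groth.Agent.H1.WSerreTri.cohIn_obj₂ (P := QC X) _ hT2 hF
      (Groth.Agent.H1.WSerreTri.cohIn_shift (P := QC X) 1 hE)
  obtain ⟨c, hT'⟩ := Groth.Agent.Lib.Helper25.RGZ5.exists_distinguished_Rpush f _ hT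
  have hz : IsZero ((DCoh.Rpush f).obj C) := (Triangle.isZero₃_iff_isIso₁ _ hT').2 hα
  have hz' : IsZero C := isZero_of_isZero_Rpush f C hC hz
  exact (Triangle.isZero₃_iff_isIso₁ _ hT).1 hz'

end Groth.Agent.Lib.Helper25.RpushQC3
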