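import Mathlib

/-!
# The stupid truncation short exact sequence `0 → σ_{>m} K → K → σ_{≤m} K → 0` (helper25)

For a cochain complex `K` in an abelian category and `m : ℤ`: `ses K m` is the short complex of complexes
`kernel π ⟶ K ⟶ σ_{≤ m} K` where `σ_{≤m} K` is Mathlib's `stupidTrunc` along `embeddingUpIntLE m`
and `π` is the canonical projection.

* `ses_shortExact`, `isIso_g_f` (`n ≤ m`), `isIso_f_f` (`m < n`), `isZero_X₁` (`n ≤ m`), `isZero_X₃` (`m < n`),
  `isStrictlyGE_X₁`, `isStrictlyLE_X₃`.
* `map_shortExact`: the image of `ses K m` under any additive functor is still short exact.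
-/

set_option autoImplicit false
universe v v' u u'
open CategoryTheory CategoryTheory.Limits HomologicalComplex

namespace Groth.Agent.Lib.Helper25.StupidSES

variable {C : Type u} [Category.{v} C] [Abelian C] (K : CochainComplex C ℤ) (m : ℤ)

/-- `σ_{≤ m} K` -/
noncomputable def sigmaLE : CochainComplex C ℤ :=
  K.stupidTrunc (ComplexShape.embeddingUpIntLE m)

lemma hasLift : (ComplexShape.embeddingUpIntLE m).HasLift
    (𝟙 (K.restriction (ComplexShape.embeddingUpIntLE m))) :=
  fun _ hj => (hj.false_of_isTruncLE).elim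

/-- the projection `K ⟶ σ_{≤ m} K` -/
noncomputable def π : K ⟶ sigmaLE K m :=
  (ComplexShape.embeddingUpIntLE m).liftExtend
    (𝟙 (K.restriction (ComplexShape.embeddingUpIntLE m))) (hasLift K m)

lemma isIso_π_f (n : ℤ) (hn : n ≤ m) : IsIso ((π K m).f n) := by
  obtain ⟨i, hi⟩ : ∃ i : ℕ, (ComplexShape.embeddingUpIntLE m).f i = n := by
    by_contra h
    push Not at h
    exact absurd ((ComplexShape.notMem_range_embeddingUpIntLE_iff m n).1 h) (by omega)
  exact (ComplexShape.Embedding.isIso_liftExtend_f_iff _ _ (hasLift K m) hi).2 inferInstance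

lemma isZero_sigmaLE_X (n : ℤ) (hn : m < n) : IsZero ((sigmaLE K m).X n) := by
  apply isZero_stupidTrunc_X
  exact (ComplexShape.notMem_range_embeddingUpIntLE_iff m n).2 hn

instance epi_π : Epi (π K m) := by
  apply HomologicalComplex.epi_of_epi_f
  intro n
  by_cases hn : n ≤ m
  · haveI := isIso_π_f K m n hn
    infer_instance
  · exact ⟨fun a b _ => (isZero_sigmaLE_X K m n (by omega)).eq_of_src a b⟩

/-- the short complex `σ_{> m} K ⟶ K ⟶ σ_{≤ m} K` -/
noncomputable def ses : ShortComplex (CochainComplex C ℤ) :=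
  ShortComplex.mk (kernel.ι (π K m)) (π K m) (kernel.condition _)

lemma ses_shortExact : (ses K m).ShortExact :=
  ShortComplex.ShortExact.mk' (ShortComplex.exact_kernel _)
    (inferInstanceAs (Mono (kernel.ι (π K m)))) (inferInstanceAs (Epi (π K m)))

lemma ses_degreewise (n : ℤ) : ((ses K m).map (eval C (ComplexShape.up ℤ) n)).ShortExact :=
  (shortExact_iff_degreewise_shortExact _).1 (ses_shortExact K m) n

lemma isIso_g_f (n : ℤ) (hn : n ≤ m) : IsIso ((ses K m).g.f n) := isIso_π_f K m n hn

lemma isZero_X₃ (n : ℤ) (hn : m < n) : IsZero ((ses K m).X₃.X n) := isZero_sigmaLE_X K m n hn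

lemma isZero_X₁ (n : ℤ) (hn : n ≤ m) : IsZero ((ses K m).X₁.X n) := by
  have h := ses_degreewise K m n
  haveI : IsIso ((ses K m).g.f n) := isIso_g_f K m n hn
  have hm := h.mono_f
  have hz : ((ses K m).map (eval C (ComplexShape.up ℤ) n)).f = 0 := by
    have h0 := ((ses K m).map (eval C (ComplexShape.up ℤ) n)).zero
    have : Mono ((ses K m).map (eval C (ComplexShape.up ℤ) n)).g :=
      inferInstanceAs (Mono ((ses K m).g.f n))
    exact (cancel_mono ((ses K m).map (eval C (ComplexShape.up ℤ) n)).g).1 (by rw [h0, zero_comp])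
  exact @IsZero.of_mono_eq_zero _ _ _ _ _ _ hm hz

lemma isIso_f_f (n : ℤ) (hn : m < n) : IsIso ((ses K m).f.f n) := by
  have h := ses_degreewise K m n
  exact h.isIso_f_iff.2 (isZero_X₃ K m n hn)

instance isStrictlyGE_X₁ : (ses K m).X₁.IsStrictlyGE (m + 1) := by
  rw [CochainComplex.isStrictlyGE_iff]
  intro i hi
  exact isZero_X₁ K m i (by omega)

instance isStrictlyLE_X₃ : (ses K m).X₃.IsStrictlyLE m := by
  rw [CochainComplex.isStrictlyLE_iff]
  intro i hi
  exact isZero_X₃ K m i hi

variable {D : Type u'} [Category.{v'} D] [Abelian D] (G : C ⥤ D) [G.Additive]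

/-- the image of the stupid truncation sequence under an additive functor is short exact -/
lemma map_shortExact :
    ((ses K m).map (G.mapHomologicalComplex (ComplexShape.up ℤ))).ShortExact := by
  apply shortExact_of_degreewise_shortExact
  intro n
  by_cases hn : n ≤ m
  · have hz : IsZero (G.obj ((ses K m).X₁.X n)) := G.map_isZero (isZero_X₁ K m n hn)
    haveI : IsIso ((ses K m).g.f n) := isIso_g_f K m n hn
    haveI : IsIso (G.map ((ses K m).g.f n)) := inferInstance
    refine ShortComplex.ShortExact.mk' ?_ ?_ ?_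
    · rw [ShortComplex.exact_iff_mono _ (hz.eq_of_src _ _)]
      exact inferInstanceAs (Mono (G.map ((ses K m).g.f n)))
    · exact ⟨fun a b _ => hz.eq_of_tgt a b⟩
    · exact inferInstanceAs (Epi (G.map ((ses K m).g.f n)))
  · have hz : IsZero (G.obj ((ses K m).X₃.X n)) := G.map_isZero (isZero_X₃ K m n (by omega))
    haveI : IsIso ((ses K m).f.f n) := isIso_f_f K m n (by omega)
    haveI : IsIso (G.map ((ses K m).f.f n)) := inferInstance
    refine ShortComplex.ShortExact.mk' ?_ ?_ ?_
    · rw [ShortComplex.exact_iff_epi _ (hz.eq_of_tgt _ _)]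
      exact inferInstanceAs (Epi (G.map ((ses K m).f.f n)))
    · exact inferInstanceAs (Mono (G.map ((ses K m).f.f n)))
    · exact ⟨fun a b _ => hz.eq_of_src a b⟩

end Groth.Agent.Lib.Helper25.StupidSES
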