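import Mathlib
import Groth.Agent.Lib.Helper25.RpushQC3
import Groth.Agent.Lib.Helper25.RDerAcyc
import Groth.Agent.Lib.Helper25.StupidSES
import Groth.Agent.Lib.Helper7.CohKer
import Groth.Agent.Lib.Helper7.RestrictSupport

/-!
# `f_* F ⟶ Rf_* F` is invertible for unbounded complexes of acyclic quasi-coherent modules (helper25)

* `isZero_of_isZero_restrict`, `isZero_of_isZero_restrictD`: vanishing of modules / of objects of `D(O_S)` is local on `S`.
* `isQCohD_Q_of_terms`: a complex with quasi-coherent terms lies in `D_QCoh`.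
* `uniform_bound'`: `H^k(Rf_* E) = 0` for `k ≥ N + m`, `E ∈ D_QCoh^{≤ m}` (`f` qcqs, base quasi-compact).
* `isIso_unit_of_acyclic` (S1035, S7245): stupid truncations + Leray for the bounded below part + octahedron + the
  uniform bound, locally on the base.
-/

set_option autoImplicit false
universe u
open CategoryTheory CategoryTheory.Limits AlgebraicGeometry Pretriangulated
attribute [local instance] HasDerivedCategory.standard

namespace Groth.Agent.Lib.Helper25.RpushAcyc

open AlgebraicGeometry.Scheme.Modules Groth.Agent.Lib.Helper25.SchKInj DerivedCategory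
  Groth.Agent.Lib.Helper25.RpushQC Groth.Agent.Lib.Helper25.RpushQC3
  Groth.Agent.Lib.Helper25.RDerAcyc Groth.Agent.Lib.Helper25.RDerRlim
  Groth.Agent.Lib.Helper25.StupidSES Groth.Agent.Lib.helper27
open Groth.Agent.S1007 (QC)

/-- a module whose restrictions to all affine opens vanish is zero -/
lemma isZero_of_isZero_restrict {S : Scheme.{u}} (M : S.Modules)
    (h : ∀ V : S.Opens, IsAffineOpen V → IsZero ((restrictFunctor V.ι).obj M)) : IsZero M := by
  rw [Groth.Agent.Lib.helper7.RestrictSupport.isZero_iff_subsingleton_sections]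
  intro W
  refine ⟨fun s t => ?_⟩
  refine TopCat.Presheaf.IsSheaf.section_ext M.isSheaf (U := Opposite.op W) (fun x hx => ?_)
  obtain ⟨_, ⟨V, hV, rfl⟩, hxV, hVW⟩ :=
    S.isBasis_affineOpens.exists_subset_of_mem_open hx W.2
  have hs : Subsingleton Γ(M, V) :=
    (Groth.Agent.Lib.helper7.RestrictSupport.isZero_restrict_iff M V).1 (h V hV) V le_rfl
  exact ⟨V, hVW, hxV, Subsingleton.elim _ _⟩

/-- vanishing in `D(O_S)` is local on `S` -/
theorem isZero_of_isZero_restrictD {S : Scheme.{u}} (G : DCoh.D S)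
    (h : ∀ V : S.Opens, IsAffineOpen V → ∀ j : ℤ,
      IsZero (DCoh.HD ((DCoh.restrictD V.ι).obj G) j)) : IsZero G := by
  apply Groth.Agent.Lib.Helper25.DerBC.isZero_of_homology
  intro j
  apply isZero_of_isZero_restrict
  intro V hV
  obtain ⟨e⟩ := Groth.Agent.Lib.Helper25.DerBC.nonempty_homology_mapDerivedCategory_iso
    (restrictFunctor V.ι) G j
  exact IsZero.of_iso (h V hV j) e.symm

/-- a complex with quasi-coherent terms has quasi-coherent cohomology -/
theorem isQCohD_Q_of_terms {X : Scheme.{u}} (K : CochainComplex X.Modules ℤ)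
    (hK : ∀ n, (K.X n).IsQuasicoherent) : DCoh.IsQCohD (Q.obj K) := by
  intro j
  have e1 : DCoh.HD (Q.obj K) j ≅ K.homology j := (homologyFunctorFactors X.Modules j).app K
  have e2 : K.homology j ≅ _ := (K.sc j).homologyIsoCokernelLift
  haveI : ((K.sc j).X₁).IsQuasicoherent := hK _
  haveI : ((K.sc j).X₂).IsQuasicoherent := hK _
  haveI : ((K.sc j).X₃).IsQuasicoherent := hK _
  haveI : (kernel (K.sc j).g).IsQuasicoherent :=
    Groth.Agent.Lib.helper7.CohKer.isQuasicoherent_kernel _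
  have h3 := Groth.Agent.Lib.helper7.CohKer.isQuasicoherent_cokernel
    (kernel.lift (K.sc j).g (K.sc j).f (K.sc j).zero)
  exact Groth.Agent.S1007.QC_iso X (e1 ≪≫ e2).symm h3

/-- uniform bound, for `D^{≤ m}` -/
theorem uniform_bound' {X S : Scheme.{u}} (f : X ⟶ S) [QuasiCompact f] [QuasiSeparated f]
    [CompactSpace S] [DCoh.HasRpush f] :
    ∃ N : ℤ, ∀ (E : DCoh.D X), DCoh.IsQCohD E → ∀ m : ℤ, E.IsLE m → ∀ k : ℤ, N + m ≤ k →
      IsZero (DCoh.HD ((DCoh.Rpush f).obj E) k) := by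
  obtain ⟨N, hN⟩ := uniform_bound f
  refine ⟨N, fun E hE m hm k hk => ?_⟩
  haveI : HasInjectiveResolutions (ModSite.Mod X.sheaf) :=
    Groth.Agent.Lib.helper21.ModOpenBC.hasInjectiveResolutions_modules X
  haveI : SiteCmp.HasRpushD (ModSite.RMor.ofScheme f) := ‹DCoh.HasRpush f›
  have hEm : DCoh.IsQCohD (E⟦m⟧) := Groth.Agent.H1.WSerreTri.cohIn_shift (P := QC X) m hE
  have hLE : (E⟦m⟧).IsLE 0 := by
    haveI : (TStructure.t : Triangulated.TStructure (DCoh.D X)).IsLE E m := hm
    exact (TStructure.t : Triangulated.TStructure (DCoh.D X)).isLE_shift E m m 0 (by omega)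
  have hz := hN (E⟦m⟧) hEm hLE (k - m) (by omega)
  obtain ⟨es⟩ := Groth.Agent.H1.PushLoc.nonempty_rpush_shift_iso (ModSite.RMor.ofScheme f) E m
  have hz2 : IsZero (DCoh.HD (((DCoh.Rpush f).obj E)⟦m⟧) (k - m)) :=
    IsZero.of_iso hz ((homologyFunctor S.Modules (k - m)).mapIso es.symm)
  exact IsZero.of_iso hz2
    (((homologyFunctor S.Modules 0).shiftIso m (k - m) k (by omega)).app _).symm

/-- **S1035**: for `f` quasi-compact quasi-separated, the unit `f_* F ⟶ Rf_* F` is invertible at every complex `F`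
of `f_*`-acyclic quasi-coherent modules -/
theorem isIso_unit_of_acyclic {X S : Scheme.{u}} (f : X ⟶ S) [QuasiCompact f] [QuasiSeparated f]
    [HasInjectiveResolutions X.Modules] [DCoh.HasRpush f]
    (Fc : CochainComplex X.Modules ℤ) (hq : ∀ n : ℤ, (Fc.X n).IsQuasicoherent)
    (hac : ∀ (n : ℤ) (i : ℕ), 0 < i → IsZero ((Coh.Rpush f i).obj (Fc.X n))) :
    IsIso (((DCoh.pushKh f).totalRightDerivedUnit DerivedCategory.Qh
      (HomotopyCategory.quasiIso X.Modules (ComplexShape.up ℤ))).app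
      ((HomotopyCategory.quotient X.Modules (ComplexShape.up ℤ)).obj Fc)) := by
  have hα := MVDer.isIso_totalRightDerivedUnit (pushforward f)
  rw [isIso_α_app_iff (pushforward f) (DCoh.Rpush f)]
  let uq := uQ (pushforward f) (DCoh.Rpush f) ((DCoh.pushKh f).totalRightDerivedUnit
    DerivedCategory.Qh (HomotopyCategory.quasiIso X.Modules (ComplexShape.up ℤ)))
  obtain ⟨G, vu, wu, hu⟩ := distinguished_cocone_triangle (uq.app Fc)
  suffices hG : IsZero G from (Triangle.isZero₃_iff_isIso₁ _ hu).1 hG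
  apply isZero_of_isZero_restrictD
  intro V hV j
  haveI : IsAffine (V : Scheme.{u}) := hV
  haveI := hasRpush (f ∣_ V)
  obtain ⟨N, hN⟩ := uniform_bound' (f ∣_ V)
  let m : ℤ := j - (N.natAbs : ℤ)
  have hmj : m ≤ j := by simp only [m]; omega
  have hNm : N + m ≤ j := by simp only [m]; omega
  let Ss := ses Fc m
  have hS : Ss.ShortExact := ses_shortExact Fc m
  have hS' : (Ss.map ((pushforward f).mapHomologicalComplex (ComplexShape.up ℤ))).ShortExact :=
    map_shortExact Fc m (pushforward f)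
  have hT₁ := triangleOfSES_distinguished hS
  have hT₂ := triangleOfSES_distinguished hS'
  obtain ⟨c, hT₃⟩ := Groth.Agent.Lib.Helper25.RGZ5.exists_distinguished_Rpush f _ hT₁
  -- terms of the truncations
  have hX₁ : ∀ n, Leray.Acyc (pushforward f) (Ss.X₁.X n) := by
    intro n
    by_cases hn : n ≤ m
    · exact Leray.acyc_of_isZero _ _ (isZero_X₁ Fc m n hn)
    · haveI := isIso_f_f Fc m n (by omega)
      exact Leray.acyc_of_iso _ (asIso (Ss.f.f n)).symm (fun i hi => hac n i hi)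
  have hX₃ : ∀ n, (Ss.X₃.X n).IsQuasicoherent := by
    intro n
    by_cases hn : n ≤ m
    · haveI := isIso_g_f Fc m n hn
      exact Groth.Agent.S1007.QC_iso X (asIso (Ss.g.f n)) (hq n)
    · exact Groth.Agent.Lib.helper7.CohKer.isQuasicoherent_of_isZero (isZero_X₃ Fc m n (by omega))
  -- the unit at the bounded below part is invertible
  haveI : Ss.X₁.IsStrictlyGE (m + 1) := isStrictlyGE_X₁ Fc m
  have hF' : IsIso (uq.app Ss.X₁) :=
    isIso_uQ_app_of_acyc (pushforward f) (DCoh.Rpush f) _ hα Ss.X₁ (m + 1) hX₁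
  have hnat := uq.naturality Ss.f
  obtain ⟨m₁, m₃, w, hT₄⟩ := exists_distinguished_of_square _ _ (uq.app Ss.X₁) _ hnat hT₂ hT₃ hu
  have hT₅ := (DCoh.restrictD V.ι).map_distinguished _ hT₄
  have ex := HomologySequence.exact₃ _ hT₅ j (j + 1) rfl
  refine ex.isZero_of_both_zeros (IsZero.eq_of_src ?_ _ _) (IsZero.eq_of_tgt ?_ _ _)
  · -- `H^j((Rf_* σ_{≤ m} F)|_V) = 0`
    obtain ⟨eb⟩ := nonempty_Rpush_restrict_iso f V
    have hQC : DCoh.IsQCohD (Q.obj Ss.X₃) := isQCohD_Q_of_terms _ hX₃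
    have hE : DCoh.IsQCohD ((DCoh.restrictD (f ⁻¹ᵁ V).ι).obj (Q.obj Ss.X₃)) :=
      Groth.Agent.Lib.Helper25.RGZ4.isQCohD_restrictD _ _ hQC
    haveI : Ss.X₃.IsStrictlyLE m := isStrictlyLE_X₃ Fc m
    have hLE : ((DCoh.restrictD (f ⁻¹ᵁ V).ι).obj (Q.obj Ss.X₃)).IsLE m := by
      rw [DerivedCategory.isLE_iff]
      intro i hi
      obtain ⟨e⟩ := Groth.Agent.Lib.Helper25.DerBC.nonempty_homology_mapDerivedCategory_iso
        (restrictFunctor (f ⁻¹ᵁ V).ι) (Q.obj Ss.X₃) i
      exact IsZero.of_iso (Functor.map_isZero _ (isZero_of_isLE (Q.obj Ss.X₃) m i hi)) e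
    have hz := hN _ hE m hLE j hNm
    exact IsZero.of_iso hz ((homologyFunctor _ j).mapIso (eb.app (Q.obj Ss.X₃)))
  · -- `H^{j+1}((f_* σ_{≤ m} F)|_V) = 0`
    haveI : Ss.X₃.IsStrictlyLE m := isStrictlyLE_X₃ Fc m
    haveI : CochainComplex.IsStrictlyLE (((pushforward f).mapHomologicalComplex
        (ComplexShape.up ℤ)).obj Ss.X₃) m := by
      rw [CochainComplex.isStrictlyLE_iff]
      intro i hi
      exact (pushforward f).map_isZero (isZero_X₃ Fc m i hi)
    obtain ⟨e⟩ := Groth.Agent.Lib.Helper25.DerBC.nonempty_homology_mapDerivedCategory_iso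
      (restrictFunctor V.ι)
      (Q.obj (((pushforward f).mapHomologicalComplex (ComplexShape.up ℤ)).obj Ss.X₃)) (j + 1)
    exact IsZero.of_iso (Functor.map_isZero _ (isZero_of_isLE
      (Q.obj (((pushforward f).mapHomologicalComplex (ComplexShape.up ℤ)).obj Ss.X₃)) m (j + 1)
      (by omega))) e

end Groth.Agent.Lib.Helper25.RpushAcyc
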