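import Mathlib

/-!
Diagram chase (part of the snake lemma) for tensor products of two right exact sequences.
-/

set_option autoImplicit false

namespace Groth.Agent.Lib.helper25

open TensorProduct

universe u v

variable {R : Type u} [CommRing R]
variable {M₁ M₂ M₃ N₁ N₂ N₃ : Type v}
variable [AddCommGroup M₁] [Module R M₁] [AddCommGroup M₂] [Module R M₂]
variable [AddCommGroup M₃] [Module R M₃] [AddCommGroup N₁] [Module R N₁]
variable [AddCommGroup N₂] [Module R N₂] [AddCommGroup N₃] [Module R N₃]

/-- Let `M₁ → M₂ → M₃ → 0` and `N₁ → N₂ → N₃ → 0` be exact. If `M₁ ⊗ N₃ → M₂ ⊗ N₃` and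
`M₂ ⊗ N₁ → M₂ ⊗ N₂` are injective then so is `M₃ ⊗ N₁ → M₃ ⊗ N₂`. -/
theorem lTensor_injective_of_exact
    (f : M₁ →ₗ[R] M₂) (g : M₂ →ₗ[R] M₃) (hfg : Function.Exact f g) (hg : Function.Surjective g)
    (i : N₁ →ₗ[R] N₂) (π : N₂ →ₗ[R] N₃) (hiπ : Function.Exact i π) (hπ : Function.Surjective π)
    (h2 : Function.Injective (f.rTensor N₃)) (h3 : Function.Injective (i.lTensor M₂)) :
    Function.Injective (i.lTensor M₃) := by
  rw [injective_iff_map_eq_zero]
  intro x hx
  obtain ⟨y, rfl⟩ := LinearMap.rTensor_surjective N₁ hg x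
  -- y' = (i.lTensor M₂) y
  have hy' : (g.rTensor N₂) ((i.lTensor M₂) y) = 0 := by
    rw [← LinearMap.comp_apply, LinearMap.rTensor_comp_lTensor, ← LinearMap.lTensor_comp_rTensor,
      LinearMap.comp_apply, hx]
  obtain ⟨z, hz⟩ := (rTensor_exact N₂ hfg hg _).mp hy'
  have hz0 : (π.lTensor M₁) z = 0 := by
    apply h2
    rw [map_zero, ← LinearMap.comp_apply, LinearMap.rTensor_comp_lTensor,
      ← LinearMap.lTensor_comp_rTensor, LinearMap.comp_apply, hz, ← LinearMap.comp_apply,
      ← LinearMap.lTensor_comp, hiπ.linearMap_comp_eq_zero]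
    simp
  obtain ⟨w, rfl⟩ := (lTensor_exact M₁ hiπ hπ _).mp hz0
  have hw : (f.rTensor N₁) w = y := by
    apply h3
    rw [← hz, ← LinearMap.comp_apply, LinearMap.lTensor_comp_rTensor,
      ← LinearMap.rTensor_comp_lTensor, LinearMap.comp_apply]
  rw [← hw, ← LinearMap.comp_apply, ← LinearMap.rTensor_comp, hfg.linearMap_comp_eq_zero]
  simp

/-- If `0 → M → M' → M'' → 0` is exact with `M''` flat, then `M → M'` is universally injective. -/
theorem rTensor_injective_of_flat_coker {R : Type u} [CommRing R] {M M' M'' : Type u}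
    [AddCommGroup M] [Module R M] [AddCommGroup M'] [Module R M']
    [AddCommGroup M''] [Module R M'']
    (f : M →ₗ[R] M') (g : M' →ₗ[R] M'') (hfg : Function.Exact f g) (hg : Function.Surjective g)
    (hf : Function.Injective f) [Module.Flat R M''] (Q : Type u) [AddCommGroup Q] [Module R Q] :
    Function.Injective (f.rTensor Q) := by
  rw [← LinearMap.lTensor_inj_iff_rTensor_inj]
  have hp : Function.Surjective (Finsupp.linearCombination R (id : Q → Q)) :=
    Finsupp.linearCombination_id_surjective R Q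
  have hK : Function.Injective
      ((LinearMap.ker (Finsupp.linearCombination R (id : Q → Q))).subtype.rTensor M'') :=
    Module.Flat.rTensor_preserves_injective_linearMap _ (Submodule.injective_subtype _)
  have hF : Function.Injective (f.lTensor (Q →₀ R)) :=
    Module.Flat.lTensor_preserves_injective_linearMap (M := (Q →₀ R)) f hf
  exact lTensor_injective_of_exact _ _ (LinearMap.exact_subtype_ker_map _) hp f g hfg hg hK hF

end Groth.Agent.Lib.helper25
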