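import Mathlib
import Groth.Agent.Lib.Helper25.DCohPC3

/-!
# Pseudo-coherent objects: monotonicity, bounded-above objects, direct summands (helper25)

* `isPseudoCoherentD_mono`, `isPseudoCoherentD_of_restrict` (locality), `isPseudoCoherentD_of_pcData_global`.
* `pcData_of_isZero_homology`: `H^i(A) = 0` for `i ≥ M` gives `M`-data.
* `isPseudoCoherentD_of_biprod`: summands of an `m`-pseudo-coherent object are `m`-pseudo-coherent.
-/

set_option autoImplicit false
universe u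
open CategoryTheory CategoryTheory.Limits AlgebraicGeometry TopologicalSpace Opposite
open Scheme.Modules ZeroObject

attribute [local instance] HasDerivedCategory.standard

namespace Groth.Agent.Lib.helper25.DCohPC4

open Groth.Agent.Lib.helper25.DCohRestrict Groth.Agent.Lib.helper25.DCohPerfect
  Groth.Agent.Lib.helper25.DCohHomology Groth.Agent.Lib.helper25.DCohPC
  Groth.Agent.Lib.helper25.DCohPC2 Groth.Agent.Lib.helper25.DCohPC3
  Groth.Agent.Lib.helper25.IsoAbove Groth.Agent.Lib.helper25.FLFKernel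

variable {X Y Z : Scheme.{u}}

lemma PCData.mono {m m' : ℤ} {K : DCoh.D Y} (h : PCData m K) (hm : m ≤ m') : PCData m' K := by
  obtain ⟨E, α, hE, hα⟩ := h
  exact ⟨E, α, hE, IsoAbove.mono_le hα hm⟩

lemma isPseudoCoherentD_mono {m m' : ℤ} {K : DCoh.D X} (h : DCoh.IsPseudoCoherentD m K) (hm : m ≤ m') :
    DCoh.IsPseudoCoherentD m' K := by
  refine isPseudoCoherentD_of_pcData (fun x => ?_)
  obtain ⟨V, hxV, hV⟩ := exists_pcData h x
  exact ⟨V, hxV, PCData.mono hV hm⟩

lemma isPseudoCoherentD_of_pcData_global {m : ℤ} {K : DCoh.D X} (h : PCData m K) :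
    DCoh.IsPseudoCoherentD m K :=
  isPseudoCoherentD_of_pcData (fun _ => ⟨⊤, trivial, PCData.restrict _ h⟩)

/-- pseudo-coherence is local -/
lemma isPseudoCoherentD_of_restrict {m : ℤ} {K : DCoh.D X}
    (h : ∀ x : X, ∃ V : X.Opens, x ∈ V ∧ DCoh.IsPseudoCoherentD m ((DCoh.restrictD V.ι).obj K)) :
    DCoh.IsPseudoCoherentD m K := by
  refine isPseudoCoherentD_of_local (fun x => ?_)
  obtain ⟨V, hxV, hV⟩ := h x
  obtain ⟨W, hyW, dW⟩ := exists_pcData hV (⟨x, hxV⟩ : (V : Scheme.{u}))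
  obtain ⟨c⟩ := nonempty_restrictD_comp_iso W.ι V.ι K
  exact ⟨_, W.ι ≫ V.ι, inferInstance, ⟨⟨⟨x, hxV⟩, hyW⟩, rfl⟩, dW.of_iso c.symm⟩

lemma isStrictlyPerfect_zero : DCoh.IsStrictlyPerfect (0 : CochainComplex Y.Modules ℤ) :=
  ⟨⟨0, 0, fun i _ => (HomologicalComplex.eval _ _ i).map_isZero (isZero_zero _)⟩,
    fun i => isFinLocFree_of_isZero ((HomologicalComplex.eval _ _ i).map_isZero (isZero_zero _))⟩

/-- an object with `H^i = 0` for `i ≥ M` is `M`-pseudo-coherent (presented by the zero complex) -/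
lemma pcData_of_isZero_homology {M : ℤ} {A : DCoh.D Y}
    (hz : ∀ i : ℤ, M ≤ i → IsZero ((DerivedCategory.homologyFunctor _ i).obj A)) : PCData M A := by
  have h0 : IsZero (DerivedCategory.Q.obj (0 : CochainComplex Y.Modules ℤ)) :=
    DerivedCategory.Q.map_isZero (isZero_zero _)
  refine ⟨0, 0, isStrictlyPerfect_zero, fun i hi => ?_, ?_⟩
  · exact ⟨⟨0, ((DerivedCategory.homologyFunctor _ i).map_isZero h0).eq_of_src _ _,
      (hz i (by omega)).eq_of_src _ _⟩⟩
  · exact ⟨fun _ _ _ => (hz M le_rfl).eq_of_src _ _⟩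

/-- abstract form of the summand lemma -/
lemma isPseudoCoherentD_summands (m : ℤ) (T₁ T₂ : Pretriangulated.Triangle (DCoh.D X))
    (hT₁ : T₁ ∈ Pretriangulated.distinguishedTriangles) (hT₂ : T₂ ∈ Pretriangulated.distinguishedTriangles)
    (e₁ : T₁.obj₁ ≅ T₂.obj₃) (e₃ : T₁.obj₃ ≅ T₂.obj₁)
    (h₁ : DCoh.IsPseudoCoherentD m T₁.obj₂) (h₂ : DCoh.IsPseudoCoherentD m T₂.obj₂) (M₀ : ℤ)
    (hA : DCoh.IsPseudoCoherentD M₀ T₁.obj₁) (hB : DCoh.IsPseudoCoherentD M₀ T₁.obj₃) :
    DCoh.IsPseudoCoherentD m T₁.obj₁ ∧ DCoh.IsPseudoCoherentD m T₁.obj₃ := by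
  have key : ∀ n : ℕ, DCoh.IsPseudoCoherentD (max m (M₀ - n)) T₁.obj₁ ∧
      DCoh.IsPseudoCoherentD (max m (M₀ - n)) T₁.obj₃ := by
    intro n
    induction n with
    | zero =>
      exact ⟨isPseudoCoherentD_mono hA (by simp), isPseudoCoherentD_mono hB (by simp)⟩
    | succ n ih =>
      obtain ⟨ihA, ihB⟩ := ih
      set j := max m (M₀ - ((n + 1 : ℕ) : ℤ)) with hj
      have hj1 : max m (M₀ - (n : ℤ)) ≤ j + 1 := by
        push_cast at hj
        omega
      have hjm : m ≤ j := le_max_left _ _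
      have hA' := isPseudoCoherentD_mono ihA hj1
      have hB' := isPseudoCoherentD_mono ihB hj1
      refine ⟨?_, ?_⟩
      · exact isPseudoCoherentD_of_iso e₁.symm
          (isPseudoCoherentD_obj₃ T₂ hT₂ j (isPseudoCoherentD_of_iso e₃ hB')
            (isPseudoCoherentD_mono h₂ hjm))
      · exact isPseudoCoherentD_obj₃ T₁ hT₁ j hA' (isPseudoCoherentD_mono h₁ hjm)
  by_cases hM : M₀ ≤ m
  · exact ⟨isPseudoCoherentD_mono hA hM, isPseudoCoherentD_mono hB hM⟩
  · have := key (M₀ - m).toNat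
    have h0 : max m (M₀ - ((M₀ - m).toNat : ℤ)) = m := by
      have : ((M₀ - m).toNat : ℤ) = M₀ - m := Int.toNat_of_nonneg (by omega)
      rw [this]
      simp
    rwa [h0] at this

end Groth.Agent.Lib.helper25.DCohPC4
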