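import Mathlib
import Groth.Agent.S1007
import Groth.Agent.Lib.Helper1.TruncTower
import Groth.Agent.Lib.Helper1.FreeOnTop
import Groth.Agent.Lib.Helper25.StupidSES
import Groth.Agent.Lib.Helper25.DCohRestrict

/-!
# Hom-vanishing into `D_QCoh^{≤ c}` on affine schemes (helper25)

* `hom_unit_eq_zero`: hypercohomology vanishing on an affine scheme for *unbounded* complexes:
  `Hom(O_Y[-j], K) = 0` for `K ∈ D_QCoh^{≤ b}`, `b < j` (via helper1's `TruncTower`: `K = R lim τ_{≥ -n} K`).
* `Van Y P c`: all maps from `P` to objects of `D_QCoh^{≤ c}(Y)` vanish; `van_of_iso`, `van_of_isZero`,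
  `van_of_le`, `van_of_triangle` (two-out-of-three, middle term).
* `prj`, `sum_prj_ι`: projections of a finite copower in a preadditive category.
* `van_single_free`: `Van Y (F[-a]) c` for `F` free of finite rank, `c < a`, `Y` affine.
* `van_of_free_terms`: `Van Y (Q E) c` for a bounded complex `E` of free modules of finite rank in
  degrees `≥ a`, `c < a`, `Y` affine (stupid truncations).
-/

set_option autoImplicit false
universe u
open CategoryTheory CategoryTheory.Limits AlgebraicGeometry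
attribute [local instance] HasDerivedCategory.standard

namespace Groth.Agent.Lib.Helper25.HomVanAffine

open Pretriangulated DerivedCategory TopologicalSpace
open Groth.Agent.S1007 (QC Baff hB hA goodFor_affine)
open Groth.Agent.H1.GoodCd Groth.Agent.H1.SingleVanish Groth.Agent.H1.HjSite
  Groth.Agent.H1.TruncCoh Groth.Agent.H1.WSerreTri

/-- hypercohomology vanishing on an affine scheme, for unbounded complexes with quasi-coherent
cohomology: `Hom(O_Y[-j], K) = 0` for `K ∈ D_QCoh^{≤ b}`, `b < j`. -/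
theorem hom_unit_eq_zero (Y : Scheme.{u}) [IsAffine Y] (K : DCoh.D Y) (hK : DCoh.IsQCohD K)
    (b j : ℤ) (hb : b < j) (hLE : K.IsLE b)
    (σ : (singleFunctor Y.Modules j).obj (Coh.structureModule Y) ⟶ K) : σ = 0 := by
  have hTop : IsAffineOpen (⊤ : Y.Opens) := isAffineOpen_top Y
  have hW := goodFor_affine Y ⊤ hTop
  have hT : IsTerminal (⊤ : Opens Y) := isTerminalTop
  let e : ModSite.freeOn Y.sheaf (⊤ : Opens Y) ≅ Coh.structureModule Y :=
    Groth.Agent.H1.FreeOnTop.iso Y.sheaf hT
  suffices h : ∀ τ : Xj Y.sheaf (⊤ : Opens Y) j ⟶ K, τ = 0 by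
    have := h ((singleFunctor Y.Modules j).map e.hom ≫ σ)
    exact (cancel_epi ((singleFunctor Y.Modules j).map e.hom)).1 (this.trans comp_zero.symm)
  intro τ
  obtain ⟨n, hn⟩ : ∃ n : ℕ, ((0 : ℕ) : ℤ) + 3 - j ≤ n :=
    ⟨(3 - j).toNat, by omega⟩
  have hbij := Groth.Agent.H1.TruncTower.bijective_comp_toTruncTower (B := Baff Y) (hB Y) (hA Y) hW
    K hK j n hn
  apply hbij.1
  dsimp only
  refine Eq.trans ?_ zero_comp.symm
  let t : Triangulated.TStructure (DCoh.D Y) := TStructure.t
  have h1 : (CohCx.truncTower K n).IsGE (b - ((n + b.toNat + 1 : ℕ) : ℤ) + 1) := by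
    have : t.IsGE ((t.truncGE (-(n : ℤ))).obj K) (-(n : ℤ)) := inferInstance
    exact t.isGE_of_ge _ _ (-(n : ℤ)) (by push_cast; omega)
  have h2 : (CohCx.truncTower K n).IsLE b := by
    haveI : t.IsLE K b := hLE
    change t.IsLE ((t.truncGE (-(n : ℤ))).obj K) b
    infer_instance
  have hEV : ExtVanish (ModSite.freeOn Y.sheaf (⊤ : Opens Y)) (QC Y) 0 :=
    extVanish_of_goodFor.{u + 1, u} hW
  have hcoh : WSerre.cohIn (QC Y) (CohCx.truncTower K n) :=
    @cohIn_truncGE (ModSite.Mod Y.sheaf) _ _ (HasDerivedCategory.standard _) (QC Y) _ K hK _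
  exact hom_eq_zero_of_bounded.{u + 1, u, u + 1} hEV
    (n + b.toNat + 1) b _ hcoh h1 h2 j (by simpa using hb) _


/-- all maps from `P` to objects of `D_QCoh^{≤ c}` vanish -/
def Van (Y : Scheme.{u}) (P : DCoh.D Y) (c : ℤ) : Prop :=
  ∀ K : DCoh.D Y, DCoh.IsQCohD K → K.IsLE c → ∀ φ : P ⟶ K, φ = 0

variable {Y : Scheme.{u}}

lemma van_of_iso {P P' : DCoh.D Y} (e : P ≅ P') {c : ℤ} (h : Van Y P c) : Van Y P' c := by
  intro K hK hLE φ
  have := h K hK hLE (e.hom ≫ φ)
  exact (cancel_epi e.hom).1 (this.trans comp_zero.symm)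

lemma van_of_isZero {P : DCoh.D Y} (hP : IsZero P) (c : ℤ) : Van Y P c :=
  fun _ _ _ _ => hP.eq_of_src _ _

lemma van_of_le {P : DCoh.D Y} {c c' : ℤ} (h : Van Y P c) (hc : c' ≤ c) : Van Y P c' := by
  intro K hK hLE φ
  exact h K hK ((TStructure.t : Triangulated.TStructure (DCoh.D Y)).isLE_of_le K c' c hc) φ

lemma van_of_triangle (T : Triangle (DCoh.D Y)) (hT : T ∈ distTriang _) {c : ℤ}
    (h₁ : Van Y T.obj₁ c) (h₃ : Van Y T.obj₃ c) : Van Y T.obj₂ c := by
  intro K hK hLE φ
  obtain ⟨g, hg⟩ := Triangle.yoneda_exact₂ T hT φ (h₁ K hK hLE _)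
  rw [hg, h₃ K hK hLE g]
  exact comp_zero

section Free

variable {C : Type*} [Category C] [Preadditive C] {r : ℕ} (M : C) [HasCoproduct (fun _ : Fin r => M)]

/-- the projections of a finite copower -/
noncomputable def prj (i : Fin r) : (∐ fun _ : Fin r => M) ⟶ M :=
  Sigma.desc (fun j => if j = i then 𝟙 M else 0)

lemma ι_prj (i j : Fin r) :
    Sigma.ι (fun _ : Fin r => M) j ≫ prj M i = if j = i then 𝟙 M else 0 := by
  simp [prj]

lemma sum_prj_ι : ∑ i : Fin r, prj M i ≫ Sigma.ι (fun _ : Fin r => M) i = 𝟙 _ := by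
  apply Sigma.hom_ext
  intro j
  rw [Preadditive.comp_sum, Category.comp_id]
  rw [Finset.sum_eq_single j]
  · rw [← Category.assoc, ι_prj, if_pos rfl, Category.id_comp]
  · intro i _ hij
    rw [← Category.assoc, ι_prj, if_neg (Ne.symm hij), zero_comp]
  · intro h
    exact absurd (Finset.mem_univ j) h

end Free

/-- maps from a shifted free module of finite rank on an affine scheme to `D_QCoh^{< a}` vanish -/
lemma van_single_free (Y : Scheme.{u}) [IsAffine Y] (F : Y.Modules) (r : ℕ)
    (e : F ≅ FlatMod.freeMod Y r) (a c : ℤ) (hc : c < a) :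
    Van Y ((singleFunctor Y.Modules a).obj F) c := by
  intro K hK hLE φ
  let G := singleFunctor Y.Modules a
  have h1 : ∀ i : Fin r, G.map (Sigma.ι (fun _ : Fin r => Coh.structureModule Y) i) ≫
      G.map e.inv ≫ φ = 0 := fun i => hom_unit_eq_zero Y K hK c a hc hLE _
  have h2 : G.map e.inv ≫ φ = 0 := by
    have h3 : G.map (𝟙 (FlatMod.freeMod Y r)) ≫ G.map e.inv ≫ φ = 0 := by
      rw [← sum_prj_ι (Coh.structureModule Y), Functor.map_sum, Preadditive.sum_comp]
      apply Finset.sum_eq_zero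
      intro i _
      rw [Functor.map_comp, Category.assoc, h1 i, comp_zero]
    rwa [CategoryTheory.Functor.map_id, Category.id_comp] at h3
  have : IsIso (G.map e.inv) := inferInstance
  exact (cancel_epi (G.map e.inv)).1 (h2.trans comp_zero.symm)


lemma isZero_Q_of_terms (E : CochainComplex Y.Modules ℤ) (h : ∀ i, IsZero (E.X i)) :
    IsZero (Q.obj E) := by
  have hE : IsZero E := by
    rw [IsZero.iff_id_eq_zero]
    apply HomologicalComplex.hom_ext
    intro i
    exact (h i).eq_of_src _ _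
  exact Q.map_isZero hE

open Groth.Agent.Lib.Helper25.StupidSES in
/-- **Affine base case**: a bounded complex of free modules of finite rank, concentrated in degrees
`≥ a`, on an affine scheme has no nonzero maps to `D_QCoh^{< a}`. -/
theorem van_of_free_terms [IsAffine Y] : ∀ (n : ℕ) (E : CochainComplex Y.Modules ℤ) (a : ℤ),
    (∀ i, i < a → IsZero (E.X i)) → (∀ i, a + n ≤ i → IsZero (E.X i)) →
    (∀ i, ∃ r : ℕ, Nonempty (E.X i ≅ FlatMod.freeMod Y r)) → ∀ c, c < a → Van Y (Q.obj E) c := by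
  intro n
  induction n with
  | zero =>
    intro E a h1 h2 _ c _
    refine van_of_isZero (isZero_Q_of_terms E fun i => ?_) c
    by_cases hi : i < a
    · exact h1 i hi
    · exact h2 i (by simpa using not_lt.mp hi)
  | succ n ih =>
    intro E a h1 h2 hfree c hc
    have hS := ses_shortExact E a
    have hT := triangleOfSES_distinguished hS
    refine van_of_triangle (triangleOfSES hS) hT ?_ ?_
    · -- `σ_{> a} E`
      have hiso : ∀ i, a < i → ((ses E a).X₁.X i ≅ E.X i) := fun i hi =>
        @asIso _ _ _ _ ((ses E a).f.f i) (isIso_f_f E a i hi)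
      refine ih (ses E a).X₁ (a + 1) (fun i hi => isZero_X₁ E a i (by omega))
        (fun i hi => (h2 i (by push_cast at hi ⊢; omega)).of_iso (hiso i (by omega)))
        (fun i => ?_) c (by omega)
      by_cases hi : a < i
      · obtain ⟨r, ⟨e⟩⟩ := hfree i
        exact ⟨r, ⟨hiso i hi ≪≫ e⟩⟩
      · exact Groth.Agent.Lib.helper25.DCohRestrict.nonempty_iso_freeMod_zero_of_isZero
          (isZero_X₁ E a i (by omega))
    · -- `σ_{≤ a} E`, a single free module in degree `a`
      have hiso : ∀ i, i ≤ a → (E.X i ≅ (ses E a).X₃.X i) := fun i hi =>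
        @asIso _ _ _ _ ((ses E a).g.f i) (isIso_g_f E a i hi)
      haveI : (ses E a).X₃.IsStrictlyGE a := by
        rw [CochainComplex.isStrictlyGE_iff]
        intro i hi
        exact (h1 i hi).of_iso (hiso i hi.le).symm
      obtain ⟨M, ⟨eM⟩⟩ := (ses E a).X₃.exists_iso_single a
      obtain ⟨r, ⟨e⟩⟩ := hfree a
      have eM' : M ≅ FlatMod.freeMod Y r :=
        (HomologicalComplex.singleObjXSelf (ComplexShape.up ℤ) a M).symm ≪≫
          ((HomologicalComplex.eval _ _ a).mapIso eM).symm ≪≫ (hiso a le_rfl).symm ≪≫ e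
      exact van_of_iso (((singleFunctorIsoCompQ Y.Modules a).app M) ≪≫ (Q.mapIso eM).symm)
        (van_single_free Y M r eM' a c hc)

end Groth.Agent.Lib.Helper25.HomVanAffine
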