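import Mathlib
import Groth.Agent.Lib.Helper25.HomVanAffine
import Groth.Agent.Lib.Helper25.MVShriek
import Groth.Agent.Lib.Helper25.MVSupp
import Groth.Agent.Lib.Helper25.RGZ4
import Groth.Agent.Lib.Helper25.DerivedAdj
import Groth.Agent.Lib.Helper25.DerBC

/-!
# Mayer–Vietoris step for Hom-vanishing into `D_QCoh^{≤ c}` (helper25)

* `isLE_restrictD`, `isQCohD_shift`.
* `van_of_cover`: `Y = U ∪ V`; if `Van U (P|_U) c`, `Van V (P|_V) c` and `Van (U ∩ V) (P|_{U ∩ V}) (c + 1)`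
  then `Van Y P c` (extension-by-zero Mayer–Vietoris triangle `MVShriek` + `j_! ⊣ j^*` on derived categories).
-/

set_option autoImplicit false
universe u
open CategoryTheory CategoryTheory.Limits AlgebraicGeometry
attribute [local instance] HasDerivedCategory.standard

namespace Groth.Agent.Lib.Helper25.HomVanMV

open Pretriangulated DerivedCategory TopologicalSpace Scheme.Modules
open Groth.Agent.Lib.Helper25.HomVanAffine
open Groth.Agent.S1007 (QC)

variable {Y : Scheme.{u}}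

/-- restriction along an open immersion preserves `D^{≤ n}` -/
lemma isLE_restrictD {Z : Scheme.{u}} (g : Z ⟶ Y) [IsOpenImmersion g] (K : DCoh.D Y) (n : ℤ)
    (hK : K.IsLE n) : ((DCoh.restrictD g).obj K).IsLE n := by
  rw [DerivedCategory.isLE_iff]
  intro i hi
  obtain ⟨e⟩ := Groth.Agent.Lib.Helper25.DerBC.nonempty_homology_mapDerivedCategory_iso
    (restrictFunctor g) K i
  exact IsZero.of_iso (Functor.map_isZero _ (isZero_of_isLE K n i hi)) e

/-- shifts preserve `D_QCoh` -/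
lemma isQCohD_shift (K : DCoh.D Y) (hK : DCoh.IsQCohD K) (m : ℤ) : DCoh.IsQCohD (K⟦m⟧) :=
  Groth.Agent.H1.WSerreTri.cohIn_shift (P := QC Y) m hK

/-- **Mayer–Vietoris step** for Hom-vanishing. -/
theorem van_of_cover (U V : Y.Opens) (hUV : U ⊔ V = ⊤) (P : DCoh.D Y) (c : ℤ)
    (hU : Van U ((DCoh.restrictD U.ι).obj P) c) (hV : Van V ((DCoh.restrictD V.ι).obj P) c)
    (hW : Van (U ⊓ V : Y.Opens) ((DCoh.restrictD (U ⊓ V).ι).obj P) (c + 1)) : Van Y P c := by
  intro K hK hLE φ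
  haveI := Groth.Agent.Lib.Helper25.MVSupp.preservesFiniteLimits_extZero U
  haveI := Groth.Agent.Lib.Helper25.MVSupp.preservesFiniteLimits_extZero V
  haveI := Groth.Agent.Lib.Helper25.MVSupp.preservesFiniteLimits_extZero (U ⊓ V)
  obtain ⟨a, b, d, hT⟩ := Groth.Agent.Lib.Helper25.MVShriek.exists_shriek_mv_triangle hUV P
  let adj : ∀ (T : Y.Opens) [PreservesFiniteLimits (CxOX.extZero T.ι)],
      CxOX.extZeroD T.ι ⊣ DCoh.restrictD T.ι := fun T _ =>
    Groth.Agent.Lib.helper25.DerivedAdj.mapDerivedCategoryAdj (CxOX.extZeroAdj T.ι)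
  have hres : ∀ (T : Y.Opens) (L : DCoh.D Y), DCoh.IsQCohD L → ∀ n, L.IsLE n →
      DCoh.IsQCohD ((DCoh.restrictD T.ι).obj L) ∧ ((DCoh.restrictD T.ι).obj L).IsLE n :=
    fun T L hL n hn => ⟨Groth.Agent.Lib.Helper25.RGZ4.isQCohD_restrictD T.ι L hL,
      isLE_restrictD T.ι L n hn⟩
  have h1 : b ≫ φ = 0 := by
    apply biprod.hom_ext'
    · apply ((adj U).homEquiv _ _).injective
      exact (hU _ (hres U K hK c hLE).1 (hres U K hK c hLE).2 _).trans
        (hU _ (hres U K hK c hLE).1 (hres U K hK c hLE).2 _).symm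
    · apply ((adj V).homEquiv _ _).injective
      exact (hV _ (hres V K hK c hLE).1 (hres V K hK c hLE).2 _).trans
        (hV _ (hres V K hK c hLE).1 (hres V K hK c hLE).2 _).symm
  obtain ⟨ψ, hψ⟩ := Triangle.yoneda_exact₃ _ hT φ h1
  let t : Triangulated.TStructure (DCoh.D Y) := TStructure.t
  have hK' : DCoh.IsQCohD (K⟦(-1 : ℤ)⟧) := isQCohD_shift K hK (-1)
  have hLE' : (K⟦(-1 : ℤ)⟧).IsLE (c + 1) := by
    haveI : t.IsLE K c := hLE
    exact t.isLE_shift K c (-1) (c + 1) (by omega)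
  let e₁ := (shiftEquiv (DCoh.D Y) (1 : ℤ)).toAdjunction.homEquiv
    ((CxOX.extZeroD (U ⊓ V).ι).obj ((DCoh.restrictD (U ⊓ V).ι).obj P)) K
  let e₂ := (adj (U ⊓ V)).homEquiv ((DCoh.restrictD (U ⊓ V).ι).obj P) (K⟦(-1 : ℤ)⟧)
  have hψ0 : ψ = 0 := by
    apply (e₁.trans e₂).injective
    exact (hW _ (hres _ _ hK' _ hLE').1 (hres _ _ hK' _ hLE').2 _).trans
      (hW _ (hres _ _ hK' _ hLE').1 (hres _ _ hK' _ hLE').2 _).symm
  rw [hψ, hψ0]
  exact comp_zero

end Groth.Agent.Lib.Helper25.HomVanMV
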