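import Mathlib
import Groth.Agent.Lib.Helper25.HomVanAffine
import Groth.Agent.Lib.Helper25.DCohPerfect

/-!
# Objects of `D(O_Z)` represented by bounded complexes of free modules (helper25)

* `Nice Z R c`: `R ≅ Q E` with `E` a bounded complex of free modules of finite rank in degrees `≥ c`.
* `nice_of_iso`, `nice_of_le`, `nice_restrict` (restriction along open immersions),
  `nice_of_range_subset` (transport along a factorization of open immersions), `nice_comp_iff`.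
* `van_of_nice`: on an affine scheme, `Nice Z R c → Van Z R (c - 1)`.
* `exists_nice_nhd`: a perfect object is nice on an affine open neighbourhood of every point.
-/

set_option autoImplicit false
universe u
open CategoryTheory CategoryTheory.Limits AlgebraicGeometry
attribute [local instance] HasDerivedCategory.standard

namespace Groth.Agent.Lib.Helper25.HomVanNice

open Pretriangulated DerivedCategory TopologicalSpace Scheme.Modules
open Groth.Agent.Lib.Helper25.HomVanAffine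
open Groth.Agent.Lib.helper25.DCohRestrict Groth.Agent.Lib.helper25.DCohPerfect

variable {Y Z Z' : Scheme.{u}}

/-- `R ∈ D(O_Z)` is represented by a bounded complex of free modules of finite rank placed in
degrees `≥ c` -/
def Nice (Z : Scheme.{u}) (R : DCoh.D Z) (c : ℤ) : Prop :=
  ∃ (E : CochainComplex Z.Modules ℤ) (b : ℤ), (∀ i, i < c → IsZero (E.X i)) ∧
    (∀ i, b < i → IsZero (E.X i)) ∧ (∀ i, ∃ r : ℕ, Nonempty (E.X i ≅ FlatMod.freeMod Z r)) ∧
    Nonempty (R ≅ Q.obj E)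

lemma nice_of_iso {R R' : DCoh.D Z} (e : R ≅ R') {c : ℤ} (h : Nice Z R c) : Nice Z R' c := by
  obtain ⟨E, b, h1, h2, h3, ⟨a⟩⟩ := h
  exact ⟨E, b, h1, h2, h3, ⟨e.symm ≪≫ a⟩⟩

lemma nice_of_le {R : DCoh.D Z} {c c' : ℤ} (h : Nice Z R c) (hc : c' ≤ c) : Nice Z R c' := by
  obtain ⟨E, b, h1, h2, h3, a⟩ := h
  exact ⟨E, b, fun i hi => h1 i (by omega), h2, h3, a⟩

lemma nice_restrict (g : Z' ⟶ Z) [IsOpenImmersion g] {R : DCoh.D Z} {c : ℤ} (h : Nice Z R c) :
    Nice Z' ((DCoh.restrictD g).obj R) c := by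
  obtain ⟨E, b, h1, h2, h3, ⟨a⟩⟩ := h
  refine ⟨(resCx g).obj E, b, fun i hi => (restrictFunctor g).map_isZero (h1 i hi),
    fun i hi => (restrictFunctor g).map_isZero (h2 i hi), fun i => exists_iso_freeMod_res g (h3 i),
    ⟨(DCoh.restrictD g).mapIso a ≪≫ resDQIso g E⟩⟩

lemma van_of_nice [IsAffine Z] {R : DCoh.D Z} {c : ℤ} (h : Nice Z R c) : Van Z R (c - 1) := by
  obtain ⟨E, b, h1, h2, h3, ⟨a⟩⟩ := h
  exact van_of_iso a.symm (van_of_free_terms (b - c + 1).toNat E c h1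
    (fun i hi => h2 i (by omega)) h3 (c - 1) (by omega))

/-- transport along a factorization of open immersions -/
lemma nice_of_range_subset {Z₁ Z₂ : Scheme.{u}} (g₁ : Z₁ ⟶ Y) (g₂ : Z₂ ⟶ Y) [IsOpenImmersion g₁]
    [IsOpenImmersion g₂] (hr : Set.range g₁ ⊆ Set.range g₂) (P : DCoh.D Y) {c : ℤ}
    (h : Nice Z₂ ((DCoh.restrictD g₂).obj P) c) : Nice Z₁ ((DCoh.restrictD g₁).obj P) c := by
  let k := IsOpenImmersion.lift g₂ g₁ hr
  have hk : k ≫ g₂ = g₁ := IsOpenImmersion.lift_fac g₂ g₁ hr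
  haveI : IsOpenImmersion (k ≫ g₂) := by rw [hk]; infer_instance
  haveI : IsOpenImmersion k := IsOpenImmersion.of_comp k g₂
  obtain ⟨e₁⟩ := nonempty_restrictD_congr_iso hk.symm P
  obtain ⟨e₂⟩ := nonempty_restrictD_comp_iso k g₂ P
  exact nice_of_iso (e₁ ≪≫ e₂).symm (nice_restrict k h)

lemma nice_comp_iff (g : Z' ⟶ Z) (h : Z ⟶ Y) [IsOpenImmersion g] [IsOpenImmersion h]
    (P : DCoh.D Y) (c : ℤ) :
    Nice Z' ((DCoh.restrictD (g ≫ h)).obj P) c ↔
      Nice Z' ((DCoh.restrictD g).obj ((DCoh.restrictD h).obj P)) c := by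
  obtain ⟨e⟩ := nonempty_restrictD_comp_iso g h P
  exact ⟨nice_of_iso e, nice_of_iso e.symm⟩

/-- a perfect object is nice on an affine open neighbourhood of every point -/
theorem exists_nice_nhd (P : DCoh.D Y) (hP : DCoh.IsPerfect P) (y : Y) :
    ∃ (U : Y.Opens) (c : ℤ), y ∈ U ∧ IsAffineOpen U ∧ Nice U ((DCoh.restrictD U.ι).obj P) c := by
  obtain ⟨V, hyV, E, hE, ⟨e⟩⟩ := exists_restrictD_iso_of_isPerfect hP y
  obtain ⟨W, hyW, hfree⟩ := exists_open_all_free hE ⟨y, hyV⟩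
  obtain ⟨⟨a, b, hab⟩, -⟩ := hE
  -- an affine open neighbourhood inside `W`
  obtain ⟨W', hW', hle, hyW'⟩ : ∃ W' : (V : Scheme.{u}).Opens, IsAffineOpen W' ∧ W' ≤ W ∧
      (⟨y, hyV⟩ : (V : Scheme.{u})) ∈ W' := by
    obtain ⟨_, ⟨W', hW', rfl⟩, hyW', hW'W⟩ :=
      (V : Scheme.{u}).isBasis_affineOpens.exists_subset_of_mem_open hyW W.2
    exact ⟨W', hW', hW'W, hyW'⟩
  -- niceness on `W'`
  have h1 : Nice W' ((DCoh.restrictD W'.ι).obj ((DCoh.restrictD V.ι).obj P)) a := by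
    refine nice_of_iso ((DCoh.restrictD W'.ι).mapIso e).symm ?_
    refine ⟨(resCx W'.ι).obj E, b, fun i hi => (restrictFunctor W'.ι).map_isZero (hab i (Or.inl hi)),
      fun i hi => (restrictFunctor W'.ι).map_isZero (hab i (Or.inr hi)), fun i => ?_,
      ⟨resDQIso W'.ι E⟩⟩
    obtain ⟨r, ⟨f⟩⟩ := exists_iso_freeMod_res ((V : Scheme.{u}).homOfLE hle) (hfree i)
    exact ⟨r, ⟨((Groth.Agent.Lib.helper25.DCohRes.θ hle).app (E.X i)).symm ≪≫ f⟩⟩
  refine ⟨V.ι ''ᵁ W', a, ⟨⟨y, hyV⟩, hyW', rfl⟩, hW'.image_of_isOpenImmersion V.ι, ?_⟩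
  refine nice_of_range_subset (V.ι ''ᵁ W').ι (W'.ι ≫ V.ι) ?_ P ((nice_comp_iff W'.ι V.ι P a).2 h1)
  rw [Scheme.Opens.range_ι]
  rintro x ⟨w, hw, rfl⟩
  exact ⟨⟨w, hw⟩, rfl⟩

end Groth.Agent.Lib.Helper25.HomVanNice
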