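import Mathlib
import Groth.Agent.Lib.Helper25.HomVanNice
import Groth.Agent.Lib.Helper25.HomVanMV
import Groth.Agent.Lib.Helper27.SerreVan5

/-!
# A perfect object on a qcqs scheme has no maps to `D_QCoh^{≤ c}`, `c ≪ 0` (helper25)

Two-stage Mayer–Vietoris induction *over schemes* (the inductive statements quantify over all
schemes, so that the induction hypothesis applies to the open subschemes `U`, `V`, `U ∩ V`
themselves and no transport between isomorphic schemes is needed):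

* `isZero_of_isEmpty`, `van_of_isEmpty`: `D(O_Y) = 0` for `Y` empty.
* `HA Y`: affine opens of `Y` have affine intersections; `ha_of_isAffine`, `ha_restrict`,
  `ha_of_le_affine` (opens inside an affine open).
* `stage1`, `stage1'`, `exists_van_of_ha`: `Y` quasi-compact with `HA Y`, `P` perfect ⟹ `∃ c, Van Y P c`.
* `isPerfect_restrictD`: restriction along an open immersion preserves perfect objects.
* `stage2`, `exists_van` (**Claim A**, Stacks 09M3-type bound): `X` quasi-compact quasi-separated,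
  `P` perfect ⟹ `∃ c, ∀ K ∈ D_QCoh^{≤ c}, Hom(P, K) = 0`.
-/

set_option autoImplicit false
universe u
open CategoryTheory CategoryTheory.Limits AlgebraicGeometry
attribute [local instance] HasDerivedCategory.standard

namespace Groth.Agent.Lib.Helper25.HomVanQcqs

open Pretriangulated DerivedCategory TopologicalSpace Scheme.Modules
open Groth.Agent.Lib.Helper25.HomVanAffine Groth.Agent.Lib.Helper25.HomVanNice
  Groth.Agent.Lib.Helper25.HomVanMV

variable {Y : Scheme.{u}}

lemma isZero_modules_of_isEmpty [IsEmpty Y] (M : Y.Modules) : IsZero M := by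
  rw [Groth.Agent.Lib.Helper25.MVMod.isZero_iff_subsingleton_sections]
  intro V
  have hV : V = ⊥ := by
    ext x
    exact isEmptyElim x
  subst hV
  have hT := TopCat.Sheaf.isTerminalOfEqEmpty (⟨M.presheaf, M.isSheaf⟩ : TopCat.Sheaf AddCommGrpCat Y)
    (U := ⊥) rfl
  have hZ : IsZero (M.presheaf.obj (Opposite.op ⊥)) :=
    IsZero.of_iso (isZero_zero _) (hT.uniqueUpToIso (isZero_zero _).isTerminal)
  exact AddCommGrpCat.subsingleton_of_isZero hZ

lemma isZero_of_isEmpty [IsEmpty Y] (K : DCoh.D Y) : IsZero K :=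
  Groth.Agent.Lib.Helper25.DerBC.isZero_of_homology K fun _ => isZero_modules_of_isEmpty _


lemma van_of_isEmpty [IsEmpty Y] (P : DCoh.D Y) (c : ℤ) : Van Y P c :=
  van_of_isZero (isZero_of_isEmpty P) c

/-- intersections of affine opens are affine -/
def HA (Y : Scheme.{u}) : Prop :=
  ∀ A B : Y.Opens, IsAffineOpen A → IsAffineOpen B → IsAffineOpen (A ⊓ B)

lemma image_inf_ι (S : Y.Opens) (A B : (S : Scheme.{u}).Opens) :
    S.ι ''ᵁ (A ⊓ B) = S.ι ''ᵁ A ⊓ S.ι ''ᵁ B := by
  ext x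
  constructor
  · rintro ⟨y, ⟨hA, hB⟩, rfl⟩
    exact ⟨⟨y, hA, rfl⟩, ⟨y, hB, rfl⟩⟩
  · rintro ⟨⟨y, hA, rfl⟩, ⟨z, hB, hz⟩⟩
    have : z = y := S.ι.isOpenEmbedding.injective hz
    subst this
    exact ⟨z, ⟨hA, hB⟩, rfl⟩

lemma ha_of_le_affine {W : Y.Opens} (hW : IsAffineOpen W) (S : Y.Opens) (hS : S ≤ W) : HA S := by
  intro A B hA hB
  have hA' : IsAffineOpen (S.ι ''ᵁ A) := hA.image_of_isOpenImmersion S.ι
  have hB' : IsAffineOpen (S.ι ''ᵁ B) := hB.image_of_isOpenImmersion S.ι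
  have hAW : S.ι ''ᵁ A ≤ W := (Groth.Agent.Lib.Helper25.MVMod.image_ι_le S A).trans hS
  have hBW : S.ι ''ᵁ B ≤ W := (Groth.Agent.Lib.Helper25.MVMod.image_ι_le S B).trans hS
  have h := Groth.Agent.Lib.helper27.SerreVan.isAffineOpen_inf_preimage (𝟙 Y) hA' (Z' := W) hW
    (by simpa using hAW) hB' hBW
  rw [← S.ι.isAffineOpen_iff_of_isOpenImmersion, image_inf_ι]
  simpa using h

lemma ha_of_isAffine [IsAffine Y] : HA Y := by
  intro A B hA hB
  have h := Groth.Agent.Lib.helper27.SerreVan.isAffineOpen_inf_preimage (𝟙 Y) hA (Z' := ⊤)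
    (isAffineOpen_top Y) le_top hB le_top
  simpa using h

lemma ha_restrict (hY : HA Y) (S : Y.Opens) : HA S := by
  intro A B hA hB
  have h := hY _ _ (hA.image_of_isOpenImmersion S.ι) (hB.image_of_isOpenImmersion S.ι)
  rw [← S.ι.isAffineOpen_iff_of_isOpenImmersion, image_inf_ι]
  exact h

lemma van_congr_open {A B : Y.Opens} (h : A = B) {P : DCoh.D Y} {c : ℤ}
    (hA : Van A ((DCoh.restrictD A.ι).obj P) c) : Van B ((DCoh.restrictD B.ι).obj P) c := by
  subst h
  exact hA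


lemma nice_preimage (S A B : Y.Opens) (hBA : B ≤ A) (P : DCoh.D Y) (c : ℤ)
    (h : Nice A ((DCoh.restrictD A.ι).obj P) c) :
    Nice (S.ι ⁻¹ᵁ B : (S : Scheme.{u}).Opens)
      ((DCoh.restrictD (S.ι ⁻¹ᵁ B).ι).obj ((DCoh.restrictD S.ι).obj P)) c := by
  refine (nice_comp_iff (S.ι ⁻¹ᵁ B).ι S.ι P c).1
    (nice_of_range_subset ((S.ι ⁻¹ᵁ B).ι ≫ S.ι) A.ι ?_ P h)
  rw [Scheme.Opens.range_ι]
  rintro _ ⟨w, rfl⟩
  exact hBA w.2

lemma preimage_iSup_eq_top (S : Y.Opens) {ι : Type*} (U : ι → Y.Opens) (h : S ≤ ⨆ i, U i) :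
    (⨆ i, S.ι ⁻¹ᵁ U i) = ⊤ := by
  rw [← S.ι.preimage_iSup]
  ext x
  simp only [Opens.coe_top, Set.mem_univ, iff_true]
  exact h x.2

/-- **Stage 1**: schemes in which affine opens have affine intersections, with a finite cover by
affine opens on which `P` is nice. -/
theorem stage1 : ∀ (n : ℕ) (Y : Scheme.{u}), HA Y → ∀ (P : DCoh.D Y) (c : ℤ)
    (U : Fin (n + 1) → Y.Opens), (⨆ i, U i) = ⊤ → (∀ i, IsAffineOpen (U i)) →
    (∀ i, Nice (U i) ((DCoh.restrictD (U i).ι).obj P) c) → Van Y P (c - 2 - n) := by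
  intro n
  induction n with
  | zero =>
    intro Y _ P c U hcov haff hnice
    have h0 : U 0 = ⊤ := by
      refine top_le_iff.1 (hcov ▸ iSup_le fun i => ?_)
      have hi : i = 0 := Fin.ext (by have := i.2; omega)
      rw [hi]
    haveI : IsAffine (U 0) := haff 0
    have h1 : Van (U 0) ((DCoh.restrictD (U 0).ι).obj P) (c - 1) := van_of_nice (hnice 0)
    have h2 : Van (U 0 ⊓ U 0 : Y.Opens) ((DCoh.restrictD (U 0 ⊓ U 0).ι).obj P) (c - 1) :=
      van_congr_open (inf_idem (U 0)).symm h1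
    refine van_of_cover (U 0) (U 0) (by rw [sup_idem, h0]) P _ (van_of_le h1 ?_)
      (van_of_le h1 ?_) (van_of_le h2 ?_) <;>
    · push_cast
      omega
  | succ n ih =>
    intro Y hY P c U hcov haff hnice
    let V : Y.Opens := ⨆ i : Fin (n + 1), U i.castSucc
    let W : Y.Opens := U (Fin.last (n + 1))
    have hVW : V ⊔ W = ⊤ := by
      rw [← hcov]
      exact (Groth.Agent.Lib.helper27.SerreVan.iSup_fin_succ U).symm
    have h1 : Van V ((DCoh.restrictD V.ι).obj P) (c - 2 - n) := by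
      refine ih V (ha_restrict hY V) _ c (fun i => V.ι ⁻¹ᵁ U i.castSucc)
        (preimage_iSup_eq_top V _ le_rfl) (fun i => ?_) (fun i => ?_)
      · refine (haff i.castSucc).preimage_of_isOpenImmersion V.ι ?_
        rw [Scheme.Opens.opensRange_ι]
        exact le_iSup (fun i : Fin (n + 1) => U i.castSucc) i
      · exact nice_preimage V (U i.castSucc) (U i.castSucc) le_rfl P c (hnice _)
    haveI : IsAffine W := haff _
    have h2 : Van W ((DCoh.restrictD W.ι).obj P) (c - 1) := van_of_nice (hnice _)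
    have h3 : Van (V ⊓ W : Y.Opens) ((DCoh.restrictD (V ⊓ W).ι).obj P) (c - 2 - n) := by
      refine ih (V ⊓ W : Y.Opens) (ha_restrict hY _) _ c
        (fun i => (V ⊓ W).ι ⁻¹ᵁ (U i.castSucc ⊓ W))
        (preimage_iSup_eq_top _ _ ?_) (fun i => ?_) (fun i => ?_)
      · rw [← iSup_inf_eq]
      · refine (hY _ _ (haff i.castSucc) (haff _)).preimage_of_isOpenImmersion (V ⊓ W).ι ?_
        rw [Scheme.Opens.opensRange_ι]
        exact inf_le_inf_right _ (le_iSup (fun i : Fin (n + 1) => U i.castSucc) i)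
      · exact nice_preimage (V ⊓ W) (U i.castSucc) (U i.castSucc ⊓ W) inf_le_left P c (hnice _)
    refine van_of_cover V W hVW P _ (van_of_le h1 ?_) (van_of_le h2 ?_) (van_of_le h3 ?_) <;>
    · push_cast
      omega


lemma isEmpty_of_top_eq_bot (h : (⊤ : Y.Opens) = ⊥) : IsEmpty Y :=
  ⟨fun y => by
    have hy : y ∈ (⊤ : Y.Opens) := trivial
    rw [h] at hy
    exact hy⟩

/-- stage 1 for covers indexed by `Fin n`, any `n` -/
theorem stage1' (n : ℕ) (hY : HA Y) (P : DCoh.D Y) (c : ℤ) (U : Fin n → Y.Opens)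
    (hcov : (⨆ i, U i) = ⊤) (haff : ∀ i, IsAffineOpen (U i))
    (hnice : ∀ i, Nice (U i) ((DCoh.restrictD (U i).ι).obj P) c) : ∃ c' : ℤ, Van Y P c' := by
  rcases n with _ | n
  · haveI : IsEmpty Y := isEmpty_of_top_eq_bot (by rw [← hcov, iSup_of_empty])
    exact ⟨0, van_of_isEmpty P 0⟩
  · exact ⟨_, stage1 n Y hY P c U hcov haff hnice⟩

/-- **Stage 1, conclusion**: quasi-compact schemes in which affine opens have affine intersections. -/
theorem exists_van_of_ha [CompactSpace Y] (hY : HA Y) (P : DCoh.D Y) (hP : DCoh.IsPerfect P) :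
    ∃ c : ℤ, Van Y P c := by
  classical
  choose U c hyU haff hnice using exists_nice_nhd P hP
  obtain ⟨t, ht⟩ := isCompact_univ.elim_finite_subcover (fun y => ((U y : Y.Opens) : Set Y))
    (fun y => (U y).isOpen) (fun y _ => Set.mem_iUnion.mpr ⟨y, hyU y⟩)
  obtain ⟨M, hM⟩ := (t.image (fun y => -c y)).exists_le
  have hc₀ : ∀ y ∈ t, -M ≤ c y := fun y hy => by
    have := hM _ (Finset.mem_image_of_mem (fun y => -c y) hy)
    omega
  refine stage1' t.card hY P (-M) (fun i => U (t.equivFin.symm i).1) ?_ (fun i => haff _)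
    (fun i => nice_of_le (hnice _) (hc₀ _ (t.equivFin.symm i).2))
  rw [eq_top_iff]
  intro y _
  obtain ⟨z, hz⟩ := Set.mem_iUnion.mp (ht (Set.mem_univ y))
  obtain ⟨hzt, hyz⟩ := Set.mem_iUnion.mp hz
  refine Opens.mem_iSup.mpr ⟨t.equivFin ⟨z, hzt⟩, ?_⟩
  simpa using hyz

/-- restriction along an open immersion preserves perfect objects -/
theorem isPerfect_restrictD {Z : Scheme.{u}} (g : Z ⟶ Y) [IsOpenImmersion g] {P : DCoh.D Y}
    (hP : DCoh.IsPerfect P) : DCoh.IsPerfect ((DCoh.restrictD g).obj P) := by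
  intro x
  obtain ⟨V, hxV, E, hE, ⟨e⟩⟩ :=
    Groth.Agent.Lib.helper25.DCohPerfect.exists_restrictD_iso_of_isPerfect hP (g x)
  let B : Z.Opens := g ⁻¹ᵁ V
  have hr : Set.range (B.ι ≫ g) ⊆ Set.range V.ι := by
    rw [Scheme.Opens.range_ι]
    rintro _ ⟨w, rfl⟩
    exact w.2
  let k := IsOpenImmersion.lift V.ι (B.ι ≫ g) hr
  have hk : k ≫ V.ι = B.ι ≫ g := IsOpenImmersion.lift_fac V.ι (B.ι ≫ g) hr
  haveI : IsOpenImmersion (k ≫ V.ι) := by rw [hk]; infer_instance
  haveI : IsOpenImmersion k := IsOpenImmersion.of_comp k V.ι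
  obtain ⟨e₁⟩ := Groth.Agent.Lib.helper25.DCohPerfect.nonempty_restrictD_comp_iso B.ι g P
  obtain ⟨e₂⟩ := Groth.Agent.Lib.helper25.DCohPerfect.nonempty_restrictD_congr_iso hk.symm P
  obtain ⟨e₃⟩ := Groth.Agent.Lib.helper25.DCohPerfect.nonempty_restrictD_comp_iso k V.ι P
  have hx : x ∈ B.ι.opensRange := by
    rw [Scheme.Opens.opensRange_ι]
    exact hxV
  exact Groth.Agent.Lib.helper25.DCohPerfect.isPerfect_at_of_restrictD_iso _ x B.ι hx
    ((Groth.Agent.Lib.helper25.DCohRestrict.resCx k).obj E)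
    (Groth.Agent.Lib.helper25.DCohRestrict.isStrictlyPerfect_res k hE)
    ⟨e₁.symm ≪≫ e₂ ≪≫ e₃ ≪≫ (DCoh.restrictD k).mapIso e ≪≫
      Groth.Agent.Lib.helper25.DCohRestrict.resDQIso k E⟩


/-- **Stage 2**: quasi-separated schemes covered by `n` affine opens. -/
theorem stage2 : ∀ (n : ℕ) (Y : Scheme.{u}) [QuasiSeparatedSpace Y] (U : Fin n → Y.Opens),
    (⨆ i, U i) = ⊤ → (∀ i, IsAffineOpen (U i)) → ∀ P : DCoh.D Y, DCoh.IsPerfect P →
    ∃ c : ℤ, Van Y P c := by
  intro n
  induction n with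
  | zero =>
    intro Y _ U hcov _ P _
    haveI : IsEmpty Y := isEmpty_of_top_eq_bot (by rw [← hcov, iSup_of_empty])
    exact ⟨0, van_of_isEmpty P 0⟩
  | succ n ih =>
    intro Y _ U hcov haff P hP
    let V : Y.Opens := ⨆ i : Fin n, U i.castSucc
    let W : Y.Opens := U (Fin.last n)
    have hVW : V ⊔ W = ⊤ := by
      rw [← hcov]
      exact (Groth.Agent.Lib.helper27.SerreVan.iSup_fin_succ U).symm
    -- `V`
    haveI : QuasiSeparatedSpace (V : Scheme.{u}) :=
      QuasiSeparatedSpace.of_isOpenEmbedding V.ι.isOpenEmbedding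
    obtain ⟨c₁, h1⟩ := ih V (fun i => V.ι ⁻¹ᵁ U i.castSucc) (preimage_iSup_eq_top V _ le_rfl)
      (fun i => by
        refine (haff i.castSucc).preimage_of_isOpenImmersion V.ι ?_
        rw [Scheme.Opens.opensRange_ι]
        exact le_iSup (fun i : Fin n => U i.castSucc) i)
      _ (isPerfect_restrictD V.ι hP)
    -- `W`
    haveI : IsAffine W := haff _
    obtain ⟨c₂, h2⟩ := exists_van_of_ha (Y := W) ha_of_isAffine _ (isPerfect_restrictD W.ι hP)
    -- `V ⊓ W`
    have hVc : IsCompact (V : Set Y) := by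
      have : (V : Set Y) = ⋃ i : Fin n, (U i.castSucc : Set Y) := by
        simp [V]
      rw [this]
      exact isCompact_iUnion fun i => (haff i.castSucc).isCompact
    have hc : IsCompact ((V ⊓ W : Y.Opens) : Set Y) :=
      hVc.inter_of_isOpen (haff _).isCompact V.isOpen W.isOpen
    haveI : CompactSpace (V ⊓ W : Y.Opens) := isCompact_iff_compactSpace.mp hc
    obtain ⟨c₃, h3⟩ := exists_van_of_ha (Y := (V ⊓ W : Y.Opens))
      (ha_of_le_affine (haff (Fin.last n)) (V ⊓ W) inf_le_right) _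
      (isPerfect_restrictD (V ⊓ W).ι hP)
    refine ⟨min (min c₁ c₂) (c₃ - 1), van_of_cover V W hVW P _ (van_of_le h1 ?_) (van_of_le h2 ?_)
      (van_of_le h3 ?_)⟩
    · exact (min_le_left _ _).trans (min_le_left _ _)
    · exact (min_le_left _ _).trans (min_le_right _ _)
    · have := min_le_right (min c₁ c₂) (c₃ - 1)
      omega

/-- **Claim A**: on a quasi-compact quasi-separated scheme, a perfect object has no nonzero maps to
`D_QCoh^{≤ c}` for some `c`. -/
theorem exists_van (X : Scheme.{u}) [CompactSpace X] [QuasiSeparatedSpace X] (P : DCoh.D X)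
    (hP : DCoh.IsPerfect P) : ∃ c : ℤ, Van X P c := by
  classical
  obtain ⟨s, hs, hcov⟩ := (isCompact_iff_finite_and_eq_biUnion_affineOpens (X := X)
    (U := (⊤ : X.Opens))).mp isCompact_univ
  obtain ⟨t, e, he⟩ := hs.fin_embedding
  refine stage2 t X (fun k => ((e k : X.affineOpens) : X.Opens)) ?_ (fun k => (e k).2) P hP
  have h1 : (⨆ i ∈ s, (i : X.Opens)) = ⨆ k : Fin t, ((e k : X.affineOpens) : X.Opens) := by
    rw [← he, iSup_range]
  rw [← h1]
  exact hcov.symm

end Groth.Agent.Lib.Helper25.HomVanQcqs
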