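import Groth.Agent.Lib.Helper25.PullTensorIso
import Groth.Agent.Lib.Helper13.RestrKFlat1
import Groth.Agent.Lib.Helper25.LTensorComp

/-!
# `f^*` commutes with the tensor product of complexes of `O`-modules; K-flat ⊗ K-flat

* `pullTensorBiIso f M N` with naturality in both variables (from `PullTensorIso.isIso_pullTensorHom`).
* `pullTensorCxIso f K L : f^*(K ⊗ L) ≅ f^*K ⊗ f^*L` for `DCoh.tensorCx` (pattern of helper13's `resTensorCxIso`).
* `isKFlat_tensorCx K L hK hL`: the tensor product of two K-flat complexes is K-flat (via `LTensorComp.assocNat`).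
-/

set_option autoImplicit false
universe u
open CategoryTheory CategoryTheory.Limits AlgebraicGeometry MonoidalCategory

namespace Groth.Agent.Lib.Helper25.PullTensorCx

open Groth.Agent.Lib.Lead.ModTensor Groth.Agent.Lib.helper12.PullTensor
  Groth.Agent.Lib.helper13.RestrKFlat Groth.Agent.Lib.Helper25.PullTensorIso

variable {X Y : Scheme.{u}} (f : X ⟶ Y)

/-- `f^*(M ⊗ N) ≅ f^*M ⊗ f^*N` in terms of `DCoh.tensorBi` -/
noncomputable def pullTensorBiIso (M N : Y.Modules) :
    (Scheme.Modules.pullback f).obj (((DCoh.tensorBi (X := Y)).obj M).obj N) ≅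
      ((DCoh.tensorBi (X := X)).obj ((Scheme.Modules.pullback f).obj M)).obj
        ((Scheme.Modules.pullback f).obj N) :=
  pullTensorIso f M N

lemma pullTensorBiIso_hom_naturality_left {M M' : Y.Modules} (a : M ⟶ M') (N : Y.Modules) :
    (Scheme.Modules.pullback f).map (((DCoh.tensorBi (X := Y)).map a).app N) ≫
        (pullTensorBiIso f M' N).hom =
      (pullTensorBiIso f M N).hom ≫
        ((DCoh.tensorBi (X := X)).map ((Scheme.Modules.pullback f).map a)).app
          ((Scheme.Modules.pullback f).obj N) := by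
  rw [tensorBi_map_app, tensorBi_map_app]
  have := pullTensorHom_naturality f a (𝟙 N)
  rw [CategoryTheory.Functor.map_id] at this
  exact this

lemma pullTensorBiIso_hom_naturality_right (M : Y.Modules) {N N' : Y.Modules} (b : N ⟶ N') :
    (Scheme.Modules.pullback f).map (((DCoh.tensorBi (X := Y)).obj M).map b) ≫
        (pullTensorBiIso f M N').hom =
      (pullTensorBiIso f M N).hom ≫
        ((DCoh.tensorBi (X := X)).obj ((Scheme.Modules.pullback f).obj M)).map
          ((Scheme.Modules.pullback f).map b) := by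
  rw [tensorBi_obj_map, tensorBi_obj_map]
  have := pullTensorHom_naturality f (𝟙 M) b
  rw [CategoryTheory.Functor.map_id] at this
  exact this

/-- termwise pullback of complexes -/
noncomputable abbrev pullCx : CochainComplex Y.Modules ℤ ⥤ CochainComplex X.Modules ℤ :=
  (Scheme.Modules.pullback f).mapHomologicalComplex (ComplexShape.up ℤ)

variable (K L : CochainComplex Y.Modules ℤ)

/-- The isomorphism of bicomplexes `f^*(K^p ⊗ L^q) ≅ f^*K^p ⊗ f^*L^q`. -/
noncomputable def bicxIso :
    (TotMap.map₂ (Scheme.Modules.pullback f) (ComplexShape.up ℤ) (ComplexShape.up ℤ)).obj (tenBicx K L) ≅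
      tenBicx ((pullCx f).obj K) ((pullCx f).obj L) :=
  HomologicalComplex.Hom.isoOfComponents
    (fun p => HomologicalComplex.Hom.isoOfComponents (fun q => pullTensorBiIso f (K.X p) (L.X q))
      (fun q q' _ => (pullTensorBiIso_hom_naturality_right f (K.X p) (L.d q q')).symm))
    (fun p p' _ => HomologicalComplex.hom_ext _ _ (fun q =>
      (pullTensorBiIso_hom_naturality_left f (K.d p p') (L.X q)).symm))

instance preservesTotal_pullback
    (B : HomologicalComplex₂ Y.Modules (ComplexShape.up ℤ) (ComplexShape.up ℤ)) :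
    TotMap.PreservesTotal (Scheme.Modules.pullback f) B (ComplexShape.up ℤ) := fun _ => inferInstance

/-- **`f^*(K ⊗ L) ≅ f^*K ⊗ f^*L` for complexes.** -/
noncomputable def pullTensorCxIso :
    (pullCx f).obj (((DCoh.tensorCx (X := Y)).obj K).obj L) ≅
      ((DCoh.tensorCx (X := X)).obj ((pullCx f).obj K)).obj ((pullCx f).obj L) :=
  haveI := TotMap.hasTotal_map₂ (Scheme.Modules.pullback f) (tenBicx K L) (ComplexShape.up ℤ)
  TotMap.mapTotalIso (Scheme.Modules.pullback f) (tenBicx K L) (ComplexShape.up ℤ) ≪≫
    HomologicalComplex₂.total.mapIso (bicxIso f K L) (ComplexShape.up ℤ)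

section kflat

open Groth.Agent.Lib.Helper25.LTensorComp

/-- **the tensor product of two K-flat complexes is K-flat** -/
theorem isKFlat_tensorCx (hK : DCoh.IsKFlat K) (hL : DCoh.IsKFlat L) :
    DCoh.IsKFlat ((DCoh.tensorCx.obj K).obj L) := by
  intro F hF i
  have h1 : ∀ i : ℤ, IsZero (((DCoh.tensorCx.obj F).obj K).homology i) := hK F hF
  have h2 := hL _ h1 i
  exact h2.of_iso ((HomologicalComplex.homologyFunctor _ _ i).mapIso ((assocNat K L).app F).symm)

end kflat

end Groth.Agent.Lib.Helper25.PullTensorCx
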