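import Mathlib
import Groth.Agent.Lib.Helper13.LTensorQCoh
import Groth.Agent.Lib.Helper11.GCAlg2
import Groth.Agent.Lib.Helper13.KFlat9
import Groth.Agent.Lib.Helper13.LTenCx3
import Groth.Agent.Lib.Helper21.TildeHom2
import Groth.Agent.Lib.Helper16.CohFinite
import Groth.Agent.Lib.Helper16.QCohPullback2
import Groth.Agent.Lib.Helper7.CohKer
import Groth.Agent.Lib.Helper25.DCohHomology

/-!
# `L ⊗^L E` lies in `D^-_Coh` when `L` and `E` do, on locally Noetherian schemes (helper25; = S6498)

* `finite_moduleSpecΓ`, `finite_of_isCoh_tilde`, `isZero_of_isZero_tilde`: a module `N` over `R` with `N^~` coherent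
  (resp. zero) is finite (resp. zero).
* `isCoh_of_iso`, `isCoh_pullback`.
* `exists_finite_free_rep`: on a Noetherian affine chart `j : Spec R ⟶ X`, a complex `K` with bounded above coherent
  cohomology satisfies `Q (j^* K) ≅ Q (L^~)` with `L` a bounded above complex of finite free `R`-modules
  (S0997 + helper11's `exists_finite_free_quasiIso`).
* `finite_homology_of_finite_X`, `finite_homology_tensor`, `isZero_homology_tensor` (algebra).
* `local_tilde'`: helper13's local computation `j^* H^i(P ⊗ F) ≅ H^i(PM ⊗ PN)^~` with chosen representatives.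
* `main`: `L, Q E ∈ D^-_Coh` with bounds `a`, `b` ⟹ `L ⊗^L E ∈ D_Coh` and `H^i = 0` for `i > a + b`.
-/

set_option autoImplicit false
universe u
open CategoryTheory CategoryTheory.Limits AlgebraicGeometry Opposite

attribute [local instance] HasDerivedCategory.standard

namespace Groth.Agent.Lib.Helper25.LTensorCoh

open Groth.Agent.Lib.Helper25.LpullAdapted Groth.Agent.Lib.Helper25.LTensorComp
  Groth.Agent.Lib.helper13.KFlat Groth.Agent.Lib.helper13.LTensorQCoh

variable {X : Scheme.{u}}

open Groth.Agent.Lib.helper16.CohFinite in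
lemma finite_moduleSpecΓ (R : CommRingCat.{u}) (G : (Spec R).Modules) (hG : Coh.IsCoh G) :
    Module.Finite R ((modulesSpecToSheaf.obj G).presheaf.obj (.op ⊤)) := by
  haveI : G.IsQuasicoherent := hG.1
  have h := finite_sections_of_isFiniteType G hG.2 (isAffineOpen_top (Spec R))
  obtain ⟨s, hs⟩ := h.fg_top
  let M' := ((modulesSpecToSheaf.obj G).presheaf.obj (.op ⊤))
  let s' : Finset M' := (show Finset M' from s)
  refine ⟨⟨s', ?_⟩⟩
  rw [eq_top_iff]
  intro x _
  have hx : (show Γ(G, ⊤) from x) ∈ Submodule.span Γ(Spec R, ⊤) (s : Set Γ(G, ⊤)) := by rw [hs]; trivial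
  refine Submodule.span_induction (R := Γ(Spec R, ⊤)) (M := Γ(G, ⊤)) (s := (s : Set Γ(G, ⊤)))
    (p := fun y _ => (show M' from y) ∈ Submodule.span R (s' : Set M')) ?_ ?_ ?_ ?_ hx
  · intro y hy
    exact Submodule.subset_span hy
  · exact Submodule.zero_mem _
  · intro a b _ _ ha hb
    exact Submodule.add_mem _ ha hb
  · intro γ y _ hy
    have : (show M' from γ • y) = ((Scheme.ΓSpecIso R).hom γ) • (show M' from y) := by
      have e : (Scheme.ΓSpecIso R).inv.hom ((Scheme.ΓSpecIso R).hom.hom γ) = γ := by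
        rw [← CommRingCat.comp_apply, Iso.hom_inv_id]; rfl
      change γ • y = ((Scheme.ΓSpecIso R).inv.hom ((Scheme.ΓSpecIso R).hom.hom γ)) • y
      rw [e]
    rw [this]
    exact Submodule.smul_mem _ _ hy


lemma finite_of_isCoh_tilde (R : CommRingCat.{u}) (N : ModuleCat.{u} R) (h : Coh.IsCoh (tilde N)) :
    Module.Finite R N := by
  haveI := finite_moduleSpecΓ R (tilde N) h
  exact Module.Finite.equiv (tilde.isoTop N).symm.toLinearEquiv

lemma isZero_of_isZero_tilde (R : CommRingCat.{u}) (N : ModuleCat.{u} R) (h : IsZero (tilde N)) :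
    IsZero N := by
  rw [IsZero.iff_id_eq_zero]
  apply (tilde.functor R).map_injective
  exact h.eq_of_src _ _

/-- coherence is invariant under isomorphism -/
lemma isCoh_of_iso {F G : X.Modules} (e : F ≅ G) (hF : Coh.IsCoh F) : Coh.IsCoh G :=
  ⟨(SheafOfModules.isQuasicoherent X.ringCatSheaf).prop_of_iso e hF.1,
    Groth.Agent.Lib.helper7.CohKer.isFiniteType_of_epi e.hom hF.2⟩

lemma isCoh_pullback {Y Z : Scheme.{u}} (h : Y ⟶ Z) {F : Z.Modules} (hF : Coh.IsCoh F) :
    Coh.IsCoh ((Scheme.Modules.pullback h).obj F) := by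
  haveI : F.IsQuasicoherent := hF.1
  exact ⟨Groth.Agent.Lib.helper16.QCohPullback.isQuasicoherent_pullback h F,
    Groth.Agent.Lib.helper16.QCohPullback2.isFiniteType_pullback h F hF.2⟩

open Groth.Agent.Lib.helper13.LpullQCoh Groth.Agent.Lib.helper13.TildeTensorNat
  Groth.Agent.Lib.Helper25.PullTensorCx MonoidalCategory in
/-- on a Noetherian affine chart, a bounded above complex with coherent cohomology is represented by a bounded above
complex of finite free modules -/
lemma exists_finite_free_rep (R : CommRingCat.{u}) [IsNoetherianRing R] (j : Spec R ⟶ X) [IsOpenImmersion j]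
    (K : CochainComplex X.Modules ℤ) (hK : DCoh.IsCohD (DCoh.toD X K)) (a : ℤ)
    (ha : ∀ i, a < i → IsZero (DCoh.HD (DCoh.toD X K) i)) :
    ∃ L : DRing.Cx R, (∀ i, Module.Finite R (L.X i) ∧ Module.Free R (L.X i)) ∧
      (∀ i : ℤ, a + 1 ≤ i → IsZero (L.X i)) ∧
      Nonempty (DCoh.toD _ ((pullCx j).obj K) ≅ DCoh.toD _ ((tildeCx R).obj L)) := by
  haveI := preservesFiniteLimits_pullback_of_isOpenImmersion j
  haveI := Groth.Agent.S9498.preservesFiniteLimits_tilde R
  have eH : ∀ i, DCoh.HD (DCoh.toD X K) i ≅ K.homology i := fun i =>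
    (DerivedCategory.homologyFunctorFactors _ i).app K
  have hKh : ∀ i, Coh.IsCoh (K.homology i) := fun i => isCoh_of_iso (eH i) (hK i)
  have hqc : DCoh.IsQCohD (DCoh.toD _ ((pullCx j).obj K)) := by
    intro k
    haveI : (K.homology k).IsQuasicoherent := (hKh k).1
    haveI : ((Scheme.Modules.pullback j).obj (K.homology k)).IsQuasicoherent :=
      Groth.Agent.Lib.helper16.QCohPullback.isQuasicoherent_pullback j (K.homology k)
    exact Groth.Agent.Lib.helper16.QCohFibre.isQuasicoherent_of_iso (HDtoDIso j K k).symm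
  obtain ⟨M, ⟨m⟩⟩ := ((Groth.Agent.S0997.result R).2.2 _).1 hqc
  let KM : DRing.Cx R := DerivedCategory.Q.objPreimage M
  have e1 : DCoh.toD _ ((pullCx j).obj K) ≅ DCoh.toD _ ((tildeCx R).obj KM) :=
    m.symm ≪≫ (DCoh.tildeD R).mapIso (DerivedCategory.Q.objObjPreimageIso M).symm ≪≫
      ((tilde.functor R).mapDerivedCategoryFactors).app KM
  have e2 : ∀ i, tilde (KM.homology i) ≅ (Scheme.Modules.pullback j).obj (K.homology i) := fun i =>
    ((KM.sc i).mapHomologyIso (tilde.functor R)).symm ≪≫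
      ((DerivedCategory.homologyFunctorFactors _ i).app ((tildeCx R).obj KM)).symm ≪≫
      (DerivedCategory.homologyFunctor _ i).mapIso e1.symm ≪≫ HDtoDIso j K i
  have hfin : ∀ i, Module.Finite R (KM.homology i) := fun i =>
    finite_of_isCoh_tilde R _ (isCoh_of_iso (e2 i).symm (isCoh_pullback j (hKh i)))
  have hz : ∀ i : ℤ, a + 1 ≤ i → IsZero (KM.homology i) := by
    intro i hi
    apply isZero_of_isZero_tilde
    refine IsZero.of_iso ?_ (e2 i)
    exact (Scheme.Modules.pullback j).map_isZero (((ha i (by omega))).of_iso (eH i).symm)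
  obtain ⟨L, φ, h1, h2, h3⟩ :=
    Groth.Agent.Lib.helper11.GCAlg.exists_finite_free_quasiIso R KM hfin (a + 1) hz
  refine ⟨L, h1, h2, ⟨e1 ≪≫ ?_⟩⟩
  haveI := h3
  haveI : (tilde.functor R).PreservesHomology := inferInstance
  haveI : QuasiIso ((tildeCx R).map φ) :=
    HomologicalComplex.quasiIso_map_of_preservesHomology φ (tilde.functor R)
  haveI : IsIso (DerivedCategory.Q.map ((tildeCx R).map φ)) :=
    (DerivedCategory.isIso_Q_map_iff_quasiIso _ _).2 inferInstance
  exact (asIso (DerivedCategory.Q.map ((tildeCx R).map φ))).symm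


section Algebra

open MonoidalCategory Groth.Agent.Lib.helper13.LTenCx

variable {A : Type u} [CommRing A]

/-- the cohomology of a complex with finite terms over a Noetherian ring is finite -/
lemma finite_homology_of_finite_X [IsNoetherianRing A] (K : DRing.Cx A) (n : ℤ)
    (h : Module.Finite A (K.X n)) : Module.Finite A (K.homology n) := by
  haveI := h
  haveI : IsNoetherian A (K.X n) := isNoetherian_of_isNoetherianRing_of_finite A _
  have h1 : Function.Injective (K.iCycles n).hom := (ModuleCat.mono_iff_injective _).1 inferInstance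
  have h2 : Function.Surjective (K.homologyπ n).hom := (ModuleCat.epi_iff_surjective _).1 inferInstance
  haveI : Module.Finite A (K.cycles n) := Module.Finite.of_injective _ h1
  exact Module.Finite.of_surjective _ h2

lemma isZero_homology_of_isZero_X (K : DRing.Cx A) (n : ℤ) (h : IsZero (K.X n)) :
    IsZero (K.homology n) := by
  haveI : Mono (K.iCycles n) := inferInstance
  have h1 : IsZero (K.cycles n) := by
    rw [IsZero.iff_id_eq_zero, ← cancel_mono (K.iCycles n)]
    exact h.eq_of_tgt _ _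
  rw [IsZero.iff_id_eq_zero, ← cancel_epi (K.homologyπ n)]
  exact h1.eq_of_src _ _

lemma finite_homology_tensor [IsNoetherianRing A] (K L : DRing.Cx A) {b₁ b₂ : ℤ}
    (hK : DRing.VanishesAbove K b₁) (hL : DRing.VanishesAbove L b₂)
    (hKf : DRing.TermwiseFiniteFree K) (hLf : DRing.TermwiseFiniteFree L) (n : ℤ) :
    Module.Finite A ((K ⊗ L).homology n) :=
  finite_homology_of_finite_X _ n (termwiseFiniteFree_tensor hK hL hKf hLf n).1

lemma isZero_homology_tensor (K L : DRing.Cx A) {b₁ b₂ : ℤ}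
    (hK : DRing.VanishesAbove K b₁) (hL : DRing.VanishesAbove L b₂) (n : ℤ) (hn : b₁ + b₂ < n) :
    IsZero ((K ⊗ L).homology n) :=
  isZero_homology_of_isZero_X _ n (vanishesAbove_tensor hK hL n hn)

end Algebra

open Groth.Agent.Lib.helper13.LpullQCoh Groth.Agent.Lib.helper13.TildeTensorNat
  Groth.Agent.Lib.Helper25.PullTensorCx MonoidalCategory in
/-- the local computation with chosen module-level representatives -/
lemma local_tilde' (R : CommRingCat.{u}) (j : Spec R ⟶ X) [IsOpenImmersion j]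
    (P F : CochainComplex X.Modules ℤ) (hP : DCoh.IsKFlat P)
    (PM PN : DRing.Cx R) (hPM : DRing.IsKFlat R PM)
    (eM : DCoh.toD _ ((pullCx j).obj P) ≅ DCoh.toD _ ((tildeCx R).obj PM))
    (eN : DCoh.toD _ ((pullCx j).obj F) ≅ DCoh.toD _ ((tildeCx R).obj PN)) (i : ℤ) :
    Nonempty ((Scheme.Modules.pullback j).obj (((DCoh.tensorCx.obj P).obj F).homology i) ≅
      tilde ((PM ⊗ PN).homology i)) := by
  haveI := preservesFiniteLimits_pullback_of_isOpenImmersion j
  haveI := Groth.Agent.S9498.preservesFiniteLimits_tilde R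
  have hP₁ := Groth.Agent.Lib.Helper25.PullKFlat.isKFlat_pullback j P hP
  have hPM' := Groth.Agent.Lib.helper13.TildeStalk.isKFlat_tilde R PM hPM
  obtain ⟨b⟩ := nonempty_tensor_congr hP₁ hPM' eM eN
  refine ⟨?_⟩
  refine ((((DCoh.tensorCx.obj P).obj F).sc i).mapHomologyIso (Scheme.Modules.pullback j)).symm ≪≫
    (HomologicalComplex.homologyFunctor _ _ i).mapIso (pullTensorCxIso j P F) ≪≫
    ((DerivedCategory.homologyFunctorFactors _ i).app _).symm ≪≫
    (DerivedCategory.homologyFunctor _ i).mapIso b ≪≫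
    (DerivedCategory.homologyFunctorFactors _ i).app _ ≪≫
    (HomologicalComplex.homologyFunctor _ _ i).mapIso (tildeTensorCxIso R PM PN).symm ≪≫
    ((PM ⊗ PN).sc i).mapHomologyIso (tilde.functor R)



/-- restriction to an affine open through its spectrum -/
noncomputable def eresAux (T : X.Modules) {U : X.Opens} (hU : IsAffineOpen U) :
    (Scheme.Modules.restrictFunctor hU.isoSpec.hom).obj
      ((Scheme.Modules.restrictFunctor hU.fromSpec).obj T) ≅
      (Scheme.Modules.restrictFunctor U.ι).obj T :=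
  ((Scheme.Modules.restrictFunctorComp hU.isoSpec.hom hU.fromSpec).app T).symm ≪≫
    (Scheme.Modules.restrictFunctorCongr (by simp)).app T

open Groth.Agent.Lib.helper13.LpullQCoh Groth.Agent.Lib.helper13.TildeTensorNat
  Groth.Agent.Lib.Helper25.PullTensorCx MonoidalCategory Groth.Agent.Lib.helper25.DCohHomology in
/-- **`L ⊗^L E` lies in `D^-_Coh` when `L` and `E` do** (locally Noetherian schemes). -/
theorem main [IsLocallyNoetherian X] (E : CochainComplex X.Modules ℤ) [DCoh.HasLTensorCx E] (L : DCoh.D X)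
    (hL : DCoh.IsCohD L) (a : ℤ) (ha : ∀ i, a < i → IsZero (DCoh.HD L i))
    (hE : DCoh.IsCohD (DCoh.toD X E)) (b : ℤ) (hb : ∀ i, b < i → IsZero (DCoh.HD (DCoh.toD X E) i)) :
    DCoh.IsCohD ((DCoh.LTensorCx E).obj L) ∧
      ∀ i, a + b < i → IsZero (DCoh.HD ((DCoh.LTensorCx E).obj L) i) := by
  obtain ⟨P, hP, ⟨e⟩⟩ := exists_P₀_rep L
  haveI := isIso_ε_app E P hP.1
  have eT : ∀ i, DCoh.HD ((DCoh.LTensorCx E).obj L) i ≅ ((DCoh.tensorCx.obj P).obj E).homology i :=
    fun i => (DerivedCategory.homologyFunctor _ i).mapIso ((DCoh.LTensorCx E).mapIso e.symm ≪≫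
        asIso ((ε E).app P)) ≪≫ (DerivedCategory.homologyFunctorFactors _ i).app _
  have hcohP : DCoh.IsCohD (DCoh.toD X P) := fun i =>
    isCoh_of_iso ((DerivedCategory.homologyFunctor _ i).mapIso e.symm) (hL i)
  have haP : ∀ i, a < i → IsZero (DCoh.HD (DCoh.toD X P) i) := fun i hi =>
    (ha i hi).of_iso ((DerivedCategory.homologyFunctor _ i).mapIso e)
  have key : ∀ (i : ℤ) (p : X.affineOpens), ∃ N : ModuleCat.{u} Γ(X, p.1),
      Module.Finite Γ(X, p.1) N ∧ (a + b < i → IsZero N) ∧
      Nonempty ((Scheme.Modules.pullback p.2.fromSpec).obj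
        (((DCoh.tensorCx.obj P).obj E).homology i) ≅ tilde N) := by
    intro i p
    haveI : IsNoetherianRing Γ(X, p.1) := IsLocallyNoetherian.component_noetherian p
    haveI : IsOpenImmersion p.2.fromSpec := IsAffineOpen.isOpenImmersion_fromSpec p.2
    obtain ⟨LP, hLP1, hLP2, ⟨eP⟩⟩ := exists_finite_free_rep Γ(X, p.1) p.2.fromSpec P hcohP a haP
    obtain ⟨LE, hLE1, hLE2, ⟨eE⟩⟩ := exists_finite_free_rep Γ(X, p.1) p.2.fromSpec E hE b hb
    have vP : DRing.VanishesAbove LP a := fun n hn => hLP2 n (by omega)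
    have vE : DRing.VanishesAbove LE b := fun n hn => hLE2 n (by omega)
    have hKF : DRing.IsKFlat Γ(X, p.1) LP :=
      Groth.Agent.Lib.helper13.KFlat.isKFlatR_of_bounded_above LP a vP (fun i => by
        haveI := (hLP1 i).2
        infer_instance)
    obtain ⟨n⟩ := local_tilde' Γ(X, p.1) p.2.fromSpec P E hP.1 LP LE hKF eP eE i
    exact ⟨(LP ⊗ LE).homology i, finite_homology_tensor LP LE vP vE hLP1 hLE1 i,
      fun hi => isZero_homology_tensor LP LE vP vE i hi, ⟨n⟩⟩
  have hcov : ⨆ p : X.affineOpens, (p.1 : X.Opens) = ⊤ := by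
    rw [eq_top_iff]
    intro y _
    obtain ⟨U, hU, hyU, -⟩ := TopologicalSpace.Opens.isBasis_iff_nbhd.mp X.isBasis_affineOpens
      (show y ∈ (⊤ : X.Opens) from trivial)
    exact TopologicalSpace.Opens.mem_iSup.mpr ⟨⟨U, hU⟩, hyU⟩
  have hoi : ∀ p : X.affineOpens, IsOpenImmersion p.2.fromSpec := fun p =>
    IsAffineOpen.isOpenImmersion_fromSpec p.2
  have eres : ∀ (T : X.Modules) (p : X.affineOpens),
      (Scheme.Modules.restrictFunctor (IsAffineOpen.isoSpec p.2).hom).obj
        ((Scheme.Modules.restrictFunctor (IsAffineOpen.fromSpec p.2)).obj T) ≅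
        (Scheme.Modules.restrictFunctor p.1.ι).obj T := fun T p => eresAux T p.2
  constructor
  · intro i
    refine isCoh_of_iso (eT i).symm ?_
    refine isCoh_of_cover _ (fun p : X.affineOpens => p.1) hcov (fun p => ?_)
    obtain ⟨N, hN, -, ⟨n⟩⟩ := key i p
    haveI := hN
    haveI := hoi p
    have c1 : Coh.IsCoh ((Scheme.Modules.restrictFunctor p.2.fromSpec).obj
        (((DCoh.tensorCx.obj P).obj E).homology i)) :=
      isCoh_of_iso (((Scheme.Modules.restrictFunctorIsoPullback p.2.fromSpec).app _ ≪≫ n).symm)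
        (Groth.Agent.Lib.helper21.TildeHom.isCoh_tilde _ N)
    refine isCoh_of_iso (eres _ p) ?_
    exact isCoh_of_iso ((Scheme.Modules.restrictFunctorIsoPullback p.2.isoSpec.hom).app _).symm
      (isCoh_pullback _ c1)
  · intro i hi
    refine IsZero.of_iso ?_ (eT i)
    refine isZero_of_cover _ (fun p : X.affineOpens => p.1) hcov (fun p => ?_)
    obtain ⟨N, -, hN, ⟨n⟩⟩ := key i p
    haveI := hoi p
    have c1 : IsZero ((Scheme.Modules.restrictFunctor p.2.fromSpec).obj
        (((DCoh.tensorCx.obj P).obj E).homology i)) :=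
      IsZero.of_iso ((tilde.functor _).map_isZero (hN hi))
        ((Scheme.Modules.restrictFunctorIsoPullback p.2.fromSpec).app _ ≪≫ n)
    exact IsZero.of_iso ((Scheme.Modules.restrictFunctor p.2.isoSpec.hom).map_isZero c1) (eres _ p).symm

end Groth.Agent.Lib.Helper25.LTensorCoh
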