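import Mathlib
import Groth.Agent.Lib.Helper25.LTensorCoh
import Groth.Agent.Lib.Helper16.FLF4
import Groth.Agent.Lib.Helper23.RegPD2
import Groth.Agent.Lib.Helper23.PosVan
import Groth.Agent.Lib.Helper25.DCohRestrict
import Groth.Prelude.Def_Models

/-!
# On a regular locally Noetherian scheme, `D^b_Coh` consists of perfect objects (helper25)

* `isFinLocFree_tilde`: the tilde of a finite projective module is finite locally free.
* `isRegularLocalRing_localization`: affine opens of a regular scheme have regular coordinate rings.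
* `exists_perfect_rep`: on a regular Noetherian affine chart `j : Spec R ⟶ X`, a bounded complex with coherent
  cohomology satisfies `Q (j^* K) ≅ Q (E^~)` with `E` a bounded complex of finite projective modules
  (S0997 + helper23's S7031 `isPerfect_iff_of_regular`).
* `isPerfect_of_regular`: bounded + coherent cohomology ⟹ `DCoh.IsPerfect`.
-/

set_option autoImplicit false
universe u
open CategoryTheory CategoryTheory.Limits AlgebraicGeometry Opposite

attribute [local instance] HasDerivedCategory.standard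

namespace Groth.Agent.Lib.Helper25.RegPerfect

open Groth.Agent.Lib.Helper25.LTensorCoh

/-- the tilde of a finite projective module is finite locally free -/
lemma isFinLocFree_tilde (R : CommRingCat.{u}) (P : ModuleCat.{u} R) [Module.Finite R P]
    [Module.Projective R P] : FlatMod.IsFinLocFree (tilde P) := by
  obtain ⟨n, f, hf⟩ := Module.Finite.exists_fin' R P
  obtain ⟨s, hs⟩ := Module.projective_lifting_property f LinearMap.id hf
  let i : P ⟶ Groth.Agent.Lib.helper16.FLF.stdFree R n := ModuleCat.ofHom s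
  let r : Groth.Agent.Lib.helper16.FLF.stdFree R n ⟶ P := ModuleCat.ofHom f
  have hir : i ≫ r = 𝟙 P := by
    ext x
    exact LinearMap.congr_fun hs x
  have h1 : FlatMod.IsFinLocFree (tilde (Groth.Agent.Lib.helper16.FLF.stdFree R n)) :=
    Groth.Agent.Lib.helper16.FLF.isFinLocFree_of_iso
      (Groth.Agent.Lib.helper16.FLF.tildeFreeModIso R n).symm
      (Groth.Agent.Lib.helper16.FLF.isFinLocFree_freeMod _ n)
  refine Groth.Agent.Lib.helper16.FLF.isFinLocFree_of_retract h1 (tilde.map i) (tilde.map r) ?_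
  rw [← tilde.map_comp, hir, tilde.map_id]


/-- affine opens of a regular scheme have regular coordinate rings -/
lemma isRegularLocalRing_localization {X : Scheme.{u}} (hreg : Models.IsRegularScheme X) {U : X.Opens}
    (hU : IsAffineOpen U) (y : PrimeSpectrum Γ(X, U)) :
    IsRegularLocalRing (Localization.AtPrime y.asIdeal) := by
  have hy : hU.fromSpec y ∈ U := by
    have h := hU.range_fromSpec
    have : hU.fromSpec y ∈ Set.range hU.fromSpec := ⟨y, rfl⟩
    rw [h] at this
    exact this
  letI := TopCat.Presheaf.algebra_section_stalk X.presheaf ⟨hU.fromSpec y, hy⟩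
  haveI h1 : IsLocalization y.asIdeal.primeCompl (X.presheaf.stalk (hU.fromSpec y)) :=
    hU.isLocalization_stalk' y hy
  haveI := hreg (hU.fromSpec y)
  exact IsRegularLocalRing.of_ringEquiv (IsLocalization.algEquiv y.asIdeal.primeCompl
    (X.presheaf.stalk (hU.fromSpec y)) (Localization.AtPrime y.asIdeal)).toRingEquiv


variable {X : Scheme.{u}}

open Groth.Agent.Lib.helper13.LpullQCoh Groth.Agent.Lib.helper13.TildeTensorNat
  Groth.Agent.Lib.Helper25.PullTensorCx in
/-- on a regular Noetherian affine chart, a bounded complex with coherent cohomology is represented by a bounded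
complex of finite projective modules -/
lemma exists_perfect_rep (R : CommRingCat.{u}) [IsNoetherianRing R]
    (hreg : ∀ p : PrimeSpectrum R, IsRegularLocalRing (Localization.AtPrime p.asIdeal))
    (j : Spec R ⟶ X) [IsOpenImmersion j]
    (K : CochainComplex X.Modules ℤ) (hK : DCoh.IsCohD (DCoh.toD X K)) (a b : ℤ)
    (ha : ∀ i, i < a → IsZero (DCoh.HD (DCoh.toD X K) i))
    (hb : ∀ i, b < i → IsZero (DCoh.HD (DCoh.toD X K) i)) :
    ∃ (E : DRing.Cx R) (a' b' : ℤ), DRing.VanishesOutside E a' b' ∧ DRing.TermwiseFiniteProjective E ∧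
      Nonempty (DCoh.toD _ ((pullCx j).obj K) ≅ DCoh.toD _ ((tildeCx R).obj E)) := by
  haveI := preservesFiniteLimits_pullback_of_isOpenImmersion j
  haveI := Groth.Agent.S9498.preservesFiniteLimits_tilde R
  have eH : ∀ i, DCoh.HD (DCoh.toD X K) i ≅ K.homology i := fun i =>
    (DerivedCategory.homologyFunctorFactors _ i).app K
  have hKh : ∀ i, Coh.IsCoh (K.homology i) := fun i => isCoh_of_iso (eH i) (hK i)
  have hqc : DCoh.IsQCohD (DCoh.toD _ ((pullCx j).obj K)) := by
    intro k
    haveI : (K.homology k).IsQuasicoherent := (hKh k).1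
    haveI : ((Scheme.Modules.pullback j).obj (K.homology k)).IsQuasicoherent :=
      Groth.Agent.Lib.helper16.QCohPullback.isQuasicoherent_pullback j (K.homology k)
    exact Groth.Agent.Lib.helper16.QCohFibre.isQuasicoherent_of_iso (HDtoDIso j K k).symm
  obtain ⟨M, ⟨m⟩⟩ := ((Groth.Agent.S0997.result R).2.2 _).1 hqc
  let KM : DRing.Cx R := DerivedCategory.Q.objPreimage M
  have e1 : DCoh.toD _ ((pullCx j).obj K) ≅ DCoh.toD _ ((tildeCx R).obj KM) :=
    m.symm ≪≫ (DCoh.tildeD R).mapIso (DerivedCategory.Q.objObjPreimageIso M).symm ≪≫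
      ((tilde.functor R).mapDerivedCategoryFactors).app KM
  have e2 : ∀ i, tilde (KM.homology i) ≅ (Scheme.Modules.pullback j).obj (K.homology i) := fun i =>
    ((KM.sc i).mapHomologyIso (tilde.functor R)).symm ≪≫
      ((DerivedCategory.homologyFunctorFactors _ i).app ((tildeCx R).obj KM)).symm ≪≫
      (DerivedCategory.homologyFunctor _ i).mapIso e1.symm ≪≫ HDtoDIso j K i
  have hfin : ∀ i, Module.Finite R (KM.homology i) := fun i =>
    finite_of_isCoh_tilde R _ (isCoh_of_iso (e2 i).symm (isCoh_pullback j (hKh i)))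
  have hz : ∀ i : ℤ, (i < a ∨ b < i) → IsZero (KM.homology i) := by
    intro i hi
    apply isZero_of_isZero_tilde
    refine IsZero.of_iso ?_ (e2 i)
    refine (Scheme.Modules.pullback j).map_isZero (IsZero.of_iso ?_ (eH i).symm)
    rcases hi with hi | hi
    · exact ha i hi
    · exact hb i hi
  haveI : ∀ N : ModuleCat.{u} R, DRing.HasLTensor R N := fun N =>
    Groth.Agent.Lib.helper23.PosVan.hasLTensor N
  have eHM : ∀ i, (DerivedCategory.homologyFunctor (ModuleCat.{u} R) i).obj (DerivedCategory.Q.obj KM) ≅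
      KM.homology i := fun i =>
    (DerivedCategory.homologyFunctorFactors _ i).app KM
  have hperf : DRing.IsPerfect R (DerivedCategory.Q.obj KM) := by
    refine (Groth.Agent.Lib.helper23.RegPD.isPerfect_iff_of_regular R hreg _).2 ⟨⟨a, b, ?_⟩, ?_⟩
    · intro i hi
      exact ModuleCat.subsingleton_of_isZero ((hz i hi).of_iso (eHM i))
    · intro i
      haveI := hfin i
      exact Module.Finite.equiv (eHM i).symm.toLinearEquiv
  obtain ⟨E, a', b', hE1, hE2, ⟨eE⟩⟩ := hperf
  refine ⟨E, a', b', hE1, hE2, ⟨e1 ≪≫ ?_⟩⟩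
  exact ((tilde.functor R).mapDerivedCategoryFactors.app KM).symm ≪≫
    (DCoh.tildeD R).mapIso eE.symm ≪≫ (tilde.functor R).mapDerivedCategoryFactors.app E


open Groth.Agent.Lib.helper13.LpullQCoh Groth.Agent.Lib.helper13.TildeTensorNat
  Groth.Agent.Lib.Helper25.PullTensorCx Groth.Agent.Lib.helper25.DCohRestrict in
/-- **On a regular locally Noetherian scheme, bounded complexes with coherent cohomology are perfect.** -/
theorem isPerfect_of_regular [IsLocallyNoetherian X] (hreg : Models.IsRegularScheme X)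
    (M : DCoh.D X) (hM : DCoh.IsCohD M) (a b : ℤ)
    (ha : ∀ i, i < a → IsZero (DCoh.HD M i)) (hb : ∀ i, b < i → IsZero (DCoh.HD M i)) :
    DCoh.IsPerfect M := by
  intro x
  obtain ⟨_, ⟨U, hU : IsAffineOpen U, rfl⟩, hx, -⟩ :=
    X.isBasis_affineOpens.exists_subset_of_mem_open (Set.mem_univ x) isOpen_univ
  haveI : IsNoetherianRing Γ(X, U) := IsLocallyNoetherian.component_noetherian ⟨U, hU⟩
  let F₀ : CochainComplex X.Modules ℤ := DerivedCategory.Q.objPreimage M
  have e₀ : DCoh.toD X F₀ ≅ M := DerivedCategory.Q.objObjPreimageIso M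
  have hF₀ : DCoh.IsCohD (DCoh.toD X F₀) := fun i =>
    isCoh_of_iso ((DerivedCategory.homologyFunctor _ i).mapIso e₀.symm) (hM i)
  obtain ⟨E, a', b', hE1, hE2, ⟨e⟩⟩ := exists_perfect_rep Γ(X, U)
    (isRegularLocalRing_localization hreg hU) hU.fromSpec F₀ hF₀ a b
    (fun i hi => (ha i hi).of_iso ((DerivedCategory.homologyFunctor _ i).mapIso e₀))
    (fun i hi => (hb i hi).of_iso ((DerivedCategory.homologyFunctor _ i).mapIso e₀))
  have hSP : DCoh.IsStrictlyPerfect ((tildeCx Γ(X, U)).obj E) := by
    refine ⟨⟨a', b', fun i hi => (tilde.functor _).map_isZero (hE1 i hi)⟩, fun i => ?_⟩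
    haveI := (hE2 i).1
    haveI := (hE2 i).2
    exact isFinLocFree_tilde _ (E.X i)
  have hx' : x ∈ hU.fromSpec.opensRange := by
    rw [hU.opensRange_fromSpec]; exact hx
  refine isPerfect_at_of_openImmersion M x hU.fromSpec hx' F₀ ⟨e₀⟩ _ hSP ⟨?_ ≪≫ e⟩
  exact DerivedCategory.Q.mapIso ((NatIso.mapHomologicalComplex
    (Scheme.Modules.restrictFunctorIsoPullback hU.fromSpec) (ComplexShape.up ℤ)).app F₀)

end Groth.Agent.Lib.Helper25.RegPerfect
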