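import Mathlib
import Groth.Agent.Lib.Helper25.RegPerfect
import Groth.Agent.Lib.Helper25.DCohHomology
import Groth.Prelude.Def_KZero

/-!
# helper25: on a regular Noetherian scheme `K₀(Perf) ≅ K₀(D^b_Coh)` (S1111)

* `nonempty_restrict_homology_iso_of_isPerfect`, `isCohD_of_isPerfect`, `exists_bounds_of_isPerfect`: a perfect object on
  a (quasi-compact) locally Noetherian scheme has coherent cohomology and is bounded.
* `isPerfect_iff_of_regular`: on a Noetherian regular scheme perfect ⟺ bounded with coherent cohomology.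
* `main` (= S1111).
-/

set_option autoImplicit false
universe u u₁ v₁
open CategoryTheory CategoryTheory.Limits AlgebraicGeometry Opposite

attribute [local instance] HasDerivedCategory.standard

namespace Groth.Agent.Lib.Helper25.K0Regular

open Groth.Agent.Lib.helper25.DCohRestrict Groth.Agent.Lib.helper25.DCohHomology Scheme.Modules

variable {X : Scheme.{u}}

/-- local strictly perfect models of the cohomology of a perfect object -/
lemma exists_local_models (F : CochainComplex X.Modules ℤ) (hF : DCoh.IsPerfect (DCoh.toD X F)) (x : X) :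
    ∃ (V : X.Opens) (E : CochainComplex (V : Scheme.{u}).Modules ℤ), x ∈ V ∧ DCoh.IsStrictlyPerfect E ∧
      ∀ i : ℤ, Nonempty ((restrictFunctor V.ι).obj (F.homology i) ≅ E.homology i) := by
  obtain ⟨V, hxV, hV⟩ := hF x
  obtain ⟨E, hE, ⟨e⟩⟩ := hV F ⟨Iso.refl _⟩
  refine ⟨V, E, hxV, hE, fun i => ⟨?_⟩⟩
  exact (homologyResIso V.ι F i).symm ≪≫
    ((DerivedCategory.homologyFunctorFactors _ i).app _).symm ≪≫
    (DerivedCategory.homologyFunctor _ i).mapIso e ≪≫
    (DerivedCategory.homologyFunctorFactors _ i).app _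

/-- a perfect object on a locally Noetherian scheme has coherent cohomology sheaves -/
theorem isCohD_of_isPerfect [IsLocallyNoetherian X] (K : DCoh.D X) (hK : DCoh.IsPerfect K) :
    DCoh.IsCohD K := by
  intro i
  let F : CochainComplex X.Modules ℤ := DerivedCategory.Q.objPreimage K
  have e₀ : DCoh.toD X F ≅ K := DerivedCategory.Q.objObjPreimageIso K
  have hF : DCoh.IsPerfect (DCoh.toD X F) := by
    intro x
    obtain ⟨V, hxV, hV⟩ := hK x
    exact ⟨V, hxV, fun G ⟨g⟩ => hV G ⟨g ≪≫ e₀⟩⟩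
  choose V E hxV hE eE using exists_local_models F hF
  have hcov : ⨆ x : X, V x = ⊤ := by
    rw [eq_top_iff]
    intro x _
    exact TopologicalSpace.Opens.mem_iSup.mpr ⟨x, hxV x⟩
  refine Groth.Agent.Lib.helper7.CohKer.isCoh_of_iso
    ((DerivedCategory.homologyFunctor _ i).mapIso e₀.symm ≪≫
      (DerivedCategory.homologyFunctorFactors _ i).app F).symm ?_
  refine isCoh_of_cover _ V hcov (fun x => ?_)
  haveI : IsLocallyNoetherian (V x : Scheme.{u}) := isLocallyNoetherian_of_isOpenImmersion (V x).ι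
  exact Groth.Agent.Lib.helper7.CohKer.isCoh_of_iso (eE x i).some.symm
    (isCoh_homology_of_isStrictlyPerfect (hE x) i)

/-- a perfect object on a quasi-compact scheme is bounded -/
theorem exists_bounds_of_isPerfect [CompactSpace X] (K : DCoh.D X) (hK : DCoh.IsPerfect K) :
    ∃ a b : ℤ, K.IsGE a ∧ K.IsLE b := by
  let F : CochainComplex X.Modules ℤ := DerivedCategory.Q.objPreimage K
  have e₀ : DCoh.toD X F ≅ K := DerivedCategory.Q.objObjPreimageIso K
  have hF : DCoh.IsPerfect (DCoh.toD X F) := by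
    intro x
    obtain ⟨V, hxV, hV⟩ := hK x
    exact ⟨V, hxV, fun G ⟨g⟩ => hV G ⟨g ≪≫ e₀⟩⟩
  choose V E hxV hE eE using exists_local_models F hF
  have hab : ∀ x, ∃ a b : ℤ, DCoh.VanishesOutside (E x) a b := fun x => (hE x).1
  choose a b hab using hab
  obtain ⟨t, ht⟩ := isCompact_univ.elim_finite_subcover (fun x : X => ((V x : X.Opens) : Set X))
    (fun x => (V x).isOpen) (fun x _ => Set.mem_iUnion.mpr ⟨x, hxV x⟩)
  have hcov : ⨆ x : t, V x.1 = ⊤ := by
    rw [eq_top_iff]
    intro x _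
    obtain ⟨y, hy⟩ := Set.mem_iUnion.mp (ht (Set.mem_univ x))
    obtain ⟨hyt, hxy⟩ := Set.mem_iUnion.mp hy
    exact TopologicalSpace.Opens.mem_iSup.mpr ⟨⟨y, hyt⟩, hxy⟩
  obtain ⟨a₁, ha₁⟩ := (t.image (fun x => -a x)).exists_le
  obtain ⟨b₁, hb₁⟩ := (t.image (fun x => b x)).exists_le
  have hz : ∀ i : ℤ, i < -a₁ ∨ b₁ < i → IsZero ((DerivedCategory.homologyFunctor _ i).obj K) := by
    intro i hi
    refine IsZero.of_iso ?_ ((DerivedCategory.homologyFunctor _ i).mapIso e₀.symm ≪≫
      (DerivedCategory.homologyFunctorFactors _ i).app F)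
    refine isZero_of_cover _ (fun x : t => V x.1) hcov (fun x => ?_)
    refine IsZero.of_iso ?_ (eE x.1 i).some
    refine HomologicalComplex.ExactAt.isZero_homology (ShortComplex.exact_of_isZero_X₂ _ ?_)
    refine hab x.1 i ?_
    have h1 := ha₁ (-a x.1) (Finset.mem_image_of_mem (fun x => -a x) x.2)
    have h2 := hb₁ (b x.1) (Finset.mem_image_of_mem (fun x => b x) x.2)
    omega
  refine ⟨-a₁, b₁, ?_, ?_⟩
  · rw [DerivedCategory.isGE_iff]
    exact fun i hi => hz i (Or.inl hi)
  · rw [DerivedCategory.isLE_iff]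
    exact fun i hi => hz i (Or.inr hi)

/-- on a regular Noetherian scheme: perfect ⟺ bounded with coherent cohomology -/
theorem isPerfect_iff_of_regular [IsNoetherian X] (hreg : ∀ x : X, IsRegularLocalRing (X.presheaf.stalk x))
    (K : DCoh.D X) : DCoh.IsPerfect K ↔ (DCoh.IsCohD K ∧ ∃ a b : ℤ, K.IsGE a ∧ K.IsLE b) := by
  constructor
  · intro hK
    exact ⟨isCohD_of_isPerfect K hK, exists_bounds_of_isPerfect K hK⟩
  · rintro ⟨hK, a, b, ha, hb⟩
    exact Groth.Agent.Lib.Helper25.RegPerfect.isPerfect_of_regular hreg K hK a b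
      (fun i hi => (DerivedCategory.isGE_iff K a).1 ha i hi)
      (fun i hi => (DerivedCategory.isLE_iff K b).1 hb i hi)

lemma k0_congr {D : Type u₁} [Category.{v₁} D] [Preadditive D] [HasZeroObject D] [HasShift D ℤ]
    [∀ n : ℤ, (shiftFunctor D n).Additive] [Pretriangulated D] (P Q : ObjectProperty D) (h : P = Q) :
    ∃ φ : KZero.K0tr P ≃+ KZero.K0tr Q, ∀ K : D, P K → φ (KZero.clTr P K) = KZero.clTr Q K := by
  subst h
  exact ⟨AddEquiv.refl _, fun _ _ => rfl⟩

theorem main (X : Scheme.{u}) [IsNoetherian X] (hreg : ∀ x : X, IsRegularLocalRing (X.presheaf.stalk x)) :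
    ∃ φ : KZero.K0tr (fun K : DCoh.D X => DCoh.IsPerfect K) ≃+ KZero.K0tr (fun K : DCoh.D X => DCoh.IsCohD K ∧ ∃ a b : ℤ, K.IsGE a ∧ K.IsLE b),
      ∀ K : DCoh.D X, DCoh.IsPerfect K →
        φ (KZero.clTr (fun K : DCoh.D X => DCoh.IsPerfect K) K) = KZero.clTr (fun K : DCoh.D X => DCoh.IsCohD K ∧ ∃ a b : ℤ, K.IsGE a ∧ K.IsLE b) K :=
  k0_congr _ _ (funext fun K => propext (isPerfect_iff_of_regular hreg K))

end Groth.Agent.Lib.Helper25.K0Regular
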