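import Mathlib
import Groth.Agent.Lib.Helper25.HomVanQcqs
import Groth.Agent.Lib.Helper25.K0Regular

/-!
# Consequences of the Hom-vanishing bound for perfect objects on qcqs schemes (helper25)

* `van_shift`: `Van X P c` ⟹ maps `P[-i] ⟶ K` vanish for `K ∈ D_QCoh^{≤ b}`, `b - i ≤ c`.
* `isQCohD_truncLE`.
* `truncGE_iff` (S1022): `Hom(P[-i], E) = 0` for `i ≫ 0` iff `Hom(P[-i], τ_{≥ a} E) = 0` for `i ≫ 0`.
* `hom_vanishing_range` (S1011): a window `[a, b]` detecting maps out of `K`; finiteness of the set of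
  `n` with `Hom(K, L[n]) ≠ 0` for bounded `L ∈ D_QCoh`.
-/

set_option autoImplicit false
universe u
open CategoryTheory CategoryTheory.Limits AlgebraicGeometry
attribute [local instance] HasDerivedCategory.standard

namespace Groth.Agent.Lib.Helper25.HomVanApps

open Pretriangulated DerivedCategory TopologicalSpace
open Groth.Agent.Lib.Helper25.HomVanAffine Groth.Agent.Lib.Helper25.HomVanMV
open Groth.Agent.S1007 (QC)

variable {X : Scheme.{u}}

/-- `Van` in shifted form: maps `P[-i] ⟶ K` vanish for `K ∈ D_QCoh^{≤ b}`, `b - i ≤ c` -/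
lemma van_shift {P : DCoh.D X} {c : ℤ} (h : Van X P c) (i b : ℤ) (hb : b - i ≤ c) (K : DCoh.D X)
    (hK : DCoh.IsQCohD K) (hLE : K.IsLE b) (φ : P⟦-i⟧ ⟶ K) : φ = 0 := by
  let t : Triangulated.TStructure (DCoh.D X) := TStructure.t
  have hLE' : (K⟦i⟧).IsLE c := by
    haveI : t.IsLE K b := hLE
    haveI : t.IsLE (K⟦i⟧) (b - i) := t.isLE_shift K b i (b - i) (by omega)
    exact t.isLE_of_le (K⟦i⟧) (b - i) c hb
  let e : (P⟦-i⟧)⟦i⟧ ≅ P := (shiftFunctorCompIsoId (DCoh.D X) (-i) i (by omega)).app P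
  have h0 := h (K⟦i⟧) (isQCohD_shift K hK i) hLE' (e.inv ≫ φ⟦i⟧')
  have h1 : φ⟦i⟧' = 0 := (cancel_epi e.inv).1 (h0.trans comp_zero.symm)
  exact (shiftFunctor (DCoh.D X) i).map_injective (h1.trans (Functor.map_zero _ _ _).symm)

lemma isQCohD_truncLE (E : DCoh.D X) (hE : DCoh.IsQCohD E) (a : ℤ) :
    DCoh.IsQCohD (((TStructure.t : Triangulated.TStructure (DCoh.D X)).truncLE a).obj E) :=
  @Groth.Agent.H1.TruncCoh.cohIn_truncLE (ModSite.Mod X.sheaf) _ _ (HasDerivedCategory.standard _)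
    (QC X) _ E hE a

/-- **S1022** -/
theorem truncGE_iff {P : DCoh.D X} {c : ℤ} (h : Van X P c) (E : DCoh.D X) (hE : DCoh.IsQCohD E)
    (a : ℤ) :
    (∃ N : ℤ, ∀ i : ℤ, N ≤ i → ∀ φ : P⟦-i⟧ ⟶ E, φ = 0) ↔
    (∃ N : ℤ, ∀ i : ℤ, N ≤ i → ∀ φ : P⟦-i⟧ ⟶ ((TStructure.t :
      Triangulated.TStructure (DCoh.D X)).truncGE a).obj E, φ = 0) := by
  let t : Triangulated.TStructure (DCoh.D X) := TStructure.t
  let T := (t.triangleLEGE (a - 1) a (by omega)).obj E
  have hT : T ∈ distTriang _ := t.triangleLEGE_distinguished (a - 1) a (by omega) E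
  have hQ : DCoh.IsQCohD T.obj₁ := isQCohD_truncLE E hE (a - 1)
  have hLE : T.obj₁.IsLE (a - 1) := by
    change t.IsLE ((t.truncLE (a - 1)).obj E) (a - 1)
    infer_instance
  have hLE1 : (T.obj₁⟦(1 : ℤ)⟧).IsLE (a - 2) := by
    haveI : t.IsLE T.obj₁ (a - 1) := hLE
    exact t.isLE_shift T.obj₁ (a - 1) 1 (a - 2) (by omega)
  constructor
  · rintro ⟨N, hN⟩
    refine ⟨max N (a - 2 - c), fun i hi φ => ?_⟩
    have h1 : φ ≫ T.mor₃ = 0 := van_shift h i (a - 2) (by have := le_max_right N (a - 2 - c); omega)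
      _ (isQCohD_shift _ hQ 1) hLE1 _
    obtain ⟨g, hg⟩ := Triangle.coyoneda_exact₃ T hT φ h1
    rw [hg, hN i ((le_max_left _ _).trans hi) g]
    exact zero_comp
  · rintro ⟨N, hN⟩
    refine ⟨max N (a - 1 - c), fun i hi φ => ?_⟩
    have h1 : φ ≫ T.mor₂ = 0 := hN i ((le_max_left _ _).trans hi) _
    obtain ⟨g, hg⟩ := Triangle.coyoneda_exact₂ T hT φ h1
    rw [hg, van_shift h i (a - 1) (by have := le_max_right N (a - 1 - c); omega) _ hQ hLE g]
    exact zero_comp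

/-- **S1011** -/
theorem hom_vanishing_range {K : DCoh.D X} {c d : ℤ} (h : Van X K c) (hd : K.IsLE d) :
    (∃ a b : ℤ, a ≤ b ∧ ∀ L : DCoh.D X, DCoh.IsQCohD L →
      (∀ i : ℤ, a ≤ i → i ≤ b → IsZero (DCoh.HD L i)) → ∀ φ : K ⟶ L, φ = 0) ∧
    ∀ (L : DCoh.D X) (a' b' : ℤ), DCoh.IsQCohD L → L.IsGE a' → L.IsLE b' →
      {n : ℤ | ∃ φ : K ⟶ L⟦n⟧, φ ≠ 0}.Finite := by
  let t : Triangulated.TStructure (DCoh.D X) := TStructure.t
  constructor
  · let c' := min c (d - 1)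
    have hc' : Van X K c' := van_of_le h (min_le_left _ _)
    refine ⟨c' + 1, d, by have := min_le_right c (d - 1); omega, fun L hL hw φ => ?_⟩
    let T := (t.triangleLEGE c' (c' + 1) rfl).obj L
    have hT : T ∈ distTriang _ := t.triangleLEGE_distinguished c' (c' + 1) rfl L
    have hGE : T.obj₃.IsGE (d + 1) := Groth.Agent.H1.TruncCoh.isGE_truncGE_of_window L (c' + 1) d hw
    have h1 : φ ≫ T.mor₂ = 0 := t.zero_of_isLE_of_isGE _ d (d + 1) (by omega) hd hGE
    obtain ⟨g, hg⟩ := Triangle.coyoneda_exact₂ T hT φ h1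
    have hLE : T.obj₁.IsLE c' := by
      change t.IsLE ((t.truncLE c').obj L) c'
      infer_instance
    rw [hg, hc' _ (isQCohD_truncLE L hL c') hLE g]
    exact zero_comp
  · intro L a' b' hL hGE hLE
    refine (Set.finite_Icc (a' - d) (b' - c)).subset ?_
    rintro n ⟨φ, hφ⟩
    by_contra hn
    apply hφ
    rw [Set.mem_Icc, not_and_or, not_le, not_le] at hn
    rcases hn with hn | hn
    · have hGE' : (L⟦n⟧).IsGE (a' - n) := by
        haveI : t.IsGE L a' := hGE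
        exact t.isGE_shift L a' n (a' - n) (by omega)
      exact t.zero_of_isLE_of_isGE φ d (a' - n) (by omega) hd hGE'
    · have hLE' : (L⟦n⟧).IsLE c := by
        haveI : t.IsLE L b' := hLE
        haveI : t.IsLE (L⟦n⟧) (b' - n) := t.isLE_shift L b' n (b' - n) (by omega)
        exact t.isLE_of_le (L⟦n⟧) (b' - n) c (by omega)
      exact h _ (isQCohD_shift L hL n) hLE' φ

end Groth.Agent.Lib.Helper25.HomVanApps
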