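import Mathlib
import Groth.Agent.Lib.Helper25.HomVanQcqs

/-!
# Induction principle for perfect objects on quasi-compact quasi-separated schemes (helper25)

`perfect_induction`: let `Pr Y E` be a property of pairs (scheme `Y`, object `E` of `D(O_Y)`) such that

* `h_nice`: `Pr Y E` holds when `Y` is affine and `E` is represented by a bounded complex of free modules of
  finite rank (`Nice Y E c`);
* `h_mv`: if `Y = V ∪ W` and `Pr` holds for the restrictions of `E` to `V`, `W`, `V ∩ W`, then `Pr Y E`.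

Then `Pr X E` holds for every perfect `E` on a quasi-compact quasi-separated scheme `X`.
(Two-stage Mayer–Vietoris induction over schemes, as in `HomVanQcqs`.)
-/

set_option autoImplicit false
universe u
open CategoryTheory CategoryTheory.Limits AlgebraicGeometry
attribute [local instance] HasDerivedCategory.standard

namespace Groth.Agent.Lib.Helper25.PerfectInduction

open Pretriangulated DerivedCategory TopologicalSpace Scheme.Modules
open Groth.Agent.Lib.Helper25.HomVanAffine Groth.Agent.Lib.Helper25.HomVanNice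
  Groth.Agent.Lib.Helper25.HomVanMV Groth.Agent.Lib.Helper25.HomVanQcqs

variable (Pr : ∀ Y : Scheme.{u}, DCoh.D Y → Prop)

lemma congr_open {Y : Scheme.{u}} {A B : Y.Opens} (h : A = B) {P : DCoh.D Y}
    (hA : Pr A ((DCoh.restrictD A.ι).obj P)) : Pr B ((DCoh.restrictD B.ι).obj P) := by
  subst h
  exact hA

/-- on an empty scheme every object is nice -/
lemma nice_of_isEmpty {Y : Scheme.{u}} [IsEmpty Y] (E : DCoh.D Y) (c : ℤ) : Nice Y E c := by
  refine ⟨Q.objPreimage E, c, fun i _ => isZero_modules_of_isEmpty _,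
    fun i _ => isZero_modules_of_isEmpty _,
    fun i => ⟨0, ⟨(isZero_modules_of_isEmpty _).iso (isZero_modules_of_isEmpty _)⟩⟩,
    ⟨(Q.objObjPreimageIso E).symm⟩⟩

variable (h_nice : ∀ (Y : Scheme.{u}) [IsAffine Y] (E : DCoh.D Y) (c : ℤ), Nice Y E c → Pr Y E)
  (h_mv : ∀ (Y : Scheme.{u}) (V W : Y.Opens) (E : DCoh.D Y), V ⊔ W = ⊤ →
    Pr V ((DCoh.restrictD V.ι).obj E) → Pr W ((DCoh.restrictD W.ι).obj E) →
    Pr (V ⊓ W : Y.Opens) ((DCoh.restrictD (V ⊓ W).ι).obj E) → Pr Y E)

include h_nice h_mv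

theorem stage1 : ∀ (n : ℕ) (Y : Scheme.{u}), HA Y → ∀ (P : DCoh.D Y) (c : ℤ)
    (U : Fin (n + 1) → Y.Opens), (⨆ i, U i) = ⊤ → (∀ i, IsAffineOpen (U i)) →
    (∀ i, Nice (U i) ((DCoh.restrictD (U i).ι).obj P) c) → Pr Y P := by
  intro n
  induction n with
  | zero =>
    intro Y _ P c U hcov haff hnice
    have h0 : U 0 = ⊤ := by
      refine top_le_iff.1 (hcov ▸ iSup_le fun i => ?_)
      have hi : i = 0 := Fin.ext (by have := i.2; omega)
      rw [hi]
    haveI : IsAffine (U 0) := haff 0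
    have h1 : Pr (U 0) ((DCoh.restrictD (U 0).ι).obj P) := h_nice _ _ c (hnice 0)
    exact h_mv Y (U 0) (U 0) P (by rw [sup_idem, h0]) h1 h1
      (congr_open Pr (inf_idem (U 0)).symm h1)
  | succ n ih =>
    intro Y hY P c U hcov haff hnice
    let V : Y.Opens := ⨆ i : Fin (n + 1), U i.castSucc
    let W : Y.Opens := U (Fin.last (n + 1))
    have hVW : V ⊔ W = ⊤ := by
      rw [← hcov]
      exact (Groth.Agent.Lib.helper27.SerreVan.iSup_fin_succ U).symm
    have h1 : Pr V ((DCoh.restrictD V.ι).obj P) := by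
      refine ih V (ha_restrict hY V) _ c (fun i => V.ι ⁻¹ᵁ U i.castSucc)
        (preimage_iSup_eq_top V _ le_rfl) (fun i => ?_) (fun i => ?_)
      · refine (haff i.castSucc).preimage_of_isOpenImmersion V.ι ?_
        rw [Scheme.Opens.opensRange_ι]
        exact le_iSup (fun i : Fin (n + 1) => U i.castSucc) i
      · exact nice_preimage V (U i.castSucc) (U i.castSucc) le_rfl P c (hnice _)
    haveI : IsAffine W := haff _
    have h2 : Pr W ((DCoh.restrictD W.ι).obj P) := h_nice _ _ c (hnice _)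
    have h3 : Pr (V ⊓ W : Y.Opens) ((DCoh.restrictD (V ⊓ W).ι).obj P) := by
      refine ih (V ⊓ W : Y.Opens) (ha_restrict hY _) _ c
        (fun i => (V ⊓ W).ι ⁻¹ᵁ (U i.castSucc ⊓ W))
        (preimage_iSup_eq_top _ _ ?_) (fun i => ?_) (fun i => ?_)
      · rw [← iSup_inf_eq]
      · refine (hY _ _ (haff i.castSucc) (haff _)).preimage_of_isOpenImmersion (V ⊓ W).ι ?_
        rw [Scheme.Opens.opensRange_ι]
        exact inf_le_inf_right _ (le_iSup (fun i : Fin (n + 1) => U i.castSucc) i)
      · exact nice_preimage (V ⊓ W) (U i.castSucc) (U i.castSucc ⊓ W) inf_le_left P c (hnice _)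
    exact h_mv Y V W P hVW h1 h2 h3

/-- stage 1 for covers indexed by `Fin n`, any `n` -/
theorem stage1' (n : ℕ) {Y : Scheme.{u}} (hY : HA Y) (P : DCoh.D Y) (c : ℤ) (U : Fin n → Y.Opens)
    (hcov : (⨆ i, U i) = ⊤) (haff : ∀ i, IsAffineOpen (U i))
    (hnice : ∀ i, Nice (U i) ((DCoh.restrictD (U i).ι).obj P) c) : Pr Y P := by
  rcases n with _ | n
  · haveI : IsEmpty Y := isEmpty_of_top_eq_bot (by rw [← hcov, iSup_of_empty])
    exact h_nice Y P 0 (nice_of_isEmpty P 0)
  · exact stage1 Pr h_nice h_mv n Y hY P c U hcov haff hnice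

/-- **Stage 1, conclusion**: quasi-compact schemes in which affine opens have affine intersections. -/
theorem of_ha {Y : Scheme.{u}} [CompactSpace Y] (hY : HA Y) (P : DCoh.D Y) (hP : DCoh.IsPerfect P) :
    Pr Y P := by
  classical
  choose U c hyU haff hnice using exists_nice_nhd P hP
  obtain ⟨t, ht⟩ := isCompact_univ.elim_finite_subcover (fun y => ((U y : Y.Opens) : Set Y))
    (fun y => (U y).isOpen) (fun y _ => Set.mem_iUnion.mpr ⟨y, hyU y⟩)
  obtain ⟨M, hM⟩ := (t.image (fun y => -c y)).exists_le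
  have hc₀ : ∀ y ∈ t, -M ≤ c y := fun y hy => by
    have := hM _ (Finset.mem_image_of_mem (fun y => -c y) hy)
    omega
  refine stage1' Pr h_nice h_mv t.card hY P (-M) (fun i => U (t.equivFin.symm i).1) ?_
    (fun i => haff _) (fun i => nice_of_le (hnice _) (hc₀ _ (t.equivFin.symm i).2))
  rw [eq_top_iff]
  intro y _
  obtain ⟨z, hz⟩ := Set.mem_iUnion.mp (ht (Set.mem_univ y))
  obtain ⟨hzt, hyz⟩ := Set.mem_iUnion.mp hz
  refine Opens.mem_iSup.mpr ⟨t.equivFin ⟨z, hzt⟩, ?_⟩
  simpa using hyz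

/-- **Stage 2**: quasi-separated schemes covered by `n` affine opens. -/
theorem stage2 : ∀ (n : ℕ) (Y : Scheme.{u}) [QuasiSeparatedSpace Y] (U : Fin n → Y.Opens),
    (⨆ i, U i) = ⊤ → (∀ i, IsAffineOpen (U i)) → ∀ P : DCoh.D Y, DCoh.IsPerfect P → Pr Y P := by
  intro n
  induction n with
  | zero =>
    intro Y _ U hcov _ P _
    haveI : IsEmpty Y := isEmpty_of_top_eq_bot (by rw [← hcov, iSup_of_empty])
    exact h_nice Y P 0 (nice_of_isEmpty P 0)
  | succ n ih =>
    intro Y _ U hcov haff P hP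
    let V : Y.Opens := ⨆ i : Fin n, U i.castSucc
    let W : Y.Opens := U (Fin.last n)
    have hVW : V ⊔ W = ⊤ := by
      rw [← hcov]
      exact (Groth.Agent.Lib.helper27.SerreVan.iSup_fin_succ U).symm
    haveI : QuasiSeparatedSpace (V : Scheme.{u}) :=
      QuasiSeparatedSpace.of_isOpenEmbedding V.ι.isOpenEmbedding
    have h1 := ih V (fun i => V.ι ⁻¹ᵁ U i.castSucc) (preimage_iSup_eq_top V _ le_rfl)
      (fun i => by
        refine (haff i.castSucc).preimage_of_isOpenImmersion V.ι ?_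
        rw [Scheme.Opens.opensRange_ι]
        exact le_iSup (fun i : Fin n => U i.castSucc) i)
      _ (isPerfect_restrictD V.ι hP)
    haveI : IsAffine W := haff _
    have h2 := of_ha Pr h_nice h_mv (Y := W) ha_of_isAffine _ (isPerfect_restrictD W.ι hP)
    have hVc : IsCompact (V : Set Y) := by
      have : (V : Set Y) = ⋃ i : Fin n, (U i.castSucc : Set Y) := by
        simp [V]
      rw [this]
      exact isCompact_iUnion fun i => (haff i.castSucc).isCompact
    have hc : IsCompact ((V ⊓ W : Y.Opens) : Set Y) :=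
      hVc.inter_of_isOpen (haff _).isCompact V.isOpen W.isOpen
    haveI : CompactSpace (V ⊓ W : Y.Opens) := isCompact_iff_compactSpace.mp hc
    have h3 := of_ha Pr h_nice h_mv (Y := (V ⊓ W : Y.Opens))
      (ha_of_le_affine (haff (Fin.last n)) (V ⊓ W) inf_le_right) _
      (isPerfect_restrictD (V ⊓ W).ι hP)
    exact h_mv Y V W P hVW h1 h2 h3

/-- **Induction principle for perfect objects on qcqs schemes.** -/
theorem perfect_induction (X : Scheme.{u}) [CompactSpace X] [QuasiSeparatedSpace X] (P : DCoh.D X)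
    (hP : DCoh.IsPerfect P) : Pr X P := by
  classical
  obtain ⟨s, hs, hcov⟩ := (isCompact_iff_finite_and_eq_biUnion_affineOpens (X := X)
    (U := (⊤ : X.Opens))).mp isCompact_univ
  obtain ⟨t, e, he⟩ := hs.fin_embedding
  refine stage2 Pr h_nice h_mv t X (fun k => ((e k : X.affineOpens) : X.Opens)) ?_
    (fun k => (e k).2) P hP
  have h1 : (⨆ i ∈ s, (i : X.Opens)) = ⨆ k : Fin t, ((e k : X.affineOpens) : X.Opens) := by
    rw [← he, iSup_range]
  rw [← h1]
  exact hcov.symm

end Groth.Agent.Lib.Helper25.PerfectInduction
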