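import Mathlib
import Groth.Agent.Lib.Helper25.PerfectInduction

/-!
# Dévissage of bounded complexes of free modules of finite rank (helper25)

`free_terms_induction`, `of_nice`: a property `R` of objects of `D(O_Y)` which is invariant under
isomorphisms, holds for zero objects, passes to the middle term of a distinguished triangle and holds
for `F[-a]` with `F` free of finite rank, holds for every object represented by a bounded complex of
free modules of finite rank (`Nice Y P c`).  (Induction on the length via stupid truncations.)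
-/

set_option autoImplicit false
universe u
open CategoryTheory CategoryTheory.Limits AlgebraicGeometry
attribute [local instance] HasDerivedCategory.standard

namespace Groth.Agent.Lib.Helper25.NiceInduction

open Pretriangulated DerivedCategory TopologicalSpace
open Groth.Agent.Lib.Helper25.HomVanAffine Groth.Agent.Lib.Helper25.HomVanNice

variable {Y : Scheme.{u}} (R : DCoh.D Y → Prop)
  (h_iso : ∀ {P P' : DCoh.D Y}, (P ≅ P') → R P → R P')
  (h_zero : ∀ P : DCoh.D Y, IsZero P → R P)
  (h_tri : ∀ T : Triangle (DCoh.D Y), T ∈ distTriang _ → R T.obj₁ → R T.obj₃ → R T.obj₂)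
  (h_single : ∀ (a : ℤ) (M : Y.Modules) (r : ℕ), (M ≅ FlatMod.freeMod Y r) →
    R ((singleFunctor Y.Modules a).obj M))

include h_iso h_zero h_tri h_single

open Groth.Agent.Lib.Helper25.StupidSES in
theorem free_terms_induction : ∀ (n : ℕ) (E : CochainComplex Y.Modules ℤ) (a : ℤ),
    (∀ i, i < a → IsZero (E.X i)) → (∀ i, a + n ≤ i → IsZero (E.X i)) →
    (∀ i, ∃ r : ℕ, Nonempty (E.X i ≅ FlatMod.freeMod Y r)) → R (Q.obj E) := by
  intro n
  induction n with
  | zero =>
    intro E a h1 h2 _
    refine h_zero _ (isZero_Q_of_terms E fun i => ?_)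
    by_cases hi : i < a
    · exact h1 i hi
    · exact h2 i (by simpa using not_lt.mp hi)
  | succ n ih =>
    intro E a h1 h2 hfree
    have hS := ses_shortExact E a
    have hT := triangleOfSES_distinguished hS
    refine h_tri (triangleOfSES hS) hT ?_ ?_
    · have hiso : ∀ i, a < i → ((ses E a).X₁.X i ≅ E.X i) := fun i hi =>
        @asIso _ _ _ _ ((ses E a).f.f i) (isIso_f_f E a i hi)
      refine ih (ses E a).X₁ (a + 1) (fun i hi => isZero_X₁ E a i (by omega))
        (fun i hi => (h2 i (by push_cast at hi ⊢; omega)).of_iso (hiso i (by omega)))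
        (fun i => ?_)
      by_cases hi : a < i
      · obtain ⟨r, ⟨e⟩⟩ := hfree i
        exact ⟨r, ⟨hiso i hi ≪≫ e⟩⟩
      · exact Groth.Agent.Lib.helper25.DCohRestrict.nonempty_iso_freeMod_zero_of_isZero
          (isZero_X₁ E a i (by omega))
    · have hiso : ∀ i, i ≤ a → (E.X i ≅ (ses E a).X₃.X i) := fun i hi =>
        @asIso _ _ _ _ ((ses E a).g.f i) (isIso_g_f E a i hi)
      haveI : (ses E a).X₃.IsStrictlyGE a := by
        rw [CochainComplex.isStrictlyGE_iff]
        intro i hi
        exact (h1 i hi).of_iso (hiso i hi.le).symm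
      obtain ⟨M, ⟨eM⟩⟩ := (ses E a).X₃.exists_iso_single a
      obtain ⟨r, ⟨e⟩⟩ := hfree a
      have eM' : M ≅ FlatMod.freeMod Y r :=
        (HomologicalComplex.singleObjXSelf (ComplexShape.up ℤ) a M).symm ≪≫
          ((HomologicalComplex.eval _ _ a).mapIso eM).symm ≪≫ (hiso a le_rfl).symm ≪≫ e
      exact h_iso (((singleFunctorIsoCompQ Y.Modules a).app M) ≪≫ (Q.mapIso eM).symm)
        (h_single a M r eM')

theorem of_nice {P : DCoh.D Y} {c : ℤ} (h : Nice Y P c) : R P := by
  obtain ⟨E, b, h1, h2, h3, ⟨a⟩⟩ := h
  exact h_iso a.symm (free_terms_induction R h_iso h_zero h_tri h_single (b - c + 1).toNat E c h1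
    (fun i hi => h2 i (by omega)) h3)

end Groth.Agent.Lib.Helper25.NiceInduction
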