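import Mathlib
import Groth.Agent.Lib.Helper25.HomVanApps
import Groth.Agent.Lib.Helper25.NiceInduction

/-!
# Maps from the structure sheaf into `D_QCoh` on an affine scheme (helper25)

* `injective_eval_one`: a morphism `O_Y ⟶ A` is determined by the image of the global section `1`.
* `countable_sections_of_iso`.
* `countable_hom_unit`: for `Y` affine and `K ∈ D_QCoh(Y)` (unbounded), `Hom(O_Y[-p], K)` is countable as
  soon as `Γ(Y, H^p(K))` is (through `Hom(O[-p], K) ↪ Hom(O[-p], τ_{≥p}K) ↞ Hom(O[-p], H^p(K)[-p])`, the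
  injectivity being the hypercohomology vanishing `HomVanAffine.hom_unit_eq_zero`).
-/
set_option autoImplicit false
universe u
open CategoryTheory CategoryTheory.Limits AlgebraicGeometry Opposite
attribute [local instance] HasDerivedCategory.standard

namespace Groth.Agent.Lib.Helper25.HomAffineSections

open Pretriangulated DerivedCategory TopologicalSpace
open Groth.Agent.Lib.Helper25.HomVanAffine Groth.Agent.Lib.Helper25.HomVanApps

variable {Y : Scheme.{u}}

/-- evaluation of morphisms out of the structure sheaf at the global section `1` is injective -/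
lemma injective_eval_one (A : Y.Modules) :
    Function.Injective (fun φ : Coh.structureModule Y ⟶ A => φ.val.app (op ⊤) (1 : Y.ringCatSheaf.obj.obj (op ⊤))) := by
  intro φ ψ h
  apply A.unitHomEquiv.injective
  apply Subtype.ext
  funext U
  rw [SheafOfModules.unitHomEquiv_apply_coe, SheafOfModules.unitHomEquiv_apply_coe]
  let f : (op (⊤ : Opens Y)) ⟶ U := (homOfLE le_top).op
  have h1 : ∀ χ : Coh.structureModule Y ⟶ A, χ.val.app U (1 : Y.ringCatSheaf.obj.obj U) =
      A.val.map f (χ.val.app (op ⊤) (1 : Y.ringCatSheaf.obj.obj (op ⊤))) := by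
    intro χ
    rw [← PresheafOfModules.naturality_apply]
    congr 1
    exact (map_one (Y.ringCatSheaf.obj.map f).hom).symm
  rw [h1 φ, h1 ψ]
  exact congrArg _ h


/-- an isomorphism of modules transports countability of sections -/
lemma countable_sections_of_iso {A B : Y.Modules} (e : A ≅ B) (V : Y.Opens)
    (h : Countable (B.val.obj (op V))) : Countable (A.val.obj (op V)) := by
  refine Function.Injective.countable (f := fun x => e.hom.val.app (op V) x) ?_
  intro x y hxy
  have h1 : ∀ z : A.val.obj (op V), e.inv.val.app (op V) (e.hom.val.app (op V) z) = z := by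
    intro z
    have h2 := congrArg (fun k : A ⟶ A => k.val.app (op V) z) e.hom_inv_id
    exact h2
  rw [← h1 x, ← h1 y]
  exact congrArg _ hxy

/-- **Affine base case**: on an affine scheme, `Hom(O_Y[-p], K)` is countable if the global sections
of `H^p(K)` are, for `K ∈ D_QCoh`. -/
theorem countable_hom_unit [IsAffine Y] (K : DCoh.D Y) (hK : DCoh.IsQCohD K) (p : ℤ)
    (hc : Countable ((DCoh.HD K p).val.obj (op ⊤))) :
    Countable ((singleFunctor Y.Modules p).obj (Coh.structureModule Y) ⟶ K) := by
  let t : Triangulated.TStructure (DCoh.D Y) := TStructure.t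
  let S := (singleFunctor Y.Modules p).obj (Coh.structureModule Y)
  let B := (t.truncGE p).obj K
  let C := (t.truncLE p).obj B
  -- `Hom(S, K) ↪ Hom(S, B)`
  have hinj : Function.Injective (fun σ : S ⟶ K => σ ≫ (t.truncGEπ p).app K) := by
    let T := (t.triangleLEGE (p - 1) p (by omega)).obj K
    have hT : T ∈ distTriang _ := t.triangleLEGE_distinguished (p - 1) p (by omega) K
    have hz : ∀ σ : S ⟶ K, σ ≫ (t.truncGEπ p).app K = 0 → σ = 0 := by
      intro σ hσ
      obtain ⟨g, hg⟩ := Triangle.coyoneda_exact₂ T hT σ hσ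
      have hLE : T.obj₁.IsLE (p - 1) := by
        change t.IsLE ((t.truncLE (p - 1)).obj K) (p - 1)
        infer_instance
      have hg0 : g = 0 := hom_unit_eq_zero Y T.obj₁ (isQCohD_truncLE K hK (p - 1)) (p - 1) p
        (by omega) hLE g
      rw [hg, hg0]
      exact zero_comp
    intro σ σ' h
    have h1 : (σ - σ') ≫ (t.truncGEπ p).app K = 0 := by
      rw [Preadditive.sub_comp]
      exact sub_eq_zero.mpr h
    exact sub_eq_zero.mp (hz _ h1)
  -- `Hom(S, C) ↠ Hom(S, B)`
  have hsurj : Function.Surjective (fun σ : S ⟶ C => σ ≫ (t.truncLEι p).app B) := by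
    intro σ
    let T := (t.triangleLEGE p (p + 1) (by omega)).obj B
    have hT : T ∈ distTriang _ := t.triangleLEGE_distinguished p (p + 1) (by omega) B
    have hS : t.IsLE S p := by
      change S.IsLE p
      infer_instance
    have hGE : t.IsGE T.obj₃ (p + 1) := by
      change t.IsGE ((t.truncGE (p + 1)).obj B) (p + 1)
      infer_instance
    have h0 : σ ≫ T.mor₂ = 0 := t.zero_of_isLE_of_isGE _ p (p + 1) (by omega) hS hGE
    obtain ⟨g, hg⟩ := Triangle.coyoneda_exact₂ T hT σ h0
    exact ⟨g, hg.symm⟩
  -- `C` is a single module in degree `p`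
  have hCGE : C.IsGE p := by
    haveI : t.IsGE B p := by
      change t.IsGE ((t.truncGE p).obj K) p
      infer_instance
    change t.IsGE ((t.truncLE p).obj B) p
    infer_instance
  have hCLE : C.IsLE p := by
    change t.IsLE ((t.truncLE p).obj B) p
    infer_instance
  obtain ⟨A, ⟨eA⟩⟩ := DerivedCategory.exists_iso_singleFunctor_obj_of_isGE_of_isLE C p
  have hi1 := Groth.Agent.H1.TruncCoh.isIso_homology_truncGEπ K p p le_rfl
  have hi2 := Groth.Agent.H1.WayOutCoh.isIso_homology_truncLEι B p p le_rfl
  let e0 : A ≅ DCoh.HD K p :=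
    ((singleFunctorCompHomologyFunctorIso Y.Modules p).app A).symm ≪≫
      (homologyFunctor Y.Modules p).mapIso eA.symm ≪≫
      @asIso _ _ _ _ _ hi2 ≪≫ (@asIso _ _ _ _ _ hi1).symm
  have hcA : Countable (A.val.obj (op ⊤)) := countable_sections_of_iso e0 ⊤ hc
  have hc1 : Countable (Coh.structureModule Y ⟶ A) :=
    Function.Injective.countable (injective_eval_one A)
  have hc2 : Countable (S ⟶ (singleFunctor Y.Modules p).obj A) :=
    (Functor.FullyFaithful.ofFullyFaithful (singleFunctor Y.Modules p)).homEquiv.symm.injective.countable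
  have hc3 : Countable (S ⟶ C) :=
    Function.Injective.countable (f := fun σ : S ⟶ C => σ ≫ eA.hom)
      (fun σ σ' h => (cancel_mono eA.hom).1 h)
  have hc4 : Countable (S ⟶ B) := hsurj.countable
  exact hinj.countable

end Groth.Agent.Lib.Helper25.HomAffineSections
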