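import Mathlib
import Groth.Agent.Lib.Helper25.HomAffineSections
import Groth.Agent.Lib.Helper1.FreeOnTop

/-!
# `Hom(O_Y[-p], K) ≃ Γ(Y, H^p(K))` for `K ∈ D_QCoh` on an affine scheme (helper25)

* `Sp Y p = S_p(O_Y)`, `gen Y p ∈ Γ(Y, H^p(S_p O_Y))` the canonical generator,
  `ev p σ = H^p(σ)(gen) ∈ Γ(Y, H^p(K))` for `σ : S_p(O_Y) ⟶ K`; `ev_comp`, `ev_add`, `ev_zero`, `ev_sum`.
* `bijective_app_of_isIso`; `bijective_eval_one`: `φ ↦ φ(1)` is a bijection `Hom(O_Y, A) → Γ(Y, A)`.
* `bijective_ev_iff`: transfer of bijectivity of `ev` along `k : K ⟶ K'` inducing a bijection on `Hom(S_p O, -)`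
  and an isomorphism on `H^p`.
* `bijective_ev_single`: `ev` is bijective for `K = S_p(A)` (any scheme).
* `bijective_ev`: `ev` is bijective for `K ∈ D_QCoh(Y)`, `Y` affine (unbounded `K`; uses the hypercohomology
  vanishing `HomVanAffine.hom_unit_eq_zero`).
-/
set_option autoImplicit false
universe u
open CategoryTheory CategoryTheory.Limits AlgebraicGeometry Opposite
attribute [local instance] HasDerivedCategory.standard

namespace Groth.Agent.Lib.Helper25.QCCEv

open Pretriangulated DerivedCategory TopologicalSpace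
open Groth.Agent.Lib.Helper25.HomVanAffine Groth.Agent.Lib.Helper25.HomVanApps
  Groth.Agent.Lib.Helper25.HomVanMV Groth.Agent.Lib.Helper25.HomAffineSections

variable (Y : Scheme.{u}) (p : ℤ)

/-- `S_p(O_Y)` -/
noncomputable abbrev Sp : DCoh.D Y := (singleFunctor Y.Modules p).obj (Coh.structureModule Y)

/-- the canonical generator of `Γ(Y, H^p(S_p O_Y))` -/
noncomputable def gen : (DCoh.HD (Sp Y p) p).val.obj (op ⊤) :=
  ((singleFunctorCompHomologyFunctorIso Y.Modules p).inv.app (Coh.structureModule Y)).val.app (op ⊤)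
    (1 : Y.ringCatSheaf.obj.obj (op ⊤))

variable {Y}

/-- evaluation of `H^p(σ)` at the canonical generator -/
noncomputable def ev {K : DCoh.D Y} (σ : Sp Y p ⟶ K) : (DCoh.HD K p).val.obj (op ⊤) :=
  ((homologyFunctor Y.Modules p).map σ).val.app (op ⊤) (gen Y p)

lemma ev_comp {K K' : DCoh.D Y} (σ : Sp Y p ⟶ K) (k : K ⟶ K') :
    ev p (σ ≫ k) = ((homologyFunctor Y.Modules p).map k).val.app (op ⊤) (ev p σ) := by
  unfold ev
  rw [Functor.map_comp]
  rfl

lemma ev_add {K : DCoh.D Y} (σ σ' : Sp Y p ⟶ K) : ev p (σ + σ') = ev p σ + ev p σ' := by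
  unfold ev
  rw [Functor.map_add]
  rfl

/-- `ev` as an additive map -/
noncomputable def evHom (K : DCoh.D Y) : (Sp Y p ⟶ K) →+ (DCoh.HD K p).val.obj (op ⊤) :=
  AddMonoidHom.mk' (ev p) (ev_add p)

lemma ev_zero {K : DCoh.D Y} : ev p (0 : Sp Y p ⟶ K) = 0 := map_zero (evHom p K)

lemma ev_sum {K : DCoh.D Y} {ι : Type*} (S : Finset ι) (σ : ι → (Sp Y p ⟶ K)) :
    ev p (∑ i ∈ S, σ i) = ∑ i ∈ S, ev p (σ i) := map_sum (evHom p K) σ S

lemma bijective_app_of_isIso {M N : Y.Modules} (f : M ⟶ N) [IsIso f] (V : Y.Opens) :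
    Function.Bijective (fun s : M.val.obj (op V) => f.val.app (op V) s) := by
  have h1 : ∀ z : M.val.obj (op V), (inv f).val.app (op V) (f.val.app (op V) z) = z := by
    intro z
    exact congrArg (fun k : M ⟶ M => k.val.app (op V) z) (IsIso.hom_inv_id f)
  have h2 : ∀ z : N.val.obj (op V), f.val.app (op V) ((inv f).val.app (op V) z) = z := by
    intro z
    exact congrArg (fun k : N ⟶ N => k.val.app (op V) z) (IsIso.inv_hom_id f)
  exact ⟨fun a b hab => by rw [← h1 a, ← h1 b]; exact congrArg _ hab, fun z => ⟨_, h2 z⟩⟩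

/-- morphisms out of the structure sheaf are global sections -/
lemma bijective_eval_one (A : Y.Modules) :
    Function.Bijective (fun φ : Coh.structureModule Y ⟶ A =>
      φ.val.app (op ⊤) (1 : Y.ringCatSheaf.obj.obj (op ⊤))) := by
  have hT : IsTerminal (⊤ : Opens Y) := isTerminalTop
  let e : (Coh.structureModule Y ⟶ A) ≃ A.val.obj (op ⊤) :=
    (SheafOfModules.unitHomEquiv A).trans (Groth.Agent.H1.FreeOnTop.secT Y.sheaf hT A)
  exact e.bijective

/-- transfer of the bijectivity of `ev` -/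
lemma bijective_ev_iff {K K' : DCoh.D Y} (k : K ⟶ K')
    (h1 : Function.Bijective (fun σ : Sp Y p ⟶ K => σ ≫ k))
    (h2 : IsIso ((homologyFunctor Y.Modules p).map k)) :
    Function.Bijective (ev p (K := K)) ↔ Function.Bijective (ev p (K := K')) := by
  have hG := bijective_app_of_isIso ((homologyFunctor Y.Modules p).map k) ⊤
  have hcomm : (ev p (K := K')) ∘ (fun σ : Sp Y p ⟶ K => σ ≫ k) =
      (fun s => ((homologyFunctor Y.Modules p).map k).val.app (op ⊤) s) ∘ (ev p (K := K)) := by
    funext σ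
    exact ev_comp p σ k
  rw [← Function.Bijective.of_comp_iff (ev p (K := K')) h1, hcomm,
    Function.Bijective.of_comp_iff' hG]

/-- `ev` is bijective on single modules -/
lemma bijective_ev_single (A : Y.Modules) :
    Function.Bijective (ev p (K := (singleFunctor Y.Modules p).obj A)) := by
  let η := singleFunctorCompHomologyFunctorIso Y.Modules p
  have hS : Function.Bijective (fun φ : Coh.structureModule Y ⟶ A =>
      (singleFunctor Y.Modules p).map φ) :=
    (Functor.FullyFaithful.ofFullyFaithful (singleFunctor Y.Modules p)).homEquiv.bijective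
  have hG := bijective_app_of_isIso (η.inv.app A) ⊤
  have hcomm : (ev p (K := (singleFunctor Y.Modules p).obj A)) ∘
      (fun φ : Coh.structureModule Y ⟶ A => (singleFunctor Y.Modules p).map φ) =
      (fun s => (η.inv.app A).val.app (op ⊤) s) ∘ (fun φ : Coh.structureModule Y ⟶ A =>
        φ.val.app (op ⊤) (1 : Y.ringCatSheaf.obj.obj (op ⊤))) := by
    funext φ
    have hn := η.inv.naturality φ
    exact (congrArg (fun k : Coh.structureModule Y ⟶ _ =>
      k.val.app (op ⊤) (1 : Y.ringCatSheaf.obj.obj (op ⊤))) hn).symm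
  rw [← Function.Bijective.of_comp_iff _ hS, hcomm]
  exact hG.comp (bijective_eval_one A)

/-- `Hom(S_p O_Y, K) ≃ Γ(Y, H^p(K))` for `K ∈ D_QCoh(Y)`, `Y` affine -/
theorem bijective_ev [IsAffine Y] (K : DCoh.D Y) (hK : DCoh.IsQCohD K) :
    Function.Bijective (ev p (K := K)) := by
  let t : Triangulated.TStructure (DCoh.D Y) := TStructure.t
  let S := Sp Y p
  let B := (t.truncGE p).obj K
  let C := (t.truncLE p).obj B
  have hS : t.IsLE S p := by
    change S.IsLE p
    infer_instance
  -- `Hom(S, K) ≃ Hom(S, B)`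
  have hb1 : Function.Bijective (fun σ : S ⟶ K => σ ≫ (t.truncGEπ p).app K) := by
    let T := (t.triangleLEGE (p - 1) p (by omega)).obj K
    have hT : T ∈ distTriang _ := t.triangleLEGE_distinguished (p - 1) p (by omega) K
    have hLE : T.obj₁.IsLE (p - 1) := by
      change t.IsLE ((t.truncLE (p - 1)).obj K) (p - 1)
      infer_instance
    have hQ1 : DCoh.IsQCohD T.obj₁ := isQCohD_truncLE K hK (p - 1)
    constructor
    · have hz : ∀ σ : S ⟶ K, σ ≫ (t.truncGEπ p).app K = 0 → σ = 0 := by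
        intro σ hσ
        obtain ⟨g, hg⟩ := Triangle.coyoneda_exact₂ T hT σ hσ
        have hg0 : g = 0 := hom_unit_eq_zero Y T.obj₁ hQ1 (p - 1) p (by omega) hLE g
        rw [hg, hg0]
        exact zero_comp
      intro σ σ' h
      have h1 : (σ - σ') ≫ (t.truncGEπ p).app K = 0 := by
        rw [Preadditive.sub_comp]
        exact sub_eq_zero.mpr h
      exact sub_eq_zero.mp (hz _ h1)
    · intro τ
      have hLE' : (T.obj₁⟦(1 : ℤ)⟧).IsLE (p - 2) := by
        haveI : t.IsLE T.obj₁ (p - 1) := hLE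
        exact t.isLE_shift T.obj₁ (p - 1) 1 (p - 2) (by omega)
      have h0 : τ ≫ T.mor₃ = 0 :=
        hom_unit_eq_zero Y _ (isQCohD_shift _ hQ1 1) (p - 2) p (by omega) hLE' _
      obtain ⟨g, hg⟩ := Triangle.coyoneda_exact₃ T hT τ h0
      exact ⟨g, hg.symm⟩
  -- `Hom(S, C) ≃ Hom(S, B)`
  have hb2 : Function.Bijective (fun σ : S ⟶ C => σ ≫ (t.truncLEι p).app B) := by
    let T := (t.triangleLEGE p (p + 1) (by omega)).obj B
    have hT : T ∈ distTriang _ := t.triangleLEGE_distinguished p (p + 1) (by omega) B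
    have hGE : t.IsGE T.obj₃ (p + 1) := by
      change t.IsGE ((t.truncGE (p + 1)).obj B) (p + 1)
      infer_instance
    constructor
    · have hz : ∀ σ : S ⟶ C, σ ≫ (t.truncLEι p).app B = 0 → σ = 0 := by
        intro σ hσ
        have hT' := inv_rot_of_distTriang T hT
        obtain ⟨g, hg⟩ := Triangle.coyoneda_exact₂ T.invRotate hT' σ hσ
        have hGE' : t.IsGE (T.obj₃⟦(-1 : ℤ)⟧) (p + 2) :=
          t.isGE_shift T.obj₃ (p + 1) (-1) (p + 2) (by omega)
        have hg0 : g = 0 := t.zero_of_isLE_of_isGE g p (p + 2) (by omega) hS hGE'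
        rw [hg, hg0]
        exact zero_comp
      intro σ σ' h
      have h1 : (σ - σ') ≫ (t.truncLEι p).app B = 0 := by
        rw [Preadditive.sub_comp]
        exact sub_eq_zero.mpr h
      exact sub_eq_zero.mp (hz _ h1)
    · intro σ
      have h0 : σ ≫ T.mor₂ = 0 := t.zero_of_isLE_of_isGE _ p (p + 1) (by omega) hS hGE
      obtain ⟨g, hg⟩ := Triangle.coyoneda_exact₂ T hT σ h0
      exact ⟨g, hg.symm⟩
  -- `C` is a single module in degree `p`
  have hCGE : C.IsGE p := by
    haveI : t.IsGE B p := by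
      change t.IsGE ((t.truncGE p).obj K) p
      infer_instance
    change t.IsGE ((t.truncLE p).obj B) p
    infer_instance
  have hCLE : C.IsLE p := by
    change t.IsLE ((t.truncLE p).obj B) p
    infer_instance
  obtain ⟨A, ⟨eA⟩⟩ := DerivedCategory.exists_iso_singleFunctor_obj_of_isGE_of_isLE C p
  have hi1 := Groth.Agent.H1.TruncCoh.isIso_homology_truncGEπ K p p le_rfl
  have hi2 := Groth.Agent.H1.WayOutCoh.isIso_homology_truncLEι B p p le_rfl
  have hb3 : Function.Bijective (fun σ : S ⟶ C => σ ≫ eA.hom) :=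
    ⟨fun σ σ' h => (cancel_mono eA.hom).1 h, fun τ => ⟨τ ≫ eA.inv, by simp⟩⟩
  rw [bijective_ev_iff p _ hb1 hi1, ← bijective_ev_iff p _ hb2 hi2,
    bijective_ev_iff p eA.hom hb3 inferInstance]
  exact bijective_ev_single p A

end Groth.Agent.Lib.Helper25.QCCEv
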