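import Mathlib
import Groth.Agent.Lib.Helper25.FLFKernel
import Groth.Agent.Lib.Helper25.DCohPC
import Groth.Agent.Lib.Helper16.CohFinite
import Groth.Agent.Lib.Helper16.FLF7
import Groth.Agent.Lib.Helper16.QCohEpi
import Groth.Agent.Lib.Helper25.DerBC2
import Groth.Agent.Lib.Helper25.QCCEv
import Groth.Agent.Lib.Helper25.RGZ4

/-!
# Finite generation of the top cohomology sheaf of a pseudo-coherent complex (helper25)

* `isFinLocFree_cycles`: the cycles `Zʲ`, `j ≥ t`, of a strictly perfect complex acyclic above `t` are finite locally free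
  (descending induction with `FLFKernel.isFinLocFree_kernel_of_epi`).
* `appLin`, `finite_of_epi`, `finite_of_iso`, `finite_restrict`: transport of `Module.Finite Γ(X, W) Γ(M, W)`.
* `finite_sections_homology`: `Hᵗ` of such a complex has finitely generated sections over affine opens.
* `finite_sections_HD`: `E ∈ D_QCoh(X)` `m`-pseudo-coherent, `Hⁱ(E) = 0` for `i > t ≥ m` ⟹
  `Module.Finite Γ(X, V) Γ(Hᵗ(E), V)` for every affine open `V`.
-/

set_option autoImplicit false
universe u
open CategoryTheory CategoryTheory.Limits AlgebraicGeometry Opposite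

attribute [local instance] HasDerivedCategory.standard

namespace Groth.Agent.Lib.Helper25.ApproxFG

open Scheme.Modules TopologicalSpace

variable {Y : Scheme.{u}}

/-- the cycles of a strictly perfect complex which is acyclic above `t` are finite locally free in degrees `≥ t` -/
theorem isFinLocFree_cycles (F : CochainComplex Y.Modules ℤ) (hF : DCoh.IsStrictlyPerfect F) (t : ℤ)
    (hac : ∀ i : ℤ, t < i → IsZero (F.homology i)) :
    ∀ j : ℤ, t ≤ j → FlatMod.IsFinLocFree (F.cycles j) := by
  obtain ⟨⟨a, b, hab⟩, hflf⟩ := hF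
  -- descending induction on `j`, written as induction on `n` with `j = b + 1 - n`... use `j + n > b`
  suffices h : ∀ (n : ℕ) (j : ℤ), t ≤ j → b < j + n → FlatMod.IsFinLocFree (F.cycles j) by
    intro j hj
    exact h (b + 1 - j).toNat j hj (by omega)
  intro n
  induction n with
  | zero =>
    intro j _ hjb
    have hz : IsZero (F.X j) := hab j (Or.inr (by simpa using hjb))
    have hz' : IsZero (F.cycles j) := IsZero.of_mono (F.iCycles j) hz
    exact Groth.Agent.Lib.helper25.FLFKernel.isFinLocFree_of_isZero hz'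
  | succ n ih =>
    intro j hj hjb
    have h1 : FlatMod.IsFinLocFree (F.cycles (j + 1)) := ih (j + 1) (by omega) (by push_cast at hjb ⊢; omega)
    -- exactness at `j + 1`
    have hex : F.ExactAt (j + 1) := by
      rw [HomologicalComplex.exactAt_iff_isZero_homology]
      exact hac (j + 1) (by omega)
    haveI : Epi (F.toCycles j (j + 1)) := by
      have h3 := (HomologicalComplex.exactAt_iff' F j (j + 1) (j + 1 + 1) (by simp) (by simp)).1 hex
      have h5 : Epi (F.sc' j (j + 1) (j + 1 + 1)).toCycles := h3.epi_toCycles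
      let ec := F.cyclesIsoSc' j (j + 1) (j + 1 + 1) (by simp) (by simp)
      have h4 : F.toCycles j (j + 1) ≫ ec.hom = (F.sc' j (j + 1) (j + 1 + 1)).toCycles :=
        F.toCycles_cyclesIsoSc'_hom j (j + 1) (j + 1 + 1) (by simp) (by simp)
      have h6 : F.toCycles j (j + 1) = (F.sc' j (j + 1) (j + 1 + 1)).toCycles ≫ ec.inv :=
        (Iso.eq_comp_inv ec).2 h4
      rw [h6]
      exact epi_comp' h5 (inferInstance : Epi ec.inv)
    have h2 := Groth.Agent.Lib.helper25.FLFKernel.isFinLocFree_kernel_of_epi (F.toCycles j (j + 1))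
      (hflf j) h1
    -- `kernel (toCycles) ≅ cycles j`
    let e1 : kernel (F.toCycles j (j + 1)) ≅ kernel (F.d j (j + 1)) :=
      (kernelCompMono (F.toCycles j (j + 1)) (F.iCycles (j + 1))).symm ≪≫
        kernelIsoOfEq (F.toCycles_i j (j + 1))
    let e2 : kernel (F.d j (j + 1)) ≅ F.cycles j :=
      (limit.isLimit _).conePointUniqueUpToIso (F.cyclesIsKernel j (j + 1) (by simp))
    exact Groth.Agent.Lib.helper16.FLF.isFinLocFree_of_iso (e1 ≪≫ e2) h2

/-- a morphism of modules as a linear map on sections -/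
noncomputable def appLin {M N : Y.Modules} (φ : M ⟶ N) (U : Y.Opens) :
    Γ(M, U) →ₗ[Γ(Y, U)] Γ(N, U) where
  toFun := (φ.app U).hom
  map_add' := map_add _
  map_smul' r x := Hom.app_smul φ r x

/-- finiteness of sections is transported along epimorphisms of quasi-coherent modules -/
lemma finite_of_epi {M N : Y.Modules} [M.IsQuasicoherent] [N.IsQuasicoherent] (u : M ⟶ N) [Epi u]
    {W : Y.Opens} (hW : IsAffineOpen W) [Module.Finite Γ(Y, W) Γ(M, W)] :
    Module.Finite Γ(Y, W) Γ(N, W) :=
  Module.Finite.of_surjective (appLin u W)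
    (Groth.Agent.Lib.helper16.QCohEpi.surjective_app_of_epi u hW)

/-- finiteness of sections is transported along isomorphisms -/
lemma finite_of_iso {M N : Y.Modules} (e : M ≅ N) (W : Y.Opens) [Module.Finite Γ(Y, W) Γ(M, W)] :
    Module.Finite Γ(Y, W) Γ(N, W) :=
  Module.Finite.of_surjective (appLin e.hom W)
    (Groth.Agent.Lib.Helper25.QCCEv.bijective_app_of_isIso e.hom W).2

/-- the top cohomology sheaf of a strictly perfect complex has finitely generated sections over affine opens -/
theorem finite_sections_homology (F : CochainComplex Y.Modules ℤ) (hF : DCoh.IsStrictlyPerfect F)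
    (t : ℤ) (hac : ∀ i : ℤ, t < i → IsZero (F.homology i)) {W : Y.Opens} (hW : IsAffineOpen W) :
    Module.Finite Γ(Y, W) Γ(F.homology t, W) := by
  have hZ := isFinLocFree_cycles F hF t hac t le_rfl
  haveI : (F.cycles t).IsQuasicoherent :=
    Groth.Agent.Lib.helper25.DCohPC.isQuasicoherent_of_isFinLocFree hZ
  haveI : (F.homology t).IsQuasicoherent :=
    Groth.Agent.Lib.helper25.DCohPC.isQuasicoherent_homology_of_isStrictlyPerfect hF t
  haveI := Groth.Agent.Lib.helper16.CohFinite.finite_sections_of_isFiniteType (F.cycles t)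
    (Groth.Agent.Lib.helper16.FLF.isFiniteType_of_isFinLocFree _ hZ) hW
  exact finite_of_epi (F.homologyπ t) hW

/-- finiteness of sections of a restricted module, read on the ambient scheme -/
lemma finite_restrict {X : Scheme.{u}} (M : X.Modules) (V : X.Opens) (W' : (V : Scheme.{u}).Opens)
    [Module.Finite Γ((V : Scheme.{u}), W') Γ((restrictFunctor V.ι).obj M, W')] :
    Module.Finite Γ(X, V.ι ''ᵁ W') Γ(M, V.ι ''ᵁ W') := by
  let σ : Γ((V : Scheme.{u}), W') →+* Γ(X, V.ι ''ᵁ W') := (V.ι.appIso W').inv.hom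
  haveI : RingHomSurjective σ :=
    ⟨(ConcreteCategory.bijective_of_isIso (V.ι.appIso W').inv).2⟩
  let f : Γ((restrictFunctor V.ι).obj M, W') →ₛₗ[σ] Γ(M, V.ι ''ᵁ W') :=
    { toFun := fun m => m
      map_add' := fun _ _ => rfl
      map_smul' := fun r m => rfl }
  exact Module.Finite.of_surjective f (fun m => ⟨m, rfl⟩)

open DerivedCategory in
/-- **finite generation of the top cohomology**: if `E ∈ D_QCoh(X)` is `m`-pseudo-coherent and `Hⁱ(E) = 0` for
`i > t`, `t ≥ m`, then the sections of `Hᵗ(E)` over any affine open are a finite module -/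
theorem finite_sections_HD {X : Scheme.{u}} (E : DCoh.D X) (hq : DCoh.IsQCohD E) (m t : ℤ)
    (hmt : m ≤ t) (hpc : DCoh.IsPseudoCoherentD m E)
    (htop : ∀ i : ℤ, t < i → IsZero (DCoh.HD E i)) {V' : X.Opens} (hV' : IsAffineOpen V') :
    Module.Finite Γ(X, V') Γ(DCoh.HD E t, V') := by
  haveI : (DCoh.HD E t).IsQuasicoherent := hq t
  have key : ∀ x : X, ∃ W : X.Opens, IsAffineOpen W ∧ x ∈ W ∧
      Module.Finite Γ(X, W) Γ(DCoh.HD E t, W) := by
    intro x
    obtain ⟨V, hxV, F, α, hF, h1, h2⟩ := Groth.Agent.Lib.helper25.DCohPC.exists_pcData hpc x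
    let K := (DCoh.restrictD V.ι).obj E
    have eH : ∀ i, DCoh.HD K i ≅ (restrictFunctor V.ι).obj (DCoh.HD E i) := fun i =>
      (Groth.Agent.Lib.Helper25.DerBC.nonempty_homology_mapDerivedCategory_iso
        (restrictFunctor V.ι) E i).some
    have eF : ∀ i, (homologyFunctor _ i).obj (Q.obj F) ≅ F.homology i := fun i =>
      (homologyFunctorFactors _ i).app F
    have hac : ∀ i, t < i → IsZero (F.homology i) := by
      intro i hi
      haveI := h1 i (by omega)
      exact IsZero.of_iso (Functor.map_isZero _ (htop i hi))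
        ((eF i).symm ≪≫ asIso ((homologyFunctor _ i).map α) ≪≫ eH i)
    haveI hepi : Epi ((homologyFunctor _ t).map α) := by
      rcases hmt.eq_or_lt with rfl | hlt
      · exact h2
      · haveI := h1 t hlt
        infer_instance
    obtain ⟨_, ⟨W', hW'aff : IsAffineOpen W', rfl⟩, hxW', -⟩ :=
      (V : Scheme.{u}).isBasis_affineOpens.exists_subset_of_mem_open
        (Set.mem_univ (⟨x, hxV⟩ : (V : Scheme.{u}))) isOpen_univ
    haveI := finite_sections_homology F hF t hac hW'aff
    haveI : (F.homology t).IsQuasicoherent :=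
      Groth.Agent.Lib.helper25.DCohPC.isQuasicoherent_homology_of_isStrictlyPerfect hF t
    haveI : ((homologyFunctor _ t).obj (Q.obj F)).IsQuasicoherent :=
      Groth.Agent.Lib.helper16.QCohFibre.isQuasicoherent_of_iso (eF t).symm
    haveI : (DCoh.HD K t).IsQuasicoherent :=
      Groth.Agent.Lib.Helper25.RGZ4.isQCohD_restrictD V.ι E hq t
    haveI : Module.Finite Γ((V : Scheme.{u}), W') Γ((homologyFunctor _ t).obj (Q.obj F), W') :=
      finite_of_iso (eF t).symm W'
    haveI : Module.Finite Γ((V : Scheme.{u}), W') Γ(DCoh.HD K t, W') :=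
      finite_of_epi ((homologyFunctor _ t).map α) hW'aff
    have hfin : Module.Finite Γ((V : Scheme.{u}), W')
        Γ((restrictFunctor V.ι).obj (DCoh.HD E t), W') := finite_of_iso (eH t) W'
    haveI := hfin
    exact ⟨V.ι ''ᵁ W', hW'aff.image_of_isOpenImmersion V.ι, ⟨⟨x, hxV⟩, hxW', rfl⟩,
      finite_restrict (DCoh.HD E t) V W'⟩
  choose W hW1 hW2 hW3 using key
  exact Groth.Agent.Lib.helper16.CohFinite.finite_sections_of_cover (DCoh.HD E t) W hW1
    (fun x => ⟨x, hW2 x⟩) hW3 hV'

end Groth.Agent.Lib.Helper25.ApproxFG
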