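import Mathlib
import Groth.Prelude.Def_CxOX
import Groth.Agent.Lib.Helper25.DerivedAdj

/-!
# The unit of `j_! ⊣ j^*` is an isomorphism (helper25)

* `isIso_unit_extZeroAdj`: for an open immersion `j`, the unit `M ⟶ j^* j_! M` of `CxOX.extZeroAdj j` is an
  isomorphism (adjoint triple `j_! ⊣ j^* ⊣ j_*` with `j_*` fully faithful, `Adjunction.Triple`).
* `isIso_unit_app`: if the unit of an adjunction `G ⊣ F` of exact functors is an isomorphism, so is the unit of
  the induced adjunction `DerivedAdj.mapDerivedCategoryAdj adj` on derived categories.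
-/

set_option autoImplicit false
universe w₁ w₂ v₁ v₂ u₁ u₂ u
open CategoryTheory CategoryTheory.Limits AlgebraicGeometry

namespace Groth.Agent.Lib.Helper25.ExtZeroUnit

open Groth.Agent.Lib.helper25.DerivedAdj

section Module

variable {U X : Scheme.{u}} (j : U ⟶ X) [IsOpenImmersion j]

/-- the unit `M ⟶ j^* j_! M` is an isomorphism (adjoint triple `j_! ⊣ j^* ⊣ j_*`, `j_*` fully faithful) -/
instance isIso_unit_extZeroAdj : IsIso (CxOX.extZeroAdj j).unit :=
  (Adjunction.Triple.isIso_unit_iff_isIso_counit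
    (⟨CxOX.extZeroAdj j, Scheme.Modules.restrictAdjunction j⟩ :
      Adjunction.Triple (CxOX.extZero j) (Scheme.Modules.restrictFunctor j)
        (Scheme.Modules.pushforward j))).2 inferInstance

end Module

section Derived

variable {C₁ : Type u₁} [Category.{v₁} C₁] [Abelian C₁] [HasDerivedCategory.{w₁} C₁]
  {C₂ : Type u₂} [Category.{v₂} C₂] [Abelian C₂] [HasDerivedCategory.{w₂} C₂]
  {G : C₁ ⥤ C₂} {F : C₂ ⥤ C₁} [G.Additive] [F.Additive]
  [PreservesFiniteLimits G] [PreservesFiniteColimits G]
  [PreservesFiniteLimits F] [PreservesFiniteColimits F] (adj : G ⊣ F)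

lemma isIso_unit_app_Q [IsIso adj.unit] (K : CochainComplex C₁ ℤ) :
    IsIso ((mapDerivedCategoryAdj adj).unit.app (DerivedCategory.Q.obj K)) := by
  letI : CatCommSq (G.mapHomologicalComplex (ComplexShape.up ℤ)) DerivedCategory.Q DerivedCategory.Q
      G.mapDerivedCategory := ⟨G.mapDerivedCategoryFactors.symm⟩
  letI : CatCommSq (F.mapHomologicalComplex (ComplexShape.up ℤ)) DerivedCategory.Q DerivedCategory.Q
      F.mapDerivedCategory := ⟨F.mapDerivedCategoryFactors.symm⟩
  have h := Adjunction.localization_unit_app (mapHomologicalComplexAdj adj (ComplexShape.up ℤ))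
    DerivedCategory.Q (HomologicalComplex.quasiIso C₁ (ComplexShape.up ℤ)) DerivedCategory.Q
    (HomologicalComplex.quasiIso C₂ (ComplexShape.up ℤ)) G.mapDerivedCategory F.mapDerivedCategory K
  haveI : ∀ i, IsIso (((mapHomologicalComplexAdj adj (ComplexShape.up ℤ)).unit.app K).f i) :=
    fun i => inferInstanceAs (IsIso (adj.unit.app (K.X i)))
  haveI : IsIso ((mapHomologicalComplexAdj adj (ComplexShape.up ℤ)).unit.app K) :=
    HomologicalComplex.Hom.isIso_of_components _
  change IsIso (((mapHomologicalComplexAdj adj (ComplexShape.up ℤ)).localization DerivedCategory.Q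
    (HomologicalComplex.quasiIso C₁ (ComplexShape.up ℤ)) DerivedCategory.Q
    (HomologicalComplex.quasiIso C₂ (ComplexShape.up ℤ)) G.mapDerivedCategory
    F.mapDerivedCategory).unit.app (DerivedCategory.Q.obj K))
  rw [h]
  infer_instance

theorem isIso_unit_app [IsIso adj.unit] (P : DerivedCategory C₁) :
    IsIso ((mapDerivedCategoryAdj adj).unit.app P) :=
  (NatTrans.isIso_app_iff_of_iso _ (DerivedCategory.Q.objObjPreimageIso P)).1
    (isIso_unit_app_Q adj _)

end Derived

end Groth.Agent.Lib.Helper25.ExtZeroUnit
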