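import Mathlib

/-!
# Cokernel of a differential as cycles of a mapping cone (helper25)

`nonempty_opcycles_iso_cycles_mappingCone`: for a chain map `φ : P ⟶ F` with `F^{a-1} = 0` whose cone is exact in
degrees `a-1` and `a`, `coker (P^{a-1} → P^a) ≅ Z^a(cone φ)`.
-/

set_option autoImplicit false
open CategoryTheory CategoryTheory.Limits

namespace Groth.Agent.Lib.helper25.ConeOpcycles

open CochainComplex HomComplex

universe v u
variable {C : Type u} [Category.{v} C] [Abelian C]

/-- For a chain map `φ : P ⟶ F` with `F^{a-1} = 0` whose cone is exact in degrees `a-1` and `a`: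
`coker (P^{a-1} → P^a) ≅ Z^a(cone φ)`. -/
theorem nonempty_opcycles_iso_cycles_mappingCone {P F : CochainComplex C ℤ} (φ : P ⟶ F) (a' a : ℤ)
    (ha : a' + 1 = a) (hF : IsZero (F.X a')) (h1 : IsZero ((mappingCone φ).homology a'))
    (h2 : IsZero ((mappingCone φ).homology a)) :
    Nonempty (P.opcycles a ≅ (mappingCone φ).cycles a) := by
  set K := mappingCone φ with hK
  let fst' : K.X a' ⟶ P.X a := (mappingCone.fst φ).1.v a' a ha
  let inl' : P.X a ⟶ K.X a' := (mappingCone.inl φ).v a a' (by omega)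
  have h_inl_fst : inl' ≫ fst' = 𝟙 _ := mappingCone.inl_v_fst_v φ a a' ha
  have h_fst_inl : fst' ≫ inl' = 𝟙 _ := by
    have := mappingCone.id_X φ a' a ha
    have hs : (mappingCone.snd φ).v a' a' (add_zero a') = 0 := hF.eq_of_tgt _ _
    rw [hs, zero_comp, add_zero] at this
    exact this
  have hepi : Epi (K.toCycles a' a) :=
    Preadditive.epi_of_isZero_cokernel' _ (K.homologyIsCokernel a' a (by simp; omega)) h2
  have hiso : IsIso inl' := ⟨fst', h_inl_fst, h_fst_inl⟩
  let g : P.X a ⟶ K.cycles a := inl' ≫ K.toCycles a' a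
  have hg : Epi g := epi_comp _ _
  -- the exact short complex of the cone
  let S₁ : ShortComplex C := ShortComplex.mk (K.d (a' - 1) a') (K.toCycles a' a) (by simp)
  have hS₁ : S₁.Exact := by
    have hsc : (K.sc' (a' - 1) a' a).Exact := by
      have := (K.exactAt_iff' (a' - 1) a' a (by simp) (by simp; omega)).1
        ((K.exactAt_iff_isZero_homology a').2 h1)
      exact this
    let ψ : S₁ ⟶ K.sc' (a' - 1) a' a :=
      { τ₁ := 𝟙 _
        τ₂ := 𝟙 _
        τ₃ := K.iCycles a
        comm₁₂ := by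
          change 𝟙 (K.X (a' - 1)) ≫ K.d (a' - 1) a' = K.d (a' - 1) a' ≫ 𝟙 (K.X a')
          rw [Category.id_comp, Category.comp_id]
        comm₂₃ := by
          change 𝟙 (K.X a') ≫ K.d a' a = K.toCycles a' a ≫ K.iCycles a
          rw [Category.id_comp, K.toCycles_i] }
    have : Epi ψ.τ₁ := inferInstanceAs (Epi (𝟙 _))
    have : IsIso ψ.τ₂ := inferInstanceAs (IsIso (𝟙 _))
    have : Mono ψ.τ₃ := inferInstanceAs (Mono (K.iCycles a))
    exact (ShortComplex.exact_iff_of_epi_of_isIso_of_mono ψ).2 hsc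
  -- the short complex of `P`
  have hzero : P.d a' a ≫ g = 0 := by
    have h3 := mappingCone.inl_v_d φ a' (a' - 1) a (by omega) (by omega)
    have h4 : φ.f a' = 0 := hF.eq_of_tgt _ _
    rw [h4, zero_comp, zero_sub] at h3
    have h5 : P.d a' a ≫ inl' = -((mappingCone.inl φ).v a' (a' - 1) (by omega) ≫ K.d (a' - 1) a') := by
      rw [h3, neg_neg]
    dsimp only [g]
    rw [reassoc_of% h5, Preadditive.neg_comp, Category.assoc, K.d_toCycles, comp_zero, neg_zero]
  let S₂ : ShortComplex C := ShortComplex.mk (P.d a' a) g hzero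
  have hS₂ : S₂.Exact := by
    let ψ : S₁ ⟶ S₂ :=
      { τ₁ := -(mappingCone.fst φ).1.v (a' - 1) a' (by omega)
        τ₂ := fst'
        τ₃ := 𝟙 _
        comm₁₂ := by
          dsimp [S₁, S₂, fst']
          rw [Preadditive.neg_comp]
          exact (mappingCone.d_fst_v φ (a' - 1) a' a (by omega) ha).symm
        comm₂₃ := by
          dsimp [S₁, S₂, g]
          rw [Category.comp_id, reassoc_of% h_fst_inl] }
    have e1 : Epi ((mappingCone.fst φ).1.v (a' - 1) a' (by omega)) :=
      epi_of_epi_fac (mappingCone.inl_v_fst_v φ a' (a' - 1) (by omega))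
    have : Epi ψ.τ₁ := by
      dsimp [ψ]
      rw [show -(mappingCone.fst φ).1.v (a' - 1) a' (by omega) =
        (mappingCone.fst φ).1.v (a' - 1) a' (by omega) ≫ (-𝟙 _) by simp]
      have : IsIso (-𝟙 (P.X a')) := ⟨-𝟙 _, by simp, by simp⟩
      infer_instance
    have : IsIso ψ.τ₂ := ⟨inl', h_fst_inl, h_inl_fst⟩
    have : Mono ψ.τ₃ := inferInstanceAs (Mono (𝟙 _))
    exact (ShortComplex.exact_iff_of_epi_of_isIso_of_mono ψ).1 hS₁
  have hcok : IsColimit (CokernelCofork.ofπ S₂.g S₂.zero) := hS₂.gIsCokernel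
  exact ⟨IsColimit.coconePointUniqueUpToIso (P.opcyclesIsCokernel a' a (by simp; omega)) hcok⟩

end Groth.Agent.Lib.helper25.ConeOpcycles
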