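import Mathlib
import Groth.Agent.Lib.Helper25.FlatClass
import Groth.Agent.Lib.Helper25.ConeOpcycles
import Groth.Agent.Lib.Helper25.IsoAbove
import Groth.Agent.Lib.Helper25.FLFCycles
import Groth.Agent.Lib.Helper25.FLFLocus

/-!
# Flat cokernels and canonical truncation of strictly perfect complexes (helper25)

* `isFlat_cycles`: cycles of a bounded above complex of flat modules, exact in degrees `> m`, are flat in degrees `≥ m`.
* `isFlat_opcycles_of_isoAbove (φ : P ⟶ F) a b ...`: for a chain map of bounded above complexes of flat modules with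
  `F` zero below `a`, which is an iso on `H^i` for `i ≥ a` (`IsoAbove (a-1) (Q.map φ)`), `P.opcycles a` is flat.
* `isFP_opcycles`, `isFinLocFree_opcycles_of_isFlat`: cokernels of differentials of complexes of finite locally free
  modules are finitely presented; if flat then finite locally free.
* `truncGE_isStrictlyPerfect_and_iso`: canonical truncation `P.truncGE a` of a strictly perfect complex with
  `P.opcycles a` finite locally free is strictly perfect and `Q(P.truncGE a) ≅ Q(G)` for `c : P ⟶ G` with `G` zero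
  below `a` and `IsoAbove (a-1) (Q.map c)`.
-/

set_option autoImplicit false
universe u
open CategoryTheory CategoryTheory.Limits AlgebraicGeometry TopologicalSpace Opposite
open Scheme.Modules

attribute [local instance] HasDerivedCategory.standard

namespace Groth.Agent.Lib.helper25.FlatTrunc

open Groth.Agent.Lib.helper25.FlatClass Groth.Agent.Lib.helper25.IsoAbove

variable {X : Scheme.{u}}

lemma isFlat_cycles_step (K : CochainComplex X.Modules ℤ) (i : ℤ)
    (hi : FlatMod.IsFlat (K.X i)) (hz : IsZero (K.homology (i + 1)))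
    (hc : FlatMod.IsFlat (K.cycles (i + 1))) : FlatMod.IsFlat (K.cycles i) := by
  have hepi : Epi (K.toCycles i (i + 1)) :=
    Preadditive.epi_of_isZero_cokernel' _ (K.homologyIsCokernel i (i + 1) (by simp)) hz
  exact isFlat_of_iso (Groth.Agent.Lib.helper25.FLFCycles.kernelToCyclesIso K i (i + 1) rfl)
    (isFlat_kernel_of_epi (K.toCycles i (i + 1)) hi hc)

/-- cycles of a bounded above complex of flat modules which is exact in degrees `> m` are flat in degrees `≥ m` -/
theorem isFlat_cycles (K : CochainComplex X.Modules ℤ) (b : ℤ) (hb : ∀ i : ℤ, b < i → IsZero (K.X i))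
    (hf : ∀ i : ℤ, FlatMod.IsFlat (K.X i)) (m : ℤ)
    (hm : ∀ i : ℤ, m < i → IsZero (K.homology i)) (i : ℤ) (hi : m ≤ i) :
    FlatMod.IsFlat (K.cycles i) := by
  have hzero : ∀ j : ℤ, b < j → FlatMod.IsFlat (K.cycles j) := fun j hj =>
    isFlat_of_isZero (IsZero.of_mono (K.iCycles j) (hb j hj))
  have key : ∀ (n : ℕ) (j : ℤ), j + n = b + 1 → m ≤ j → FlatMod.IsFlat (K.cycles j) := by
    intro n
    induction n with
    | zero =>
      intro j hj _
      exact hzero j (by simp at hj; omega)
    | succ n ih =>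
      intro j hj hmj
      exact isFlat_cycles_step K j (hf j) (hm _ (by omega))
        (ih (j + 1) (by push_cast at hj ⊢; omega) (by omega))
  by_cases hib : i ≤ b + 1
  · exact key (b + 1 - i).toNat i (by omega) hi
  · exact hzero i (by omega)

open DerivedCategory in
/-- **Flatness of the cokernel of `P^{a-1} → P^a`** for a chain map `P ⟶ F` of bounded above complexes of flat
modules, with `F` zero below `a`, which is an isomorphism on `H^i` for `i ≥ a`. -/
theorem isFlat_opcycles_of_isoAbove {P F : CochainComplex X.Modules ℤ} (φ : P ⟶ F) (a b : ℤ)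
    (hPf : ∀ i : ℤ, FlatMod.IsFlat (P.X i)) (hFf : ∀ i : ℤ, FlatMod.IsFlat (F.X i))
    (hPb : ∀ i : ℤ, b < i → IsZero (P.X i)) (hFb : ∀ i : ℤ, b < i → IsZero (F.X i))
    (hFa : ∀ i : ℤ, i < a → IsZero (F.X i)) (hφ : IsoAbove (a - 1) (Q.map φ)) :
    FlatMod.IsFlat (P.opcycles a) := by
  set K := CochainComplex.mappingCone φ with hK
  have hKf : ∀ i : ℤ, FlatMod.IsFlat (K.X i) := by
    intro i
    haveI := HomologicalComplex.HasHomotopyCofiber.hasBinaryBiproduct φ i (i + 1) rfl
    exact isFlat_of_iso (HomologicalComplex.homotopyCofiber.XIsoBiprod φ i (i + 1) rfl).symm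
      (isFlat_biprod (hPf _) (hFf _))
  have hKb : ∀ i : ℤ, b < i → IsZero (K.X i) := fun i hi =>
    (CochainComplex.mappingCone.isZero_X_iff φ i).2 ⟨hPb _ (by omega), hFb _ hi⟩
  have hKh : ∀ i : ℤ, a - 1 ≤ i → IsZero (K.homology i) := by
    intro i hi
    have hT := DerivedCategory.mappingCone_triangle_distinguished φ
    have h1 := (isoAbove_iff_cone _ hT (a - 1)).1 hφ i hi
    exact IsZero.of_iso h1 ((homologyFunctorFactors X.Modules i).app K).symm
  have hc : FlatMod.IsFlat (K.cycles a) :=
    isFlat_cycles K b hKb hKf (a - 1) (fun i hi => hKh i (by omega)) a (by omega)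
  obtain ⟨e⟩ := Groth.Agent.Lib.helper25.ConeOpcycles.nonempty_opcycles_iso_cycles_mappingCone φ
    (a - 1) a (by omega) (hFa _ (by omega)) (hKh _ le_rfl) (hKh _ (by omega))
  exact isFlat_of_iso e.symm hc

/-- the cokernel of a differential of a complex of finite locally free modules is finitely presented -/
lemma isFP_opcycles {P : CochainComplex X.Modules ℤ} (hP : ∀ i : ℤ, FlatMod.IsFinLocFree (P.X i)) (a : ℤ) :
    CohB1.IsFP (P.opcycles a) := by
  have h1 := Groth.Agent.Lib.helper25.FLFCycles.isFP_cokernel_of_isFinLocFree (P.d (a - 1) a)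
    (hP _) (hP _)
  let e : cokernel (P.d (a - 1) a) ≅ P.opcycles a :=
    IsColimit.coconePointUniqueUpToIso (cokernelIsCokernel _)
      (P.opcyclesIsCokernel (a - 1) a (by simp))
  exact Groth.Agent.Lib.helper25.FLFLocus.isFP_of_iso e h1

lemma isFinLocFree_opcycles_of_isFlat {P : CochainComplex X.Modules ℤ}
    (hP : ∀ i : ℤ, FlatMod.IsFinLocFree (P.X i)) (a : ℤ) (h : FlatMod.IsFlat (P.opcycles a)) :
    FlatMod.IsFinLocFree (P.opcycles a) := by
  have hfp : CohB1.IsFP (P.opcycles a) := isFP_opcycles hP a
  haveI : (P.opcycles a).IsQuasicoherent :=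
    SheafOfModules.instIsQuasicoherentOfIsFinitePresentation (R := X.ringCatSheaf) (P.opcycles a)
  exact (Groth.Agent.Lib.helper16.FLF.isFinLocFree_iff_flat_fp (P.opcycles a)).1 ⟨h, hfp⟩

open DerivedCategory in
/-- **Canonical truncation of a strictly perfect complex** whose cokernel in degree `a` is finite locally free:
it is strictly perfect, and a chain map to a complex vanishing below `a` which is an isomorphism on `H^i`,
`i ≥ a`, induces an isomorphism in the derived category from the truncation. -/
theorem truncGE_isStrictlyPerfect_and_iso {P G : CochainComplex X.Modules ℤ}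
    (hP : DCoh.IsStrictlyPerfect P) (c : P ⟶ G) (a : ℤ) (hG : ∀ i : ℤ, i < a → IsZero (G.X i))
    (hc : IsoAbove (a - 1) (Q.map c)) (hflf : FlatMod.IsFinLocFree (P.opcycles a)) :
    DCoh.IsStrictlyPerfect (P.truncGE a) ∧ Nonempty (Q.obj (P.truncGE a) ≅ Q.obj G) := by
  obtain ⟨⟨a₀, b₀, hab⟩, hf⟩ := hP
  refine ⟨⟨⟨a, max b₀ a, fun i hi => ?_⟩, fun i => ?_⟩, ?_⟩
  · rcases hi with hi | hi
    · exact (P.truncGE a).isZero_of_isStrictlyGE a i hi
    · exact (hab i (Or.inr (by omega))).of_iso (P.truncGEXIso a i (by omega))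
  · rcases lt_trichotomy i a with hi | hi | hi
    · exact Groth.Agent.Lib.helper25.FLFKernel.isFinLocFree_of_isZero
        ((P.truncGE a).isZero_of_isStrictlyGE a i hi)
    · subst hi
      exact Groth.Agent.Lib.helper16.FLF.isFinLocFree_of_iso (P.truncGEXIsoOpcycles i).symm hflf
    · exact Groth.Agent.Lib.helper16.FLF.isFinLocFree_of_iso (P.truncGEXIso a i hi).symm (hf i)
  · haveI : G.IsStrictlyGE a := (CochainComplex.isStrictlyGE_iff G a).2 hG
    have hq : QuasiIso (CochainComplex.truncGEMap c a) := by
      rw [CochainComplex.quasiIso_truncGEMap_iff]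
      intro i hi
      rw [quasiIsoAt_iff_isIso_homologyMap]
      exact ((isoAbove_Q_map_iff c (a - 1)).1 hc).1 i (by omega)
    let ψ : P.truncGE a ⟶ G := CochainComplex.truncGEMap c a ≫ inv (G.πTruncGE a)
    haveI : QuasiIso ψ := by dsimp only [ψ]; infer_instance
    exact ⟨asIso (Q.map ψ)⟩

end Groth.Agent.Lib.helper25.FlatTrunc
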