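import Mathlib
import Groth.Agent.Lib.Helper25.FlatTrunc
import Groth.Agent.Lib.Helper25.DCohPC4

/-!
# Flat amplitude + pseudo-coherence ⟹ perfect (helper25)

* `exists_strictlyPerfect_local`: a complex `F` of flat modules vanishing outside `[a,b]` receiving `α : Q P ⟶ Q F` from a
  strictly perfect `P` with `IsoAbove (a-1) α` is locally quasi-isomorphic to a strictly perfect complex.
* `isPerfect_at_of_flat_of_pcData`: local criterion for perfectness over an open immersion `j : U ⟶ X`.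
* `isPerfect_of_restrict`: perfectness is local (`∀ x, ∃ V ∋ x, IsPerfect (K|_V)` ⟹ `IsPerfect K`).
-/

set_option autoImplicit false
universe u
open CategoryTheory CategoryTheory.Limits AlgebraicGeometry TopologicalSpace Opposite
open Scheme.Modules

attribute [local instance] HasDerivedCategory.standard

namespace Groth.Agent.Lib.helper25.FlatAmpPerfect

open Groth.Agent.Lib.helper25.FlatClass Groth.Agent.Lib.helper25.IsoAbove
  Groth.Agent.Lib.helper25.FlatTrunc Groth.Agent.Lib.helper25.DCohRestrict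
  Groth.Agent.Lib.helper25.DCohPerfect Groth.Agent.Lib.helper25.DCohPC
  Groth.Agent.Lib.helper25.DCohPC2 Groth.Agent.Lib.helper25.DCohPC3

variable {X Y : Scheme.{u}}

open DerivedCategory in
/-- **Core local statement**: a complex `F` of flat modules vanishing outside `[a,b]` which receives a map
from a strictly perfect complex, iso on `H^i` for `i ≥ a`, is locally quasi-isomorphic to a strictly perfect
complex. -/
theorem exists_strictlyPerfect_local {P F : CochainComplex Y.Modules ℤ}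
    (hP : DCoh.IsStrictlyPerfect P) (a b : ℤ) (hF : DCoh.VanishesOutside F a b)
    (hFf : ∀ i : ℤ, FlatMod.IsFlat (F.X i))
    (α : Q.obj P ⟶ Q.obj F) (hα : IsoAbove (a - 1) α) (y : Y) :
    ∃ (W : Y.Opens), y ∈ W ∧ ∃ E : CochainComplex (W : Scheme.{u}).Modules ℤ, DCoh.IsStrictlyPerfect E ∧
      Nonempty (Q.obj E ≅ Q.obj ((resCx W.ι).obj F)) := by
  obtain ⟨W, c, hyW, hc⟩ := exists_local_chain_map hP α y
  have hc' : IsoAbove (a - 1) (Q.map c) := by
    have h1 := isoAbove_restrict W.ι hα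
    have : Q.map c = (resDQIso W.ι P).inv ≫ ((DCoh.restrictD W.ι).map α ≫ (resDQIso W.ι F).hom) := by
      rw [hc]; simp
    rw [this]
    exact (h1.comp_iso _).iso_comp _
  have hP' := isStrictlyPerfect_res W.ι hP
  obtain ⟨⟨a₀, b₀, hab₀⟩, hf₀⟩ := hP'
  have hflat : FlatMod.IsFlat (((resCx W.ι).obj P).opcycles a) :=
    isFlat_opcycles_of_isoAbove c a (max b b₀)
      (fun i => Groth.Agent.Lib.helper16.FLF.isFlat_of_isFinLocFree _ (hf₀ i))
      (fun i => isFlat_restrict (F.X i) W (hFf i))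
      (fun i hi => hab₀ i (Or.inr (by omega)))
      (fun i hi => (restrictFunctor W.ι).map_isZero (hF i (Or.inr (by omega))))
      (fun i hi => (restrictFunctor W.ι).map_isZero (hF i (Or.inl hi)))
      hc'
  have hflf := isFinLocFree_opcycles_of_isFlat hf₀ a hflat
  obtain ⟨h1, h2⟩ := truncGE_isStrictlyPerfect_and_iso (isStrictlyPerfect_res W.ι hP) c a
    (fun i hi => (restrictFunctor W.ι).map_isZero (hF i (Or.inl hi))) hc' hflf
  exact ⟨W, hyW, _, h1, h2⟩

/-- **Local criterion**: if over an open immersion `j : U ⟶ X` the object `K|_U` is represented by a complex of flat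
modules in `[a,b]` and has global `(a-1)`-pseudo-coherence data, then `K` is perfect near every point of `j(U)`. -/
theorem isPerfect_at_of_flat_of_pcData (K : DCoh.D X) {U : Scheme.{u}} (j : U ⟶ X) [IsOpenImmersion j] (y : U)
    (F : CochainComplex U.Modules ℤ) (a b : ℤ) (hF : DCoh.VanishesOutside F a b)
    (hFf : ∀ i : ℤ, FlatMod.IsFlat (F.X i))
    (e : Nonempty (DerivedCategory.Q.obj F ≅ (DCoh.restrictD j).obj K))
    (hpc : PCData (a - 1) ((DCoh.restrictD j).obj K)) :
    ∃ (V : X.Opens), j y ∈ V ∧ ∀ (F' : CochainComplex X.Modules ℤ), Nonempty (DCoh.toD X F' ≅ K) →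
      ∃ E' : CochainComplex (V : Scheme.{u}).Modules ℤ, DCoh.IsStrictlyPerfect E' ∧
        Nonempty (DerivedCategory.Q.obj ((DCoh.restrictCx V).obj F') ≅ DerivedCategory.Q.obj E') := by
  obtain ⟨e⟩ := e
  obtain ⟨P, α, hP, hα⟩ := hpc
  obtain ⟨W, hyW, E, hE, ⟨i1⟩⟩ := exists_strictlyPerfect_local hP a b hF hFf (α ≫ e.inv)
    (IsoAbove.comp_iso hα e.inv) y
  obtain ⟨c⟩ := nonempty_restrictD_comp_iso W.ι j K
  refine isPerfect_at_of_restrictD_iso K (j y) (W.ι ≫ j) ⟨⟨y, hyW⟩, rfl⟩ E hE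
    ⟨c ≪≫ (DCoh.restrictD W.ι).mapIso e.symm ≪≫ resDQIso W.ι F ≪≫ i1.symm⟩

/-- perfectness is local -/
theorem isPerfect_of_restrict {K : DCoh.D X}
    (h : ∀ x : X, ∃ V : X.Opens, x ∈ V ∧ DCoh.IsPerfect ((DCoh.restrictD V.ι).obj K)) : DCoh.IsPerfect K := by
  intro x
  obtain ⟨V, hxV, hV⟩ := h x
  obtain ⟨W, hyW, E, hE, ⟨e⟩⟩ := exists_restrictD_iso_of_isPerfect hV (⟨x, hxV⟩ : (V : Scheme.{u}))
  obtain ⟨c⟩ := nonempty_restrictD_comp_iso W.ι V.ι K
  exact isPerfect_at_of_restrictD_iso K x (W.ι ≫ V.ι) ⟨⟨⟨x, hxV⟩, hyW⟩, rfl⟩ E hE ⟨c ≪≫ e⟩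

end Groth.Agent.Lib.helper25.FlatAmpPerfect
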