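import Mathlib

/-!
# Maps into a coproduct which are supported on finitely many summands (helper25)

In a preadditive category, for a coproduct `(A, g : ∀ i, M i ⟶ A)` (`hc : IsColimit (Cofan.mk A g)`):

* `eS g hc S : A ⟶ A` for `S : Finset ι`: the idempotent "projection onto the summands in `S`";
  `inj_eS`, `eS_comp_of_subset`, `comp_eS_of_subset`, `proj`, `inj_proj_self`, `inj_proj_of_ne`,
  `eS_eq_sum`, `sum_comp_eS`, `map_eS` (an additive functor preserving the coproduct maps `eS` to `eS`).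
* `FF Q P`: every map from `P` to a coproduct of a `w`-small family of objects satisfying `Q` is supported
  on finitely many summands (`x ≫ eS S = x`); `FF.exists_sum`: it is a finite sum `∑_{i ∈ S} σ i ≫ g i`.
* `ff_of_iso`, `ff_of_isZero`, `ff_of_jointly_epi` (finite jointly epimorphic families), `ff_biprod`,
  `ff_of_triangle` (middle term of a distinguished triangle), `ff_of_adjunction` (transfer along
  `L ⊣ R` when `R` is additive, preserves `Q` and the coproducts in question).
-/

set_option autoImplicit false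
universe w v u v' u'
open CategoryTheory CategoryTheory.Limits

namespace Groth.Agent.Lib.Helper25.FinFac

variable {C : Type u} [Category.{v} C] [Preadditive C]

section eS

variable {ι : Type w} {M : ι → C} {A : C} (g : ∀ i, M i ⟶ A) (hc : IsColimit (Cofan.mk A g))

include hc in
lemma hom_ext' {B : C} {x y : A ⟶ B} (h : ∀ i, g i ≫ x = g i ≫ y) : x = y :=
  Cofan.IsColimit.hom_ext hc _ _ h

open scoped Classical in
/-- the idempotent endomorphism of the coproduct projecting onto the summands indexed by `S` -/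
noncomputable def eS (S : Finset ι) : A ⟶ A :=
  Cofan.IsColimit.desc hc (fun i => if i ∈ S then g i else 0)

open scoped Classical in
lemma inj_eS (S : Finset ι) (i : ι) : g i ≫ eS g hc S = if i ∈ S then g i else 0 :=
  Cofan.IsColimit.fac hc _ i

lemma eS_comp_of_subset {S S' : Finset ι} (h : S ⊆ S') : eS g hc S ≫ eS g hc S' = eS g hc S := by
  classical
  apply hom_ext' g hc
  intro i
  rw [← Category.assoc, inj_eS]
  by_cases hi : i ∈ S
  · rw [if_pos hi, inj_eS, if_pos (h hi)]
  · rw [if_neg hi, zero_comp]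

lemma comp_eS_of_subset {P : C} {x : P ⟶ A} {S S' : Finset ι} (h : S ⊆ S')
    (hx : x ≫ eS g hc S = x) : x ≫ eS g hc S' = x := by
  rw [← hx, Category.assoc, eS_comp_of_subset g hc h]

open scoped Classical in
/-- the projection of the coproduct onto a summand -/
noncomputable def proj (i : ι) : A ⟶ M i :=
  Cofan.IsColimit.desc hc (fun j => if h : j = i then eqToHom (by rw [h]) else 0)

open scoped Classical in
lemma inj_proj (i j : ι) :
    g i ≫ proj g hc j = if h : i = j then eqToHom (by rw [h]) else 0 :=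
  Cofan.IsColimit.fac hc _ i

lemma inj_proj_self (i : ι) : g i ≫ proj g hc i = 𝟙 _ := by
  classical
  rw [inj_proj, dif_pos rfl, eqToHom_refl]

lemma inj_proj_of_ne {i j : ι} (h : i ≠ j) : g i ≫ proj g hc j = 0 := by
  classical
  rw [inj_proj, dif_neg h]

lemma eS_eq_sum (S : Finset ι) : eS g hc S = ∑ i ∈ S, proj g hc i ≫ g i := by
  classical
  apply hom_ext' g hc
  intro j
  rw [inj_eS, Preadditive.comp_sum]
  by_cases hj : j ∈ S
  · rw [if_pos hj, Finset.sum_eq_single j]
    · rw [← Category.assoc, inj_proj_self, Category.id_comp]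
    · intro i _ hij
      rw [← Category.assoc, inj_proj_of_ne g hc (Ne.symm hij), zero_comp]
    · intro h
      exact absurd hj h
  · rw [if_neg hj]
    symm
    apply Finset.sum_eq_zero
    intro i hi
    have hij : j ≠ i := fun h => hj (h ▸ hi)
    rw [← Category.assoc, inj_proj_of_ne g hc hij, zero_comp]

/-- a finite sum of maps through summands in `S` is supported on `S` -/
lemma sum_comp_eS {P : C} (S : Finset ι) (σ : ∀ i, P ⟶ M i) :
    (∑ i ∈ S, σ i ≫ g i) ≫ eS g hc S = ∑ i ∈ S, σ i ≫ g i := by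
  classical
  rw [Preadditive.sum_comp]
  apply Finset.sum_congr rfl
  intro i hi
  rw [Category.assoc, inj_eS, if_pos hi]

lemma eq_sum_of_comp_eS {P : C} {x : P ⟶ A} {S : Finset ι} (hx : x ≫ eS g hc S = x) :
    x = ∑ i ∈ S, (x ≫ proj g hc i) ≫ g i := by
  conv_lhs => rw [← hx, eS_eq_sum, Preadditive.comp_sum]
  apply Finset.sum_congr rfl
  intro i _
  rw [Category.assoc]

variable {D : Type u'} [Category.{v'} D] [Preadditive D] (R : C ⥤ D) [R.Additive]

/-- an additive functor preserving the coproduct maps `eS` to `eS` -/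
lemma map_eS (hc' : IsColimit (Cofan.mk (R.obj A) (fun i => R.map (g i)))) (S : Finset ι) :
    R.map (eS g hc S) = eS (fun i => R.map (g i)) hc' S := by
  classical
  apply hom_ext' _ hc'
  intro i
  have h1 := inj_eS (fun i => R.map (g i)) hc' S i
  have h2 := inj_eS g hc S i
  rw [h1, ← R.map_comp, h2]
  by_cases hi : i ∈ S
  · rw [if_pos hi, if_pos hi]
  · rw [if_neg hi, if_neg hi, R.map_zero]

end eS

section FF

/-- every map from `P` into a coproduct (indexed by a `w`-small type) of objects satisfying `Q` is supported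
on finitely many summands -/
def FF (Q : C → Prop) (P : C) : Prop :=
  ∀ (ι : Type w) (M : ι → C) (_ : ∀ i, Q (M i)) (A : C) (g : ∀ i, M i ⟶ A)
    (hc : IsColimit (Cofan.mk A g)) (x : P ⟶ A), ∃ S : Finset ι, x ≫ eS g hc S = x

variable {Q : C → Prop}

lemma FF.exists_sum {P : C} (h : FF.{w} Q P) {ι : Type w} {M : ι → C} (hM : ∀ i, Q (M i)) {A : C}
    (g : ∀ i, M i ⟶ A) (hc : IsColimit (Cofan.mk A g)) (x : P ⟶ A) :
    ∃ (S : Finset ι) (σ : ∀ i, P ⟶ M i), x = ∑ i ∈ S, σ i ≫ g i := by
  obtain ⟨S, hS⟩ := h ι M hM A g hc x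
  exact ⟨S, fun i => x ≫ proj g hc i, eq_sum_of_comp_eS g hc hS⟩

lemma ff_of_exists_sum {P : C}
    (h : ∀ (ι : Type w) (M : ι → C) (_ : ∀ i, Q (M i)) (A : C) (g : ∀ i, M i ⟶ A)
      (_ : IsColimit (Cofan.mk A g)) (x : P ⟶ A),
      ∃ (S : Finset ι) (σ : ∀ i, P ⟶ M i), x = ∑ i ∈ S, σ i ≫ g i) : FF.{w} Q P := by
  intro ι M hM A g hc x
  obtain ⟨S, σ, hσ⟩ := h ι M hM A g hc x
  exact ⟨S, by rw [hσ]; exact sum_comp_eS g hc S σ⟩

lemma ff_of_iso {P P' : C} (e : P ≅ P') (h : FF.{w} Q P) : FF.{w} Q P' := by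
  intro ι M hM A g hc x
  obtain ⟨S, hS⟩ := h ι M hM A g hc (e.hom ≫ x)
  refine ⟨S, ?_⟩
  rw [← cancel_epi e.hom, ← Category.assoc]
  exact hS

lemma ff_of_isZero {P : C} (hP : IsZero P) : FF.{w} Q P := by
  intro ι M hM A g hc x
  exact ⟨∅, hP.eq_of_src _ _⟩

/-- a target of a finite jointly epimorphic family of `FF` objects is `FF` -/
lemma ff_of_jointly_epi {κ : Type*} [Finite κ] {P : C} (Pk : κ → C) (h : ∀ k, Pk k ⟶ P)
    (hepi : ∀ {B : C} (x y : P ⟶ B), (∀ k, h k ≫ x = h k ≫ y) → x = y)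
    (hk : ∀ k, FF.{w} Q (Pk k)) : FF.{w} Q P := by
  classical
  intro ι M hM A g hc x
  have := Fintype.ofFinite κ
  choose S hS using fun k => hk k ι M hM A g hc (h k ≫ x)
  refine ⟨Finset.univ.biUnion S, hepi _ _ fun k => ?_⟩
  rw [← Category.assoc]
  exact comp_eS_of_subset g hc (Finset.subset_biUnion_of_mem S (Finset.mem_univ k)) (hS k)

lemma ff_biprod [HasBinaryBiproducts C] {P P' : C} (h : FF.{w} Q P) (h' : FF.{w} Q P') :
    FF.{w} Q (P ⊞ P') := by
  refine ff_of_jointly_epi (κ := Bool) (fun b => if b then P else P')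
    (fun b => match b with
      | true => biprod.inl
      | false => biprod.inr) ?_ ?_
  · intro B x y hxy
    apply biprod.hom_ext'
    · exact hxy true
    · exact hxy false
  · intro b
    cases b
    · exact h'
    · exact h

/-- transfer of `FF` along an adjunction `L ⊣ R` with `R` additive, preserving coproducts, mapping `Q` to `Q'` -/
lemma ff_of_adjunction {D : Type u'} [Category.{v'} D] [Preadditive D] {Q' : D → Prop}
    {L : D ⥤ C} {R : C ⥤ D} (adj : L ⊣ R) [R.Additive]
    (hQ : ∀ M, Q M → Q' (R.obj M))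
    (hR : ∀ (ι : Type w), PreservesColimitsOfShape (Discrete ι) R)
    {P : D} (h : FF.{w} Q' P) : FF.{w} Q (L.obj P) := by
  intro ι M hM A g hc x
  have := hR ι
  have hc' : IsColimit (Cofan.mk (R.obj A) (fun i => R.map (g i))) :=
    isColimitCofanMkObjOfIsColimit R _ _ hc
  obtain ⟨S, hS⟩ := h ι (fun i => R.obj (M i)) (fun i => hQ _ (hM i)) (R.obj A)
    (fun i => R.map (g i)) hc' (adj.homEquiv P A x)
  refine ⟨S, (adj.homEquiv P A).injective ?_⟩
  rw [adj.homEquiv_naturality_right, map_eS g hc R hc' S]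
  exact hS

end FF

section Tri

variable [HasZeroObject C] [HasShift C ℤ] [∀ n : ℤ, (shiftFunctor C n).Additive] [Pretriangulated C]
  {Q : C → Prop}

open Pretriangulated

/-- the middle term of a distinguished triangle with `FF` outer terms is `FF` -/
lemma ff_of_triangle (T : Triangle C) (hT : T ∈ distTriang C) (h₁ : FF.{w} Q T.obj₁)
    (h₃ : FF.{w} Q T.obj₃) : FF.{w} Q T.obj₂ := by
  classical
  intro ι M hM A g hc x
  obtain ⟨S₁, hS₁⟩ := h₁ ι M hM A g hc (T.mor₁ ≫ x)
  have hy : T.mor₁ ≫ (x - x ≫ eS g hc S₁) = 0 := by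
    rw [Preadditive.comp_sub, ← Category.assoc, hS₁, sub_self]
  obtain ⟨z, hz⟩ := Triangle.yoneda_exact₂ T hT _ hy
  obtain ⟨S₃, hS₃⟩ := h₃ ι M hM A g hc z
  refine ⟨S₁ ∪ S₃, ?_⟩
  have e1 : eS g hc S₁ ≫ eS g hc (S₁ ∪ S₃) = eS g hc S₁ :=
    eS_comp_of_subset g hc Finset.subset_union_left
  have h3 : (x - x ≫ eS g hc S₁) ≫ eS g hc (S₁ ∪ S₃) = x - x ≫ eS g hc S₁ := by
    rw [hz, Category.assoc, comp_eS_of_subset g hc Finset.subset_union_right hS₃]
  rw [Preadditive.sub_comp, Category.assoc, e1] at h3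
  exact sub_left_injective h3

/-- `FF` is stable under shifts when `Q` is -/
lemma ff_shift (hQ : ∀ (M : C) (n : ℤ), Q M → Q (M⟦n⟧)) {P : C} (h : FF.{w} Q P) (n : ℤ) :
    FF.{w} Q (P⟦n⟧) := by
  have adj : shiftFunctor C n ⊣ shiftFunctor C (-n) :=
    (shiftEquiv' C n (-n) (by omega)).toAdjunction
  have hE : (shiftFunctor C (-n)).IsEquivalence :=
    inferInstanceAs (shiftEquiv' C n (-n) (by omega)).inverse.IsEquivalence
  exact ff_of_adjunction adj (fun M hM => hQ M (-n) hM) (fun ι => inferInstance) h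

end Tri

end Groth.Agent.Lib.Helper25.FinFac
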