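import Mathlib
import Groth.Agent.Lib.Helper25.FinFac

/-!
# A functor commutes with coproducts "as seen from compact test objects" (helper25)

Abstract core of "`Rf_*` commutes with direct sums on `D_QCoh`".  Setting: an additive functor `F : 𝒳 ⥤ 𝒮`,
an adjunction `adjV : jl ⊣ jr` (`jl : 𝒱 ⥤ 𝒮`) and a left adjoint `adj1 : L ⊣ F ⋙ jr`; a family `K i` in `𝒳` with
coproduct `(A, g)`, a coproduct `(B, g')` of the `F (K i)` and the comparison map `θ : B ⟶ F A`.

* `theta_proj`: `θ ≫ F(proj k) = proj' k`.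
* `bijective_comp_theta`: if `jl N` and `L N` have the finite support property `FinFac.FF` (with respect to
  classes `QS`, `QX` containing the `F (K i)`, resp. the `K i`), then composition with `θ` is a bijection
  `Hom(jl N, B) → Hom(jl N, F A)`.
-/

set_option autoImplicit false
universe w
open CategoryTheory CategoryTheory.Limits

namespace Groth.Agent.Lib.Helper25.QCCAbstract

open Groth.Agent.Lib.Helper25.FinFac

variable {𝒳 : Type*} [Category 𝒳] [Preadditive 𝒳] {𝒮 : Type*} [Category 𝒮] [Preadditive 𝒮]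
  {𝒱 : Type*} [Category 𝒱] (F : 𝒳 ⥤ 𝒮) [F.Additive]
  {ι : Type w} {K : ι → 𝒳} {A : 𝒳} (g : ∀ i, K i ⟶ A) (hc : IsColimit (Cofan.mk A g))
  {B : 𝒮} (g' : ∀ i, F.obj (K i) ⟶ B) (hc' : IsColimit (Cofan.mk B g')) (θ : B ⟶ F.obj A)
  (hθ : ∀ i, g' i ≫ θ = F.map (g i))

include hθ in
lemma theta_proj (k : ι) : θ ≫ F.map (proj g hc k) = proj g' hc' k := by
  apply hom_ext' g' hc'
  intro i
  rw [← Category.assoc, hθ, ← F.map_comp]
  by_cases hik : i = k
  · subst hik
    rw [inj_proj_self, inj_proj_self, F.map_id]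
  · rw [inj_proj_of_ne g hc hik, inj_proj_of_ne g' hc' hik, F.map_zero]

variable {jl : 𝒱 ⥤ 𝒮} {jr : 𝒮 ⥤ 𝒱} (adjV : jl ⊣ jr) {L : 𝒱 ⥤ 𝒳} (adj1 : L ⊣ F ⋙ jr)
  {QX : 𝒳 → Prop} {QS : 𝒮 → Prop} (hF : ∀ M, QX M → QS (F.obj M)) (hK : ∀ i, QX (K i))
  (N : 𝒱) (h1 : FF.{w} QS (jl.obj N)) (h2 : FF.{w} QX (L.obj N))

include hθ adjV adj1 hF hK h1 h2 hc hc' in
theorem bijective_comp_theta : Function.Bijective (fun y : jl.obj N ⟶ B => y ≫ θ) := by
  classical
  constructor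
  · have hz : ∀ d : jl.obj N ⟶ B, d ≫ θ = 0 → d = 0 := by
      intro d hd
      obtain ⟨S, hS⟩ := h1 ι (fun i => F.obj (K i)) (fun i => hF _ (hK i)) B g' hc' d
      rw [eq_sum_of_comp_eS g' hc' hS]
      apply Finset.sum_eq_zero
      intro i _
      rw [← theta_proj F g hc g' hc' θ hθ i, ← Category.assoc d, hd, zero_comp, zero_comp]
    intro y y' h
    have h1 : (y - y') ≫ θ = 0 := by
      rw [Preadditive.sub_comp]
      exact sub_eq_zero.mpr h
    exact sub_eq_zero.mp (hz _ h1)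
  · intro z
    -- transport `z` to `L N ⟶ A`
    let Ψ : ∀ M : 𝒳, (jl.obj N ⟶ F.obj M) ≃ (L.obj N ⟶ M) := fun M =>
      (adjV.homEquiv N (F.obj M)).trans (adj1.homEquiv N M).symm
    have hΨ : ∀ {M M' : 𝒳} (y : jl.obj N ⟶ F.obj M) (m : M ⟶ M'),
        Ψ M' (y ≫ F.map m) = Ψ M y ≫ m := by
      intro M M' y m
      dsimp only [Ψ, Equiv.trans_apply]
      rw [adjV.homEquiv_naturality_right]
      exact adj1.homEquiv_naturality_right_symm _ _
    obtain ⟨S, hS⟩ := h2 ι K hK A g hc (Ψ A z)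
    have hz : z ≫ F.map (eS g hc S) = z := by
      apply (Ψ A).injective
      rw [hΨ, hS]
    refine ⟨∑ i ∈ S, (z ≫ F.map (proj g hc i)) ≫ g' i, ?_⟩
    change (∑ i ∈ S, (z ≫ F.map (proj g hc i)) ≫ g' i) ≫ θ = z
    rw [Preadditive.sum_comp]
    conv_rhs => rw [← hz, eS_eq_sum, Functor.map_sum, Preadditive.comp_sum]
    apply Finset.sum_congr rfl
    intro i _
    rw [Category.assoc, hθ, F.map_comp, Category.assoc]

end Groth.Agent.Lib.Helper25.QCCAbstract
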