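import Mathlib
import Groth.Agent.Lib.Helper23.DCoprod6

/-!
# Cohomology of coproducts in the derived category (AB4)

Using helper23's model `Q (sig K)` of the coproduct in `D(A)` (termwise coproduct of complexes, `DCoprod`): the homology
of `sig K` is the colimit of the homology of the family complex (`sigHomologyIso`), so any property of objects of `A`
stable under coproducts and isomorphisms passes from the `Hⁿ(X j)` to `Hⁿ(∐ X)` (`prop_homology_coprod`).
-/

set_option autoImplicit false
universe w w' v u
open CategoryTheory CategoryTheory.Limits DerivedCategory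

namespace Groth.Agent.Lib.helper25.DCoprodHomology

open Groth.Agent.Lib.helper23.DCoprod

variable {A : Type u} [Category.{v} A] [Abelian A] {J : Type w}
  [HasCoproductsOfShape J A] [HasExactColimitsOfShape (Discrete J) A]

/-- the homology of the family complex, evaluated at `j` -/
noncomputable def famHomologyIso (K : J → CochainComplex A ℤ) (n : ℤ) (j : J) :
    ((fam K).homology n).obj ⟨j⟩ ≅ (K j).homology n :=
  (((fam K).sc n).mapHomologyIso ((evaluation (Discrete J) A).obj ⟨j⟩)).symm ≪≫
    ShortComplex.homologyMapIso (ShortComplex.isoMk (Iso.refl _) (Iso.refl _) (Iso.refl _)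
      ((Category.id_comp _).trans (Category.comp_id _).symm)
      ((Category.id_comp _).trans (Category.comp_id _).symm))


/-- the homology of the termwise coproduct is the colimit of the homology of the family complex -/
noncomputable def sigHomologyIso (K : J → CochainComplex A ℤ) (n : ℤ) :
    (sig K).homology n ≅ colimit ((fam K).homology n) :=
  haveI : PreservesFiniteLimits (colim (J := Discrete J) (C := A)) :=
    HasExactColimitsOfShape.preservesFiniteLimits
  ((fam K).sc n).mapHomologyIso (colim (J := Discrete J) (C := A))

/-- a property of objects stable under coproducts passes to the homology of the termwise coproduct -/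
lemma prop_homology_sig (P : ObjectProperty A) [P.IsClosedUnderIsomorphisms]
    (hP : ∀ (M : J → A), (∀ j, P (M j)) → P (∐ M)) (K : J → CochainComplex A ℤ) (n : ℤ)
    (hK : ∀ j, P ((K j).homology n)) : P ((sig K).homology n) := by
  let H : Discrete J ⥤ A := (fam K).homology n
  have e1 : colimit H ≅ ∐ (fun j => H.obj ⟨j⟩) :=
    HasColimit.isoOfNatIso (Discrete.natIsoFunctor (F := H))
  refine P.prop_of_iso (sigHomologyIso K n ≪≫ e1).symm (hP _ (fun j => ?_))
  exact P.prop_of_iso (famHomologyIso K n j).symm (hK j)

variable [HasDerivedCategory.{w'} A]

/-- the coproduct in `D(A)` is `Q` of the termwise coproduct of representatives -/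
lemma nonempty_coprod_iso (X : J → DerivedCategory A) [HasCoproduct X] :
    Nonempty (∐ X ≅ Q.obj (sig (fun j => Q.objPreimage (X j)))) := by
  let K : J → CochainComplex A ℤ := fun j => Q.objPreimage (X j)
  have e : Discrete.functor (fun j => (Q (C := A)).obj (K j)) ≅ Discrete.functor X :=
    Discrete.natIso (fun j => Q.objObjPreimageIso (X j.as))
  exact ⟨(IsColimit.coconePointsIsoOfNatIso (isColimitCofan K) (colimit.isColimit _) e).symm⟩

/-- a property of objects of `A` stable under coproducts passes to the cohomology of coproducts in `D(A)` -/
theorem prop_homology_coprod (P : ObjectProperty A) [P.IsClosedUnderIsomorphisms]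
    (hP : ∀ (M : J → A), (∀ j, P (M j)) → P (∐ M)) (X : J → DerivedCategory A) [HasCoproduct X] (n : ℤ)
    (hX : ∀ j, P ((homologyFunctor A n).obj (X j))) : P ((homologyFunctor A n).obj (∐ X)) := by
  obtain ⟨e⟩ := nonempty_coprod_iso X
  let K : J → CochainComplex A ℤ := fun j => Q.objPreimage (X j)
  have h1 : ∀ j, P ((K j).homology n) := fun j =>
    P.prop_of_iso ((homologyFunctor A n).mapIso (Q.objObjPreimageIso (X j)).symm ≪≫
      (homologyFunctorFactors A n).app (K j)) (hX j)
  have h2 := prop_homology_sig P hP K n h1
  exact P.prop_of_iso (((homologyFunctor A n).mapIso e ≪≫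
    (homologyFunctorFactors A n).app (sig K)).symm) h2

end Groth.Agent.Lib.helper25.DCoprodHomology
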