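import Mathlib
import Groth.Agent.Lib.Helper25.DCoprodHomology

/-!
# The cohomology functors of `D(A)` preserve coproducts (AB4) (helper25)

`A` abelian with exact coproducts of shape `J`.
* `evToColim j`: the natural transformation `ev_j ⟶ colim` on `Discrete J ⥤ A`.
* `ι_homology_eq`: `colimit.ι` of the homology of the family complex, through `famHomologyIso`, `sigHomologyIso`
  is the map induced on homology by the inclusion `sigι K j` of a summand of the termwise coproduct.
* `isColimitHomologySig`: `(H^n(sig K), H^n(sigι K j))` is a coproduct cofan in `A`.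
* `isColimit_homology_cofan`: for every colimit cofan `(Z, g)` of a family `X` in `D(A)`,
  `(H^n(Z), H^n(g j))` is a colimit cofan in `A`;
  `preservesColimitsOfShape_homologyFunctor`.
-/

set_option autoImplicit false
universe w w' v u
open CategoryTheory CategoryTheory.Limits DerivedCategory

namespace Groth.Agent.Lib.helper25.DCoprodHomology

open Groth.Agent.Lib.helper23.DCoprod

variable {A : Type u} [Category.{v} A] [Abelian A] {J : Type w}
  [HasCoproductsOfShape J A] [HasExactColimitsOfShape (Discrete J) A]

/-- the natural transformation from evaluation at `j` to the colimit functor -/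
noncomputable def evToColim (j : J) :
    (evaluation (Discrete J) A).obj ⟨j⟩ ⟶ colim (J := Discrete J) (C := A) where
  app F := colimit.ι F ⟨j⟩
  naturality _ _ f := (ι_colimMap f ⟨j⟩).symm

lemma ι_homology_eq (K : J → CochainComplex A ℤ) (n : ℤ) (j : J) :
    colimit.ι ((fam K).homology n) ⟨j⟩ =
      (famHomologyIso K n j).hom ≫ HomologicalComplex.homologyMap (sigι K j) n ≫
        (sigHomologyIso K n).hom := by
  haveI : PreservesFiniteLimits (colim (J := Discrete J) (C := A)) :=
    HasExactColimitsOfShape.preservesFiniteLimits
  have h := NatTrans.app_homology (evToColim (A := A) j) ((fam K).sc n)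
  refine h.trans ?_
  dsimp only [famHomologyIso, sigHomologyIso, Iso.trans_hom, Iso.symm_hom]
  rw [Category.assoc]
  congr 1
  rw [← Category.assoc]
  congr 1
  dsimp only [ShortComplex.homologyMapIso]
  change _ = ShortComplex.homologyMap _ ≫ ShortComplex.homologyMap _
  rw [← ShortComplex.homologyMap_comp]
  congr 1
  ext
  · exact (Category.id_comp _).symm
  · exact (Category.id_comp _).symm
  · exact (Category.id_comp _).symm

lemma existsUnique_desc_homology (K : J → CochainComplex A ℤ) (n : ℤ) {Z : A}
    (φ : ∀ j, (K j).homology n ⟶ Z) :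
    ∃! f : (sig K).homology n ⟶ Z, ∀ j, HomologicalComplex.homologyMap (sigι K j) n ≫ f = φ j := by
  let H : Discrete J ⥤ A := (fam K).homology n
  let c : Cocone H := ⟨Z, Discrete.natTrans (fun j => (famHomologyIso K n j.as).hom ≫ φ j.as)⟩
  have hkey : ∀ j, HomologicalComplex.homologyMap (sigι K j) n ≫ (sigHomologyIso K n).hom =
      (famHomologyIso K n j).inv ≫ colimit.ι H ⟨j⟩ := by
    intro j
    rw [ι_homology_eq K n j, Iso.inv_hom_id_assoc]
  refine ⟨(sigHomologyIso K n).hom ≫ colimit.desc H c, ?_, ?_⟩
  · intro j
    rw [← Category.assoc, hkey j, Category.assoc, colimit.ι_desc]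
    change (famHomologyIso K n j).inv ≫ (famHomologyIso K n j).hom ≫ φ j = φ j
    rw [Iso.inv_hom_id_assoc]
  · intro m hm
    rw [← cancel_epi (sigHomologyIso K n).inv, Iso.inv_hom_id_assoc]
    apply colimit.hom_ext
    rintro ⟨j⟩
    rw [colimit.ι_desc, ι_homology_eq K n j, Category.assoc, Category.assoc, Iso.hom_inv_id_assoc,
      hm j]
    rfl

/-- the cohomology of the termwise coproduct is the coproduct of the cohomologies -/
noncomputable def isColimitHomologySig (K : J → CochainComplex A ℤ) (n : ℤ) :
    IsColimit (Cofan.mk ((sig K).homology n)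
      (fun j => HomologicalComplex.homologyMap (sigι K j) n)) :=
  Cofan.IsColimit.mk _ (fun t => (existsUnique_desc_homology K n t.inj).choose)
    (fun t j => (existsUnique_desc_homology K n t.inj).choose_spec.1 j)
    (fun t m hm => (existsUnique_desc_homology K n t.inj).choose_spec.2 m hm)

variable [HasDerivedCategory.{w'} A]

noncomputable instance preservesColimit_homologyFunctor_Q (K : J → CochainComplex A ℤ) (n : ℤ) :
    PreservesColimit (Discrete.functor (fun j => (Q (C := A)).obj (K j))) (homologyFunctor A n) := by
  refine preservesColimit_of_preserves_colimit_cocone (isColimitCofan K) ?_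
  refine (isColimitMapCoconeCofanMkEquiv (homologyFunctor A n) _ _).symm ?_
  let e := homologyFunctorFactors A n
  refine IsColimit.ofIsoColimit ((IsColimit.precomposeHomEquiv
    (Discrete.natIso (fun j => e.app (K j.as)) : Discrete.functor (fun j => (homologyFunctor A n).obj
      ((Q (C := A)).obj (K j))) ≅ Discrete.functor (fun j => (K j).homology n)) _).symm
      (isColimitHomologySig K n)) ?_
  refine Cocone.ext (e.app (sig K)).symm ?_
  rintro ⟨j⟩
  dsimp [Cofan.mk]
  have h2 : HomologicalComplex.homologyMap (sigι K j) n ≫ e.inv.app (sig K) =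
      e.inv.app (K j) ≫ (homologyFunctor A n).map (Q.map (sigι K j)) := e.inv.naturality (sigι K j)
  rw [Category.assoc]
  refine (congrArg (fun z => e.hom.app (K j) ≫ z) h2).trans ?_
  exact Iso.hom_inv_id_app_assoc e (K j) _

noncomputable instance preservesColimitsOfShape_homologyFunctor (n : ℤ) :
    PreservesColimitsOfShape (Discrete J) (homologyFunctor A n) where
  preservesColimit {F} := by
    let K : J → CochainComplex A ℤ := fun j => Q.objPreimage (F.obj ⟨j⟩)
    have e : Discrete.functor (fun j => (Q (C := A)).obj (K j)) ≅ F :=
      Discrete.natIso (fun j => Q.objObjPreimageIso (F.obj j))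
    exact preservesColimit_of_iso_diagram _ e

/-- `H^n` maps coproduct cofans of `D(A)` to coproduct cofans of `A` -/
noncomputable def isColimit_homology_cofan {X : J → DerivedCategory A} {Z : DerivedCategory A}
    (g : ∀ j, X j ⟶ Z) (hc : IsColimit (Cofan.mk Z g)) (n : ℤ) :
    IsColimit (Cofan.mk ((homologyFunctor A n).obj Z) (fun j => (homologyFunctor A n).map (g j))) :=
  isColimitCofanMkObjOfIsColimit (homologyFunctor A n) _ _ hc

end Groth.Agent.Lib.helper25.DCoprodHomology
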