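import Mathlib
import Groth.Agent.Lib.Helper25.HomAffineSections
import Groth.Agent.Lib.Helper25.RGZ4

/-!
# Countability of Hom groups out of perfect objects (helper25)

* `CK Y K`: `K ∈ D_QCoh(Y)` and the cohomology sheaves of `K` have countably many sections over every
  affine open; `ck_shift`, `ck_restrict`.
* `Cnt Y P`: `Hom(P, L)` is countable for all `L` with `CK Y L`; `cnt_of_iso`, `cnt_of_isZero`,
  `countable_of_exact`, `cnt_of_triangle`, `cnt_single_free`, `cnt_of_nice` (affine base case),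
  `cnt_of_cover` (Mayer–Vietoris step).
* `cnt_of_isPerfect`: `X` qcqs, `P` perfect ⟹ `Cnt X P` (by `PerfectInduction.perfect_induction`).
-/
set_option autoImplicit false
universe u
open CategoryTheory CategoryTheory.Limits AlgebraicGeometry Opposite
attribute [local instance] HasDerivedCategory.standard

namespace Groth.Agent.Lib.Helper25.HomCountable

open Pretriangulated DerivedCategory TopologicalSpace Scheme.Modules
open Groth.Agent.Lib.Helper25.HomVanAffine Groth.Agent.Lib.Helper25.HomVanApps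
  Groth.Agent.Lib.Helper25.HomVanMV Groth.Agent.Lib.Helper25.HomAffineSections

variable {Y : Scheme.{u}}

/-- `K ∈ D_QCoh(Y)` whose cohomology sheaves have countably many sections over affine opens -/
def CK (Y : Scheme.{u}) (K : DCoh.D Y) : Prop :=
  DCoh.IsQCohD K ∧ ∀ V : Y.Opens, IsAffineOpen V → ∀ i : ℤ,
    Countable ((DCoh.HD K i).val.obj (op V))

lemma ck_shift {K : DCoh.D Y} (h : CK Y K) (n : ℤ) : CK Y (K⟦n⟧) := by
  refine ⟨isQCohD_shift K h.1 n, fun V hV i => ?_⟩
  exact countable_sections_of_iso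
    (((homologyFunctor Y.Modules 0).shiftIso n i (i + n) (by omega)).app K) V (h.2 V hV (i + n))

lemma ck_restrict {K : DCoh.D Y} (h : CK Y K) (S : Y.Opens) :
    CK S ((DCoh.restrictD S.ι).obj K) := by
  refine ⟨Groth.Agent.Lib.Helper25.RGZ4.isQCohD_restrictD S.ι K h.1, fun V hV i => ?_⟩
  obtain ⟨e⟩ := Groth.Agent.Lib.Helper25.DerBC.nonempty_homology_mapDerivedCategory_iso
    (restrictFunctor S.ι) K i
  refine countable_sections_of_iso e V ?_
  exact h.2 (S.ι ''ᵁ V) (hV.image_of_isOpenImmersion S.ι) i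


/-- all `Hom(P, L)`, `L ∈ CK`, are countable -/
def Cnt (Y : Scheme.{u}) (P : DCoh.D Y) : Prop :=
  ∀ L : DCoh.D Y, CK Y L → Countable (P ⟶ L)

lemma cnt_of_iso {P P' : DCoh.D Y} (e : P ≅ P') (h : Cnt Y P) : Cnt Y P' := by
  intro L hL
  haveI := h L hL
  exact Function.Injective.countable (f := fun φ : P' ⟶ L => e.hom ≫ φ)
    (fun φ ψ hφ => (cancel_epi e.hom).1 hφ)

lemma cnt_of_isZero (P : DCoh.D Y) (hP : IsZero P) : Cnt Y P := by
  intro L _
  haveI : Subsingleton (P ⟶ L) := ⟨fun φ ψ => hP.eq_of_src _ _⟩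
  infer_instance

/-- the middle term of an exact sequence of abelian groups with countable outer terms is countable -/
lemma countable_of_exact {A B C : Type*} [AddGroup A] [AddGroup B] [AddGroup C] (f : A →+ B)
    (g : B →+ C) (hex : ∀ b, g b = 0 → ∃ a, f a = b) [Countable A] [Countable C] : Countable B := by
  classical
  -- a section of `g` over its range
  have hsec : ∀ b : B, ∃ b₀ : B, g b₀ = g b := fun b => ⟨b, rfl⟩
  let r : C → B := fun c => if h : ∃ b, g b = c then h.choose else 0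
  have hr : ∀ b, g (r (g b)) = g b := by
    intro b
    have h : ∃ b', g b' = g b := ⟨b, rfl⟩
    simp only [r, dif_pos h]
    exact h.choose_spec
  have hk : ∀ b, ∃ a, f a = b - r (g b) := fun b => hex _ (by rw [map_sub, hr, sub_self])
  choose k hk using hk
  refine Function.Injective.countable (f := fun b => (g b, k b)) ?_
  intro b b' h
  simp only [Prod.mk.injEq] at h
  have h1 : b - r (g b) = b' - r (g b') := by rw [← hk b, ← hk b', h.2]
  rw [h.1] at h1
  exact sub_left_injective h1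

lemma cnt_of_triangle (T : Triangle (DCoh.D Y)) (hT : T ∈ distTriang _)
    (h₁ : Cnt Y T.obj₁) (h₃ : Cnt Y T.obj₃) : Cnt Y T.obj₂ := by
  intro L hL
  haveI := h₁ L hL
  haveI := h₃ L hL
  let f : (T.obj₃ ⟶ L) →+ (T.obj₂ ⟶ L) :=
    { toFun := fun φ => T.mor₂ ≫ φ, map_zero' := comp_zero, map_add' := fun _ _ => Preadditive.comp_add _ _ _ _ _ _ }
  let g : (T.obj₂ ⟶ L) →+ (T.obj₁ ⟶ L) :=
    { toFun := fun φ => T.mor₁ ≫ φ, map_zero' := comp_zero, map_add' := fun _ _ => Preadditive.comp_add _ _ _ _ _ _ }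
  refine countable_of_exact f g (fun φ hφ => ?_)
  obtain ⟨ψ, hψ⟩ := Triangle.yoneda_exact₂ T hT φ hφ
  exact ⟨ψ, hψ.symm⟩


lemma cnt_single_free [IsAffine Y] (a : ℤ) (M : Y.Modules) (r : ℕ)
    (e : M ≅ FlatMod.freeMod Y r) : Cnt Y ((singleFunctor Y.Modules a).obj M) := by
  intro L hL
  let G := singleFunctor Y.Modules a
  haveI : Countable (G.obj (Coh.structureModule Y) ⟶ L) :=
    countable_hom_unit L hL.1 a (hL.2 ⊤ (isAffineOpen_top Y) a)
  refine Function.Injective.countable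
    (f := fun (φ : G.obj M ⟶ L) (j : Fin r) =>
      G.map (Sigma.ι (fun _ : Fin r => Coh.structureModule Y) j) ≫ G.map e.inv ≫ φ) ?_
  intro φ ψ h
  have h1 : ∀ j : Fin r, G.map (Sigma.ι (fun _ : Fin r => Coh.structureModule Y) j) ≫
      G.map e.inv ≫ (φ - ψ) = 0 := fun j => by
    rw [Preadditive.comp_sub, Preadditive.comp_sub]
    exact sub_eq_zero.mpr (congrFun h j)
  have h2 : G.map e.inv ≫ (φ - ψ) = 0 := by
    have h3 : G.map (𝟙 (FlatMod.freeMod Y r)) ≫ G.map e.inv ≫ (φ - ψ) = 0 := by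
      rw [← sum_prj_ι (Coh.structureModule Y), Functor.map_sum, Preadditive.sum_comp]
      apply Finset.sum_eq_zero
      intro i _
      rw [Functor.map_comp, Category.assoc, h1 i, comp_zero]
    rwa [CategoryTheory.Functor.map_id, Category.id_comp] at h3
  have : IsIso (G.map e.inv) := inferInstance
  exact sub_eq_zero.mp ((cancel_epi (G.map e.inv)).1 (h2.trans comp_zero.symm))

theorem cnt_of_nice [IsAffine Y] {P : DCoh.D Y} {c : ℤ}
    (h : Groth.Agent.Lib.Helper25.HomVanNice.Nice Y P c) : Cnt Y P :=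
  Groth.Agent.Lib.Helper25.NiceInduction.of_nice (Cnt Y) (fun e h => cnt_of_iso e h)
    cnt_of_isZero cnt_of_triangle cnt_single_free h


/-- **Mayer–Vietoris step** for countability of Hom groups. -/
theorem cnt_of_cover (U V : Y.Opens) (hUV : U ⊔ V = ⊤) (P : DCoh.D Y)
    (hU : Cnt U ((DCoh.restrictD U.ι).obj P)) (hV : Cnt V ((DCoh.restrictD V.ι).obj P))
    (hW : Cnt (U ⊓ V : Y.Opens) ((DCoh.restrictD (U ⊓ V).ι).obj P)) : Cnt Y P := by
  intro L hL
  haveI := Groth.Agent.Lib.Helper25.MVSupp.preservesFiniteLimits_extZero U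
  haveI := Groth.Agent.Lib.Helper25.MVSupp.preservesFiniteLimits_extZero V
  haveI := Groth.Agent.Lib.Helper25.MVSupp.preservesFiniteLimits_extZero (U ⊓ V)
  obtain ⟨a, b, d, hT⟩ := Groth.Agent.Lib.Helper25.MVShriek.exists_shriek_mv_triangle hUV P
  let adj : ∀ (T : Y.Opens) [PreservesFiniteLimits (CxOX.extZero T.ι)],
      CxOX.extZeroD T.ι ⊣ DCoh.restrictD T.ι := fun T _ =>
    Groth.Agent.Lib.helper25.DerivedAdj.mapDerivedCategoryAdj (CxOX.extZeroAdj T.ι)
  -- the two outer terms are countable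
  haveI c2 : Countable ((Triangle.mk a b d).obj₂ ⟶ L) := by
    haveI := hU _ (ck_restrict hL U)
    haveI := hV _ (ck_restrict hL V)
    haveI c2U := ((adj U).homEquiv ((DCoh.restrictD U.ι).obj P) L).injective.countable
    haveI c2V := ((adj V).homEquiv ((DCoh.restrictD V.ι).obj P) L).injective.countable
    refine Function.Injective.countable
      (f := fun φ : (Triangle.mk a b d).obj₂ ⟶ L => (biprod.inl ≫ φ, biprod.inr ≫ φ)) ?_
    intro φ ψ h
    simp only [Prod.mk.injEq] at h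
    exact biprod.hom_ext' _ _ h.1 h.2
  haveI c1 : Countable ((Triangle.mk a b d).obj₁⟦(1 : ℤ)⟧ ⟶ L) := by
    haveI := hW _ (ck_restrict (ck_shift hL (-1)) (U ⊓ V))
    let e₁ := (shiftEquiv (DCoh.D Y) (1 : ℤ)).toAdjunction.homEquiv
      ((CxOX.extZeroD (U ⊓ V).ι).obj ((DCoh.restrictD (U ⊓ V).ι).obj P)) L
    let e₂ := (adj (U ⊓ V)).homEquiv ((DCoh.restrictD (U ⊓ V).ι).obj P) (L⟦(-1 : ℤ)⟧)
    exact (e₁.trans e₂).injective.countable
  let f : ((Triangle.mk a b d).obj₁⟦(1 : ℤ)⟧ ⟶ L) →+ (P ⟶ L) :=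
    { toFun := fun φ => d ≫ φ, map_zero' := comp_zero,
      map_add' := fun _ _ => Preadditive.comp_add _ _ _ _ _ _ }
  let g : (P ⟶ L) →+ ((Triangle.mk a b d).obj₂ ⟶ L) :=
    { toFun := fun φ => b ≫ φ, map_zero' := comp_zero,
      map_add' := fun _ _ => Preadditive.comp_add _ _ _ _ _ _ }
  refine countable_of_exact f g (fun φ hφ => ?_)
  obtain ⟨ψ, hψ⟩ := Triangle.yoneda_exact₃ _ hT φ hφ
  exact ⟨ψ, hψ.symm⟩

/-- **Countability of Hom groups out of a perfect object** on a quasi-compact quasi-separated scheme. -/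
theorem cnt_of_isPerfect (X : Scheme.{u}) [CompactSpace X] [QuasiSeparatedSpace X] (P : DCoh.D X)
    (hP : DCoh.IsPerfect P) : Cnt X P :=
  Groth.Agent.Lib.Helper25.PerfectInduction.perfect_induction Cnt
    (fun _ _ _ _ h => cnt_of_nice h)
    (fun _ V W E hVW h1 h2 h3 => cnt_of_cover V W hVW E h1 h2 h3) X P hP

end Groth.Agent.Lib.Helper25.HomCountable
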