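import Mathlib
import Groth.Prelude.Def_ModSite
import Groth.Agent.Lib.Helper1.QcSections
import Groth.Agent.Lib.Helper21.ExtZeroHom

/-!
# Sections of a direct sum of modules over a quasi-compact open (helper25)

`(X, O)` a ringed space, `F : ι → ModSite.Mod O`.

* `exists_eS_of_isCompact`: a map `freeOn O W ⟶ ∐ F`, `W` a quasi-compact open, is fixed by one of helper1's
  idempotents `QcSections.eS F S` (from helper1's local finiteness `QcSections.exists_local_eS`).
* `exists_finset_sections`: for any colimit cofan `(Z, k)` of `F`, every section of `Z` over a quasi-compact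
  open `W` is a finite sum `∑ i ∈ S, k i (t i)` of sections of the `F i` over `W`.
* `eq_zero_of_sum_eq_zero`: such a finite sum vanishes only if all the `t i`, `i ∈ S`, vanish.
-/

set_option autoImplicit false
universe u
open CategoryTheory CategoryTheory.Limits Opposite TopologicalSpace

namespace Groth.Agent.Lib.Helper25.QCCSections

open Groth.Agent.H1.QcSections Groth.Agent.H1.FreeOnLoc Groth.Agent.Lib.Helper21.ModFree
  Groth.Agent.Lib.Helper21.ExtZeroHom Groth.Agent.H1.CoprodFiltered

variable {X : TopCat.{u}} (O : TopCat.Sheaf CommRingCat.{u} X) {ι : Type u} (F : ι → ModSite.Mod O)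

/-- over a quasi-compact open every map from the free module into a coproduct is finitely supported -/
theorem exists_eS_of_isCompact [HasCoproduct F] (W : Opens X) (hW : IsCompact (W : Set X))
    (x : ModSite.freeOn O W ⟶ ∐ F) : ∃ S : Finset (Discrete ι), x ≫ eS F S = x := by
  classical
  obtain ⟨T, hT, h⟩ := exists_local_eS O F W x
  have hcov : ∀ p : W, ∃ (V : Opens X) (f : V ⟶ W), T f ∧ p.1 ∈ V := fun p => hT p.1 p.2
  choose V f hTf hpV using hcov
  obtain ⟨t, ht⟩ := hW.elim_finite_subcover (fun p : W => (V p : Set X)) (fun p => (V p).2)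
    (fun q hq => Set.mem_iUnion.2 ⟨⟨q, hq⟩, hpV _⟩)
  choose Sg hSg using fun p : W => h (f p) (hTf p)
  refine ⟨t.biUnion Sg, ?_⟩
  let G : Sieve W :=
    { arrows := fun V h => (fmap O h ≫ x) ≫ eS F (t.biUnion Sg) = fmap O h ≫ x
      downward_closed := by
        intro V V' h hh k
        change (fmap O (k ≫ h) ≫ x) ≫ eS F (t.biUnion Sg) = fmap O (k ≫ h) ≫ x
        have hh' : (fmap O h ≫ x) ≫ eS F (t.biUnion Sg) = fmap O h ≫ x := hh
        rw [fmap_comp, Category.assoc, Category.assoc, ← Category.assoc (fmap O h), hh',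
          Category.assoc] }
  have hG : G ∈ Opens.grothendieckTopology X W := by
    intro q hq
    obtain ⟨p, hp, hqp⟩ : ∃ p ∈ t, q ∈ V p := by
      have := ht hq
      simpa using this
    exact ⟨V p, f p, comp_eS_of_subset F _ (Finset.subset_biUnion_of_mem Sg hp) (hSg p), hqp⟩
  apply hom_ext_of_cover O _ _ G hG
  intro V h hh
  rw [← Category.assoc]
  exact hh

/-- sections over a quasi-compact open of a coproduct are finite sums of sections of the summands -/
theorem exists_finset_sections (Z : ModSite.Mod O) (k : ∀ i, F i ⟶ Z) (hc : IsColimit (Cofan.mk Z k))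
    (W : Opens X) (hW : IsCompact (W : Set X)) (s : Z.val.obj (op W)) :
    ∃ (S : Finset ι) (t : ∀ i, (F i).val.obj (op W)), s = ∑ i ∈ S, (k i).val.app (op W) (t i) := by
  classical
  have : HasCoproduct F := ⟨⟨⟨_, hc⟩⟩⟩
  let e : ∐ F ≅ Z := (coproductIsCoproduct F).coconePointUniqueUpToIso hc
  have he : ∀ i, Sigma.ι F i ≫ e.hom = k i := fun i =>
    (coproductIsCoproduct F).comp_coconePointUniqueUpToIso_hom hc ⟨i⟩
  let x : ModSite.freeOn O W ⟶ ∐ F := (freeOnHomEquiv O W Z).symm s ≫ e.inv
  obtain ⟨S, hS⟩ := exists_eS_of_isCompact O F W hW x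
  obtain ⟨S', σ, hσ⟩ := exists_decomp_of_eS F x S hS
  refine ⟨S', fun i => freeOnHomEquiv O W _ (σ i), ?_⟩
  have h1 : (freeOnHomEquiv O W Z).symm s = ∑ i ∈ S', σ i ≫ k i := by
    have : (freeOnHomEquiv O W Z).symm s = x ≫ e.hom := by
      simp only [x, Category.assoc, Iso.inv_hom_id, Category.comp_id]
    rw [this, hσ, Preadditive.sum_comp]
    apply Finset.sum_congr rfl
    intro i _
    rw [Category.assoc, he]
  have h2 := congrArg (freeOnAddEquiv O W Z) h1
  rw [map_sum] at h2
  refine Eq.trans ?_ (h2.trans ?_)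
  · exact ((freeOnHomEquiv O W Z).apply_symm_apply s).symm
  · apply Finset.sum_congr rfl
    intro i _
    exact freeOnHomEquiv_comp O W (σ i) (k i)

/-- a finite sum of images of sections of the summands vanishes only if each section does -/
theorem eq_zero_of_sum_eq_zero (Z : ModSite.Mod O) (k : ∀ i, F i ⟶ Z) (hc : IsColimit (Cofan.mk Z k))
    (W : Opens X) (S : Finset ι) (t : ∀ i, (F i).val.obj (op W))
    (h : ∑ i ∈ S, (k i).val.app (op W) (t i) = 0) : ∀ i ∈ S, t i = 0 := by
  classical
  intro j hj
  let pj : Z ⟶ F j := Cofan.IsColimit.desc hc (fun i => if h : i = j then eqToHom (by rw [h]) else 0)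
  have hp : ∀ i, k i ≫ pj = if h : i = j then eqToHom (by rw [h]) else 0 := fun i =>
    Cofan.IsColimit.fac hc _ i
  have h1 := congrArg (fun z => pj.val.app (op W) z) h
  simp only [map_sum, map_zero] at h1
  rw [Finset.sum_eq_single j] at h1
  · have h2 : (k j ≫ pj).val.app (op W) (t j) = t j := by
      rw [hp j, dif_pos rfl]
      rfl
    exact h2.symm.trans h1
  · intro i _ hij
    have h2 : (k i ≫ pj).val.app (op W) (t i) = 0 := by
      rw [hp i, dif_neg hij]
      rfl
    exact h2
  · intro hj'
    exact absurd hj hj'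

end Groth.Agent.Lib.Helper25.QCCSections
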