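import Mathlib
import Groth.Agent.Lib.Helper25.FinFac
import Groth.Agent.Lib.Helper25.QCCEv
import Groth.Agent.Lib.Helper25.QCCSections
import Groth.Agent.Lib.Helper25.DCoprodHomology2
import Groth.Agent.Lib.Helper25.QCohCoprod
import Groth.Agent.Lib.Helper25.HomCountable
import Groth.Agent.Lib.Helper25.SchKInj2
import Groth.Agent.Lib.Helper21.ModGroth

/-!
# Perfect objects are compact with respect to coproducts in `D_QCoh` (helper25)

`QFF Y P`: every map from `P` to a coproduct in `D(O_Y)` of a (`u`-small) family of objects of `D_QCoh(O_Y)`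
is supported on finitely many summands (`FinFac.FF`).

* `exactCoprod`, `isQCohD_of_isColimit` (a coproduct in `D(O_Y)` of objects of `D_QCoh` is in `D_QCoh`).
* `qff_Sp`: `O_Y[-p]` on an affine scheme (`QCCEv.bijective_ev` + quasi-compactness `QCCSections`).
* `qff_single_free`, `qff_of_nice`: bounded complexes of finite free modules on an affine scheme.
* `qff_extZeroD`: `j_!` preserves `QFF` (adjunction `j_! ⊣ j^*`).
* `qff_of_cover`: Mayer–Vietoris step.
* `qff_of_isPerfect`: perfect objects on a quasi-compact quasi-separated scheme.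
-/
set_option autoImplicit false
universe u
open CategoryTheory CategoryTheory.Limits AlgebraicGeometry Opposite
attribute [local instance] HasDerivedCategory.standard

namespace Groth.Agent.Lib.Helper25.QCCPerfect

open Pretriangulated DerivedCategory TopologicalSpace Scheme.Modules
open Groth.Agent.Lib.Helper25.FinFac Groth.Agent.Lib.Helper25.QCCEv
  Groth.Agent.Lib.Helper25.HomVanAffine Groth.Agent.Lib.Helper25.HomVanMV

/-- finite support of maps into coproducts of objects of `D_QCoh` -/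
def QFF (Y : Scheme.{u}) (P : DCoh.D Y) : Prop :=
  FF.{u} (fun K : DCoh.D Y => DCoh.IsQCohD K) P

variable {Y : Scheme.{u}}

lemma exactCoprod (Y : Scheme.{u}) (ι : Type u) : HasExactColimitsOfShape (Discrete ι) Y.Modules := by
  haveI : HasFiniteBiproducts Y.Modules := Abelian.hasFiniteBiproducts
  haveI : AB5OfSize.{u, u} Y.Modules := Groth.Agent.Lib.Helper21.ModGroth.ab5_mod Y.ringCatSheaf
  haveI : HasFilteredColimitsOfSize.{u, u} Y.Modules := inferInstance
  haveI h4 : AB4OfSize.{u} Y.Modules := AB4.of_AB5 Y.Modules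
  exact h4.ofShape ι

/-- a coproduct in `D(O_Y)` of objects of `D_QCoh` is in `D_QCoh` -/
lemma isQCohD_of_isColimit {ι : Type u} (M : ι → DCoh.D Y) (hM : ∀ i, DCoh.IsQCohD (M i))
    (A : DCoh.D Y) (g : ∀ i, M i ⟶ A) (hc : IsColimit (Cofan.mk A g)) : DCoh.IsQCohD A := by
  haveI := exactCoprod Y ι
  haveI : HasCoproduct M := ⟨⟨⟨_, hc⟩⟩⟩
  intro n
  let P : ObjectProperty Y.Modules := SheafOfModules.isQuasicoherent Y.ringCatSheaf
  haveI : P.IsClosedUnderIsomorphisms :=
    inferInstanceAs (SheafOfModules.isQuasicoherent Y.ringCatSheaf).IsClosedUnderIsomorphisms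
  have h := Groth.Agent.Lib.helper25.DCoprodHomology.prop_homology_coprod (A := Y.Modules) P
    (fun M hM => Groth.Agent.Lib.helper25.QCohCoprod.isQuasicoherent_coproduct Y M hM) M n
    (fun j => hM j n)
  let e : ∐ M ≅ A := (coproductIsCoproduct M).coconePointUniqueUpToIso hc
  exact P.prop_of_iso ((homologyFunctor Y.Modules n).mapIso e) h

/-- `O_Y[-p]` is compact with respect to coproducts in `D_QCoh` on an affine scheme -/
theorem qff_Sp [IsAffine Y] (p : ℤ) : QFF Y (Sp Y p) := by
  apply ff_of_exists_sum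
  intro ι M hM A g hc x
  haveI := exactCoprod Y ι
  have hA : DCoh.IsQCohD A := isQCohD_of_isColimit M hM A g hc
  have hcH := Groth.Agent.Lib.helper25.DCoprodHomology.isColimit_homology_cofan g hc p
  obtain ⟨S, t, ht⟩ := Groth.Agent.Lib.Helper25.QCCSections.exists_finset_sections Y.sheaf
    (fun i => DCoh.HD (M i) p) (DCoh.HD A p) (fun i => (homologyFunctor Y.Modules p).map (g i)) hcH
    ⊤ isCompact_univ (ev p x)
  choose σ hσ using fun i => (bijective_ev p (M i) (hM i)).2 (t i)
  refine ⟨S, σ, (bijective_ev p A hA).1 ?_⟩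
  rw [ev_sum, ht]
  apply Finset.sum_congr rfl
  intro i _
  rw [ev_comp, hσ]

lemma qff_single_free [IsAffine Y] (a : ℤ) (M : Y.Modules) (r : ℕ)
    (e : M ≅ FlatMod.freeMod Y r) : QFF Y ((singleFunctor Y.Modules a).obj M) := by
  let G := singleFunctor Y.Modules a
  refine ff_of_jointly_epi (κ := Fin r) (fun _ => Sp Y a)
    (fun j => G.map (Sigma.ι (fun _ : Fin r => Coh.structureModule Y) j) ≫ G.map e.inv) ?_
    (fun _ => qff_Sp a)
  intro B φ ψ h
  have h1 : ∀ j : Fin r, G.map (Sigma.ι (fun _ : Fin r => Coh.structureModule Y) j) ≫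
      G.map e.inv ≫ (φ - ψ) = 0 := fun j => by
    rw [Preadditive.comp_sub, Preadditive.comp_sub, ← Category.assoc, ← Category.assoc]
    exact sub_eq_zero.mpr (h j)
  have h2 : G.map e.inv ≫ (φ - ψ) = 0 := by
    have h3 : G.map (𝟙 (FlatMod.freeMod Y r)) ≫ G.map e.inv ≫ (φ - ψ) = 0 := by
      rw [← sum_prj_ι (Coh.structureModule Y), Functor.map_sum, Preadditive.sum_comp]
      apply Finset.sum_eq_zero
      intro i _
      rw [Functor.map_comp, Category.assoc, h1 i, comp_zero]
    rwa [CategoryTheory.Functor.map_id, Category.id_comp] at h3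
  have : IsIso (G.map e.inv) := inferInstance
  exact sub_eq_zero.mp ((cancel_epi (G.map e.inv)).1 (h2.trans comp_zero.symm))

theorem qff_of_nice [IsAffine Y] {P : DCoh.D Y} {c : ℤ}
    (h : Groth.Agent.Lib.Helper25.HomVanNice.Nice Y P c) : QFF Y P :=
  Groth.Agent.Lib.Helper25.NiceInduction.of_nice (QFF Y) (fun e h => ff_of_iso e h)
    (fun _ hP => ff_of_isZero hP) (fun T hT h₁ h₃ => ff_of_triangle T hT h₁ h₃) qff_single_free h

/-- `j_!` preserves `QFF` -/
lemma qff_extZeroD (T : Y.Opens) [PreservesFiniteLimits (CxOX.extZero T.ι)] {P : DCoh.D T}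
    (h : QFF T P) : QFF Y ((CxOX.extZeroD T.ι).obj P) := by
  let adj : CxOX.extZeroD T.ι ⊣ DCoh.restrictD T.ι :=
    Groth.Agent.Lib.helper25.DerivedAdj.mapDerivedCategoryAdj (CxOX.extZeroAdj T.ι)
  haveI : DCoh.HasRpush T.ι := Groth.Agent.Lib.Helper25.SchKInj.hasRpush _
  obtain ⟨adj'⟩ := Groth.Agent.Lib.Helper25.RGZ1.nonempty_adj T.ι
  refine ff_of_adjunction adj
    (fun M hM => Groth.Agent.Lib.Helper25.RGZ4.isQCohD_restrictD T.ι M hM) (fun ι => ?_) h
  have := adj'.leftAdjoint_preservesColimits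
  infer_instance

/-- **Mayer–Vietoris step** -/
theorem qff_of_cover (U V : Y.Opens) (hUV : U ⊔ V = ⊤) (P : DCoh.D Y)
    (hU : QFF U ((DCoh.restrictD U.ι).obj P)) (hV : QFF V ((DCoh.restrictD V.ι).obj P))
    (hW : QFF (U ⊓ V : Y.Opens) ((DCoh.restrictD (U ⊓ V).ι).obj P)) : QFF Y P := by
  haveI := Groth.Agent.Lib.Helper25.MVSupp.preservesFiniteLimits_extZero U
  haveI := Groth.Agent.Lib.Helper25.MVSupp.preservesFiniteLimits_extZero V
  haveI := Groth.Agent.Lib.Helper25.MVSupp.preservesFiniteLimits_extZero (U ⊓ V)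
  obtain ⟨a, b, d, hT⟩ := Groth.Agent.Lib.Helper25.MVShriek.exists_shriek_mv_triangle hUV P
  have hT' := rot_of_distTriang _ hT
  refine ff_of_triangle _ hT' ?_ ?_
  · exact ff_biprod (qff_extZeroD U hU) (qff_extZeroD V hV)
  · exact ff_shift (fun M n hM => isQCohD_shift M hM n) (qff_extZeroD (U ⊓ V) hW) 1

/-- perfect objects on a quasi-compact quasi-separated scheme are compact with respect to coproducts in
`D_QCoh` -/
theorem qff_of_isPerfect (X : Scheme.{u}) [CompactSpace X] [QuasiSeparatedSpace X] (P : DCoh.D X)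
    (hP : DCoh.IsPerfect P) : QFF X P :=
  Groth.Agent.Lib.Helper25.PerfectInduction.perfect_induction QFF
    (fun _ _ _ _ h => qff_of_nice h)
    (fun _ V W E hVW h1 h2 h3 => qff_of_cover V W hVW E h1 h2 h3) X P hP

end Groth.Agent.Lib.Helper25.QCCPerfect
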