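import Mathlib
import Groth.Agent.Lib.Helper25.QCCPerfect
import Groth.Agent.Lib.Helper25.QCCAbstract
import Groth.Agent.Lib.Helper25.LpullRpushAdj
import Groth.Agent.Lib.Helper25.LpullPerfect
import Groth.Agent.Lib.Helper25.RpushQC
import Groth.Agent.Lib.Helper25.FLFKernel
import Groth.Agent.Lib.Helper7.QCohZero

/-!
# `Rf_*` commutes with direct sums on `D_QCoh` (helper25)

* `isPerfect_Sp`: `O_Y[-p]` is perfect.
* `additive_Rpush`.
* `isZero_of_hom_eq_zero`: `C ∈ D_QCoh(S)` with `Hom(O_V[-n], C|_V) = 0` for all affine opens `V` and all `n`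
  is zero (the objects `j_{V!} O_V[-n]` generate `D_QCoh(S)`).
* `bijective_comp_sigmaDesc`: for `f : X ⟶ S` quasi-compact quasi-separated, `V ⊆ S` affine open and `N` perfect
  on `V`, composition with `θ : ∐ Rf_* K_i ⟶ Rf_* ∐ K_i` is bijective on `Hom(j_{V!} N, -)`.
* `isIso_sigmaDesc_Rpush` (S1000).
-/
set_option autoImplicit false
universe u
open CategoryTheory CategoryTheory.Limits AlgebraicGeometry Opposite
attribute [local instance] HasDerivedCategory.standard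

namespace Groth.Agent.Lib.Helper25.QCCRpush

open Pretriangulated DerivedCategory TopologicalSpace Scheme.Modules
open Groth.Agent.Lib.Helper25.FinFac Groth.Agent.Lib.Helper25.QCCEv
  Groth.Agent.Lib.Helper25.QCCPerfect Groth.Agent.Lib.Helper25.HomVanMV
  Groth.Agent.Lib.helper25.DCohRestrict

/-- `O_Y[-p]` is perfect -/
theorem isPerfect_Sp (Y : Scheme.{u}) (p : ℤ) : DCoh.IsPerfect (Sp Y p) := by
  intro x
  let F₀ : CochainComplex Y.Modules ℤ :=
    (HomologicalComplex.single Y.Modules (ComplexShape.up ℤ) p).obj (Coh.structureModule Y)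
  have hF₀ : DCoh.IsStrictlyPerfect F₀ := by
    refine ⟨⟨p, p, fun i hi => ?_⟩, fun i => ?_⟩
    · exact HomologicalComplex.isZero_single_obj_X (ComplexShape.up ℤ) p _ i (by omega)
    · by_cases hi : i = p
      · subst hi
        exact Groth.Agent.Lib.helper16.FLF.isFinLocFree_of_iso
          (HomologicalComplex.singleObjXSelf (ComplexShape.up ℤ) i (Coh.structureModule Y)).symm
          (Groth.Agent.Lib.helper16.FLF.isFinLocFree_structureModule Y)
      · exact Groth.Agent.Lib.helper25.FLFKernel.isFinLocFree_of_isZero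
          (HomologicalComplex.isZero_single_obj_X (ComplexShape.up ℤ) p _ i hi)
  exact isPerfect_at_of_openImmersion (Sp Y p) x (𝟙 Y) (by simp) F₀
    ⟨((singleFunctorIsoCompQ Y.Modules p).app _).symm⟩ _ (isStrictlyPerfect_res (𝟙 Y) hF₀)
    ⟨Iso.refl _⟩

/-- `Rf_*` is additive (it is a right adjoint) -/
theorem additive_Rpush {X S : Scheme.{u}} (f : X ⟶ S) [DCoh.HasRpush f] : (DCoh.Rpush f).Additive := by
  haveI : DCoh.HasLpull f := Groth.Agent.Lib.Helper25.LpullAdapted.hasLpull f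
  haveI : (DCoh.Rpush f).IsRightAdjoint :=
    (Groth.Agent.Lib.Helper25.LpullRpushAdj.adj f).isRightAdjoint
  haveI := preservesBinaryBiproducts_of_preservesBinaryProducts (DCoh.Rpush f)
  exact Functor.additive_of_preservesBinaryBiproducts _

/-- the objects `j_{V!} O_V[-n]`, `V` affine open, generate `D_QCoh(S)` -/
theorem isZero_of_hom_eq_zero {S : Scheme.{u}} (C : DCoh.D S) (hC : DCoh.IsQCohD C)
    (h : ∀ (V : S.Opens), IsAffineOpen V → ∀ (n : ℤ) (ψ : Sp V n ⟶ (DCoh.restrictD V.ι).obj C),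
      ψ = 0) : IsZero C := by
  apply Groth.Agent.Lib.Helper25.DerBC.isZero_of_homology
  intro n
  haveI : (DCoh.HD C n).IsQuasicoherent := hC n
  refine Groth.Agent.Lib.helper7.QCohZero.isZero_of_subsingleton_sections (DCoh.HD C n)
    (fun V : S.affineOpens => V.1) (fun V => V.2) (fun x => ?_) (fun V => ?_)
  · obtain ⟨_, ⟨V, hV, rfl⟩, hx, -⟩ := S.isBasis_affineOpens.exists_subset_of_mem_open
      (Set.mem_univ x) isOpen_univ
    exact ⟨⟨V, hV⟩, hx⟩
  · haveI : IsAffine (V.1 : Scheme.{u}) := V.2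
    obtain ⟨e⟩ := Groth.Agent.Lib.Helper25.DerBC.nonempty_homology_mapDerivedCategory_iso
      (restrictFunctor V.1.ι) C n
    have hb := bijective_ev n ((DCoh.restrictD V.1.ι).obj C)
      (Groth.Agent.Lib.Helper25.RGZ4.isQCohD_restrictD V.1.ι C hC)
    have h1 : ∀ s : (DCoh.HD ((DCoh.restrictD V.1.ι).obj C) n).val.obj (op ⊤), s = 0 := by
      intro s
      obtain ⟨σ, rfl⟩ := hb.2 s
      rw [h V.1 V.2 n σ, ev_zero]
    have h2 : ∀ s : ((restrictFunctor V.1.ι).obj (DCoh.HD C n)).val.obj (op ⊤), s = 0 := by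
      intro s
      apply (bijective_app_of_isIso e.inv ⊤).1
      exact (h1 _).trans (h1 _).symm
    have h3 : ∀ s : (DCoh.HD C n).val.obj (op (V.1.ι ''ᵁ ⊤)), s = 0 := h2
    have h4 : V.1.ι ''ᵁ ⊤ = V.1 := by simp
    rw [h4] at h3
    exact ⟨fun a b => (h3 a).trans (h3 b).symm⟩

section Main

variable {X S : Scheme.{u}} (f : X ⟶ S) [QuasiCompact f] [QuasiSeparated f] [DCoh.HasRpush f]
  {ι : Type u} (K : ι → DCoh.D X) (hK : ∀ i, DCoh.IsQCohD (K i))
  {A : DCoh.D X} (g : ∀ i, K i ⟶ A) (hc : IsColimit (Cofan.mk A g))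
  {B : DCoh.D S} (g' : ∀ i, (DCoh.Rpush f).obj (K i) ⟶ B) (hc' : IsColimit (Cofan.mk B g'))
  (θ : B ⟶ (DCoh.Rpush f).obj A) (hθ : ∀ i, g' i ≫ θ = (DCoh.Rpush f).map (g i))

include hK hc hc' hθ in
/-- composition with the comparison map is bijective on `Hom(j_{V!} N, -)`, `N` perfect on an affine open `V` -/
theorem bijective_comp_theta (V : S.Opens) (hV : IsAffineOpen V)
    [PreservesFiniteLimits (CxOX.extZero V.ι)] (N : DCoh.D V) (hN : DCoh.IsPerfect N) :
    Function.Bijective (fun y : (CxOX.extZeroD V.ι).obj N ⟶ B => y ≫ θ) := by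
  haveI : IsAffine (V : Scheme.{u}) := hV
  haveI := additive_Rpush f
  haveI : DCoh.HasRpush (f ∣_ V) := Groth.Agent.Lib.Helper25.SchKInj.hasRpush _
  haveI : DCoh.HasLpull (f ∣_ V) := Groth.Agent.Lib.Helper25.LpullAdapted.hasLpull _
  haveI : CompactSpace ((f ⁻¹ᵁ V : X.Opens) : Scheme.{u}) :=
    QuasiCompact.compactSpace_of_compactSpace (f ∣_ V)
  haveI : QuasiSeparatedSpace ((f ⁻¹ᵁ V : X.Opens) : Scheme.{u}) :=
    quasiSeparatedSpace_of_quasiSeparated (f ∣_ V)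
  haveI := Groth.Agent.Lib.Helper25.MVSupp.preservesFiniteLimits_extZero (f ⁻¹ᵁ V)
  obtain ⟨e⟩ := Groth.Agent.Lib.Helper25.SchKInj.nonempty_Rpush_restrict_iso f V
  let adjV : CxOX.extZeroD V.ι ⊣ DCoh.restrictD V.ι :=
    Groth.Agent.Lib.helper25.DerivedAdj.mapDerivedCategoryAdj (CxOX.extZeroAdj V.ι)
  let adjU : CxOX.extZeroD (f ⁻¹ᵁ V).ι ⊣ DCoh.restrictD (f ⁻¹ᵁ V).ι :=
    Groth.Agent.Lib.helper25.DerivedAdj.mapDerivedCategoryAdj (CxOX.extZeroAdj (f ⁻¹ᵁ V).ι)
  let adjf' : DCoh.Lpull (f ∣_ V) ⊣ DCoh.Rpush (f ∣_ V) :=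
    Groth.Agent.Lib.Helper25.LpullRpushAdj.adj (f ∣_ V)
  let adj2 : DCoh.Lpull (f ∣_ V) ⋙ CxOX.extZeroD (f ⁻¹ᵁ V).ι ⊣
      DCoh.restrictD (f ⁻¹ᵁ V).ι ⋙ DCoh.Rpush (f ∣_ V) := adjf'.comp adjU
  let adj1 : DCoh.Lpull (f ∣_ V) ⋙ CxOX.extZeroD (f ⁻¹ᵁ V).ι ⊣
      DCoh.Rpush f ⋙ DCoh.restrictD V.ι := adj2.ofNatIsoRight e.symm
  refine Groth.Agent.Lib.Helper25.QCCAbstract.bijective_comp_theta (DCoh.Rpush f) g hc g' hc' θ hθ
    adjV adj1 (QX := fun M => DCoh.IsQCohD M) (QS := fun M => DCoh.IsQCohD M)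
    (fun M hM => Groth.Agent.Lib.Helper25.RpushQC.isQCohD_Rpush f M hM) hK N ?_ ?_
  · exact qff_extZeroD V (qff_of_isPerfect V N hN)
  · exact qff_extZeroD (f ⁻¹ᵁ V) (qff_of_isPerfect _ _
      (Groth.Agent.Lib.Helper25.LpullPerfect.isPerfect_Lpull (f ∣_ V) N hN))

lemma homEquiv_symm_zero {C D : Type*} [Category C] [Category D] [Preadditive C] [Preadditive D]
    {L : C ⥤ D} {R : D ⥤ C} (adj : L ⊣ R) [L.PreservesZeroMorphisms] (P : C) (M : D) :
    (adj.homEquiv P M).symm 0 = 0 := by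
  rw [adj.homEquiv_counit, L.map_zero, zero_comp]

lemma homEquiv_zero {C D : Type*} [Category C] [Category D] [Preadditive C] [Preadditive D]
    {L : C ⥤ D} {R : D ⥤ C} (adj : L ⊣ R) [R.PreservesZeroMorphisms] (P : C) (M : D) :
    adj.homEquiv P M 0 = 0 := by
  rw [adj.homEquiv_unit, R.map_zero, comp_zero]

include hK hc hc' hθ in
/-- the comparison map `∐ Rf_* K_i ⟶ Rf_* ∐ K_i` is an isomorphism -/
theorem isIso_theta : IsIso θ := by
  have hA := isQCohD_of_isColimit K hK A g hc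
  have hFK : ∀ i, DCoh.IsQCohD ((DCoh.Rpush f).obj (K i)) := fun i =>
    Groth.Agent.Lib.Helper25.RpushQC.isQCohD_Rpush f (K i) (hK i)
  have hB := isQCohD_of_isColimit _ hFK B g' hc'
  have hFA := Groth.Agent.Lib.Helper25.RpushQC.isQCohD_Rpush f A hA
  obtain ⟨C, c, d, hT⟩ := distinguished_cocone_triangle θ
  have hC : DCoh.IsQCohD C :=
    Groth.Agent.H1.WSerreTri.cohIn_obj₂ (P := Groth.Agent.S1007.QC S) _ (rot_of_distTriang _ hT) hFA
      (isQCohD_shift B hB 1)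
  have hC0 : IsZero C := by
    apply isZero_of_hom_eq_zero C hC
    intro V hV n ψ
    haveI := Groth.Agent.Lib.Helper25.MVSupp.preservesFiniteLimits_extZero V
    let adjV : CxOX.extZeroD V.ι ⊣ DCoh.restrictD V.ι :=
      Groth.Agent.Lib.helper25.DerivedAdj.mapDerivedCategoryAdj (CxOX.extZeroAdj V.ι)
    let G := (CxOX.extZeroD V.ι).obj (Sp V n)
    suffices hφ : ∀ φ : G ⟶ C, φ = 0 by
      have h2 := congrArg (adjV.homEquiv _ _) (hφ ((adjV.homEquiv _ _).symm ψ))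
      rw [Equiv.apply_symm_apply] at h2
      rw [h2]
      exact homEquiv_zero adjV _ _
    intro φ
    have hb0 := bijective_comp_theta f K hK g hc g' hc' θ hθ V hV (Sp V n) (isPerfect_Sp V n)
    have hb1 := bijective_comp_theta f K hK g hc g' hc' θ hθ V hV ((Sp V n)⟦(-1 : ℤ)⟧)
      (Groth.Agent.Lib.helper25.DCohPerfect.isPerfect_shift (isPerfect_Sp V n) (-1))
    have h1 : φ ≫ d = 0 := by
      let adjS : shiftFunctor (DCoh.D S) (-1 : ℤ) ⊣ shiftFunctor (DCoh.D S) (1 : ℤ) :=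
        (shiftEquiv' (DCoh.D S) (-1 : ℤ) 1 (by omega)).toAdjunction
      let y' : G⟦(-1 : ℤ)⟧ ⟶ B := (adjS.homEquiv G B).symm (φ ≫ d)
      have hy' : y' ≫ θ = 0 := by
        have h3 := adjS.homEquiv_naturality_right_symm (φ ≫ d) θ
        have h4 : (φ ≫ d) ≫ (shiftFunctor (DCoh.D S) (1 : ℤ)).map θ = 0 := by
          rw [Category.assoc]
          have h6 : d ≫ (shiftFunctor (DCoh.D S) (1 : ℤ)).map θ = 0 :=
            comp_distTriang_mor_zero₃₁ _ hT
          rw [h6, comp_zero]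
        rw [← h3, h4]
        exact homEquiv_symm_zero adjS _ _
      let eG : (CxOX.extZeroD V.ι).obj ((Sp V n)⟦(-1 : ℤ)⟧) ≅ G⟦(-1 : ℤ)⟧ :=
        ((CxOX.extZeroD V.ι).commShiftIso (-1 : ℤ)).app (Sp V n)
      have h0 : eG.hom ≫ y' = 0 := hb1.1 (by
        change (eG.hom ≫ y') ≫ θ = 0 ≫ θ
        rw [Category.assoc, hy', comp_zero, zero_comp])
      have hy0 : y' = 0 := by
        rw [← cancel_epi eG.hom, h0, comp_zero]
      have h5 := congrArg (adjS.homEquiv G B) hy0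
      rw [Equiv.apply_symm_apply] at h5
      rw [h5]
      exact homEquiv_zero adjS _ _
    obtain ⟨z, hz⟩ := Triangle.coyoneda_exact₃ _ hT φ h1
    obtain ⟨y, hy⟩ := hb0.2 z
    have h12 : θ ≫ c = 0 := comp_distTriang_mor_zero₁₂ _ hT
    have hz' : φ = z ≫ c := hz
    have hy' : y ≫ θ = z := hy
    exact hz'.trans ((congrArg (fun w => w ≫ c) hy'.symm).trans ((Category.assoc y θ c).trans
      ((congrArg (fun w => y ≫ w) h12).trans comp_zero)))
  exact (Triangle.isZero₃_iff_isIso₁ _ hT).1 hC0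

end Main

/-- **S1000**: `Rf_*` commutes with direct sums on `D_QCoh` -/
theorem isIso_sigmaDesc_Rpush {X S : Scheme.{u}} (f : X ⟶ S) [QuasiCompact f] [QuasiSeparated f]
    [DCoh.HasRpush f] {ι : Type u} (K : ι → DCoh.D X) (hK : ∀ i, DCoh.IsQCohD (K i)) [HasCoproduct K]
    [HasCoproduct (fun i => (DCoh.Rpush f).obj (K i))] :
    IsIso (Sigma.desc (fun i => (DCoh.Rpush f).map (Sigma.ι K i))) :=
  isIso_theta f K hK (Sigma.ι K) (coproductIsCoproduct K)
    (Sigma.ι (fun i => (DCoh.Rpush f).obj (K i))) (coproductIsCoproduct _) _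
    (fun i => Sigma.ι_desc _ i)

end Groth.Agent.Lib.Helper25.QCCRpush
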