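import Mathlib
import Groth.Agent.Lib.Helper25.ExtZeroUnit
import Groth.Agent.Lib.Helper25.MVSupp
import Groth.Agent.Lib.Helper25.FlatAmpPerfect
import Groth.Agent.Lib.Helper25.QCCRpush
import Groth.Agent.Lib.Helper23.HomNat
import Groth.Agent.Lib.Helper11.IsoLocus
import Groth.Agent.Lib.Helper7.RestrictSupport

/-!
# Approximation by perfect complexes extends from an open containing the support (helper25)

`approx_extend`: `U ⊆ X` open, `T ⊆ U` closed in `X`; if `P ⟶ E|_U` is an approximation (perfect `P` supported on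
`T`, isomorphism on `H^i` for `i > m`, epimorphism on `H^m`) and `H^i(E)` is supported on `T` for `i ≥ m`, then
`j_! P ⟶ E` (adjoint map) is an approximation on `X`.

Helper lemmas: `epi_map_iff_of_natIso`, `isIso_of_isZero`, `isZero_of_cover`, `epi_of_cover` (zero objects and
epimorphisms of `O_X`-modules are local on a two-member open cover), `isPerfect_of_isZero`.
-/

set_option autoImplicit false
universe u
open CategoryTheory CategoryTheory.Limits AlgebraicGeometry Opposite
attribute [local instance] HasDerivedCategory.standard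

namespace Groth.Agent.Lib.Helper25.ApproxExtend

open Pretriangulated DerivedCategory TopologicalSpace Scheme.Modules
open Groth.Agent.Lib.helper7.RestrictSupport Groth.Agent.Lib.helper23.HomNat
  Groth.Agent.Lib.Helper25.MVSupp Groth.Agent.Lib.Helper25.SchKInj

section General

lemma epi_map_iff_of_natIso {C D : Type*} [Category C] [Category D] {F₁ F₂ : C ⥤ D} (e : F₁ ≅ F₂)
    {X Y : C} (f : X ⟶ Y) : Epi (F₁.map f) ↔ Epi (F₂.map f) := by
  have h1 : F₂.map f = e.inv.app X ≫ F₁.map f ≫ e.hom.app Y := by simp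
  have h2 : F₁.map f = e.hom.app X ≫ F₂.map f ≫ e.inv.app Y := by simp
  constructor
  · intro h
    rw [h1]
    infer_instance
  · intro h
    rw [h2]
    infer_instance

lemma isIso_of_isZero {C : Type*} [Category C] [HasZeroMorphisms C] {X Y : C} (f : X ⟶ Y)
    (hX : IsZero X) (hY : IsZero Y) : IsIso f :=
  ⟨⟨0, hX.eq_of_src _ _, hY.eq_of_src _ _⟩⟩

end General

variable {X : Scheme.{u}}

/-- an `O_X`-module vanishing on both members of an open cover is zero -/
lemma isZero_of_cover (M : X.Modules) (U V : X.Opens) (hUV : U ⊔ V = ⊤)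
    (hU : IsZero ((restrictFunctor U.ι).obj M)) (hV : IsZero ((restrictFunctor V.ι).obj M)) :
    IsZero M := by
  rw [isZero_restrict_iff_support] at hU hV
  rw [isZero_iff_subsingleton_sections]
  intro W
  refine (subsingleton_sections_iff_support M ⊤).2 ?_ W le_top
  intro x hx
  have hxU := hU hx
  have hxV := hV hx
  have : x ∈ ((U ⊔ V : X.Opens) : Set X) := by rw [hUV]; trivial
  rcases this with h | h
  · exact absurd h hxU
  · exact absurd h hxV

/-- epimorphisms of `O_X`-modules are local -/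
lemma epi_of_cover {M N : X.Modules} (φ : M ⟶ N) (U V : X.Opens) (hUV : U ⊔ V = ⊤)
    (hU : Epi ((restrictFunctor U.ι).map φ)) (hV : Epi ((restrictFunctor V.ι).map φ)) : Epi φ := by
  rw [Preadditive.epi_iff_isZero_cokernel] at hU hV ⊢
  exact isZero_of_cover _ U V hUV
    (IsZero.of_iso hU (PreservesCokernel.iso (restrictFunctor U.ι) φ))
    (IsZero.of_iso hV (PreservesCokernel.iso (restrictFunctor V.ι) φ))

/-- zero objects are perfect -/
lemma isPerfect_of_isZero {K : DCoh.D X} (hK : IsZero K) : DCoh.IsPerfect K := by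
  have h := Groth.Agent.Lib.helper25.DCohPerfect.isPerfect_obj₃ _
    (contractible_distinguished (Groth.Agent.Lib.Helper25.QCCEv.Sp X 0))
    (Groth.Agent.Lib.Helper25.QCCRpush.isPerfect_Sp X 0)
    (Groth.Agent.Lib.Helper25.QCCRpush.isPerfect_Sp X 0)
  exact Groth.Agent.Lib.helper25.DCohPerfect.isPerfect_of_iso ((isZero_zero _).iso hK) h

/-- **approximation extends from an open containing `T`** -/
theorem approx_extend (U : X.Opens) (T : Set ↥X) (hT : IsClosed T)
    (hTU : T ⊆ (U : Set ↥X)) (E : DCoh.D X) (m : ℤ)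
    (P : DCoh.D (U : Scheme.{u})) (α : P ⟶ (DCoh.restrictD U.ι).obj E) (hP : DCoh.IsPerfect P)
    (hPT : ∀ i : ℤ, CohB1.support (DCoh.HD P i) ⊆ {v : ↥(U : Scheme.{u}) | U.ι.base v ∈ T})
    (hiso : ∀ i : ℤ, m < i → IsIso ((DerivedCategory.homologyFunctor _ i).map α))
    (hepi : Epi ((DerivedCategory.homologyFunctor _ m).map α))
    (hsupp : ∀ i : ℤ, m ≤ i → CohB1.support (DCoh.HD E i) ⊆ T) :
    ∃ (P' : DCoh.D X) (α' : P' ⟶ E), DCoh.IsPerfect P' ∧
      (∀ i : ℤ, CohB1.support (DCoh.HD P' i) ⊆ T) ∧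
      (∀ i : ℤ, m < i → IsIso ((DerivedCategory.homologyFunctor X.Modules i).map α')) ∧
      Epi ((DerivedCategory.homologyFunctor X.Modules m).map α') := by
  let V : X.Opens := ⟨Tᶜ, hT.isOpen_compl⟩
  have hUV : U ⊔ V = ⊤ := by
    rw [eq_top_iff]
    intro x _
    by_cases hx : x ∈ T
    · exact Or.inl (hTU hx)
    · exact Or.inr hx
  have hVc : ((V : Set X))ᶜ = T := compl_compl T
  haveI := preservesFiniteLimits_extZero U
  let adj : CxOX.extZeroD U.ι ⊣ DCoh.restrictD U.ι :=
    Groth.Agent.Lib.helper25.DerivedAdj.mapDerivedCategoryAdj (CxOX.extZeroAdj U.ι)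
  let P' : DCoh.D X := (CxOX.extZeroD U.ι).obj P
  let α' : P' ⟶ E := (adj.homEquiv P E).symm α
  haveI hunit : IsIso (adj.unit.app P) :=
    Groth.Agent.Lib.Helper25.ExtZeroUnit.isIso_unit_app (CxOX.extZeroAdj U.ι) P
  have hα : adj.unit.app P ≫ (DCoh.restrictD U.ι).map α' = α := by
    exact (adj.homEquiv_unit (X := P) (Y := E) (f := α')).symm.trans
      (Equiv.apply_symm_apply (adj.homEquiv P E) α)
  -- `P'` vanishes on `V`
  have hV0 : IsZero ((DCoh.restrictD V.ι).obj P') := by
    haveI := hasRpush U.ι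
    haveI := hasRpush (U.ι ∣_ V)
    have hF : ∀ i : ℤ, (fun x : (U : Scheme.{u}) => U.ι.base x) '' CohB1.support (DCoh.HD P i) ⊆ T := by
      rintro i _ ⟨x, hx, rfl⟩
      exact hPT i hx
    obtain ⟨e⟩ := nonempty_extZeroD_iso_Rpush U T hT hTU P hF
    have hFV : IsZero ((DCoh.restrictD (U.ι ⁻¹ᵁ V).ι).obj P) :=
      isZero_restrictD_of_support _ P (fun i x hx hxV => hxV (hF i ⟨x, hx, rfl⟩))
    obtain ⟨e'⟩ := Groth.Agent.Lib.Helper25.SchKInj.nonempty_Rpush_restrict_iso U.ι V
    have hV : IsZero ((DCoh.restrictD V.ι).obj ((DCoh.Rpush U.ι).obj P)) :=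
      IsZero.of_iso (isZero_Rpush_of_isZero _ _ hFV) (e'.app P)
    exact IsZero.of_iso hV ((DCoh.restrictD V.ι).mapIso e)
  have hU_iso : ∀ i : ℤ, IsIso ((homologyFunctor _ i).map α) →
      IsIso ((restrictFunctor U.ι).map ((homologyFunctor X.Modules i).map α')) := by
    intro i hi
    have h1 : IsIso ((homologyFunctor _ i).map ((DCoh.restrictD U.ι).map α')) := by
      have h2 : (homologyFunctor _ i).map ((DCoh.restrictD U.ι).map α') =
          inv ((homologyFunctor _ i).map (adj.unit.app P)) ≫ (homologyFunctor _ i).map α := by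
        rw [IsIso.eq_inv_comp, ← Functor.map_comp, hα]
      rw [h2]
      infer_instance
    exact (NatIso.isIso_map_iff (homologyNatIso (restrictFunctor U.ι) i) α').1 h1
  have hU_epi : ∀ i : ℤ, Epi ((homologyFunctor _ i).map α) →
      Epi ((restrictFunctor U.ι).map ((homologyFunctor X.Modules i).map α')) := by
    intro i hi
    have h1 : Epi ((homologyFunctor _ i).map ((DCoh.restrictD U.ι).map α')) := by
      have h2 : (homologyFunctor _ i).map ((DCoh.restrictD U.ι).map α') =
          inv ((homologyFunctor _ i).map (adj.unit.app P)) ≫ (homologyFunctor _ i).map α := by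
        rw [IsIso.eq_inv_comp, ← Functor.map_comp, hα]
      rw [h2]
      infer_instance
    exact (epi_map_iff_of_natIso (homologyNatIso (restrictFunctor U.ι) i) α').1 h1
  have hV_iso : ∀ i : ℤ, m ≤ i →
      IsIso ((restrictFunctor V.ι).map ((homologyFunctor X.Modules i).map α')) := by
    intro i hi
    refine isIso_of_isZero _ ?_ ?_
    · exact IsZero.of_iso (Functor.map_isZero _ hV0)
        ((homologyNatIso (restrictFunctor V.ι) i).app P').symm
    · exact (isZero_restrict_iff_support _ V).2 (by rw [hVc]; exact hsupp i hi)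
  refine ⟨P', α', ?_, ?_, ?_, ?_⟩
  · -- perfect
    refine Groth.Agent.Lib.helper25.FlatAmpPerfect.isPerfect_of_restrict (fun x => ?_)
    by_cases hx : x ∈ T
    · exact ⟨U, hTU hx, Groth.Agent.Lib.helper25.DCohPerfect.isPerfect_of_iso
        (asIso (adj.unit.app P)) hP⟩
    · exact ⟨V, hx, isPerfect_of_isZero hV0⟩
  · -- supports
    intro i
    have := support_HD_restrictD V P' hV0 i
    rwa [hVc] at this
  · intro i hi
    refine Groth.Agent.Lib.helper11.IsoLocus.isIso_of_forall_restrict _ (fun x => ?_)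
    by_cases hx : x ∈ T
    · exact ⟨U, hTU hx, hU_iso i (hiso i hi)⟩
    · exact ⟨V, hx, hV_iso i hi.le⟩
  · refine epi_of_cover _ U V hUV (hU_epi m hepi) ?_
    haveI := hV_iso m le_rfl
    infer_instance

end Groth.Agent.Lib.Helper25.ApproxExtend
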