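import Mathlib
import Groth.Prelude.Def_KLin
import Groth.Prelude.Def_DCoh2
import Groth.Prelude.Def_CxOX
import Groth.Agent.Lib.Helper19.DHomLinear
import Groth.Agent.Lib.Helper7.QCohAffine
import Groth.Agent.Lib.Helper25.QCCEv

/-!
# `A`-linearity of restriction to opens, torsion sections, evaluation (helper25)

For schemes over `Spec A` (`KLin.linearOver`):
* `restrictFunctor_map_smulModΓ`: restriction along an open immersion `j` sends multiplication by a global
  function `r` to multiplication by `j^♯ r`.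
* `linear_restrictFunctor`, `linear_restrictD`: for `j : U ⟶ Y` an open immersion over `Spec A`,
  `Scheme.Modules.restrictFunctor j` and `DCoh.restrictD j` are `A`-linear functors.
* `exists_pow_smul_eq_zero`: on an affine scheme, global sections of a quasi-coherent module whose restriction to
  `D(f)` vanishes are killed by a power of `f`.
* `ev_smul`: `QCCEv.ev p (a • σ) = ā • QCCEv.ev p σ`.
-/

set_option autoImplicit false
universe u
open CategoryTheory CategoryTheory.Limits AlgebraicGeometry Opposite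
attribute [local instance] HasDerivedCategory.standard

namespace Groth.Agent.Lib.Helper25.KLinRestrict

open DerivedCategory TopologicalSpace Scheme.Modules

section Restrict

variable {U Y : Scheme.{u}} (j : U ⟶ Y) [IsOpenImmersion j]

/-- pullback of global functions, typed with `Coh.Γtop` -/
noncomputable def φ : Coh.Γtop Y →+* Coh.Γtop U := j.appTop.hom

lemma appIso_inv_res (V : U.Opens) (r : Γ(Y, ⊤)) :
    (j.appIso V).inv.hom (U.presheaf.map (homOfLE (le_top : V ≤ ⊤)).op (j.appTop.hom r)) =
      Y.presheaf.map (homOfLE (le_top : j ''ᵁ V ≤ ⊤)).op r := by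
  have h : (Y.presheaf.map (homOfLE (le_top : j ''ᵁ V ≤ ⊤)).op ≫ (j.appIso V).hom) =
      j.appTop ≫ U.presheaf.map (homOfLE (le_top : V ≤ ⊤)).op := by
    rw [Scheme.Hom.appIso_hom, ← Category.assoc, Scheme.Hom.naturality, Category.assoc,
      ← Functor.map_comp]
    rfl
  have h2 := congrArg (fun φ => (φ ≫ (j.appIso V).inv).hom r) h
  simp only [Category.assoc, Iso.hom_inv_id, Category.comp_id] at h2
  exact h2.symm

lemma restrictFunctor_map_smulModΓ (M : Y.Modules) (r : Coh.Γtop Y) :
    (restrictFunctor j).map (Formal.smulModΓ M r) =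
      Formal.smulModΓ ((restrictFunctor j).obj M) (φ j r) := by
  refine Scheme.Modules.hom_ext _ _ fun V => ?_
  ext m
  change (Formal.smulModΓ M r).app (j ''ᵁ V) m =
    (Formal.smulModΓ ((restrictFunctor j).obj M) (φ j r)).app V m
  rw [KLin.smulModΓ_app_apply, KLin.smulModΓ_app_apply]
  change _ = ((j.appIso V).inv.hom (U.presheaf.map (homOfLE (le_top : V ≤ ⊤)).op
    (j.appTop.hom (show Γ(Y, ⊤) from r))) • (show Γ(M, j ''ᵁ V) from m) : Γ(M, j ''ᵁ V))
  rw [appIso_inv_res]

variable (A : Type u) [CommRing A] [Y.Over (Spec (CommRingCat.of A))]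
  [U.Over (Spec (CommRingCat.of A))] [j.IsOver (Spec (CommRingCat.of A))]

instance linear_restrictFunctor : (restrictFunctor j).Linear A := by
  refine (Functor.linear_iff A _).mpr fun M a => ?_
  rw [KLin.smul_id, KLin.smul_id]
  unfold Formal.smulMod
  rw [restrictFunctor_map_smulModΓ]
  congr 1
  rw [← comp_over j (Spec (CommRingCat.of A))]
  rfl

instance linear_restrictD : (DCoh.restrictD j).Linear A :=
  inferInstanceAs ((restrictFunctor j).mapDerivedCategory.Linear A)

end Restrict

section Affine

variable {Y : Scheme.{u}}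

/-- sections over an affine scheme of a quasi-coherent module vanishing on `D(f)` are `f`-power torsion -/
lemma exists_pow_smul_eq_zero [IsAffine Y] (M : Y.Modules) [M.IsQuasicoherent] (f : Γ(Y, ⊤))
    (hM : IsZero ((restrictFunctor (Y.basicOpen f).ι).obj M)) (t : Γ(M, ⊤)) :
    ∃ n : ℕ, f ^ n • t = 0 := by
  refine Groth.Agent.Lib.helper7.exists_pow_smul_eq_zero_of_isAffineOpen (isAffineOpen_top Y) M f t ?_
  have := (Groth.Agent.Lib.helper7.RestrictSupport.isZero_restrict_iff M (Y.basicOpen f)).1 hM
    (Y.basicOpen f) le_rfl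
  exact Subsingleton.elim _ _

end Affine

section Ev

open Groth.Agent.Lib.Helper25.QCCEv

variable {Y : Scheme.{u}} (A : Type u) [CommRing A] [Y.Over (Spec (CommRingCat.of A))] (p : ℤ)

lemma ev_smul {K : DCoh.D Y} (a : A) (σ : Sp Y p ⟶ K) :
    (show Γ(DCoh.HD K p, ⊤) from ev p (a • σ)) =
      (show Γ(Y, ⊤) from Coh.toGlobal (Y ↘ Spec (CommRingCat.of A)) a) •
        (show Γ(DCoh.HD K p, ⊤) from ev p σ) := by
  unfold ev
  rw [Functor.map_smul]
  have h1 : Y.presheaf.map (homOfLE (le_top : (⊤ : Y.Opens) ≤ ⊤)).op = 𝟙 _ := by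
    rw [show (homOfLE (le_top : (⊤ : Y.Opens) ≤ ⊤)).op = 𝟙 (op ⊤) from rfl, Y.presheaf.map_id]
  have h2 := KLin.smul_app_apply a ((homologyFunctor Y.Modules p).map σ) ⊤ (gen Y p)
  rw [h1] at h2
  exact h2

end Ev

end Groth.Agent.Lib.Helper25.KLinRestrict
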