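import Mathlib
import Groth.Agent.Lib.Helper25.KLinRestrict

/-!
# Multiplication by a unit is an isomorphism (helper25)

* `isIso_smulModΓ`: multiplication by a unit global function on an `O_W`-module is an isomorphism.
* `isIso_smul_id_cx`, `isIso_smul_id`: for `W` over `Spec A` and `a ∈ A` whose image in `Γ(W, O_W)` is a unit,
  `a • 𝟙 K` is an isomorphism for complexes and for objects of `D(O_W)`.
* `isUnit_appTop_basicOpen`: the restriction of `r ∈ Γ(X, O_X)` to `D(r)` is a unit.
-/

set_option autoImplicit false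
universe u
open CategoryTheory CategoryTheory.Limits AlgebraicGeometry Opposite
attribute [local instance] HasDerivedCategory.standard

namespace Groth.Agent.Lib.Helper25.KLinUnit

open DerivedCategory TopologicalSpace Scheme.Modules

section

variable {W : Scheme.{u}}

/-- multiplication by a unit global function is an isomorphism -/
lemma isIso_smulModΓ (M : W.Modules) (r : Coh.Γtop W) (hr : IsUnit r) :
    IsIso (Formal.smulModΓ M r) := by
  obtain ⟨u, rfl⟩ := hr
  refine ⟨⟨Formal.smulModΓ M (↑u⁻¹ : Coh.Γtop W), ?_, ?_⟩⟩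
  · rw [← KLin.smulModΓ_mul, Units.mul_inv, KLin.smulModΓ_one]
  · rw [← KLin.smulModΓ_mul, Units.inv_mul, KLin.smulModΓ_one]

variable (A : Type u) [CommRing A] [W.Over (Spec (CommRingCat.of A))]

lemma isIso_smul_id_cx (a : A) (h : IsUnit (Coh.toGlobal (W ↘ Spec (CommRingCat.of A)) a))
    (F : CochainComplex W.Modules ℤ) : IsIso (a • 𝟙 F) := by
  haveI : ∀ i, IsIso ((a • 𝟙 F).f i) := fun i => by
    have : (a • 𝟙 F).f i = Formal.smulModΓ (F.X i) (Coh.toGlobal (W ↘ Spec (CommRingCat.of A)) a) := by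
      change a • 𝟙 (F.X i) = _
      rw [KLin.smul_id]
      rfl
    rw [this]
    exact isIso_smulModΓ _ _ h
  exact HomologicalComplex.Hom.isIso_of_components _

theorem isIso_smul_id (a : A) (h : IsUnit (Coh.toGlobal (W ↘ Spec (CommRingCat.of A)) a))
    (K : DCoh.D W) : IsIso (a • 𝟙 K) := by
  let F := Q.objPreimage K
  let e : Q.obj F ≅ K := Q.objObjPreimageIso K
  haveI := isIso_smul_id_cx A a h F
  have h1 : a • 𝟙 (Q.obj F) = Q.map (a • 𝟙 F) := by
    rw [Functor.map_smul, CategoryTheory.Functor.map_id]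
  have h2 : a • 𝟙 K = e.inv ≫ (a • 𝟙 (Q.obj F)) ≫ e.hom := by
    rw [Linear.smul_comp, Linear.comp_smul, Category.id_comp, e.inv_hom_id]
  rw [h2, h1]
  infer_instance

end

section BasicOpen

variable {X : Scheme.{u}}

/-- the restriction of `r` to `D(r)` is a unit -/
lemma isUnit_appTop_basicOpen (r : Γ(X, ⊤)) :
    IsUnit ((X.basicOpen r).ι.appTop.hom r) := by
  have h := X.toRingedSpace.isUnit_res_basicOpen r
  have e : (X.basicOpen r).ι ''ᵁ ⊤ = X.basicOpen r := (X.basicOpen r).ι_image_top
  have h2 : (X.basicOpen r).ι.appTop.hom r =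
      (X.presheaf.map (eqToHom e).op).hom
        ((X.presheaf.map (homOfLE (X.basicOpen_le r)).op).hom r) := by
    rw [Scheme.Opens.ι_appTop, ← CommRingCat.comp_apply, ← Functor.map_comp]
    rfl
  rw [h2]
  exact h.map _

end BasicOpen

end Groth.Agent.Lib.Helper25.KLinUnit
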