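import Mathlib
import Groth.Agent.Lib.Helper25.KLinRestrict
import Groth.Agent.Lib.Helper25.NiceInduction
import Groth.Agent.Lib.Helper25.HomVanMV
import Groth.Agent.Lib.Helper25.SchKInj2

/-!
# Powers of `a` kill maps from perfect objects to `a`-torsion objects of `D_QCoh` (helper25)

`pow_smul_eq_zero`: `X` quasi-compact quasi-separated over `Spec A`, `a ∈ A`, `E` perfect, `E' ∈ D_QCoh(O_X)` with
cohomology sheaves supported on `V(ā)`, `α : E ⟶ E'`; then `aⁿ • α = 0` for some `n`.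

Proof: `PerfectInduction.perfect_induction` for the property `Pr` (`Kill` for every structure morphism).
* `Tors`, `tors_restrict`, `tors_shift`: the torsion condition `E'|_{D(ā)} = 0` and its stability.
* `Kill`, `kill_of_iso/_isZero/_triangle`, `kill_single_free` (affine: `QCCEv.bijective_ev`, `ev_smul`,
  `exists_pow_smul_eq_zero`), `kill_of_nice`.
* `exists_restrict_eq_zero`, `pr_of_cover`: Mayer–Vietoris step (`j_! ⊣ j^*`, linearity of `j^*`).
-/

set_option autoImplicit false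
universe u
open CategoryTheory CategoryTheory.Limits AlgebraicGeometry Opposite
attribute [local instance] HasDerivedCategory.standard

namespace Groth.Agent.Lib.Helper25.PowKill

open Pretriangulated DerivedCategory TopologicalSpace Scheme.Modules
open Groth.Agent.Lib.Helper25.KLinRestrict Groth.Agent.Lib.Helper25.QCCEv
  Groth.Agent.Lib.Helper25.HomVanAffine Groth.Agent.Lib.Helper25.HomVanMV

variable (A : Type u) [CommRing A] (a : A)

/-- `K` vanishes on the locus where the image of `a` is invertible -/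
def Tors (Y : Scheme.{u}) (s : Y ⟶ Spec (CommRingCat.of A)) (K : DCoh.D Y) : Prop :=
  IsZero ((DCoh.restrictD (Y.basicOpen (show Γ(Y, ⊤) from Coh.toGlobal s a)).ι).obj K)

variable {A a} in
lemma tors_restrict {Y : Scheme.{u}} (s : Y ⟶ Spec (CommRingCat.of A)) (T : Y.Opens) (K : DCoh.D Y)
    (h : Tors A a Y s K) : Tors A a T (T.ι ≫ s) ((DCoh.restrictD T.ι).obj K) := by
  unfold Tors at *
  refine Groth.Agent.Lib.Helper25.RGZ4.isZero_restrictD_restrictD T.ι _ _ ?_ K h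
  intro x hx
  have h1 : (T : Scheme.{u}).basicOpen (show Γ((T : Scheme.{u}), ⊤) from Coh.toGlobal (T.ι ≫ s) a) =
      T.ι ⁻¹ᵁ Y.basicOpen (show Γ(Y, ⊤) from Coh.toGlobal s a) :=
    (Scheme.preimage_basicOpen_top T.ι _).symm
  rw [h1] at hx
  exact hx

variable {A a} in
lemma tors_shift {Y : Scheme.{u}} (s : Y ⟶ Spec (CommRingCat.of A)) (K : DCoh.D Y) (n : ℤ)
    (h : Tors A a Y s K) : Tors A a Y s (K⟦n⟧) := by
  unfold Tors at *
  exact IsZero.of_iso (Functor.map_isZero (shiftFunctor _ n) h)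
    (((DCoh.restrictD _).commShiftIso n).app K)

section Kill

variable (Y : Scheme.{u}) [Y.Over (Spec (CommRingCat.of A))]

/-- every map from `P` to a torsion object of `D_QCoh` is killed by a power of `a` -/
def Kill (P : DCoh.D Y) : Prop :=
  ∀ (E' : DCoh.D Y), DCoh.IsQCohD E' → Tors A a Y (Y ↘ Spec (CommRingCat.of A)) E' →
    ∀ α : P ⟶ E', ∃ n : ℕ, (a ^ n) • α = 0

variable {A a Y}

lemma kill_of_iso {P P' : DCoh.D Y} (e : P ≅ P') (h : Kill A a Y P) : Kill A a Y P' := by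
  intro E' hq ht α
  obtain ⟨n, hn⟩ := h E' hq ht (e.hom ≫ α)
  refine ⟨n, ?_⟩
  have h1 : e.hom ≫ ((a ^ n) • α) = 0 := by rw [Linear.comp_smul, hn]
  have h2 := congrArg (fun f => e.inv ≫ f) h1
  simpa using h2

lemma kill_of_isZero {P : DCoh.D Y} (h : IsZero P) : Kill A a Y P := by
  intro E' hq ht α
  exact ⟨0, h.eq_of_src _ _⟩

lemma kill_of_triangle (T : Triangle (DCoh.D Y)) (hT : T ∈ distTriang _)
    (h₁ : Kill A a Y T.obj₁) (h₃ : Kill A a Y T.obj₃) : Kill A a Y T.obj₂ := by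
  intro E' hq ht α
  obtain ⟨n, hn⟩ := h₁ E' hq ht (T.mor₁ ≫ α)
  have h1 : T.mor₁ ≫ ((a ^ n) • α) = 0 := by rw [Linear.comp_smul, hn]
  obtain ⟨γ, hγ⟩ := Triangle.yoneda_exact₂ T hT _ h1
  obtain ⟨m, hm⟩ := h₃ E' hq ht γ
  refine ⟨m + n, ?_⟩
  rw [pow_add, mul_smul, hγ, ← Linear.comp_smul, hm, comp_zero]

lemma kill_single_free [IsAffine Y] (c : ℤ) (M : Y.Modules) (r : ℕ)
    (e : M ≅ FlatMod.freeMod Y r) : Kill A a Y ((singleFunctor Y.Modules c).obj M) := by
  intro E' hq ht α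
  let G := singleFunctor Y.Modules c
  let ā : Γ(Y, ⊤) := Coh.toGlobal (Y ↘ Spec (CommRingCat.of A)) a
  let σ : Fin r → (Sp Y c ⟶ E') := fun i =>
    G.map (Sigma.ι (fun _ : Fin r => Coh.structureModule Y) i) ≫ G.map e.inv ≫ α
  haveI : (DCoh.HD E' c).IsQuasicoherent := hq c
  have hz : IsZero ((restrictFunctor (Y.basicOpen ā).ι).obj (DCoh.HD E' c)) := by
    obtain ⟨e'⟩ := Groth.Agent.Lib.Helper25.DerBC.nonempty_homology_mapDerivedCategory_iso
      (restrictFunctor (Y.basicOpen ā).ι) E' c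
    exact IsZero.of_iso (Functor.map_isZero _ ht) e'.symm
  have h1 : ∀ i, ∃ n : ℕ, ā ^ n • (show Γ(DCoh.HD E' c, ⊤) from ev c (σ i)) = 0 := fun i =>
    exists_pow_smul_eq_zero _ ā hz _
  choose n hn using h1
  let N := Finset.univ.sup n
  have h2 : ∀ i, (a ^ N) • σ i = 0 := by
    intro i
    apply (bijective_ev c E' hq).1
    rw [ev_zero]
    have h3 := ev_smul A c (a ^ N) (σ i)
    have h4 : (show Γ(Y, ⊤) from Coh.toGlobal (Y ↘ Spec (CommRingCat.of A)) (a ^ N)) = ā ^ N :=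
      map_pow _ _ _
    rw [h4] at h3
    have h5 : n i ≤ N := Finset.le_sup (f := n) (Finset.mem_univ i)
    have h6 : ā ^ N = ā ^ (N - n i) * ā ^ n i := by rw [← pow_add]; congr 1; omega
    rw [h6, mul_smul, hn i, smul_zero] at h3
    exact h3
  refine ⟨N, ?_⟩
  have h7 : ∀ j : Fin r, G.map (Sigma.ι (fun _ : Fin r => Coh.structureModule Y) j) ≫
      G.map e.inv ≫ ((a ^ N) • α) = 0 := fun j => by
    rw [Linear.comp_smul, Linear.comp_smul]
    exact h2 j
  have h8 : G.map e.inv ≫ ((a ^ N) • α) = 0 := by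
    have h9 : G.map (𝟙 (FlatMod.freeMod Y r)) ≫ G.map e.inv ≫ ((a ^ N) • α) = 0 := by
      rw [← sum_prj_ι (Coh.structureModule Y), Functor.map_sum, Preadditive.sum_comp]
      apply Finset.sum_eq_zero
      intro i _
      rw [Functor.map_comp, Category.assoc, h7 i, comp_zero]
    rwa [CategoryTheory.Functor.map_id, Category.id_comp] at h9
  have : IsIso (G.map e.inv) := inferInstance
  exact (cancel_epi (G.map e.inv)).1 (h8.trans comp_zero.symm)

theorem kill_of_nice [IsAffine Y] {P : DCoh.D Y} {c : ℤ}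
    (h : Groth.Agent.Lib.Helper25.HomVanNice.Nice Y P c) : Kill A a Y P :=
  Groth.Agent.Lib.Helper25.NiceInduction.of_nice (Kill A a Y) (fun e h => kill_of_iso e h)
    (fun _ hP => kill_of_isZero hP) (fun T hT h₁ h₃ => kill_of_triangle T hT h₁ h₃)
    kill_single_free h

end Kill

/-- the property used in the induction: `Kill` for every structure morphism to `Spec A` -/
def Pr (Y : Scheme.{u}) (P : DCoh.D Y) : Prop :=
  ∀ (s : Y ⟶ Spec (CommRingCat.of A)),
    letI : Y.Over (Spec (CommRingCat.of A)) := ⟨s⟩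
    Kill A a Y P

variable {A a}

/-- restriction step -/
lemma exists_restrict_eq_zero {Y : Scheme.{u}} (s : Y ⟶ Spec (CommRingCat.of A)) (T : Y.Opens)
    (E : DCoh.D Y) (hT : Pr A a T ((DCoh.restrictD T.ι).obj E)) (K : DCoh.D Y)
    (hK : DCoh.IsQCohD K) (hKt : Tors A a Y s K) (β : E ⟶ K) :
    letI : Y.Over (Spec (CommRingCat.of A)) := ⟨s⟩
    ∃ n : ℕ, ∀ m : ℕ, n ≤ m → (DCoh.restrictD T.ι).map ((a ^ m) • β) = 0 := by
  letI : Y.Over (Spec (CommRingCat.of A)) := ⟨s⟩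
  letI : (T : Scheme.{u}).Over (Spec (CommRingCat.of A)) := ⟨T.ι ≫ s⟩
  haveI : T.ι.IsOver (Spec (CommRingCat.of A)) := ⟨rfl⟩
  obtain ⟨n, hn⟩ := hT (T.ι ≫ s) _ (Groth.Agent.Lib.Helper25.RGZ4.isQCohD_restrictD T.ι K hK)
    (tors_restrict s T K hKt) ((DCoh.restrictD T.ι).map β)
  refine ⟨n, fun m hm => ?_⟩
  have h1 : a ^ m = a ^ (m - n) * a ^ n := by rw [← pow_add]; congr 1; omega
  rw [h1, mul_smul, Functor.map_smul, Functor.map_smul, hn, smul_zero]

/-- **Mayer–Vietoris step** -/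
theorem pr_of_cover {Y : Scheme.{u}} (V W : Y.Opens) (hVW : V ⊔ W = ⊤) (E : DCoh.D Y)
    (hV : Pr A a V ((DCoh.restrictD V.ι).obj E)) (hW : Pr A a W ((DCoh.restrictD W.ι).obj E))
    (hI : Pr A a (V ⊓ W : Y.Opens) ((DCoh.restrictD (V ⊓ W).ι).obj E)) : Pr A a Y E := by
  intro s
  letI : Y.Over (Spec (CommRingCat.of A)) := ⟨s⟩
  intro E' hq ht α
  haveI := Groth.Agent.Lib.Helper25.MVSupp.preservesFiniteLimits_extZero V
  haveI := Groth.Agent.Lib.Helper25.MVSupp.preservesFiniteLimits_extZero W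
  haveI := Groth.Agent.Lib.Helper25.MVSupp.preservesFiniteLimits_extZero (V ⊓ W)
  obtain ⟨n₁, h₁⟩ := exists_restrict_eq_zero s V E hV E' hq ht α
  obtain ⟨n₂, h₂⟩ := exists_restrict_eq_zero s W E hW E' hq ht α
  let β : E ⟶ E' := (a ^ (n₁ + n₂)) • α
  have hβV : (DCoh.restrictD V.ι).map β = 0 := h₁ _ (by omega)
  have hβW : (DCoh.restrictD W.ι).map β = 0 := h₂ _ (by omega)
  obtain ⟨f, b, d, hT⟩ := Groth.Agent.Lib.Helper25.MVShriek.exists_shriek_mv_triangle hVW E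
  let adj : ∀ (T : Y.Opens) [PreservesFiniteLimits (CxOX.extZero T.ι)],
      CxOX.extZeroD T.ι ⊣ DCoh.restrictD T.ι := fun T _ =>
    Groth.Agent.Lib.helper25.DerivedAdj.mapDerivedCategoryAdj (CxOX.extZeroAdj T.ι)
  have hb : b ≫ β = 0 := by
    apply biprod.hom_ext'
    · apply ((adj V).homEquiv _ _).injective
      rw [comp_zero, Adjunction.homEquiv_unit, Adjunction.homEquiv_unit, Functor.map_zero,
        comp_zero, ← Category.assoc, Functor.map_comp, hβV, comp_zero, comp_zero]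
    · apply ((adj W).homEquiv _ _).injective
      rw [comp_zero, Adjunction.homEquiv_unit, Adjunction.homEquiv_unit, Functor.map_zero,
        comp_zero, ← Category.assoc, Functor.map_comp, hβW, comp_zero, comp_zero]
  obtain ⟨ψ, hψ⟩ := Triangle.yoneda_exact₃ _ hT β hb
  let G := (DCoh.restrictD (V ⊓ W).ι).obj E
  let R := DCoh.restrictD (V ⊓ W).ι
  let e₁ := (shiftEquiv (DCoh.D Y) (1 : ℤ)).toAdjunction.homEquiv
    ((CxOX.extZeroD (V ⊓ W).ι).obj G) E'
  let e₂ := (adj (V ⊓ W)).homEquiv G (E'⟦(-1 : ℤ)⟧)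
  have hθ : ∀ g : E' ⟶ E', e₂ (e₁ (ψ ≫ g)) = e₂ (e₁ ψ) ≫ R.map (g⟦(-1 : ℤ)⟧') := by
    intro g
    show (adj (V ⊓ W)).homEquiv _ _
      ((shiftEquiv (DCoh.D Y) (1 : ℤ)).toAdjunction.homEquiv _ _ (ψ ≫ g)) = _
    rw [Adjunction.homEquiv_naturality_right, Adjunction.homEquiv_naturality_right]
    rfl
  letI : ((V ⊓ W : Y.Opens) : Scheme.{u}).Over (Spec (CommRingCat.of A)) := ⟨(V ⊓ W).ι ≫ s⟩
  haveI : (V ⊓ W).ι.IsOver (Spec (CommRingCat.of A)) := ⟨rfl⟩
  obtain ⟨m, hm⟩ := hI ((V ⊓ W).ι ≫ s) _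
    (Groth.Agent.Lib.Helper25.RGZ4.isQCohD_restrictD _ _ (isQCohD_shift E' hq (-1)))
    (tors_restrict s _ _ (tors_shift s E' (-1) ht)) (e₂ (e₁ ψ))
  have hz : e₂ (e₁ 0) = 0 := by
    refine (congrArg (fun x => e₂ (e₁ x)) (comp_zero (f := ψ) (Z := E')).symm).trans
      ((hθ 0).trans ?_)
    rw [Functor.map_zero, Functor.map_zero, comp_zero]
  have hs : e₂ (e₁ ((a ^ m) • ψ)) = 0 := by
    have e1 : (a ^ m) • ψ = ψ ≫ ((a ^ m) • 𝟙 E') := by rw [Linear.comp_smul, Category.comp_id]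
    refine (congrArg (fun x => e₂ (e₁ x)) e1).trans ((hθ _).trans ?_)
    rw [Functor.map_smul, Functor.map_smul, CategoryTheory.Functor.map_id,
      CategoryTheory.Functor.map_id, Linear.comp_smul, Category.comp_id, hm]
  have h4 : (a ^ m) • ψ = 0 := e₁.injective (e₂.injective (hs.trans hz.symm))
  refine ⟨m + (n₁ + n₂), ?_⟩
  rw [pow_add, mul_smul]
  show (a ^ m) • β = 0
  calc (a ^ m) • β = (a ^ m) • ((Triangle.mk f b d).mor₃ ≫ ψ) :=
        congrArg (fun x => (a ^ m) • x) hψ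
    _ = (Triangle.mk f b d).mor₃ ≫ ((a ^ m) • ψ) := (Linear.comp_smul _ _ _ _ _ _).symm
    _ = 0 := by rw [h4, comp_zero]

/-- **powers of `a` kill maps from perfect objects to torsion objects of `D_QCoh`** (torsion in the form
`E'|_{D(ā)} = 0`) -/
theorem pow_smul_eq_zero' (X : Scheme.{u}) [X.Over (Spec (CommRingCat.of A))] [CompactSpace ↥X]
    [QuasiSeparatedSpace ↥X] {E E' : DCoh.D X} (hE : DCoh.IsPerfect E) (hE'q : DCoh.IsQCohD E')
    (ht : Tors A a X (X ↘ Spec (CommRingCat.of A)) E')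
    (α : E ⟶ E') : ∃ n : ℕ, (a ^ n) • α = 0 := by
  have hPr : Pr A a X E :=
    Groth.Agent.Lib.Helper25.PerfectInduction.perfect_induction (Pr A a)
      (fun Y _ P c h s => by
        letI : Y.Over (Spec (CommRingCat.of A)) := ⟨s⟩
        exact kill_of_nice h)
      (fun Y V W P hVW h1 h2 h3 => pr_of_cover V W hVW P h1 h2 h3) X E hE
  exact hPr (X ↘ Spec (CommRingCat.of A)) E' hE'q ht α

/-- **powers of `a` kill maps from perfect objects to torsion objects of `D_QCoh`** -/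
theorem pow_smul_eq_zero (X : Scheme.{u}) [X.Over (Spec (CommRingCat.of A))] [CompactSpace ↥X]
    [QuasiSeparatedSpace ↥X] {E E' : DCoh.D X} (hE : DCoh.IsPerfect E) (hE'q : DCoh.IsQCohD E')
    (hsupp : ∀ i : ℤ, CohB1.support (DCoh.HD E' i) ⊆
      (X.zeroLocus (U := ⊤) {Coh.toGlobal (X ↘ Spec (CommRingCat.of A)) a} : Set X))
    (α : E ⟶ E') : ∃ n : ℕ, (a ^ n) • α = 0 := by
  refine pow_smul_eq_zero' X hE hE'q ?_ α
  refine Groth.Agent.Lib.Helper25.SchKInj.isZero_restrictD_of_support _ E' (fun i => ?_)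
  rw [← Scheme.zeroLocus_singleton]
  exact hsupp i

end Groth.Agent.Lib.Helper25.PowKill
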