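import Mathlib
import Groth.Agent.Lib.Helper25.PowKill
import Groth.Agent.Lib.Helper25.KLinUnit
import Groth.Agent.Lib.Helper25.ApproxExtend
import Groth.Agent.Lib.Helper25.RGZ1
import Groth.Agent.Lib.Helper25.RpushQC
import Groth.Agent.Lib.Helper25.QCCRpush

/-!
# Lifting morphisms defined over a quasi-compact open (helper25)

`lift_affine` (S1097): `X` affine, `U ⊆ X` quasi-compact open, `E` perfect, `E' ∈ D_QCoh(O_X)`, `α : E|_U ⟶ E'|_U`;
then there are a perfect `E₁` and `β : E₁ ⟶ E`, `γ : E₁ ⟶ E'` with `β|_U` an isomorphism and `β|_U ≫ α = γ|_U`.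

* `step`: for `X` qcqs over `Spec A`, `a ∈ A`, `K` perfect, `C ∈ D_QCoh` vanishing on `D(ā)`, a map `δ : K ⟶ C`
  factors through the cone `K'` of `aⁿ : K ⟶ K` (`PowKill.pow_smul_eq_zero'`), which vanishes on `D(ā)`.
* `steps`: iteration along a list (Koszul-type object vanishing on `⋃ D(ā_i)`).
* `lift`: the general statement for `U = ⋃ D(ā_i)` quasi-compact in a qcqs `X` over `Spec A`
  (cone `C` of `E' ⟶ Rj_* j^* E'`, adjunction `j^* ⊣ Rj_*` with invertible counit).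
-/

set_option autoImplicit false
universe u
open CategoryTheory CategoryTheory.Limits AlgebraicGeometry Opposite
attribute [local instance] HasDerivedCategory.standard

namespace Groth.Agent.Lib.Helper25.LiftOpen

open Pretriangulated DerivedCategory TopologicalSpace Scheme.Modules
open Groth.Agent.Lib.Helper25.PowKill Groth.Agent.Lib.Helper25.KLinRestrict
  Groth.Agent.Lib.Helper25.KLinUnit Groth.Agent.Lib.Helper25.ApproxExtend
  Groth.Agent.Lib.helper25.DCohPerfect Groth.Agent.Lib.Helper25.HomVanMV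

variable (A : Type u) [CommRing A]

/-- one Koszul step: factor `δ : K ⟶ C` through the cone of `aⁿ : K ⟶ K` -/
lemma step (X : Scheme.{u}) [X.Over (Spec (CommRingCat.of A))] [CompactSpace ↥X]
    [QuasiSeparatedSpace ↥X] (a : A) {K C : DCoh.D X} (hK : DCoh.IsPerfect K)
    (hCq : DCoh.IsQCohD C) (ht : Tors A a X (X ↘ Spec (CommRingCat.of A)) C) (δ : K ⟶ C) :
    ∃ (K' : DCoh.D X) (c : K ⟶ K') (δ' : K' ⟶ C), DCoh.IsPerfect K' ∧ c ≫ δ' = δ ∧
      IsZero ((DCoh.restrictD (X.basicOpen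
        (show Γ(X, ⊤) from Coh.toGlobal (X ↘ Spec (CommRingCat.of A)) a)).ι).obj K') ∧
      ∀ W : X.Opens, IsZero ((DCoh.restrictD W.ι).obj K) →
        IsZero ((DCoh.restrictD W.ι).obj K') := by
  obtain ⟨n, hn⟩ := pow_smul_eq_zero' X hK hCq ht δ
  let g : K ⟶ K := (a ^ n) • 𝟙 K
  obtain ⟨K', c, d, hT⟩ := distinguished_cocone_triangle g
  have hg : g ≫ δ = 0 := by
    show ((a ^ n) • 𝟙 K) ≫ δ = 0
    rw [Linear.smul_comp, Category.id_comp, hn]
  obtain ⟨δ', hδ'⟩ := Triangle.yoneda_exact₂ _ hT δ hg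
  have hzero : ∀ W : X.Opens, IsIso ((DCoh.restrictD W.ι).map g) →
      IsZero ((DCoh.restrictD W.ι).obj K') := by
    intro W hW
    have hT' := (DCoh.restrictD W.ι).map_distinguished _ hT
    exact (Triangle.isZero₃_iff_isIso₁ _ hT').2 hW
  refine ⟨K', c, δ', isPerfect_obj₃ _ hT hK hK, hδ'.symm, ?_, ?_⟩
  · apply hzero
    let W : X.Opens := X.basicOpen (show Γ(X, ⊤) from Coh.toGlobal (X ↘ Spec (CommRingCat.of A)) a)
    letI : (W : Scheme.{u}).Over (Spec (CommRingCat.of A)) :=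
      ⟨W.ι ≫ (X ↘ Spec (CommRingCat.of A))⟩
    haveI : W.ι.IsOver (Spec (CommRingCat.of A)) := ⟨rfl⟩
    have h1 : (DCoh.restrictD W.ι).map g = (a ^ n) • 𝟙 _ := by
      show (DCoh.restrictD W.ι).map ((a ^ n) • 𝟙 K) = _
      rw [Functor.map_smul, CategoryTheory.Functor.map_id]
    rw [h1]
    refine isIso_smul_id A (a ^ n) ?_ _
    rw [map_pow]
    exact (isUnit_appTop_basicOpen _).pow n
  · intro W hW
    exact hzero W (isIso_of_isZero _ hW hW)

/-- iterated Koszul steps along a list of elements of `A` -/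
lemma steps (X : Scheme.{u}) [X.Over (Spec (CommRingCat.of A))] [CompactSpace ↥X]
    [QuasiSeparatedSpace ↥X] {C : DCoh.D X} (hCq : DCoh.IsQCohD C) :
    ∀ (as : List A), (∀ a ∈ as, Tors A a X (X ↘ Spec (CommRingCat.of A)) C) →
      ∀ {K : DCoh.D X} (_ : DCoh.IsPerfect K) (δ : K ⟶ C),
        ∃ (K' : DCoh.D X) (c : K ⟶ K') (δ' : K' ⟶ C), DCoh.IsPerfect K' ∧ c ≫ δ' = δ ∧
          (∀ a ∈ as, IsZero ((DCoh.restrictD (X.basicOpen
            (show Γ(X, ⊤) from Coh.toGlobal (X ↘ Spec (CommRingCat.of A)) a)).ι).obj K')) ∧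
          ∀ W : X.Opens, IsZero ((DCoh.restrictD W.ι).obj K) →
            IsZero ((DCoh.restrictD W.ι).obj K')
  | [], _, K, hK, δ => ⟨K, 𝟙 K, δ, hK, Category.id_comp _, fun a ha => by simp at ha,
      fun W hW => hW⟩
  | a :: as, ht, K, hK, δ => by
    obtain ⟨K₁, c₁, δ₁, hK₁, h1, hz1, hW1⟩ := step A X a hK hCq (ht a List.mem_cons_self) δ
    obtain ⟨K', c', δ', hK', h2, hz2, hW2⟩ :=
      steps X hCq as (fun b hb => ht b (List.mem_cons_of_mem _ hb)) hK₁ δ₁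
    refine ⟨K', c₁ ≫ c', δ', hK', by rw [Category.assoc, h2, h1], ?_,
      fun W hW => hW2 W (hW1 W hW)⟩
    intro b hb
    rcases List.mem_cons.1 hb with rfl | hb
    · exact hW2 _ hz1
    · exact hz2 b hb

/-- **lifting morphisms over a union of basic opens** -/
theorem lift (X : Scheme.{u}) [X.Over (Spec (CommRingCat.of A))] [CompactSpace ↥X]
    [QuasiSeparatedSpace ↥X] (U : X.Opens) (hUc : IsCompact (U : Set X)) (as : List A)
    (hle : ∀ a ∈ as, X.basicOpen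
      (show Γ(X, ⊤) from Coh.toGlobal (X ↘ Spec (CommRingCat.of A)) a) ≤ U)
    (hcov : ∀ x ∈ U, ∃ a ∈ as, x ∈ X.basicOpen
      (show Γ(X, ⊤) from Coh.toGlobal (X ↘ Spec (CommRingCat.of A)) a))
    (E E' : DCoh.D X) (hE : DCoh.IsPerfect E) (hE' : DCoh.IsQCohD E')
    (α : (DCoh.restrictD U.ι).obj E ⟶ (DCoh.restrictD U.ι).obj E') :
    ∃ (E₁ : DCoh.D X) (β : E₁ ⟶ E) (γ : E₁ ⟶ E'), DCoh.IsPerfect E₁ ∧
      IsIso ((DCoh.restrictD U.ι).map β) ∧
      (DCoh.restrictD U.ι).map β ≫ α = (DCoh.restrictD U.ι).map γ := by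
  haveI : CompactSpace ((U : X.Opens) : Scheme.{u}) := isCompact_iff_compactSpace.mp hUc
  haveI := Groth.Agent.Lib.Helper25.SchKInj.hasRpush U.ι
  obtain ⟨adj⟩ := Groth.Agent.Lib.Helper25.RGZ1.nonempty_adj U.ι
  let J := DCoh.restrictD U.ι
  let R := DCoh.Rpush U.ι
  let η : E' ⟶ R.obj (J.obj E') := adj.unit.app E'
  obtain ⟨C, q, w, hT⟩ := distinguished_cocone_triangle η
  -- `C` is quasi-coherent
  have hRJ : DCoh.IsQCohD (R.obj (J.obj E')) :=
    Groth.Agent.Lib.Helper25.RpushQC.isQCohD_Rpush U.ι _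
      (Groth.Agent.Lib.Helper25.RGZ4.isQCohD_restrictD U.ι E' hE')
  have hCq : DCoh.IsQCohD C :=
    Groth.Agent.H1.WSerreTri.cohIn_obj₂ (P := Groth.Agent.S1007.QC X) _ (rot_of_distTriang _ hT) hRJ
      (isQCohD_shift E' hE' 1)
  -- `C` vanishes on `U`
  have hJη : IsIso (J.map η) := by
    haveI := Groth.Agent.Lib.Helper25.RGZ1.isIso_counit U.ι adj (J.obj E')
    have h1 : J.map η ≫ adj.counit.app (J.obj E') = 𝟙 _ := adj.left_triangle_components E'
    haveI : IsIso (J.map η ≫ adj.counit.app (J.obj E')) := by rw [h1]; infer_instance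
    exact IsIso.of_isIso_comp_right (J.map η) (adj.counit.app (J.obj E'))
  have hCU : IsZero (J.obj C) :=
    (Triangle.isZero₃_iff_isIso₁ _ (J.map_distinguished _ hT)).2 hJη
  have hCt : ∀ a ∈ as, Tors A a X (X ↘ Spec (CommRingCat.of A)) C := fun a ha =>
    Groth.Agent.Lib.Helper25.MVSupp.isZero_restrictD_of_le (hle a ha) C hCU
  -- the obstruction
  let αt : E ⟶ R.obj (J.obj E') := adj.homEquiv E (J.obj E') α
  obtain ⟨K', c, δ', hK', hcδ, hz, -⟩ := steps A X hCq as hCt hE (αt ≫ q)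
  obtain ⟨E₁, β, v, hT₁⟩ := distinguished_cocone_triangle₁ c
  have hE₁ : DCoh.IsPerfect E₁ := (isPerfect_two_out_of_three _ hT₁).2.2 hE hK'
  -- `K'` vanishes on `U`
  have hK'U : IsZero (J.obj K') := by
    refine Groth.Agent.Lib.Helper25.SchKInj.isZero_restrictD_of_support U K' (fun i x hx hxU => ?_)
    obtain ⟨a, ha, hxa⟩ := hcov x hxU
    exact Groth.Agent.Lib.Helper25.SchKInj.support_HD_restrictD _ K' (hz a ha) i hx hxa
  have hJβ : IsIso (J.map β) :=
    (Triangle.isZero₃_iff_isIso₁ _ (J.map_distinguished _ hT₁)).1 hK'U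
  -- lift
  have h0 : (β ≫ αt) ≫ q = 0 := by
    have hβc : β ≫ c = 0 := comp_distTriang_mor_zero₁₂ _ hT₁
    rw [Category.assoc, ← hcδ, ← Category.assoc β c, hβc, zero_comp]
  obtain ⟨γ, hγ⟩ := Triangle.coyoneda_exact₂ _ hT (β ≫ αt) h0
  refine ⟨E₁, β, γ, hE₁, hJβ, ?_⟩
  apply (adj.homEquiv E₁ (J.obj E')).injective
  rw [adj.homEquiv_naturality_left]
  exact hγ.trans ((adj.unit.naturality γ).trans
    (adj.homEquiv_unit (X := E₁) (Y := J.obj E') (f := J.map γ)).symm)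

/-- **S1097**: lifting morphisms from a quasi-compact open of an affine scheme -/
theorem lift_affine (X : Scheme.{u}) [IsAffine X] (U : X.Opens) (hU : IsCompact (U : Set X))
    (E E' : DCoh.D X) (hE : DCoh.IsPerfect E) (hE' : DCoh.IsQCohD E')
    (α : (DCoh.restrictD U.ι).obj E ⟶ (DCoh.restrictD U.ι).obj E') :
    ∃ (E₁ : DCoh.D X) (β : E₁ ⟶ E) (γ : E₁ ⟶ E'), DCoh.IsPerfect E₁ ∧
      IsIso ((DCoh.restrictD U.ι).map β) ∧
      (DCoh.restrictD U.ι).map β ≫ α = (DCoh.restrictD U.ι).map γ := by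
  classical
  obtain ⟨s, hs, hUs⟩ := isCompact_and_isOpen_iff_finite_and_eq_biUnion_basicOpen.mp ⟨hU, U.isOpen⟩
  letI : X.Over (Spec (CommRingCat.of ↑Γ(X, ⊤))) := ⟨X.toSpecΓ⟩
  have hg : ∀ a : Γ(X, ⊤), (show Γ(X, ⊤) from
      Coh.toGlobal (X ↘ Spec (CommRingCat.of ↑Γ(X, ⊤))) a) = a := by
    intro a
    show (X.toSpecΓ.appTop.hom) ((Scheme.ΓSpecIso _).inv.hom a) = a
    rw [Scheme.toSpecΓ_appTop]
    exact congr($((Scheme.ΓSpecIso _).inv_hom_id) a)
  refine lift ↑Γ(X, ⊤) X U hU hs.toFinset.toList ?_ ?_ E E' hE hE' α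
  · intro a ha
    rw [hg a]
    have ha' : a ∈ s := by simpa using ha
    intro x hx
    have : x ∈ (U : Set X) := by
      rw [hUs]
      exact Set.mem_biUnion ha' hx
    exact this
  · intro x hx
    have hx' : x ∈ ⋃ i ∈ s, (X.basicOpen i : Set X) := by rw [← hUs]; exact hx
    obtain ⟨a, ha, hxa⟩ := Set.mem_iUnion₂.1 hx'
    refine ⟨a, by simpa using ha, ?_⟩
    rw [hg a]
    exact hxa

end Groth.Agent.Lib.Helper25.LiftOpen
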