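import Mathlib
import Groth.Agent.Lib.Helper25.LiftOpen

/-!
# Koszul-type objects of `D(O_X)` and Hom-vanishing (helper25)

For a scheme `X` over `Spec A` and a list `l` of elements of `A`:

* `hom_shift_zero_iff'`, `hom_shift_zero_iff`: `Hom(P[m], E) = 0 ↔ Hom(P, E[n]) = 0` for `m + n = 0`.
* `IsKos A X l K`: `K` is obtained from `O_X` (in degree `0`) by successively taking cones of the multiplications
  `a • 𝟙` for the members `a` of the list (so the object attached to the Koszul complex on `l` satisfies it).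
* `isPerfect_of_isKos`, `tors_of_isKos` (`K|_{D(a)} = 0` for `a ∈ l`).
* `descend`: for `G ∈ D_QCoh` vanishing on every `D(a)`, `a ∈ l`: `Hom(K, G) = 0 → Hom(O_X, G) = 0`
  (X quasi-compact quasi-separated; uses `PowKill.pow_smul_eq_zero'`).
* `isZero_HD_of_hom_eq_zero` (affine `X`): `Hom(K, G[n]) = 0 → Hⁿ(G) = 0` for such `G`.
* `van_shift`, `van_of_isKos`: `Hom(K, F) = 0` for `F ∈ D_QCoh^{≤ c}`, `c + length l < 0` (affine `X`).
-/

set_option autoImplicit false
universe u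
open CategoryTheory CategoryTheory.Limits AlgebraicGeometry Opposite

attribute [local instance] HasDerivedCategory.standard

namespace Groth.Agent.Lib.Helper25.KosObj

open Pretriangulated DerivedCategory TopologicalSpace Scheme.Modules
open Groth.Agent.Lib.Helper25.PowKill Groth.Agent.Lib.Helper25.KLinRestrict
  Groth.Agent.Lib.Helper25.KLinUnit Groth.Agent.Lib.Helper25.ApproxExtend
  Groth.Agent.Lib.helper25.DCohPerfect Groth.Agent.Lib.Helper25.HomVanMV
  Groth.Agent.Lib.Helper25.QCCEv Groth.Agent.Lib.Helper25.QCCRpush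

section Shift

variable {C : Type*} [Category C] [Preadditive C] [HasShift C ℤ]
  [∀ n : ℤ, (shiftFunctor C n).Additive]

/-- `Hom(P[m], E) = 0 ↔ Hom(P, E[n]) = 0` for `m + n = 0` -/
lemma hom_shift_zero_iff' (P E : C) (m n : ℤ) (hmn : m + n = 0) :
    (∀ φ : P⟦m⟧ ⟶ E, φ = 0) ↔ (∀ φ : P ⟶ E⟦n⟧, φ = 0) := by
  let adjS : shiftFunctor C m ⊣ shiftFunctor C n :=
    (shiftEquiv' C m n hmn).toAdjunction
  constructor
  · intro h φ
    have h2 := congrArg (adjS.homEquiv P E) (h ((adjS.homEquiv P E).symm φ))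
    rw [Equiv.apply_symm_apply] at h2
    rw [h2]
    exact homEquiv_zero adjS _ _
  · intro h φ
    have h2 := congrArg (adjS.homEquiv P E).symm (h (adjS.homEquiv P E φ))
    rw [Equiv.symm_apply_apply] at h2
    rw [h2, adjS.homEquiv_counit, Functor.map_zero, zero_comp]

/-- `Hom(P[-n], E) = 0 ↔ Hom(P, E[n]) = 0` -/
lemma hom_shift_zero_iff (P E : C) (n : ℤ) :
    (∀ φ : P⟦-n⟧ ⟶ E, φ = 0) ↔ (∀ φ : P ⟶ E⟦n⟧, φ = 0) :=
  hom_shift_zero_iff' P E (-n) n (by omega)

end Shift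

variable (A : Type u) [CommRing A] (X : Scheme.{u}) [X.Over (Spec (CommRingCat.of A))]

/-- `K` is an iterated cone of multiplications by the members of the list, starting from `O_X` -/
def IsKos : List A → DCoh.D X → Prop
  | [], K => Nonempty (K ≅ Sp X 0)
  | a :: l, K => ∃ (K₀ : DCoh.D X) (g : K₀ ⟶ K₀) (c : K₀ ⟶ K) (d : K ⟶ K₀⟦(1 : ℤ)⟧),
      IsKos l K₀ ∧ g = a • 𝟙 K₀ ∧ Triangle.mk g c d ∈ distTriang (DCoh.D X)

variable {A X}

lemma isPerfect_of_isKos : ∀ (l : List A) (K : DCoh.D X), IsKos A X l K → DCoh.IsPerfect K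
  | [], K, ⟨e⟩ => isPerfect_of_iso e.symm (isPerfect_Sp X 0)
  | a :: l, K, ⟨K₀, g, c, d, h0, hg, hT⟩ =>
    isPerfect_obj₃ _ hT (isPerfect_of_isKos l K₀ h0) (isPerfect_of_isKos l K₀ h0)

lemma tors_of_isKos : ∀ (l : List A) (K : DCoh.D X), IsKos A X l K →
    ∀ a ∈ l, Tors A a X (X ↘ Spec (CommRingCat.of A)) K
  | [], K, _ => fun a ha => by simp at ha
  | b :: l, K, ⟨K₀, g, c, d, h0, hg, hT⟩ => by
    intro a ha
    unfold Tors
    let W : X.Opens := X.basicOpen (show Γ(X, ⊤) from Coh.toGlobal (X ↘ Spec (CommRingCat.of A)) a)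
    have hT' := (DCoh.restrictD W.ι).map_distinguished _ hT
    refine (Triangle.isZero₃_iff_isIso₁ _ hT').2 ?_
    show IsIso ((DCoh.restrictD W.ι).map g)
    rcases List.mem_cons.1 ha with rfl | ha'
    · letI : (W : Scheme.{u}).Over (Spec (CommRingCat.of A)) :=
        ⟨W.ι ≫ (X ↘ Spec (CommRingCat.of A))⟩
      haveI : W.ι.IsOver (Spec (CommRingCat.of A)) := ⟨rfl⟩
      have h1 : (DCoh.restrictD W.ι).map g = a • 𝟙 _ := by
        rw [hg]
        show (DCoh.restrictD W.ι).map (a • 𝟙 K₀) = _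
        rw [Functor.map_smul, CategoryTheory.Functor.map_id]
      rw [h1]
      refine isIso_smul_id A a ?_ _
      exact isUnit_appTop_basicOpen _
    · have h2 := tors_of_isKos l K₀ h0 a ha'
      exact isIso_of_isZero _ h2 h2

/-- the descent step: vanishing of maps out of a Koszul-type object into a torsion object of `D_QCoh` forces
vanishing of maps out of `O_X` -/
lemma descend [CompactSpace ↥X] [QuasiSeparatedSpace ↥X] {G : DCoh.D X} (hG : DCoh.IsQCohD G) :
    ∀ (l : List A) (K : DCoh.D X), IsKos A X l K →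
      (∀ a ∈ l, Tors A a X (X ↘ Spec (CommRingCat.of A)) G) →
      (∀ φ : K ⟶ G, φ = 0) → ∀ σ : Sp X 0 ⟶ G, σ = 0
  | [], K, ⟨e⟩, _, h => fun σ => by
    have h1 := h (e.hom ≫ σ)
    rw [← cancel_epi e.hom, h1, comp_zero]
  | a :: l, K, ⟨K₀, g, c, d, h0, hg, hT⟩, ht, h => by
    refine descend hG l K₀ h0 (fun b hb => ht b (List.mem_cons_of_mem _ hb)) ?_
    intro ψ
    obtain ⟨m, hm⟩ := pow_smul_eq_zero' X (isPerfect_of_isKos l K₀ h0) hG
      (ht a List.mem_cons_self) ψ
    induction m with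
    | zero => simpa using hm
    | succ m ih =>
      apply ih
      have h1 : g ≫ (a ^ m • ψ) = 0 := by
        rw [hg, Linear.smul_comp, Category.id_comp, smul_smul, ← pow_succ']
        exact hm
      obtain ⟨ψ', hψ'⟩ := Triangle.yoneda_exact₂ _ hT (a ^ m • ψ) h1
      rw [hψ', h ψ']
      exact comp_zero

/-- **Claim A**: on an affine scheme, if all maps from a Koszul-type object to the torsion object `G⟦n⟧` of
`D_QCoh` vanish, then `Hⁿ(G) = 0` -/
theorem isZero_HD_of_hom_eq_zero [IsAffine X] {G : DCoh.D X} (hG : DCoh.IsQCohD G)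
    (l : List A) (K : DCoh.D X) (hK : IsKos A X l K)
    (ht : ∀ a ∈ l, Tors A a X (X ↘ Spec (CommRingCat.of A)) G) (n : ℤ)
    (h : ∀ φ : K ⟶ G⟦n⟧, φ = 0) : IsZero (DCoh.HD G n) := by
  have hGn : DCoh.IsQCohD (G⟦n⟧) := isQCohD_shift G hG n
  have h0 := descend hGn l K hK (fun a ha => tors_shift _ G n (ht a ha)) h
  have h1 : IsZero (DCoh.HD (G⟦n⟧) 0) := by
    haveI : (DCoh.HD (G⟦n⟧) 0).IsQuasicoherent := hGn 0
    refine Groth.Agent.Lib.helper7.QCohZero.isZero_of_subsingleton_sections _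
      (fun _ : Unit => (⊤ : X.Opens)) (fun _ => isAffineOpen_top X) (fun x => ⟨(), trivial⟩)
      (fun _ => ⟨fun x y => ?_⟩)
    obtain ⟨σ, rfl⟩ := (bijective_ev 0 (G⟦n⟧) hGn).2 x
    obtain ⟨τ, rfl⟩ := (bijective_ev 0 (G⟦n⟧) hGn).2 y
    rw [h0 σ, h0 τ]
  exact IsZero.of_iso h1 (((homologyFunctor X.Modules 0).shiftIso n 0 n (by omega)).app G).symm

open Groth.Agent.Lib.Helper25.HomVanAffine in
lemma van_shift {P : DCoh.D X} {c : ℤ} (m : ℤ) (h : Van X P (c + m)) : Van X (P⟦m⟧) c := by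
  intro K hK hLE
  refine (hom_shift_zero_iff' P K m (-m) (by omega)).2 (fun ψ => ?_)
  refine h (K⟦-m⟧) (isQCohD_shift K hK (-m)) ?_ ψ
  let t : Triangulated.TStructure (DCoh.D X) := TStructure.t
  haveI : t.IsLE K c := hLE
  exact t.isLE_shift K c (-m) (c + m) (by omega)

open Groth.Agent.Lib.Helper25.HomVanAffine in
/-- Koszul-type objects on `r` elements have no maps to `D_QCoh^{≤ c}` for `c + r < 0` (affine case) -/
lemma van_of_isKos [IsAffine X] : ∀ (l : List A) (K : DCoh.D X), IsKos A X l K →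
    ∀ c : ℤ, c + l.length < 0 → Van X K c
  | [], K, ⟨e⟩, c, hc => by
    refine van_of_iso e.symm ?_
    intro F hF hLE σ
    exact hom_unit_eq_zero X F hF c 0 (by simpa using hc) hLE σ
  | a :: l, K, ⟨K₀, g, c₀, d, h0, hg, hT⟩, c, hc => by
    have hc' : c + 1 + (l.length : ℤ) < 0 := by
      simp only [List.length_cons] at hc
      push_cast at hc
      omega
    have h1 : Van X K₀ c := van_of_isKos l K₀ h0 c (by omega)
    have h2 : Van X (K₀⟦(1 : ℤ)⟧) c := van_shift 1 (van_of_isKos l K₀ h0 (c + 1) hc')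
    exact van_of_triangle _ (rot_of_distTriang _ hT) h1 h2

end Groth.Agent.Lib.Helper25.KosObj
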