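import Mathlib
import Groth.Agent.Lib.Helper25.KosObj

/-!
# Koszul objects and the unit `E ⟶ Rj_* j^* E` on an affine scheme (helper25)

`X` affine over `Spec A`, `l` a list of elements of `A`, `U = ⋃_{a ∈ l} D(a)` (quasi-compact), `j : U ⟶ X`,
`adj : j^* ⊣ Rj_*`, `K` a Koszul-type object on `l` (`KosObj.IsKos`), `E ∈ D_QCoh(X)`; these data are bundled in
the structure `Setting l U adj K E`.

* `hom_Rpush_eq_zero`, `Setting.isZero_restrict_K`, `Setting.hom_shift_Rpush_eq_zero`: `Hom(K[n], Rj_* M) = 0`.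
* `Setting.cone_props`: a cone `C` of the unit `E ⟶ Rj_* j^* E` lies in `D_QCoh` and vanishes on each `D(a)`.
* `Setting.isZero_HD_cone`: `Hom(K[-(i+1)], E) = 0 → Hⁱ(C) = 0`.
* `Setting.isIso_truncLE_unit`, `Setting.hom_eq_zero_of_isIso_truncLE` (S1095),
  `Setting.isIso_truncGE_unit`, `Setting.hom_eq_zero_of_isIso_truncGE` (S1096), `Setting.iso_Rpush_iff` (S1044).
* `isLE_of_isKos`.
-/

set_option autoImplicit false
universe u
open CategoryTheory CategoryTheory.Limits AlgebraicGeometry Opposite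

attribute [local instance] HasDerivedCategory.standard

namespace Groth.Agent.Lib.Helper25.KosMain

open Pretriangulated DerivedCategory TopologicalSpace Scheme.Modules
open Groth.Agent.Lib.Helper25.PowKill Groth.Agent.Lib.Helper25.KLinRestrict
  Groth.Agent.Lib.Helper25.KLinUnit Groth.Agent.Lib.Helper25.ApproxExtend
  Groth.Agent.Lib.helper25.DCohPerfect Groth.Agent.Lib.Helper25.HomVanMV
  Groth.Agent.Lib.Helper25.QCCEv Groth.Agent.Lib.Helper25.QCCRpush
  Groth.Agent.Lib.Helper25.KosObj Groth.Agent.Lib.Helper25.HomVanAffine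

variable {A : Type u} [CommRing A] {X : Scheme.{u}} [X.Over (Spec (CommRingCat.of A))]

section Adj

variable (U : X.Opens) [DCoh.HasRpush U.ι] (adj : DCoh.restrictD U.ι ⊣ DCoh.Rpush U.ι)

include adj in
/-- maps from objects vanishing on `U` to `Rj_* M` vanish -/
lemma hom_Rpush_eq_zero (P : DCoh.D X) (hP : IsZero ((DCoh.restrictD U.ι).obj P)) (M : DCoh.D U)
    (φ : P ⟶ (DCoh.Rpush U.ι).obj M) : φ = 0 := by
  haveI := additive_Rpush U.ι
  have h2 := congrArg (adj.homEquiv P M) (hP.eq_of_src ((adj.homEquiv P M).symm φ) 0)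
  rw [Equiv.apply_symm_apply] at h2
  rw [h2]
  exact homEquiv_zero adj _ _

omit [DCoh.HasRpush U.ι] in
lemma isZero_restrictD_shift (P : DCoh.D X) (hP : IsZero ((DCoh.restrictD U.ι).obj P)) (n : ℤ) :
    IsZero ((DCoh.restrictD U.ι).obj (P⟦n⟧)) :=
  IsZero.of_iso (Functor.map_isZero (shiftFunctor _ n) hP)
    (((DCoh.restrictD U.ι).commShiftIso n).app P)

end Adj

/-- the common setting: `X` affine over `Spec A`, `U = ⋃_{a ∈ l} D(a)`, `K` a Koszul-type object on `l`,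
`E ∈ D_QCoh(X)`, and a cone `C` of the unit `E ⟶ Rj_* j^* E` -/
structure Setting (l : List A) (U : X.Opens) [DCoh.HasRpush U.ι]
    (adj : DCoh.restrictD U.ι ⊣ DCoh.Rpush U.ι) (K E : DCoh.D X) : Prop where
  hUc : IsCompact (U : Set X)
  hle : ∀ a ∈ l, X.basicOpen
      (show Γ(X, ⊤) from Coh.toGlobal (X ↘ Spec (CommRingCat.of A)) a) ≤ U
  hcov : ∀ x ∈ U, ∃ a ∈ l, x ∈ X.basicOpen
      (show Γ(X, ⊤) from Coh.toGlobal (X ↘ Spec (CommRingCat.of A)) a)
  hK : IsKos A X l K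
  hE : DCoh.IsQCohD E

namespace Setting

variable {l : List A} {U : X.Opens} [DCoh.HasRpush U.ι]
  {adj : DCoh.restrictD U.ι ⊣ DCoh.Rpush U.ι} {K E : DCoh.D X} (S : Setting l U adj K E)

include S

lemma isZero_restrict_K : IsZero ((DCoh.restrictD U.ι).obj K) := by
  refine Groth.Agent.Lib.Helper25.SchKInj.isZero_restrictD_of_support U K (fun i x hx hxU => ?_)
  obtain ⟨a, ha, hxa⟩ := S.hcov x hxU
  exact Groth.Agent.Lib.Helper25.SchKInj.support_HD_restrictD _ K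
    (tors_of_isKos l K S.hK a ha) i hx hxa

/-- `Hom(K[n], Rj_* M) = 0` -/
lemma hom_shift_Rpush_eq_zero (n : ℤ) (M : DCoh.D U) (φ : K⟦n⟧ ⟶ (DCoh.Rpush U.ι).obj M) : φ = 0 :=
  hom_Rpush_eq_zero U adj _ (isZero_restrictD_shift U K S.isZero_restrict_K n) M φ

/-- the cone of the unit is quasi-coherent and vanishes on each `D(a)` -/
lemma cone_props [IsAffine X] {C : DCoh.D X} {q : (DCoh.Rpush U.ι).obj ((DCoh.restrictD U.ι).obj E) ⟶ C}
    {w : C ⟶ E⟦(1 : ℤ)⟧} (hT : Triangle.mk (adj.unit.app E) q w ∈ distTriang (DCoh.D X)) :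
    DCoh.IsQCohD C ∧ ∀ a ∈ l, Tors A a X (X ↘ Spec (CommRingCat.of A)) C := by
  haveI : CompactSpace ((U : X.Opens) : Scheme.{u}) := isCompact_iff_compactSpace.mp S.hUc
  let J := DCoh.restrictD U.ι
  let R := DCoh.Rpush U.ι
  have hRJ : DCoh.IsQCohD (R.obj (J.obj E)) :=
    Groth.Agent.Lib.Helper25.RpushQC.isQCohD_Rpush U.ι _
      (Groth.Agent.Lib.Helper25.RGZ4.isQCohD_restrictD U.ι E S.hE)
  have hCq : DCoh.IsQCohD C :=
    Groth.Agent.H1.WSerreTri.cohIn_obj₂ (P := Groth.Agent.S1007.QC X) _ (rot_of_distTriang _ hT) hRJ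
      (isQCohD_shift E S.hE 1)
  have hJη : IsIso (J.map (adj.unit.app E)) := by
    haveI := Groth.Agent.Lib.Helper25.RGZ1.isIso_counit U.ι adj (J.obj E)
    have h1 : J.map (adj.unit.app E) ≫ adj.counit.app (J.obj E) = 𝟙 _ :=
      adj.left_triangle_components E
    haveI : IsIso (J.map (adj.unit.app E) ≫ adj.counit.app (J.obj E)) := by
      rw [h1]; infer_instance
    exact IsIso.of_isIso_comp_right (J.map (adj.unit.app E)) (adj.counit.app (J.obj E))
  have hCU : IsZero (J.obj C) :=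
    (Triangle.isZero₃_iff_isIso₁ _ (J.map_distinguished _ hT)).2 hJη
  exact ⟨hCq, fun a ha => Groth.Agent.Lib.Helper25.MVSupp.isZero_restrictD_of_le (S.hle a ha) C hCU⟩

/-- the key step: `Hom(K[-(i+1)], E) = 0 → Hⁱ(C) = 0` -/
lemma isZero_HD_cone [IsAffine X] {C : DCoh.D X}
    {q : (DCoh.Rpush U.ι).obj ((DCoh.restrictD U.ι).obj E) ⟶ C}
    {w : C ⟶ E⟦(1 : ℤ)⟧} (hT : Triangle.mk (adj.unit.app E) q w ∈ distTriang (DCoh.D X))
    (i j : ℤ) (hij : i + 1 = j) (h : ∀ φ : K⟦-j⟧ ⟶ E, φ = 0) : IsZero (DCoh.HD C i) := by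
  obtain ⟨hCq, hCt⟩ := S.cone_props hT
  refine isZero_HD_of_hom_eq_zero hCq l K S.hK hCt i ?_
  -- 1. `Hom(K, E[j]) = 0`
  have h1 : ∀ φ : K ⟶ E⟦j⟧, φ = 0 := (hom_shift_zero_iff K E j).1 h
  -- 2. `Hom(K, E[1][i]) = 0`
  let e : (E⟦(1 : ℤ)⟧)⟦i⟧ ≅ E⟦j⟧ := ((shiftFunctorAdd' (DCoh.D X) 1 i j (by omega)).app E).symm
  have h2 : ∀ φ : K ⟶ (E⟦(1 : ℤ)⟧)⟦i⟧, φ = 0 := by
    intro φ
    have h3 := h1 (φ ≫ e.hom)
    rw [← cancel_mono e.hom, h3, zero_comp]
  -- 3. `Hom(K[-i], E[1]) = 0`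
  have h3 : ∀ φ : K⟦-i⟧ ⟶ E⟦(1 : ℤ)⟧, φ = 0 := (hom_shift_zero_iff K (E⟦(1 : ℤ)⟧) i).2 h2
  -- 4. `Hom(K[-i], C) = 0`
  have h4 : ∀ ψ : K⟦-i⟧ ⟶ C, ψ = 0 := by
    intro ψ
    obtain ⟨ρ, hρ⟩ := Triangle.coyoneda_exact₃ _ hT ψ (h3 _)
    rw [hρ, S.hom_shift_Rpush_eq_zero (-i) _ ρ]
    exact zero_comp
  exact (hom_shift_zero_iff K C i).1 h4

/-- **S1095, first half** -/
theorem isIso_truncLE_unit [IsAffine X] (a : ℤ)
    (h : ∀ n : ℤ, n ≤ a → ∀ φ : K⟦-n⟧ ⟶ E, φ = 0) :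
    IsIso (((TStructure.t : Triangulated.TStructure (DCoh.D X)).truncLE (a - 1)).map
      (adj.unit.app E)) := by
  let t : Triangulated.TStructure (DCoh.D X) := TStructure.t
  obtain ⟨C, q, w, hT⟩ := distinguished_cocone_triangle (adj.unit.app E)
  have hC : t.IsGE C a := by
    change C.IsGE a
    rw [DerivedCategory.isGE_iff]
    intro i hi
    exact S.isZero_HD_cone hT i (i + 1) rfl (h (i + 1) (by omega))
  exact t.isIso₁_truncLE_map_of_isGE _ hT (a - 1) a (by omega) hC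

end Setting

/-- Koszul-type objects live in degrees `≤ 0` -/
lemma isLE_of_isKos : ∀ (l : List A) (K : DCoh.D X), IsKos A X l K →
    (TStructure.t : Triangulated.TStructure (DCoh.D X)).IsLE K 0
  | [], K, ⟨e⟩ => by
    let t : Triangulated.TStructure (DCoh.D X) := TStructure.t
    haveI : t.IsLE (Sp X 0) 0 := by
      change (Sp X 0).IsLE 0
      infer_instance
    exact t.isLE_of_iso e.symm 0
  | a :: l, K, ⟨K₀, g, c, d, h0, hg, hT⟩ => by
    let t : Triangulated.TStructure (DCoh.D X) := TStructure.t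
    haveI h1 : t.IsLE K₀ 0 := isLE_of_isKos l K₀ h0
    haveI h2 : t.IsLE (K₀⟦(1 : ℤ)⟧) (-1) := t.isLE_shift K₀ 0 1 (-1) (by omega)
    have h3 : t.IsLE (K₀⟦(1 : ℤ)⟧) 0 := t.isLE_of_le _ (-1) 0 (by omega)
    exact t.isLE₂ _ (rot_of_distTriang _ hT) 0 h1 h3

namespace Setting

variable {l : List A} {U : X.Opens} [DCoh.HasRpush U.ι]
  {adj : DCoh.restrictD U.ι ⊣ DCoh.Rpush U.ι} {K E : DCoh.D X} (S : Setting l U adj K E)

include S

/-- **S1095, second half** -/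
theorem hom_eq_zero_of_isIso_truncLE (b : ℤ)
    (hiso : IsIso (((TStructure.t : Triangulated.TStructure (DCoh.D X)).truncLE b).map
      (adj.unit.app E))) (n : ℤ) (hn : n ≤ b) (φ : K⟦-n⟧ ⟶ E) : φ = 0 := by
  let t : Triangulated.TStructure (DCoh.D X) := TStructure.t
  haveI h1 : t.IsLE K 0 := isLE_of_isKos l K S.hK
  haveI h2 : t.IsLE (K⟦-n⟧) n := t.isLE_shift K 0 (-n) n (by omega)
  haveI h3 : t.IsLE (K⟦-n⟧) b := t.isLE_of_le _ n b hn
  have h0 : φ ≫ adj.unit.app E = 0 := S.hom_shift_Rpush_eq_zero (-n) _ _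
  have hφ : t.liftTruncLE φ b ≫ (t.truncLEι b).app E = φ := t.liftTruncLE_ι φ b
  have h4 : t.liftTruncLE φ b ≫ (t.truncLE b).map (adj.unit.app E) = 0 := by
    apply t.to_truncLE_obj_ext
    have hnat : (t.truncLE b).map (adj.unit.app E) ≫
        (t.truncLEι b).app ((DCoh.Rpush U.ι).obj ((DCoh.restrictD U.ι).obj E)) =
        (t.truncLEι b).app E ≫ adj.unit.app E := (t.truncLEι b).naturality (adj.unit.app E)
    rw [Category.assoc]
    refine (congrArg (fun k => t.liftTruncLE φ b ≫ k) hnat).trans ?_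
    show t.liftTruncLE φ b ≫ (t.truncLEι b).app E ≫ adj.unit.app E = _
    rw [← Category.assoc, hφ, h0]
    exact zero_comp.symm
  have h5 : t.liftTruncLE φ b = 0 := by
    rw [← cancel_mono ((t.truncLE b).map (adj.unit.app E)), h4, zero_comp]
  rw [← hφ, h5, zero_comp]

/-- **S1096, first half** -/
theorem isIso_truncGE_unit [IsAffine X] (a : ℤ)
    (h : ∀ n : ℤ, a ≤ n → ∀ φ : K⟦-n⟧ ⟶ E, φ = 0) :
    IsIso (((TStructure.t : Triangulated.TStructure (DCoh.D X)).truncGE a).map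
      (adj.unit.app E)) := by
  let t : Triangulated.TStructure (DCoh.D X) := TStructure.t
  obtain ⟨C, q, w, hT⟩ := distinguished_cocone_triangle (adj.unit.app E)
  haveI hC : t.IsLE C (a - 2) := by
    change C.IsLE (a - 2)
    rw [DerivedCategory.isLE_iff]
    intro i hi
    exact S.isZero_HD_cone hT i (i + 1) rfl (h (i + 1) (by omega))
  have hC' : t.IsLE (C⟦(-1 : ℤ)⟧) (a - 1) := t.isLE_shift C (a - 2) (-1) (a - 1) (by omega)
  exact t.isIso₂_truncGE_map_of_isLE _ (inv_rot_of_distTriang _ hT) (a - 1) a (by omega) hC'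

/-- **S1096, second half** -/
theorem hom_eq_zero_of_isIso_truncGE [IsAffine X] (a : ℤ)
    (hiso : IsIso (((TStructure.t : Triangulated.TStructure (DCoh.D X)).truncGE a).map
      (adj.unit.app E))) (n : ℤ) (hn : a + (l.length : ℤ) ≤ n) (φ : K⟦-n⟧ ⟶ E) : φ = 0 := by
  let t : Triangulated.TStructure (DCoh.D X) := TStructure.t
  have h0 : φ ≫ adj.unit.app E = 0 := S.hom_shift_Rpush_eq_zero (-n) _ _
  have h1 : φ ≫ (t.truncGEπ a).app E = 0 := by
    have hnat : adj.unit.app E ≫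
        (t.truncGEπ a).app ((DCoh.Rpush U.ι).obj ((DCoh.restrictD U.ι).obj E)) =
        (t.truncGEπ a).app E ≫ (t.truncGE a).map (adj.unit.app E) :=
      (t.truncGEπ a).naturality (adj.unit.app E)
    rw [← cancel_mono ((t.truncGE a).map (adj.unit.app E)), Category.assoc, ← hnat,
      ← Category.assoc, h0, zero_comp]
    exact zero_comp.symm
  obtain ⟨φ', hφ'⟩ := Triangle.coyoneda_exact₂ _
    (t.triangleLEGE_distinguished (a - 1) a (by omega) E) φ h1
  have hE' : DCoh.IsQCohD ((t.truncLE (a - 1)).obj E) :=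
    Groth.Agent.Lib.Helper25.HomVanApps.isQCohD_truncLE E S.hE (a - 1)
  have h2 : φ' = 0 := by
    refine (hom_shift_zero_iff K _ n).2 (fun ψ => ?_) φ'
    refine van_of_isKos l K S.hK (a - 1 - n) (by omega) _ (isQCohD_shift _ hE' n) ?_ ψ
    exact t.isLE_shift _ (a - 1) n (a - 1 - n) (by omega)
  rw [hφ', h2]
  exact zero_comp

/-- **S1044** -/
theorem iso_Rpush_iff [IsAffine X] :
    (∃ M : DCoh.D (U : Scheme.{u}), DCoh.IsQCohD M ∧ Nonempty (E ≅ (DCoh.Rpush U.ι).obj M)) ↔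
      ∀ (n : ℤ) (φ : K⟦n⟧ ⟶ E), φ = 0 := by
  constructor
  · rintro ⟨M, -, ⟨e⟩⟩ n φ
    have h1 := S.hom_shift_Rpush_eq_zero n M (φ ≫ e.hom)
    rw [← cancel_mono e.hom, h1, zero_comp]
  · intro h
    obtain ⟨C, q, w, hT⟩ := distinguished_cocone_triangle (adj.unit.app E)
    have hC : IsZero C := by
      apply Groth.Agent.Lib.Helper25.DerBC.isZero_of_homology
      intro i
      exact S.isZero_HD_cone hT i (i + 1) rfl (h (-(i + 1)))
    haveI : IsIso (adj.unit.app E) := (Triangle.isZero₃_iff_isIso₁ _ hT).1 hC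
    exact ⟨_, Groth.Agent.Lib.Helper25.RGZ4.isQCohD_restrictD U.ι E S.hE,
      ⟨asIso (adj.unit.app E)⟩⟩

end Setting

end Groth.Agent.Lib.Helper25.KosMain
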