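import Mathlib
import Groth.Agent.Lib.Helper25.KosMain

/-!
# Pointed Koszul-type objects and factoring through Koszul objects on powers (helper25)

* `IsKosP A X P l K t`: `K` is an iterated cone of the multiplications by the members of `l` starting from `P`,
  and `t : P ⟶ K` is the canonical map.  `isKos_of_isKosP`, `isPerfect_of_isKosP`.
* `stepsP`: a map `δ : P ⟶ C` (`P` perfect, `C ∈ D_QCoh` vanishing on all `D(a)`, `a ∈ l`) factors through a pointed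
  Koszul-type object on a list of powers of the members of `l`.
* `exists_map`: comparison map between pointed Koszul-type objects when the members of one list are multiples of
  those of the other (TR3).
* `exists_uniform`: uniform exponent.
* `exists_factor` (general form of S1045): `X` affine, `E ∈ D_QCoh`, `Hⁱ(E)|_U = 0` for `-r < i ≤ 0`; then every
  `s : O_X ⟶ E` factors through every pointed Koszul-type object on `l^e` for `e ≫ 0`.
-/

set_option autoImplicit false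
universe u
open CategoryTheory CategoryTheory.Limits AlgebraicGeometry Opposite

attribute [local instance] HasDerivedCategory.standard

namespace Groth.Agent.Lib.Helper25.KosPointed

open Pretriangulated DerivedCategory TopologicalSpace Scheme.Modules
open Groth.Agent.Lib.Helper25.PowKill Groth.Agent.Lib.Helper25.KLinRestrict
  Groth.Agent.Lib.Helper25.KLinUnit Groth.Agent.Lib.Helper25.ApproxExtend
  Groth.Agent.Lib.helper25.DCohPerfect Groth.Agent.Lib.Helper25.HomVanMV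
  Groth.Agent.Lib.Helper25.QCCEv Groth.Agent.Lib.Helper25.QCCRpush
  Groth.Agent.Lib.Helper25.KosObj Groth.Agent.Lib.Helper25.HomVanAffine

variable (A : Type u) [CommRing A] (X : Scheme.{u}) [X.Over (Spec (CommRingCat.of A))]

/-- pointed Koszul-type objects over a base object `P`: iterated cones of multiplications, together with the
canonical map from `P` -/
def IsKosP (P : DCoh.D X) : List A → (K : DCoh.D X) → (P ⟶ K) → Prop
  | [], _, t => IsIso t
  | a :: l, K, t => ∃ (K₀ : DCoh.D X) (t₀ : P ⟶ K₀) (g : K₀ ⟶ K₀) (c : K₀ ⟶ K)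
      (d : K ⟶ K₀⟦(1 : ℤ)⟧),
      IsKosP P l K₀ t₀ ∧ g = a • 𝟙 K₀ ∧ Triangle.mk g c d ∈ distTriang (DCoh.D X) ∧ t = t₀ ≫ c

variable {A X}

lemma isKos_of_isKosP : ∀ (l : List A) (K : DCoh.D X) (t : Sp X 0 ⟶ K),
    IsKosP A X (Sp X 0) l K t → IsKos A X l K
  | [], K, t, h => by
    haveI : IsIso t := h
    exact ⟨(asIso t).symm⟩
  | a :: l, K, t, ⟨K₀, t₀, g, c, d, h0, hg, hT, _⟩ =>
    ⟨K₀, g, c, d, isKos_of_isKosP l K₀ t₀ h0, hg, hT⟩

lemma isPerfect_of_isKosP {P : DCoh.D X} (hP : DCoh.IsPerfect P) :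
    ∀ (l : List A) (K : DCoh.D X) (t : P ⟶ K), IsKosP A X P l K t → DCoh.IsPerfect K
  | [], K, t, h => by
    haveI : IsIso t := h
    exact isPerfect_of_iso (asIso t) hP
  | a :: l, K, t, ⟨K₀, t₀, g, c, d, h0, hg, hT, _⟩ =>
    isPerfect_obj₃ _ hT (isPerfect_of_isKosP hP l K₀ t₀ h0) (isPerfect_of_isKosP hP l K₀ t₀ h0)

/-- factor a map to a torsion object of `D_QCoh` through a pointed Koszul-type object on powers -/
lemma stepsP [CompactSpace ↥X] [QuasiSeparatedSpace ↥X] {C : DCoh.D X} (hCq : DCoh.IsQCohD C)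
    {P : DCoh.D X} (hP : DCoh.IsPerfect P) :
    ∀ (l : List A), (∀ a ∈ l, Tors A a X (X ↘ Spec (CommRingCat.of A)) C) →
      ∀ (δ : P ⟶ C), ∃ (l' : List A) (K' : DCoh.D X) (t' : P ⟶ K') (δ' : K' ⟶ C),
        List.Forall₂ (fun a b => ∃ n : ℕ, b = a ^ n) l l' ∧ IsKosP A X P l' K' t' ∧ t' ≫ δ' = δ
  | [], _, δ => ⟨[], P, 𝟙 P, δ, List.Forall₂.nil, (inferInstance : IsIso (𝟙 P)), Category.id_comp _⟩
  | a :: l, ht, δ => by
    obtain ⟨l₁, K₁, t₁, δ₁, hl₁, hK₁, h1⟩ :=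
      stepsP hCq hP l (fun b hb => ht b (List.mem_cons_of_mem _ hb)) δ
    have hK₁p := isPerfect_of_isKosP hP l₁ K₁ t₁ hK₁
    obtain ⟨n, hn⟩ := pow_smul_eq_zero' X hK₁p hCq (ht a List.mem_cons_self) δ₁
    let g : K₁ ⟶ K₁ := (a ^ n) • 𝟙 K₁
    obtain ⟨K', c, d, hT⟩ := distinguished_cocone_triangle g
    have hg : g ≫ δ₁ = 0 := by
      show ((a ^ n) • 𝟙 K₁) ≫ δ₁ = 0
      rw [Linear.smul_comp, Category.id_comp, hn]
    obtain ⟨δ', hδ'⟩ := Triangle.yoneda_exact₂ _ hT δ₁ hg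
    refine ⟨a ^ n :: l₁, K', t₁ ≫ c, δ', List.Forall₂.cons ⟨n, rfl⟩ hl₁,
      ⟨K₁, t₁, g, c, d, hK₁, rfl, hT, rfl⟩, ?_⟩
    rw [Category.assoc]
    exact (congrArg (fun k => t₁ ≫ k) hδ'.symm).trans h1

/-- comparison of pointed Koszul-type objects: if each member of `l₁` is a multiple of the corresponding member
of `l₂`, there is a map compatible with the maps from `P` -/
lemma exists_map {P : DCoh.D X} : ∀ (l₁ l₂ : List A),
    List.Forall₂ (fun x y => ∃ z : A, x = z * y) l₁ l₂ →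
    ∀ (K : DCoh.D X) (t : P ⟶ K) (K' : DCoh.D X) (t' : P ⟶ K'),
      IsKosP A X P l₁ K t → IsKosP A X P l₂ K' t' → ∃ m : K ⟶ K', t ≫ m = t'
  | [], [], _, K, t, K', t', h, _ => by
    haveI : IsIso t := h
    exact ⟨inv t ≫ t', by rw [IsIso.hom_inv_id_assoc]⟩
  | x :: l₁, y :: l₂, hl, K, t, K', t', ⟨K₀, t₀, g, c, d, h0, hg, hT, ht⟩,
      ⟨K₀', t₀', g', c', d', h0', hg', hT', ht'⟩ => by
    obtain ⟨⟨z, hz⟩, hl'⟩ := List.forall₂_cons.1 hl
    obtain ⟨m₀, hm₀⟩ := exists_map l₁ l₂ hl' K₀ t₀ K₀' t₀' h0 h0'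
    have hcomm : g ≫ m₀ = (z • m₀) ≫ g' := by
      rw [hg, hg', Linear.smul_comp, Category.id_comp, Linear.comp_smul, Category.comp_id,
        smul_smul, hz, mul_comm]
    obtain ⟨m, hm1, -⟩ := complete_distinguished_triangle_morphism _ _ hT hT' (z • m₀) m₀ hcomm
    refine ⟨m, ?_⟩
    rw [ht, ht', Category.assoc]
    have hm1' : c ≫ m = m₀ ≫ c' := hm1
    refine (congrArg (fun k => t₀ ≫ k) hm1').trans ?_
    show t₀ ≫ m₀ ≫ c' = _
    rw [← Category.assoc, hm₀]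

/-- uniform exponent -/
lemma exists_uniform : ∀ (l l' : List A), List.Forall₂ (fun a b => ∃ n : ℕ, b = a ^ n) l l' →
    ∃ e₀ : ℕ, ∀ e : ℕ, e₀ ≤ e →
      List.Forall₂ (fun x y => ∃ z : A, x = z * y) (l.map (fun a => a ^ e)) l'
  | [], [], _ => ⟨0, fun _ _ => List.Forall₂.nil⟩
  | a :: l, b :: l', h => by
    obtain ⟨⟨n, hn⟩, h'⟩ := List.forall₂_cons.1 h
    obtain ⟨e₁, he₁⟩ := exists_uniform l l' h'
    refine ⟨max n e₁, fun e he => ?_⟩
    rw [List.map_cons]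
    refine List.Forall₂.cons ⟨a ^ (e - n), ?_⟩ (he₁ e ((le_max_right _ _).trans he))
    rw [hn, ← pow_add, Nat.sub_add_cancel ((le_max_left _ _).trans he)]

/-- **factoring through Koszul objects on powers** (general form of S1045) -/
theorem exists_factor [IsAffine X] (l : List A) (U : X.Opens)
    (hle : ∀ a ∈ l, X.basicOpen
      (show Γ(X, ⊤) from Coh.toGlobal (X ↘ Spec (CommRingCat.of A)) a) ≤ U)
    (E : DCoh.D X) (hE : DCoh.IsQCohD E)
    (hU : ∀ i : ℤ, -(l.length : ℤ) < i → i ≤ 0 → IsZero ((DCoh.HD E i).restrict U.ι))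
    (s : Sp X 0 ⟶ E) :
    ∃ e₀ : ℕ, ∀ e : ℕ, e₀ ≤ e → ∀ (K : DCoh.D X) (t : Sp X 0 ⟶ K),
      IsKosP A X (Sp X 0) (l.map (fun a => a ^ e)) K t → ∃ ψ : K ⟶ E, t ≫ ψ = s := by
  rcases hl : l with _ | ⟨a₀, l₀⟩
  · refine ⟨0, fun e _ K t h => ?_⟩
    haveI : IsIso t := h
    exact ⟨inv t ≫ s, by rw [IsIso.hom_inv_id_assoc]⟩
  rw [← hl]
  have hr : 1 ≤ (l.length : ℤ) := by
    rw [hl]
    simp only [List.length_cons]
    push_cast
    omega
  set r : ℤ := (l.length : ℤ) with hr_def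
  let t : Triangulated.TStructure (DCoh.D X) := TStructure.t
  -- truncations
  let E₀ := (t.truncLE 0).obj E
  let ι₀ : E₀ ⟶ E := (t.truncLEι 0).app E
  haveI hS : t.IsLE (Sp X 0) 0 := by
    change (Sp X 0).IsLE 0
    infer_instance
  let s₀ : Sp X 0 ⟶ E₀ := t.liftTruncLE s 0
  have hs₀ : s₀ ≫ ι₀ = s := t.liftTruncLE_ι s 0
  have hE₀q : DCoh.IsQCohD E₀ := Groth.Agent.Lib.Helper25.HomVanApps.isQCohD_truncLE E hE 0
  let T := (t.triangleLEGE (-r) (-r + 1) (by omega)).obj E₀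
  have hT : T ∈ distTriang _ := t.triangleLEGE_distinguished (-r) (-r + 1) (by omega) E₀
  let C : DCoh.D X := (t.truncGE (-r + 1)).obj E₀
  let π : E₀ ⟶ C := (t.truncGEπ (-r + 1)).app E₀
  have hCq : DCoh.IsQCohD C :=
    @Groth.Agent.H1.TruncCoh.cohIn_truncGE (ModSite.Mod X.sheaf) _ _
      (HasDerivedCategory.standard _) (Groth.Agent.S1007.QC X) _ E₀ hE₀q (-r + 1)
  haveI hCGE : t.IsGE C (-r + 1) := by
    change t.IsGE ((t.truncGE (-r + 1)).obj E₀) (-r + 1)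
    infer_instance
  haveI hE₀LE : t.IsLE E₀ 0 := by
    change t.IsLE ((t.truncLE 0).obj E) 0
    infer_instance
  haveI hCLE : t.IsLE C 0 := by
    change t.IsLE ((t.truncGE (-r + 1)).obj E₀) 0
    infer_instance
  -- `C` vanishes on `U`
  have hCU : IsZero ((DCoh.restrictD U.ι).obj C) := by
    refine Groth.Agent.Lib.Helper25.SchKInj.isZero_restrictD_of_support U C (fun i => ?_)
    rw [← Groth.Agent.Lib.helper7.RestrictSupport.isZero_restrict_iff_support]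
    by_cases h1 : i < -r + 1
    · exact Functor.map_isZero _ (C.isZero_of_isGE (-r + 1) i h1)
    by_cases h2 : 0 < i
    · exact Functor.map_isZero _ (C.isZero_of_isLE 0 i h2)
    · haveI := Groth.Agent.H1.TruncCoh.isIso_homology_truncGEπ E₀ (-r + 1) i (by omega)
      haveI := Groth.Agent.H1.WayOutCoh.isIso_homology_truncLEι E 0 i (by omega)
      let e1 : DCoh.HD C i ≅ DCoh.HD E i :=
        (asIso ((homologyFunctor X.Modules i).map π)).symm ≪≫
          asIso ((homologyFunctor X.Modules i).map ι₀)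
      exact IsZero.of_iso (hU i (by omega) (by omega)) ((restrictFunctor U.ι).mapIso e1)
  have hCt : ∀ a ∈ l, Tors A a X (X ↘ Spec (CommRingCat.of A)) C := fun a ha =>
    Groth.Agent.Lib.Helper25.MVSupp.isZero_restrictD_of_le (hle a ha) C hCU
  -- factor `s₀ ≫ π`
  obtain ⟨l', K', t', δ', hl', hK', h1⟩ := stepsP hCq (isPerfect_Sp X 0) l hCt (s₀ ≫ π)
  obtain ⟨e₀, he₀⟩ := exists_uniform l l' hl'
  refine ⟨e₀, fun e he K tK hK => ?_⟩
  obtain ⟨m, hm⟩ := exists_map _ _ (he₀ e he) K tK K' t' hK hK'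
  have hKos : IsKos A X (l.map (fun a => a ^ e)) K := isKos_of_isKosP _ K tK hK
  -- lift `m ≫ δ'` to `E₀`
  have hQ₁ : DCoh.IsQCohD T.obj₁ :=
    Groth.Agent.Lib.Helper25.HomVanApps.isQCohD_truncLE E₀ hE₀q (-r)
  haveI hLE₁ : t.IsLE T.obj₁ (-r) := by
    change t.IsLE ((t.truncLE (-r)).obj E₀) (-r)
    infer_instance
  have hLE₁' : t.IsLE (T.obj₁⟦(1 : ℤ)⟧) (-r - 1) := t.isLE_shift T.obj₁ (-r) 1 (-r - 1) (by omega)
  have h2 : (m ≫ δ') ≫ T.mor₃ = 0 :=
    van_of_isKos _ K hKos (-r - 1) (by rw [List.length_map]; omega) _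
      (isQCohD_shift _ hQ₁ 1) hLE₁' _
  obtain ⟨ψ₁', hψ₁'⟩ := Triangle.coyoneda_exact₃ T hT (m ≫ δ') h2
  let ψ₁ : K ⟶ E₀ := ψ₁'
  have hψ₁ : m ≫ δ' = ψ₁ ≫ π := hψ₁'
  -- correct the base point
  have h3 : (tK ≫ ψ₁ - s₀) ≫ π = 0 := by
    rw [Preadditive.sub_comp, Category.assoc, ← hψ₁, ← Category.assoc, hm, h1]
    exact sub_self _
  obtain ⟨ρ, hρ⟩ := Triangle.coyoneda_exact₂ T hT (tK ≫ ψ₁ - s₀) h3
  have hρ0 : ρ = 0 := hom_unit_eq_zero X T.obj₁ hQ₁ (-r) 0 (by omega) hLE₁ ρ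
  have h4 : tK ≫ ψ₁ = s₀ := by
    rw [hρ0, zero_comp] at hρ
    exact sub_eq_zero.1 hρ
  exact ⟨ψ₁ ≫ ι₀, by rw [← Category.assoc, h4, hs₀]⟩

end Groth.Agent.Lib.Helper25.KosPointed
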