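import Mathlib
import Groth.Agent.Lib.Helper25.FlatAmpPerfect

/-!
# Perfect ⟺ pseudo-coherent + locally finite tor dimension: auxiliary lemmas (helper25)

* `isPseudoCoherentD_restrictD`: `m`-pseudo-coherence restricts to open subschemes.
* `isPseudoCoherentD_of_isPerfect`: perfect ⟹ `m`-pseudo-coherent for all `m`.
* `locHasFiniteTorDim_of_isPerfect`: perfect ⟹ `DCoh.LocHasFiniteTorDim`.
-/

set_option autoImplicit false
universe u
open CategoryTheory CategoryTheory.Limits AlgebraicGeometry TopologicalSpace Opposite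
open Scheme.Modules

attribute [local instance] HasDerivedCategory.standard

namespace Groth.Agent.Lib.helper25.PerfectTor

open Groth.Agent.Lib.helper25.FlatClass Groth.Agent.Lib.helper25.IsoAbove
  Groth.Agent.Lib.helper25.FlatTrunc Groth.Agent.Lib.helper25.DCohRestrict
  Groth.Agent.Lib.helper25.DCohPerfect Groth.Agent.Lib.helper25.DCohPC
  Groth.Agent.Lib.helper25.DCohPC2 Groth.Agent.Lib.helper25.DCohPC3
  Groth.Agent.Lib.helper25.FlatAmpPerfect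

variable {X Y : Scheme.{u}}

/-- pseudo-coherence restricts to opens -/
lemma isPseudoCoherentD_restrictD {m : ℤ} {K : DCoh.D X} (h : DCoh.IsPseudoCoherentD m K) (V : X.Opens) :
    DCoh.IsPseudoCoherentD m ((DCoh.restrictD V.ι).obj K) := by
  refine isPseudoCoherentD_of_local (fun y => ?_)
  obtain ⟨V₂, hy₂, hpc⟩ := exists_pcData h (V.ι y)
  let W : (V : Scheme.{u}).Opens := V.ι ⁻¹ᵁ V₂
  let g : (W : Scheme.{u}) ⟶ (V₂ : Scheme.{u}) := V.ι ∣_ V₂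
  have hg : g ≫ V₂.ι = W.ι ≫ V.ι := morphismRestrict_ι V.ι V₂
  have h1 := PCData.restrict g hpc
  obtain ⟨c⟩ := nonempty_restrictD_comp_iso g V₂.ι K
  obtain ⟨d⟩ := nonempty_restrictD_congr_iso hg K
  obtain ⟨c'⟩ := nonempty_restrictD_comp_iso W.ι V.ι K
  exact ⟨W, W.ι, inferInstance, ⟨⟨y, hy₂⟩, rfl⟩, h1.of_iso (c.symm ≪≫ d ≪≫ c')⟩

/-- perfect ⟹ pseudo-coherent in every degree -/
lemma isPseudoCoherentD_of_isPerfect {K : DCoh.D X} (h : DCoh.IsPerfect K) (m : ℤ) :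
    DCoh.IsPseudoCoherentD m K := by
  intro x
  obtain ⟨V, hxV, hV⟩ := h x
  refine ⟨V, hxV, fun F hF => ?_⟩
  obtain ⟨E, hE, ⟨e⟩⟩ := hV F hF
  exact ⟨E, e.inv, hE, fun i _ => inferInstance, inferInstance⟩

/-- perfect ⟹ locally of finite tor dimension -/
lemma locHasFiniteTorDim_of_isPerfect {K : DCoh.D X} (h : DCoh.IsPerfect K) : DCoh.LocHasFiniteTorDim K := by
  intro x
  obtain ⟨V, hxV, hV⟩ := h x
  obtain ⟨F₀, ⟨a₀⟩⟩ := exists_rep K
  obtain ⟨E, ⟨⟨a, b, hab⟩, hf⟩, ⟨e⟩⟩ := hV F₀ ⟨a₀⟩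
  refine ⟨V, a, b, hxV, fun F' ⟨a'⟩ => ?_⟩
  obtain ⟨i1⟩ := nonempty_Q_res_iso V.ι (A := F') (B := F₀) ⟨a' ≪≫ a₀.symm⟩
  exact ⟨E, hab, fun i => Groth.Agent.Lib.helper16.FLF.isFlat_of_isFinLocFree _ (hf i), ⟨e.symm ≪≫ i1.symm⟩⟩

end Groth.Agent.Lib.helper25.PerfectTor
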