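import Mathlib
import Groth.Prelude.Def_DerSch2
import Groth.Agent.Lib.Helper25.DCohPC4
import Groth.Agent.Lib.Helper25.DCohHomology
import Groth.Agent.Lib.Helper21.ClosedFF
import Groth.Agent.Lib.Helper16.PushColim3
import Groth.Agent.S0888
import Groth.Agent.Lib.Helper16.QCohPullback
import Groth.Agent.Lib.Helper16.QCohFibre
import Groth.Agent.Lib.Helper28.RestrictCover

/-!
# helper25: base API for pseudo-coherence relative to a morphism (chart form)

* closed immersions: exactness of `i_*`, `homologyPushIso`, `isZero_of_isZero_push`, `isQuasicoherent_of_push`.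
* `isClosedImmersion_chartImm`.
* relative: `exists_chart`, `exists_closedImmersion_chart`, `isPseudoCoherentRel_of_chartPC_imp`, `chartPC_of_biprod`,
  `isPseudoCoherentRel_of_biprod` (S7214), `exists_isLE_of_isPseudoCoherentRel` (S6236),
  `isQCoh_HD_of_isPseudoCoherentRel` (S7213), `isQCohD_of_isPseudoCoherentRelAll` (S6235).
* absolute: `exists_local_homology_model`, `exists_upper_bound_of_isPseudoCoherentD`,
  `isQuasicoherent_homology_of_isPseudoCoherentD`.
-/

set_option autoImplicit false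
universe u
open CategoryTheory CategoryTheory.Limits AlgebraicGeometry Opposite

attribute [local instance] HasDerivedCategory.standard

namespace Groth.Agent.Lib.Helper25.RelPC

open Groth.Agent.Lib.helper25.DCohRestrict Groth.Agent.Lib.helper25.DCohHomology Scheme.Modules

section closed

variable {Z A : Scheme.{u}} (i : Z ⟶ A) [IsClosedImmersion i]

lemma preservesFiniteColimits_push : PreservesFiniteColimits (Scheme.Modules.pushforward i) := by
  have h := Groth.Agent.Lib.helper16.PushColim.preservesColimits_pushforward i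
  have h' : PreservesColimitsOfSize.{0, 0} (Scheme.Modules.pushforward i) :=
    preservesColimitsOfSize_shrink.{0, u, 0, u} _
  exact PreservesColimitsOfSize.preservesFiniteColimits _

lemma preservesFiniteLimits_push {Z A : Scheme.{u}} (i : Z ⟶ A) :
    PreservesFiniteLimits (Scheme.Modules.pushforward i) := by
  have : PreservesLimitsOfSize.{0, 0} (Scheme.Modules.pushforward i) :=
    (Scheme.Modules.pullbackPushforwardAdjunction i).rightAdjoint_preservesLimits
  exact PreservesLimitsOfSize.preservesFiniteLimits _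

/-- homology commutes with the direct image along a closed immersion -/
noncomputable def homologyPushIso (C : CochainComplex Z.Modules ℤ) (j : ℤ) :
    ((DerSch.pushCx i).obj C).homology j ≅ (Scheme.Modules.pushforward i).obj (C.homology j) := by
  haveI := preservesFiniteColimits_push i
  haveI := preservesFiniteLimits_push i
  exact (C.sc j).mapHomologyIso (Scheme.Modules.pushforward i)

lemma isZero_of_isZero_push (M : Z.Modules) (h : IsZero ((Scheme.Modules.pushforward i).obj M)) :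
    IsZero M := by
  haveI := Groth.Agent.Lib.helper21.ClosedFF.faithful_pushforward i
  rw [IsZero.iff_id_eq_zero]
  apply (Scheme.Modules.pushforward i).map_injective
  rw [Functor.map_zero]
  exact h.eq_of_src _ _

/-- a module on a closed subscheme is quasi-coherent if its direct image is -/
lemma isQuasicoherent_of_push (M : Z.Modules)
    (h : ((Scheme.Modules.pushforward i).obj M).IsQuasicoherent) : M.IsQuasicoherent := by
  haveI := Groth.Agent.Lib.helper21.ClosedFF.faithful_pushforward i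
  haveI := Groth.Agent.Lib.helper21.ClosedFF.full_pushforward i
  haveI : IsIso ((Scheme.Modules.pullbackPushforwardAdjunction i).counit.app M) := inferInstance
  haveI : (((Scheme.Modules.pushforward i ⋙ Scheme.Modules.pullback i).obj M) : Z.Modules).IsQuasicoherent :=
    Groth.Agent.Lib.helper16.QCohPullback.isQuasicoherent_pullback i
      ((Scheme.Modules.pushforward i).obj M)
  exact Groth.Agent.Lib.helper16.QCohFibre.isQuasicoherent_of_iso
    (asIso ((Scheme.Modules.pullbackPushforwardAdjunction i).counit.app M))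

end closed

section chart

variable {X : Scheme.{u}}

lemma isClosedImmersion_chartImm (U : X.Opens) (hU : IsAffineOpen U) {R : Type u} [CommRing R] {n : ℕ}
    (φ : MvPolynomial (Fin n) R →+* Γ(X, U)) (hφ : Function.Surjective φ) :
    IsClosedImmersion (DerSch.chartImm U φ) := by
  haveI : IsIso U.toSpecΓ := by
    rw [← hU.isoSpec_hom]
    infer_instance
  haveI : IsClosedImmersion (Spec.map (CommRingCat.ofHom φ)) :=
    IsClosedImmersion.spec_of_surjective _ hφ
  unfold DerSch.chartImm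
  infer_instance

end chart

section absolute

variable {A : Scheme.{u}}

/-- local strictly perfect models of the cohomology sheaves above `m` of an `m`-pseudo-coherent complex -/
lemma exists_local_homology_model {m : ℤ} (F : CochainComplex A.Modules ℤ)
    (h : DCoh.IsPseudoCoherentD m (DCoh.toD A F)) (x : A) :
    ∃ (W : A.Opens) (P : CochainComplex (W : Scheme.{u}).Modules ℤ), x ∈ W ∧ DCoh.IsStrictlyPerfect P ∧
      ∀ j : ℤ, m < j → Nonempty ((restrictFunctor W.ι).obj (F.homology j) ≅ P.homology j) := by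
  obtain ⟨W, hxW, hW⟩ := h x
  obtain ⟨P, α, hP, hα, -⟩ := hW F ⟨Iso.refl _⟩
  refine ⟨W, P, hxW, hP, fun j hj => ⟨?_⟩⟩
  haveI := hα j hj
  exact (homologyResIso W.ι F j).symm ≪≫
    ((DerivedCategory.homologyFunctorFactors _ j).app _).symm ≪≫
    (asIso ((DerivedCategory.homologyFunctor _ j).map α)).symm ≪≫
    (DerivedCategory.homologyFunctorFactors _ j).app _

/-- on a quasi-compact scheme a pseudo-coherent complex is bounded above -/
theorem exists_upper_bound_of_isPseudoCoherentD [CompactSpace A] {m : ℤ} (F : CochainComplex A.Modules ℤ)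
    (h : DCoh.IsPseudoCoherentD m (DCoh.toD A F)) : ∃ b : ℤ, ∀ j : ℤ, b < j → IsZero (F.homology j) := by
  choose W P hxW hP eP using exists_local_homology_model F h
  have hab : ∀ x, ∃ a b : ℤ, DCoh.VanishesOutside (P x) a b := fun x => (hP x).1
  choose a b hab using hab
  obtain ⟨t, ht⟩ := isCompact_univ.elim_finite_subcover (fun x : A => ((W x : A.Opens) : Set A))
    (fun x => (W x).isOpen) (fun x _ => Set.mem_iUnion.mpr ⟨x, hxW x⟩)
  have hcov : ⨆ x : t, W x.1 = ⊤ := by
    rw [eq_top_iff]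
    intro x _
    obtain ⟨y, hy⟩ := Set.mem_iUnion.mp (ht (Set.mem_univ x))
    obtain ⟨hyt, hxy⟩ := Set.mem_iUnion.mp hy
    exact TopologicalSpace.Opens.mem_iSup.mpr ⟨⟨y, hyt⟩, hxy⟩
  obtain ⟨b₁, hb₁⟩ := (t.image (fun x => b x)).exists_le
  refine ⟨max b₁ m, fun j hj => ?_⟩
  refine isZero_of_cover _ (fun x : t => W x.1) hcov (fun x => ?_)
  refine IsZero.of_iso ?_ (eP x.1 j (by omega)).some
  refine HomologicalComplex.ExactAt.isZero_homology (ShortComplex.exact_of_isZero_X₂ _ ?_)
  refine hab x.1 j (Or.inr ?_)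
  have h2 := hb₁ (b x.1) (Finset.mem_image_of_mem (fun x => b x) x.2)
  omega

/-- the cohomology sheaves above `m` of an `m`-pseudo-coherent complex are quasi-coherent -/
theorem isQuasicoherent_homology_of_isPseudoCoherentD {m : ℤ} (F : CochainComplex A.Modules ℤ)
    (h : DCoh.IsPseudoCoherentD m (DCoh.toD A F)) (j : ℤ) (hj : m < j) :
    (F.homology j).IsQuasicoherent := by
  choose W P hxW hP eP using exists_local_homology_model F h
  refine Groth.Agent.Lib.helper28.RestrictCover.isQuasicoherent_of_restrict_cover _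
    (fun x : A => ((W x : A.Opens) : Scheme.{u})) (fun x => (W x).ι) (fun x => ⟨x, ⟨x, hxW x⟩, rfl⟩)
    (fun x => ?_)
  haveI := Groth.Agent.Lib.helper25.DCohPC.isQuasicoherent_homology_of_isStrictlyPerfect (hP x) j
  exact Groth.Agent.Lib.helper16.QCohFibre.isQuasicoherent_of_iso (eP x j hj).some.symm

end absolute

section relative

variable {X Y : Scheme.{u}} (f : X ⟶ Y)

/-- around every point there is an affine chart on which `K` is chart-pseudo-coherent -/
lemma exists_chart {m : ℤ} {K : DCoh.D X} (h : DerSch.IsPseudoCoherentRel f m K) (x : X) :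
    ∃ (U : X.Opens) (V : Y.Opens) (n : ℕ) (φ : MvPolynomial (Fin n) Γ(Y, V) →+* Γ(X, U)),
      x ∈ U ∧ IsAffineOpen U ∧ IsAffineOpen V ∧ Function.Surjective φ ∧ DerSch.ChartPC m K U V φ := by
  obtain ⟨-, 𝒱, h𝒱, H𝒱⟩ := h
  have hx : f x ∈ (⨆ V ∈ 𝒱, (V : Y.Opens)) := by rw [h𝒱]; trivial
  obtain ⟨V, hx⟩ := TopologicalSpace.Opens.mem_iSup.mp hx
  obtain ⟨hV, hx⟩ := TopologicalSpace.Opens.mem_iSup.mp hx
  obtain ⟨𝒰, h𝒰, H𝒰⟩ := H𝒱 V hV
  have hx' : x ∈ (⨆ U ∈ 𝒰, (U : X.Opens)) := by rw [h𝒰]; exact hx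
  obtain ⟨U, hx'⟩ := TopologicalSpace.Opens.mem_iSup.mp hx'
  obtain ⟨hU, hx'⟩ := TopologicalSpace.Opens.mem_iSup.mp hx'
  have hle : (U : X.Opens) ≤ f ⁻¹ᵁ (V : Y.Opens) := by
    rw [← h𝒰]
    exact le_iSup₂ (f := fun (U : X.affineOpens) (_ : U ∈ 𝒰) => (U : X.Opens)) U hU
  obtain ⟨n, φ, hc, hpc⟩ := H𝒰 U hU hle
  exact ⟨U, V, n, φ, hx', U.2, V.2, hc.1, hpc⟩

/-- packaged local form: a closed immersion of an affine neighbourhood into an affine scheme along which
the complex becomes pseudo-coherent -/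
lemma exists_closedImmersion_chart {m : ℤ} (G : CochainComplex X.Modules ℤ)
    (h : DerSch.IsPseudoCoherentRel f m (DCoh.toD X G)) (x : X) :
    ∃ (U : X.Opens) (A : Scheme.{u}) (i : (U : Scheme.{u}) ⟶ A), x ∈ U ∧ IsAffine A ∧ IsClosedImmersion i ∧
      DCoh.IsPseudoCoherentD m (DCoh.toD A ((DerSch.pushCx i).obj ((DCoh.restrictCx U).obj G))) := by
  obtain ⟨U, V, n, φ, hxU, hU, hV, hφ, hpc⟩ := exists_chart f h x
  exact ⟨U, _, DerSch.chartImm U φ, hxU, inferInstance, isClosedImmersion_chartImm U hU φ hφ,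
    hpc G ⟨Iso.refl _⟩⟩

/-- transfer of relative pseudo-coherence along a chartwise implication -/
lemma isPseudoCoherentRel_of_chartPC_imp {m m' : ℤ} {K K' : DCoh.D X}
    (H : ∀ (U : X.Opens) (V : Y.Opens), IsAffineOpen U → IsAffineOpen V → ∀ {n : ℕ}
      (φ : MvPolynomial (Fin n) Γ(Y, V) →+* Γ(X, U)), Function.Surjective φ →
      DerSch.ChartPC m K U V φ → DerSch.ChartPC m' K' U V φ)
    (h : DerSch.IsPseudoCoherentRel f m K) : DerSch.IsPseudoCoherentRel f m' K' := by
  obtain ⟨hf, 𝒱, h𝒱, H𝒱⟩ := h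
  refine ⟨hf, 𝒱, h𝒱, fun V hV => ?_⟩
  obtain ⟨𝒰, h𝒰, H𝒰⟩ := H𝒱 V hV
  refine ⟨𝒰, h𝒰, fun U hU hle => ?_⟩
  obtain ⟨n, φ, hc, hpc⟩ := H𝒰 U hU hle
  exact ⟨n, φ, hc, H U V U.2 V.2 φ hc.1 hpc⟩

lemma preservesBinaryBiproducts_of_additive' {C D : Type*} [Category C] [Category D] [Preadditive C]
    [Preadditive D] (F : C ⥤ D) [F.Additive] : PreservesBinaryBiproducts F :=
  preservesBinaryBiproducts_of_preservesBiproducts F

lemma chartPC_of_biprod {m : ℤ} (E K : DCoh.D X) [HasBinaryBiproduct E K] (U : X.Opens) (V : Y.Opens) {n : ℕ}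
    (φ : MvPolynomial (Fin n) Γ(Y, V) →+* Γ(X, U)) (h : DerSch.ChartPC m (E ⊞ K) U V φ) :
    DerSch.ChartPC m E U V φ ∧ DerSch.ChartPC m K U V φ := by
  let Ψ : CochainComplex X.Modules ℤ ⥤ CochainComplex
      (Spec (CommRingCat.of (MvPolynomial (Fin n) Γ(Y, V)))).Modules ℤ :=
    DCoh.restrictCx U ⋙ DerSch.pushCx (DerSch.chartImm U φ)
  have key : ∀ (G₁ G₂ : CochainComplex X.Modules ℤ) (e : DCoh.toD X (G₁ ⊞ G₂) ≅ E ⊞ K),
      DCoh.IsPseudoCoherentD m (DCoh.toD _ (Ψ.obj G₁)) ∧
        DCoh.IsPseudoCoherentD m (DCoh.toD _ (Ψ.obj G₂)) := by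
    intro G₁ G₂ e
    haveI := preservesBinaryBiproducts_of_additive' Ψ
    haveI := preservesBinaryBiproducts_of_additive'
      (DerivedCategory.Q (C := (Spec (CommRingCat.of (MvPolynomial (Fin n) Γ(Y, V)))).Modules))
    have h1 : DCoh.IsPseudoCoherentD m (DCoh.toD _ (Ψ.obj (G₁ ⊞ G₂))) := h (G₁ ⊞ G₂) ⟨e⟩
    have e2 : DCoh.toD _ (Ψ.obj (G₁ ⊞ G₂)) ≅ DCoh.toD _ (Ψ.obj G₁) ⊞ DCoh.toD _ (Ψ.obj G₂) :=
      DerivedCategory.Q.mapIso (Ψ.mapBiprod G₁ G₂) ≪≫ DerivedCategory.Q.mapBiprod _ _
    exact Groth.Agent.S0888.result m _ _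
      (Groth.Agent.Lib.helper25.DCohPC3.isPseudoCoherentD_of_iso e2 h1)
  haveI := preservesBinaryBiproducts_of_additive' (DerivedCategory.Q (C := X.Modules))
  constructor
  · intro G ⟨g⟩
    let G' : CochainComplex X.Modules ℤ := DerivedCategory.Q.objPreimage K
    have e' : DCoh.toD X G' ≅ K := DerivedCategory.Q.objObjPreimageIso K
    exact (key G G' (DerivedCategory.Q.mapBiprod _ _ ≪≫ biprod.mapIso g e')).1
  · intro G ⟨g⟩
    let G' : CochainComplex X.Modules ℤ := DerivedCategory.Q.objPreimage E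
    have e' : DCoh.toD X G' ≅ E := DerivedCategory.Q.objObjPreimageIso E
    exact (key G' G (DerivedCategory.Q.mapBiprod _ _ ≪≫ biprod.mapIso e' g)).2

/-- S7214: summands of a relatively pseudo-coherent object -/
theorem isPseudoCoherentRel_of_biprod (m : ℤ) (E K : DCoh.D X)
    [HasBinaryBiproduct E K] (h : DerSch.IsPseudoCoherentRel f m (E ⊞ K)) :
    DerSch.IsPseudoCoherentRel f m E ∧ DerSch.IsPseudoCoherentRel f m K :=
  ⟨isPseudoCoherentRel_of_chartPC_imp f (fun U V _ _ _ φ _ hpc => (chartPC_of_biprod E K U V φ hpc).1) h,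
    isPseudoCoherentRel_of_chartPC_imp f (fun U V _ _ _ φ _ hpc => (chartPC_of_biprod E K U V φ hpc).2) h⟩

/-- S6236: relative pseudo-coherence on a quasi-compact scheme implies bounded above -/
theorem exists_isLE_of_isPseudoCoherentRel [CompactSpace X] (n : ℤ) (E : DCoh.D X)
    (hE : DerSch.IsPseudoCoherentRel f n E) : ∃ b : ℤ, E.IsLE b := by
  let G : CochainComplex X.Modules ℤ := DerivedCategory.Q.objPreimage E
  have e₀ : DCoh.toD X G ≅ E := DerivedCategory.Q.objObjPreimageIso E
  have hG : DerSch.IsPseudoCoherentRel f n (DCoh.toD X G) :=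
    isPseudoCoherentRel_of_chartPC_imp f
      (fun U V _ _ _ φ _ hpc F ⟨g⟩ => hpc F ⟨g ≪≫ e₀⟩) hE
  have H : ∀ x : X, ∃ (U : X.Opens) (b : ℤ), x ∈ U ∧
      ∀ j : ℤ, b < j → IsZero ((restrictFunctor U.ι).obj (G.homology j)) := by
    intro x
    obtain ⟨U, A, i, hxU, hA, hi, hpc⟩ := exists_closedImmersion_chart f G hG x
    obtain ⟨b, hb⟩ := exists_upper_bound_of_isPseudoCoherentD _ hpc
    refine ⟨U, b, hxU, fun j hj => ?_⟩
    refine IsZero.of_iso ?_ (homologyResIso U.ι G j).symm
    exact isZero_of_isZero_push i _ ((hb j hj).of_iso (homologyPushIso i _ j).symm)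
  choose U b hxU hb using H
  obtain ⟨t, ht⟩ := isCompact_univ.elim_finite_subcover (fun x : X => ((U x : X.Opens) : Set X))
    (fun x => (U x).isOpen) (fun x _ => Set.mem_iUnion.mpr ⟨x, hxU x⟩)
  have hcov : ⨆ x : t, U x.1 = ⊤ := by
    rw [eq_top_iff]
    intro x _
    obtain ⟨y, hy⟩ := Set.mem_iUnion.mp (ht (Set.mem_univ x))
    obtain ⟨hyt, hxy⟩ := Set.mem_iUnion.mp hy
    exact TopologicalSpace.Opens.mem_iSup.mpr ⟨⟨y, hyt⟩, hxy⟩
  obtain ⟨b₁, hb₁⟩ := (t.image (fun x => b x)).exists_le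
  refine ⟨b₁, ?_⟩
  rw [DerivedCategory.isLE_iff]
  intro j hj
  refine IsZero.of_iso ?_ ((DerivedCategory.homologyFunctor _ j).mapIso e₀.symm ≪≫
    (DerivedCategory.homologyFunctorFactors _ j).app G)
  refine isZero_of_cover _ (fun x : t => U x.1) hcov (fun x => hb x.1 j ?_)
  have h2 := hb₁ (b x.1) (Finset.mem_image_of_mem (fun x => b x) x.2)
  omega

/-- S7213: the cohomology sheaves above `m` of a relatively `m`-pseudo-coherent object are quasi-coherent -/
theorem isQCoh_HD_of_isPseudoCoherentRel (m : ℤ) (E : DCoh.D X)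
    (hE : DerSch.IsPseudoCoherentRel f m E) (j : ℤ) (hj : m < j) : Coh.IsQCoh (DCoh.HD E j) := by
  let G : CochainComplex X.Modules ℤ := DerivedCategory.Q.objPreimage E
  have e₀ : DCoh.toD X G ≅ E := DerivedCategory.Q.objObjPreimageIso E
  have hG : DerSch.IsPseudoCoherentRel f m (DCoh.toD X G) :=
    isPseudoCoherentRel_of_chartPC_imp f
      (fun U V _ _ _ φ _ hpc F ⟨g⟩ => hpc F ⟨g ≪≫ e₀⟩) hE
  have H : ∀ x : X, ∃ (U : X.Opens), x ∈ U ∧
      ((restrictFunctor U.ι).obj (G.homology j)).IsQuasicoherent := by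
    intro x
    obtain ⟨U, A, i, hxU, hA, hi, hpc⟩ := exists_closedImmersion_chart f G hG x
    have h1 := isQuasicoherent_homology_of_isPseudoCoherentD _ hpc j hj
    haveI : ((Scheme.Modules.pushforward i).obj (((DCoh.restrictCx U).obj G).homology j)).IsQuasicoherent :=
      Groth.Agent.Lib.helper16.QCohFibre.isQuasicoherent_of_iso (homologyPushIso i _ j)
    haveI := isQuasicoherent_of_push i _ this
    exact ⟨U, hxU, Groth.Agent.Lib.helper16.QCohFibre.isQuasicoherent_of_iso (homologyResIso U.ι G j)⟩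
  choose U hxU hU using H
  have hq : (G.homology j).IsQuasicoherent :=
    Groth.Agent.Lib.helper28.RestrictCover.isQuasicoherent_of_restrict_cover _
      (fun x : X => ((U x : X.Opens) : Scheme.{u})) (fun x => (U x).ι) (fun x => ⟨x, ⟨x, hxU x⟩, rfl⟩)
      (fun x => hU x)
  exact Groth.Agent.Lib.helper16.QCohFibre.isQuasicoherent_of_iso (hA := hq)
    ((DerivedCategory.homologyFunctor _ j).mapIso e₀.symm ≪≫
      (DerivedCategory.homologyFunctorFactors _ j).app G).symm

/-- S6235 -/
theorem isQCohD_of_isPseudoCoherentRelAll (E : DCoh.D X)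
    (hE : DerSch.IsPseudoCoherentRelAll f E) : DCoh.IsQCohD E :=
  fun i => isQCoh_HD_of_isPseudoCoherentRel f (i - 1) E (hE (i - 1)) i (by omega)

end relative

end Groth.Agent.Lib.Helper25.RelPC
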