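import Mathlib
import Groth.Agent.Lib.Helper25.RpushQC
import Groth.Agent.Lib.Helper25.RelPC
import Groth.Agent.Lib.Helper25.DCohPC4

/-!
# `Rf_*` of unbounded pseudo-coherent objects from the bounded case (helper25)

* `isPseudoCoherentD_iff_of_isIso_homology`: `m`-pseudo-coherence transfers along a map which is an
  isomorphism on `H^j` for `j ≥ m - 1`.
* `exists_isLE_of_isPseudoCoherentD` (quasi-compact scheme), `isQCohD_of_isPseudoCoherentD`.
* `main` (S11122): if `Rf_*` shifts pseudo-coherence of bounded objects by at most `k`, then `Rf_*`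
  preserves (all-degree) pseudo-coherent objects, via `RpushQC.main_compact`
  (`H^j(Rf_* F) ≅ H^j(Rf_* τ_{≥ -n} F)` for `j ≥ N - n`).
-/

set_option autoImplicit false
universe u
open CategoryTheory CategoryTheory.Limits AlgebraicGeometry
attribute [local instance] HasDerivedCategory.standard

namespace Groth.Agent.Lib.Helper25.RpushPCUnbdd

open Pretriangulated DerivedCategory
open Groth.Agent.Lib.helper25.DCohPC Groth.Agent.Lib.helper25.DCohPC3 Groth.Agent.Lib.helper25.DCohPC4

variable {X : Scheme.{u}}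

/-- `m`-pseudo-coherence only depends on the cohomology in degrees `≥ m - 1`: transfer along a map
which is an isomorphism on `H^j` for `j ≥ m - 1`. -/
theorem isPseudoCoherentD_iff_of_isIso_homology {A B : DCoh.D X} (g : A ⟶ B) (m : ℤ)
    (hg : ∀ j : ℤ, m - 1 ≤ j → IsIso ((homologyFunctor X.Modules j).map g)) :
    DCoh.IsPseudoCoherentD m A ↔ DCoh.IsPseudoCoherentD m B := by
  obtain ⟨C, h, k, hT⟩ := distinguished_cocone_triangle g
  have hC : ∀ j : ℤ, m - 1 ≤ j → IsZero ((homologyFunctor X.Modules j).obj C) := fun j hj => by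
    have e1 : Epi ((homologyFunctor X.Modules j).map (Triangle.mk g h k).mor₁) := by
      haveI := hg j hj
      change Epi ((homologyFunctor X.Modules j).map g)
      infer_instance
    have e2 : Mono ((homologyFunctor X.Modules (j + 1)).map (Triangle.mk g h k).mor₁) := by
      haveI := hg (j + 1) (by omega)
      change Mono ((homologyFunctor X.Modules (j + 1)).map g)
      infer_instance
    exact Groth.Agent.H1.SingleVanish.isZero_homology_obj₃ (Triangle.mk g h k) hT j e1 e2
  have hC1 : DCoh.IsPseudoCoherentD (m - 1) C :=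
    isPseudoCoherentD_of_pcData_global (pcData_of_isZero_homology hC)
  have hCm : DCoh.IsPseudoCoherentD m C := isPseudoCoherentD_mono hC1 (by omega)
  constructor
  · intro hA
    exact (isPseudoCoherentD_triangle m _ hT).2.1 hA hCm
  · intro hB
    have h1 := (isPseudoCoherentD_triangle (m - 1) _ hT).2.2
      (by simpa using hB) hC1
    simpa using h1


/-- an object which is pseudo-coherent (in one degree) on a quasi-compact scheme is bounded above -/
theorem exists_isLE_of_isPseudoCoherentD [CompactSpace X] {m : ℤ} (F : DCoh.D X)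
    (h : DCoh.IsPseudoCoherentD m F) : ∃ b : ℤ, F.IsLE b := by
  let F₀ := Q.objPreimage F
  let e : Q.obj F₀ ≅ F := Q.objObjPreimageIso F
  obtain ⟨b, hb⟩ := Groth.Agent.Lib.Helper25.RelPC.exists_upper_bound_of_isPseudoCoherentD F₀
    (isPseudoCoherentD_of_iso e.symm h)
  refine ⟨b, ?_⟩
  rw [isLE_iff]
  intro j hj
  exact (hb j hj).of_iso ((homologyFunctor X.Modules j).mapIso e.symm ≪≫
    (homologyFunctorFactors X.Modules j).app F₀)

/-- an object which is pseudo-coherent in all degrees has quasi-coherent cohomology -/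
theorem isQCohD_of_isPseudoCoherentD (F : DCoh.D X) (h : ∀ m : ℤ, DCoh.IsPseudoCoherentD m F) :
    DCoh.IsQCohD F := by
  let F₀ := Q.objPreimage F
  let e : Q.obj F₀ ≅ F := Q.objObjPreimageIso F
  intro j
  have hq : (F₀.homology j).IsQuasicoherent :=
    Groth.Agent.Lib.Helper25.RelPC.isQuasicoherent_homology_of_isPseudoCoherentD F₀
      (isPseudoCoherentD_of_iso e.symm (h (j - 1))) j (by omega)
  exact Groth.Agent.Lib.helper16.QCohFibre.isQuasicoherent_of_iso (hA := hq)
    (((homologyFunctorFactors X.Modules j).app F₀).symm ≪≫ (homologyFunctor X.Modules j).mapIso e)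

/-- **S11122** -/
theorem main {X Y : Scheme.{u}} (f : X ⟶ Y) [QuasiCompact f] [QuasiSeparated f] [CompactSpace Y]
    [DCoh.HasRpush f] (k : ℤ)
    (hK : ∀ (F : DCoh.D X) (n a b : ℤ), F.IsGE a → F.IsLE b → DCoh.IsPseudoCoherentD n F →
      DCoh.IsPseudoCoherentD (n + k) ((DCoh.Rpush f).obj F))
    (F : DCoh.D X) (hF : ∀ m : ℤ, DCoh.IsPseudoCoherentD m F) (m : ℤ) :
    DCoh.IsPseudoCoherentD m ((DCoh.Rpush f).obj F) := by
  haveI : CompactSpace X := QuasiCompact.compactSpace_of_compactSpace f
  obtain ⟨b, hb⟩ := exists_isLE_of_isPseudoCoherentD F (hF 0)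
  have hQ := isQCohD_of_isPseudoCoherentD F hF
  obtain ⟨N, -, h⟩ := Groth.Agent.Lib.Helper25.RpushQC.main_compact f
  obtain ⟨n, hn1, hn2⟩ : ∃ n : ℕ, (N : ℤ) - n ≤ m - 1 ∧ -(n : ℤ) ≤ m - k - 1 :=
    ⟨(max ((N : ℤ) - m + 1) (k - m + 1)).toNat, by omega, by omega⟩
  let t : Triangulated.TStructure (DCoh.D X) := TStructure.t
  let π := (t.truncGEπ (-(n : ℤ))).app F
  have h1 := (h F hQ).2 n
  have hGE : ((t.truncGE (-(n : ℤ))).obj F).IsGE (-(n : ℤ)) := by
    change t.IsGE ((t.truncGE (-(n : ℤ))).obj F) (-(n : ℤ))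
    infer_instance
  have hLE : ((t.truncGE (-(n : ℤ))).obj F).IsLE b := by
    haveI : t.IsLE F b := hb
    change t.IsLE ((t.truncGE (-(n : ℤ))).obj F) b
    infer_instance
  have h2 : DCoh.IsPseudoCoherentD (m - k) ((t.truncGE (-(n : ℤ))).obj F) :=
    (isPseudoCoherentD_iff_of_isIso_homology π (m - k) (fun j hj =>
      Groth.Agent.H1.TruncCoh.isIso_homology_truncGEπ F _ j (by omega))).1 (hF (m - k))
  have h3 := hK _ (m - k) _ _ hGE hLE h2
  rw [sub_add_cancel] at h3
  exact (isPseudoCoherentD_iff_of_isIso_homology ((DCoh.Rpush f).map π) m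
    (fun j hj => h1 j (by omega))).2 h3

end Groth.Agent.Lib.Helper25.RpushPCUnbdd
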