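import Mathlib
import Groth.Agent.Lib.Helper25.KosPointed
import Groth.Agent.Lib.Helper25.ApproxFG
import Groth.Agent.Lib.Helper25.RelPC
import Groth.Agent.Lib.Helper25.PerfectTor
import Groth.Agent.Lib.Helper25.DCohPC3
import Groth.Agent.Lib.Helper25.IsoAbove
import Groth.Agent.Lib.Helper25.RpushPCUnbdd

/-!
# Approximation by perfect complexes on an affine scheme (helper25)

Stacks 08EL.  `X` affine over `Spec A`, `l : List A`, `U ⊆ X` the union of the `D(a)`, `a ∈ l`.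

* `isQCohD_of_isPerfect`: perfect objects lie in `D_QCoh`.
* `exists_isKosP`, `isZero_restrictD_of_isKos`: pointed Koszul-type objects exist; they vanish on `U`.
* `Good U t P`: `P` perfect, `P|_U = 0`, `P ∈ D^{≤ t}`; `good_zero`, `good_biprod`.
* `exists_factor_shift`, `exists_factor_list`: finitely many maps `O[-t] ⟶ E` factor through a good object
  (from `KosPointed.exists_factor`).
* `exists_good_epi`: a good object mapping onto the finitely generated top cohomology `Hᵗ(E)`.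
* `cone_step`, `octa_step`: the cone of such a map; the octahedron argument.
* `approx_affine_aux`, `approx_affine`: the approximation theorem.
-/

set_option autoImplicit false
universe u
open CategoryTheory CategoryTheory.Limits AlgebraicGeometry Opposite

attribute [local instance] HasDerivedCategory.standard

namespace Groth.Agent.Lib.Helper25.ApproxAffine

open Pretriangulated DerivedCategory TopologicalSpace Scheme.Modules ZeroObject
open Groth.Agent.Lib.Helper25.PowKill Groth.Agent.Lib.Helper25.KLinRestrict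
  Groth.Agent.Lib.Helper25.ApproxExtend
  Groth.Agent.Lib.helper25.DCohPerfect Groth.Agent.Lib.Helper25.HomVanMV
  Groth.Agent.Lib.Helper25.QCCEv Groth.Agent.Lib.Helper25.QCCRpush
  Groth.Agent.Lib.Helper25.KosObj Groth.Agent.Lib.Helper25.KosPointed
  Groth.Agent.Lib.Helper25.KosMain Groth.Agent.Lib.helper25.IsoAbove

/-- perfect objects have quasi-coherent cohomology sheaves -/
theorem isQCohD_of_isPerfect {X : Scheme.{u}} {K : DCoh.D X} (hK : DCoh.IsPerfect K) :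
    DCoh.IsQCohD K := by
  intro i
  obtain ⟨F, ⟨a⟩⟩ := Groth.Agent.Lib.helper25.DCohRestrict.exists_rep K
  have hpc : DCoh.IsPseudoCoherentD (i - 1) (DCoh.toD X F) :=
    Groth.Agent.Lib.helper25.PerfectTor.isPseudoCoherentD_of_isPerfect
      (isPerfect_of_iso a.symm hK) (i - 1)
  haveI h1 : ((HomologicalComplex.homologyFunctor X.Modules (ComplexShape.up ℤ) i).obj
      F).IsQuasicoherent :=
    Groth.Agent.Lib.Helper25.RelPC.isQuasicoherent_homology_of_isPseudoCoherentD F hpc i (by omega)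
  exact Groth.Agent.Lib.helper16.QCohFibre.isQuasicoherent_of_iso
    (((homologyFunctorFactors _ i).app F).symm ≪≫ (homologyFunctor _ i).mapIso a)

variable {A : Type u} [CommRing A] {X : Scheme.{u}} [X.Over (Spec (CommRingCat.of A))]

/-- pointed Koszul-type objects exist -/
lemma exists_isKosP (P : DCoh.D X) : ∀ l : List A, ∃ (K : DCoh.D X) (t : P ⟶ K), IsKosP A X P l K t
  | [] => ⟨P, 𝟙 P, (inferInstance : IsIso (𝟙 P))⟩
  | a :: l => by
    obtain ⟨K₀, t₀, h0⟩ := exists_isKosP P l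
    obtain ⟨K, c, d, hT⟩ := distinguished_cocone_triangle (a • 𝟙 K₀)
    exact ⟨K, t₀ ≫ c, K₀, t₀, a • 𝟙 K₀, c, d, h0, rfl, hT, rfl⟩

/-- vanishing of a Koszul-type object on an open covered by the `D(a)` -/
lemma isZero_restrictD_of_isKos (l : List A) (U : X.Opens)
    (hcov : ∀ x ∈ U, ∃ a ∈ l, x ∈ X.basicOpen
      (show Γ(X, ⊤) from Coh.toGlobal (X ↘ Spec (CommRingCat.of A)) a))
    (K : DCoh.D X) (hK : IsKos A X l K) : IsZero ((DCoh.restrictD U.ι).obj K) := by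
  refine Groth.Agent.Lib.Helper25.SchKInj.isZero_restrictD_of_support U K (fun i x hx hxU => ?_)
  obtain ⟨a, ha, hxa⟩ := hcov x hxU
  exact Groth.Agent.Lib.Helper25.SchKInj.support_HD_restrictD _ K
    (tors_of_isKos l K hK a ha) i hx hxa

/-- perfect, vanishing on `U`, in degrees `≤ t` -/
def Good (U : X.Opens) (t : ℤ) (P : DCoh.D X) : Prop :=
  DCoh.IsPerfect P ∧ IsZero ((DCoh.restrictD U.ι).obj P) ∧
    (TStructure.t : Triangulated.TStructure (DCoh.D X)).IsLE P t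

lemma good_zero (U : X.Opens) (t : ℤ) {P : DCoh.D X} (hP : IsZero P) : Good U t P := by
  refine ⟨isPerfect_of_isZero hP, Functor.map_isZero _ hP, ?_⟩
  exact (TStructure.t : Triangulated.TStructure (DCoh.D X)).isLE_of_isZero hP t

lemma good_biprod (U : X.Opens) (t : ℤ) {P P' : DCoh.D X} (hP : Good U t P)
    (hP' : Good U t P') : Good U t (P ⊞ P') := by
  have hT := binaryBiproductTriangle_distinguished P P'
  refine ⟨(isPerfect_two_out_of_three _ hT).2.1 hP.1 hP'.1, ?_, ?_⟩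
  · have hT' := (DCoh.restrictD U.ι).map_distinguished _ hT
    exact Triangle.isZero₂_of_isZero₁₃ _ hT' hP.2.1 hP'.2.1
  · exact (TStructure.t : Triangulated.TStructure (DCoh.D X)).isLE₂ _ hT t hP.2.2 hP'.2.2

/-- **one section**: a map `O[-t] ⟶ E` factors through a good object -/
lemma exists_factor_shift [IsAffine X] (l : List A) (U : X.Opens)
    (hle : ∀ a ∈ l, X.basicOpen
      (show Γ(X, ⊤) from Coh.toGlobal (X ↘ Spec (CommRingCat.of A)) a) ≤ U)
    (hcov : ∀ x ∈ U, ∃ a ∈ l, x ∈ X.basicOpen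
      (show Γ(X, ⊤) from Coh.toGlobal (X ↘ Spec (CommRingCat.of A)) a))
    (E : DCoh.D X) (hE : DCoh.IsQCohD E) (t : ℤ)
    (hU : ∀ i : ℤ, t - (l.length : ℤ) < i → i ≤ t → IsZero ((DCoh.HD E i).restrict U.ι))
    (σ : Sp X t ⟶ E) :
    ∃ (P : DCoh.D X) (ψ : P ⟶ E) (τ : Sp X t ⟶ P), Good U t P ∧ τ ≫ ψ = σ := by
  let et : (Sp X 0)⟦-t⟧ ≅ Sp X t :=
    ((DerivedCategory.singleFunctors X.Modules).shiftIso (-t) t 0 (by omega)).app
      (Coh.structureModule X)
  let adjS : shiftFunctor (DCoh.D X) (-t) ⊣ shiftFunctor (DCoh.D X) t :=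
    (shiftEquiv' (DCoh.D X) (-t) t (by omega)).toAdjunction
  let s' : Sp X 0 ⟶ E⟦t⟧ := adjS.homEquiv _ _ (et.hom ≫ σ)
  have hU' : ∀ i : ℤ, -(l.length : ℤ) < i → i ≤ 0 →
      IsZero ((DCoh.HD (E⟦t⟧) i).restrict U.ι) := by
    intro i h1 h2
    exact IsZero.of_iso (hU (t + i) (by omega) (by omega))
      ((restrictFunctor U.ι).mapIso (((homologyFunctor X.Modules 0).shiftIso t i (t + i) rfl).app E))
  obtain ⟨e₀, h⟩ := exists_factor l U hle (E⟦t⟧) (isQCohD_shift E hE t) hU' s'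
  obtain ⟨K, tK, hK⟩ := exists_isKosP (A := A) (Sp X 0) (l.map (fun a => a ^ e₀))
  obtain ⟨ψ', hψ'⟩ := h e₀ le_rfl K tK hK
  have hKos : IsKos A X (l.map (fun a => a ^ e₀)) K := isKos_of_isKosP _ K tK hK
  have hcov' : ∀ x ∈ U, ∃ b ∈ l.map (fun a => a ^ e₀), x ∈ X.basicOpen
      (show Γ(X, ⊤) from Coh.toGlobal (X ↘ Spec (CommRingCat.of A)) b) := by
    intro x hx
    obtain ⟨a, ha, hxa⟩ := hcov x hx
    refine ⟨a ^ e₀, List.mem_map.2 ⟨a, ha, rfl⟩, ?_⟩
    have hp : (show Γ(X, ⊤) from Coh.toGlobal (X ↘ Spec (CommRingCat.of A)) (a ^ e₀)) =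
        (show Γ(X, ⊤) from Coh.toGlobal (X ↘ Spec (CommRingCat.of A)) a) ^ e₀ := map_pow _ _ _
    rw [hp]
    rw [Scheme.mem_basicOpen_top] at hxa ⊢
    have h2 := hxa.pow e₀
    rwa [← map_pow] at h2
  let t' : Triangulated.TStructure (DCoh.D X) := TStructure.t
  haveI : t'.IsLE K 0 := isLE_of_isKos _ K hKos
  refine ⟨K⟦-t⟧, (adjS.homEquiv _ _).symm ψ', et.inv ≫ tK⟦-t⟧', ⟨?_, ?_, ?_⟩, ?_⟩
  · exact isPerfect_shift (isPerfect_of_isKos _ K hKos) (-t)
  · exact isZero_restrictD_shift U K (isZero_restrictD_of_isKos _ U hcov' K hKos) (-t)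
  · exact t'.isLE_shift K 0 (-t) t (by omega)
  · rw [Category.assoc, ← adjS.homEquiv_naturality_left_symm, hψ', Equiv.symm_apply_apply,
      Iso.inv_hom_id_assoc]

/-- **finitely many sections**: maps `O[-t] ⟶ E` jointly factor through a good object -/
lemma exists_factor_list [IsAffine X] (l : List A) (U : X.Opens)
    (hle : ∀ a ∈ l, X.basicOpen
      (show Γ(X, ⊤) from Coh.toGlobal (X ↘ Spec (CommRingCat.of A)) a) ≤ U)
    (hcov : ∀ x ∈ U, ∃ a ∈ l, x ∈ X.basicOpen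
      (show Γ(X, ⊤) from Coh.toGlobal (X ↘ Spec (CommRingCat.of A)) a))
    (E : DCoh.D X) (hE : DCoh.IsQCohD E) (t : ℤ)
    (hU : ∀ i : ℤ, t - (l.length : ℤ) < i → i ≤ t → IsZero ((DCoh.HD E i).restrict U.ι)) :
    ∀ L : List (Sp X t ⟶ E), ∃ (P : DCoh.D X) (α : P ⟶ E), Good U t P ∧
      ∀ σ ∈ L, ∃ τ : Sp X t ⟶ P, τ ≫ α = σ
  | [] => ⟨0, 0, good_zero U t (isZero_zero _), fun σ hσ => by simp at hσ⟩
  | σ :: L => by
    obtain ⟨P, α, hP, hα⟩ := exists_factor_list l U hle hcov E hE t hU L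
    obtain ⟨P', ψ, τ, hP', hτ⟩ := exists_factor_shift l U hle hcov E hE t hU σ
    refine ⟨P ⊞ P', biprod.desc α ψ, good_biprod U t hP hP', fun σ' hσ' => ?_⟩
    rcases List.mem_cons.1 hσ' with rfl | h'
    · exact ⟨τ ≫ biprod.inr, by rw [Category.assoc, biprod.inr_desc, hτ]⟩
    · obtain ⟨τ', hτ'⟩ := hα σ' h'
      exact ⟨τ' ≫ biprod.inl, by rw [Category.assoc, biprod.inl_desc, hτ']⟩

section Octa

variable (U : X.Opens)

omit [X.Over (Spec (CommRingCat.of A))] in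
/-- desuspension of perfectness / vanishing -/
lemma props_of_shift_one {P : DCoh.D X} (h1 : DCoh.IsPerfect (P⟦(1 : ℤ)⟧))
    (h2 : IsZero ((DCoh.restrictD U.ι).obj (P⟦(1 : ℤ)⟧))) :
    DCoh.IsPerfect P ∧ IsZero ((DCoh.restrictD U.ι).obj P) := by
  let e : (P⟦(1 : ℤ)⟧)⟦(-1 : ℤ)⟧ ≅ P := (shiftEquiv (DCoh.D X) (1 : ℤ)).unitIso.symm.app P
  refine ⟨isPerfect_of_iso e (isPerfect_shift h1 (-1)), ?_⟩
  exact IsZero.of_iso (isZero_restrictD_shift U _ h2 (-1)) ((DCoh.restrictD U.ι).mapIso e.symm)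

omit [X.Over (Spec (CommRingCat.of A))] in
/-- **octahedron step**: an approximation of the cone `E'` of `P₁ ⟶ E` (with `P₁` perfect, vanishing on `U`)
gives an approximation of `E` -/
lemma octa_step (m : ℤ) {P₁ E E' : DCoh.D X} {α₁ : P₁ ⟶ E} {β : E ⟶ E'}
    {δ : E' ⟶ P₁⟦(1 : ℤ)⟧} (hT : Triangle.mk α₁ β δ ∈ distTriang (DCoh.D X))
    (hP₁ : DCoh.IsPerfect P₁) (hP₁U : IsZero ((DCoh.restrictD U.ι).obj P₁))
    {P' : DCoh.D X} (α' : P' ⟶ E') (hP' : DCoh.IsPerfect P')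
    (hP'U : IsZero ((DCoh.restrictD U.ι).obj P')) (hα' : IsoAbove m α') :
    ∃ (P : DCoh.D X) (α : P ⟶ E), DCoh.IsPerfect P ∧ IsZero ((DCoh.restrictD U.ι).obj P) ∧
      IsoAbove m α := by
  obtain ⟨C', γ', δ', hT'⟩ := distinguished_cocone_triangle α'
  obtain ⟨P'', α'', h'', hT''⟩ := distinguished_cocone_triangle₁ (β ≫ γ')
  have oct := Triangulated.someOctahedron (u₁₂ := β) (u₂₃ := γ') (u₁₃ := β ≫ γ') rfl
    (rot_of_distTriang _ hT) (rot_of_distTriang _ hT') (rot_of_distTriang _ hT'')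
  have hmem := oct.mem
  have hC' : ∀ i : ℤ, m ≤ i → IsZero ((homologyFunctor X.Modules i).obj C') :=
    (isoAbove_iff_cone _ hT' m).1 hα'
  have h1 : DCoh.IsPerfect (P''⟦(1 : ℤ)⟧) :=
    (isPerfect_two_out_of_three _ hmem).2.1 (isPerfect_shift hP₁ 1) (isPerfect_shift hP' 1)
  have h2 : IsZero ((DCoh.restrictD U.ι).obj (P''⟦(1 : ℤ)⟧)) :=
    Triangle.isZero₂_of_isZero₁₃ _ ((DCoh.restrictD U.ι).map_distinguished _ hmem)
      (isZero_restrictD_shift U _ hP₁U 1) (isZero_restrictD_shift U _ hP'U 1)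
  obtain ⟨h3, h4⟩ := props_of_shift_one U h1 h2
  exact ⟨P'', α'', h3, h4, (isoAbove_iff_cone _ hT'' m).2 hC'⟩

end Octa

omit [X.Over (Spec (CommRingCat.of A))] in
/-- **cone step**: properties of the cone of a map from a good object which is onto on the top cohomology -/
lemma cone_step (U : X.Opens) (m t c : ℤ) {P₁ E E' : DCoh.D X} {α₁ : P₁ ⟶ E} {β : E ⟶ E'}
    {δ : E' ⟶ P₁⟦(1 : ℤ)⟧} (hT : Triangle.mk α₁ β δ ∈ distTriang (DCoh.D X))
    (hP₁ : Good U t P₁) (hE : DCoh.IsQCohD E) (hpc : DCoh.IsPseudoCoherentD m E)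
    (hU : ∀ i : ℤ, c < i → IsZero ((DCoh.HD E i).restrict U.ι))
    (htop : ∀ i : ℤ, t < i → IsZero (DCoh.HD E i))
    (hepi : Epi ((homologyFunctor X.Modules t).map α₁)) :
    DCoh.IsQCohD E' ∧ DCoh.IsPseudoCoherentD m E' ∧
      (∀ i : ℤ, c < i → IsZero ((DCoh.HD E' i).restrict U.ι)) ∧
      (∀ i : ℤ, t ≤ i → IsZero (DCoh.HD E' i)) := by
  let J := DCoh.restrictD U.ι
  refine ⟨?_, ?_, ?_, ?_⟩
  · exact Groth.Agent.H1.WSerreTri.cohIn_obj₂ (P := Groth.Agent.S1007.QC X) _ (rot_of_distTriang _ hT) hE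
      (isQCohD_shift P₁ (isQCohD_of_isPerfect hP₁.1) 1)
  · exact Groth.Agent.Lib.helper25.DCohPC3.isPseudoCoherentD_obj₃ _ hT m
      (Groth.Agent.Lib.helper25.PerfectTor.isPseudoCoherentD_of_isPerfect hP₁.1 (m + 1)) hpc
  · intro i hi
    haveI hJβ : IsIso (J.map β) :=
      (Triangle.isZero₁_iff_isIso₂ _ (J.map_distinguished _ hT)).1 hP₁.2.1
    obtain ⟨e1⟩ := Groth.Agent.Lib.Helper25.DerBC.nonempty_homology_mapDerivedCategory_iso
      (restrictFunctor U.ι) E i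
    obtain ⟨e2⟩ := Groth.Agent.Lib.Helper25.DerBC.nonempty_homology_mapDerivedCategory_iso
      (restrictFunctor U.ι) E' i
    exact IsZero.of_iso (hU i hi)
      (e2.symm ≪≫ ((homologyFunctor _ i).mapIso (asIso (J.map β))).symm ≪≫ e1)
  · have hIA : IsoAbove t α₁ := by
      refine ⟨fun i hi => ?_, hepi⟩
      have hLE : P₁.IsLE t := hP₁.2.2
      rw [DerivedCategory.isLE_iff] at hLE
      exact isIso_of_isZero _ (hLE i hi) (htop i hi)
    exact (isoAbove_iff_cone _ hT t).1 hIA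

/-- **epi step**: a good object mapping onto the (finitely generated) top cohomology -/
lemma exists_good_epi [IsAffine X] (l : List A) (U : X.Opens)
    (hle : ∀ a ∈ l, X.basicOpen
      (show Γ(X, ⊤) from Coh.toGlobal (X ↘ Spec (CommRingCat.of A)) a) ≤ U)
    (hcov : ∀ x ∈ U, ∃ a ∈ l, x ∈ X.basicOpen
      (show Γ(X, ⊤) from Coh.toGlobal (X ↘ Spec (CommRingCat.of A)) a))
    (E : DCoh.D X) (hE : DCoh.IsQCohD E) (m t : ℤ) (hmt : m ≤ t)
    (hpc : DCoh.IsPseudoCoherentD m E)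
    (hU : ∀ i : ℤ, m - (l.length : ℤ) < i → IsZero ((DCoh.HD E i).restrict U.ι))
    (htop : ∀ i : ℤ, t < i → IsZero (DCoh.HD E i)) :
    ∃ (P : DCoh.D X) (α : P ⟶ E), Good U t P ∧ Epi ((homologyFunctor X.Modules t).map α) := by
  haveI hfin : Module.Finite Γ(X, ⊤) Γ(DCoh.HD E t, ⊤) :=
    Groth.Agent.Lib.Helper25.ApproxFG.finite_sections_HD E hE m t hmt hpc htop (isAffineOpen_top X)
  obtain ⟨n, s, hs⟩ := Module.Finite.exists_fin (R := Γ(X, ⊤)) (M := Γ(DCoh.HD E t, ⊤))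
  have hsurj := (bijective_ev t E hE).2
  choose σ hσ using fun k : Fin n => hsurj (s k)
  obtain ⟨P, α, hP, hα⟩ := exists_factor_list l U hle hcov E hE t
    (fun i h1 h2 => hU i (by omega)) (List.ofFn σ)
  refine ⟨P, α, hP, ?_⟩
  haveI : (DCoh.HD E t).IsQuasicoherent := hE t
  let u := (homologyFunctor X.Modules t).map α
  refine Groth.Agent.Lib.helper16.QCohEpi.epi_of_surjective_on_affine_cover u
    (fun _ : Unit => (⊤ : X.Opens)) (fun _ => isAffineOpen_top X) (fun x => ⟨(), trivial⟩)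
    (fun _ => ?_)
  have hr : LinearMap.range (Groth.Agent.Lib.Helper25.ApproxFG.appLin u ⊤) = ⊤ := by
    rw [eq_top_iff, ← hs, Submodule.span_le]
    rintro _ ⟨k, rfl⟩
    obtain ⟨τ, hτ⟩ := hα (σ k) ((List.mem_ofFn' σ (σ k)).2 ⟨k, rfl⟩)
    refine ⟨ev t τ, ?_⟩
    rw [← hσ k, ← hτ, ev_comp]
    rfl
  have hr' := LinearMap.range_eq_top.1 hr
  intro y
  obtain ⟨x, hx⟩ := hr' y
  exact ⟨x, hx⟩

/-- the affine approximation, induction on the top degree -/
theorem approx_affine_aux [IsAffine X] (l : List A) (U : X.Opens)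
    (hle : ∀ a ∈ l, X.basicOpen
      (show Γ(X, ⊤) from Coh.toGlobal (X ↘ Spec (CommRingCat.of A)) a) ≤ U)
    (hcov : ∀ x ∈ U, ∃ a ∈ l, x ∈ X.basicOpen
      (show Γ(X, ⊤) from Coh.toGlobal (X ↘ Spec (CommRingCat.of A)) a))
    (m : ℤ) : ∀ (N : ℕ) (E : DCoh.D X), DCoh.IsQCohD E → DCoh.IsPseudoCoherentD m E →
      (∀ i : ℤ, m - (l.length : ℤ) < i → IsZero ((DCoh.HD E i).restrict U.ι)) →
      (∀ i : ℤ, m + (N : ℤ) ≤ i → IsZero (DCoh.HD E i)) →
      ∃ (P : DCoh.D X) (α : P ⟶ E), DCoh.IsPerfect P ∧ IsZero ((DCoh.restrictD U.ι).obj P) ∧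
        IsoAbove m α
  | 0, E, _, _, _, htop => by
    refine ⟨0, 0, isPerfect_of_isZero (isZero_zero _), Functor.map_isZero _ (isZero_zero _), ?_, ?_⟩
    · intro i hi
      exact isIso_of_isZero _ (Functor.map_isZero _ (isZero_zero _)) (htop i (by simp; omega))
    · have hz : IsZero (DCoh.HD E m) := htop m (by simp)
      exact ⟨fun _ _ _ => hz.eq_of_src _ _⟩
  | N + 1, E, hE, hpc, hU, htop => by
    have hmt : m ≤ m + (N : ℤ) := by omega
    have htop' : ∀ i : ℤ, m + (N : ℤ) < i → IsZero (DCoh.HD E i) := fun i hi =>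
      htop i (by push_cast; omega)
    obtain ⟨P₁, α₁, hP₁, hepi⟩ := exists_good_epi l U hle hcov E hE m (m + N) hmt hpc hU htop'
    obtain ⟨E', β, δ, hT⟩ := distinguished_cocone_triangle α₁
    obtain ⟨h1, h2, h3, h4⟩ := cone_step U m (m + N) (m - (l.length : ℤ)) hT hP₁ hE hpc hU htop' hepi
    obtain ⟨P', α', hP', hP'U, hα'⟩ := approx_affine_aux l U hle hcov m N E' h1 h2 h3 h4
    exact octa_step U m hT hP₁.1 hP₁.2.1 α' hP' hP'U hα'

/-- **affine approximation by perfect complexes** (Stacks 08EL): `X` affine over `Spec A`, `U` the union of the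
`D(a)`, `a ∈ l`; `E ∈ D_QCoh(X)` `m`-pseudo-coherent with `Hⁱ(E)|_U = 0` for `i > m - |l|`. Then there are a perfect `P`
vanishing on `U` and `α : P ⟶ E` inducing isomorphisms on `Hⁱ`, `i > m` and an epimorphism on `Hᵐ`. -/
theorem approx_affine [IsAffine X] (l : List A) (U : X.Opens)
    (hle : ∀ a ∈ l, X.basicOpen
      (show Γ(X, ⊤) from Coh.toGlobal (X ↘ Spec (CommRingCat.of A)) a) ≤ U)
    (hcov : ∀ x ∈ U, ∃ a ∈ l, x ∈ X.basicOpen
      (show Γ(X, ⊤) from Coh.toGlobal (X ↘ Spec (CommRingCat.of A)) a))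
    (m : ℤ) (E : DCoh.D X) (hE : DCoh.IsQCohD E) (hpc : DCoh.IsPseudoCoherentD m E)
    (hU : ∀ i : ℤ, m - (l.length : ℤ) < i → IsZero ((DCoh.HD E i).restrict U.ι)) :
    ∃ (P : DCoh.D X) (α : P ⟶ E), DCoh.IsPerfect P ∧ IsZero ((DCoh.restrictD U.ι).obj P) ∧
      IsoAbove m α := by
  obtain ⟨b, hb⟩ := Groth.Agent.Lib.Helper25.RpushPCUnbdd.exists_isLE_of_isPseudoCoherentD E hpc
  rw [DerivedCategory.isLE_iff] at hb
  refine approx_affine_aux l U hle hcov m (b + 1 - m).toNat E hE hpc hU (fun i hi => hb i ?_)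
  have := Int.self_le_toNat (b + 1 - m)
  omega

end Groth.Agent.Lib.Helper25.ApproxAffine
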