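import Mathlib
import Groth.Agent.Lib.Helper25.DCohPC
import Groth.Agent.Lib.Helper25.FLFKernel
import Groth.Agent.S6516

/-!
# Pseudo-coherence of a module placed in degree `0` (helper25)

* `pcData_zero_of_generators`: a module with a finite family of generating sections is `0`-pseudo-coherent (globally
  presented).
* `pcData_negOne_of_presentation`: a module with a finite presentation is `(-1)`-pseudo-coherent.
-/

set_option autoImplicit false
universe u
open CategoryTheory CategoryTheory.Limits AlgebraicGeometry TopologicalSpace Opposite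
open Scheme.Modules

attribute [local instance] HasDerivedCategory.standard

namespace Groth.Agent.Lib.helper25.DCohSingle

open Groth.Agent.Lib.helper25.DCohPC Groth.Agent.Lib.helper25.FLFKernel

section Generic

variable {C : Type*} [Category C] [Abelian C] [HasDerivedCategory C]

lemma isIso_of_isZero {A B : C} (f : A ⟶ B) (hA : IsZero A) (hB : IsZero B) : IsIso f :=
  ⟨⟨0, hA.eq_of_src _ _, hB.eq_of_src _ _⟩⟩

lemma epi_of_isZero_tgt {A B : C} (f : A ⟶ B) (hB : IsZero B) : Epi f :=
  ⟨fun _ _ _ => hB.eq_of_src _ _⟩

/-- `H^0 (Q (M[0])) ≅ M`, naturally -/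
noncomputable def singleH0Iso :
    HomologicalComplex.single C (ComplexShape.up ℤ) 0 ⋙ DerivedCategory.Q ⋙
      DerivedCategory.homologyFunctor C 0 ≅ 𝟭 C :=
  Functor.isoWhiskerLeft _ (DerivedCategory.homologyFunctorFactors C 0) ≪≫
    HomologicalComplex.homologyFunctorSingleIso C _ 0

lemma isZero_homology_Q_single (M : C) (i : ℤ) (hi : i ≠ 0) :
    IsZero ((DerivedCategory.homologyFunctor C i).obj
      (DerivedCategory.Q.obj ((HomologicalComplex.single C (ComplexShape.up ℤ) 0).obj M))) :=
  (HomologicalComplex.isZero_single_obj_homology (ComplexShape.up ℤ) 0 M i hi).of_iso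
    ((DerivedCategory.homologyFunctorFactors C i).app _)

lemma epi_H0_Q_single_map {M N : C} (f : M ⟶ N) [Epi f] :
    Epi ((DerivedCategory.homologyFunctor C 0).map
      (DerivedCategory.Q.map ((HomologicalComplex.single C (ComplexShape.up ℤ) 0).map f))) := by
  have h := (singleH0Iso (C := C)).hom.naturality f
  have h2 : (DerivedCategory.homologyFunctor C 0).map
      (DerivedCategory.Q.map ((HomologicalComplex.single C (ComplexShape.up ℤ) 0).map f)) =
      (singleH0Iso (C := C)).hom.app M ≫ f ≫ (singleH0Iso (C := C)).inv.app N := by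
    rw [← cancel_mono ((singleH0Iso (C := C)).hom.app N)]
    simp only [Category.assoc, Iso.inv_hom_id_app, Functor.id_obj, Category.comp_id]
    simpa using h
  rw [h2]
  infer_instance

end Generic

variable {Y : Scheme.{u}}

lemma isFinLocFree_free (I : Type u) [Finite I] :
    FlatMod.IsFinLocFree (SheafOfModules.free (R := Y.ringCatSheaf) I) := by
  obtain ⟨n, ⟨e⟩⟩ := Finite.exists_equiv_fin I
  have iso : SheafOfModules.free (R := Y.ringCatSheaf) I ≅
      SheafOfModules.free (R := Y.ringCatSheaf) (ULift.{u} (Fin n)) :=
    (SheafOfModules.freeFunctor (R := Y.ringCatSheaf)).mapIso (Equiv.toIso (e.trans Equiv.ulift.symm))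
  exact Groth.Agent.Lib.helper16.FLF.isFinLocFree_of_iso
    (iso ≪≫ (Groth.Agent.Lib.helper16.FLF.freeModIso Y n).symm).symm
    (Groth.Agent.Lib.helper16.FLF.isFinLocFree_freeMod Y n)

lemma isStrictlyPerfect_single {M : Y.Modules} (hM : FlatMod.IsFinLocFree M) :
    DCoh.IsStrictlyPerfect ((HomologicalComplex.single Y.Modules (ComplexShape.up ℤ) 0).obj M) := by
  refine ⟨⟨0, 0, fun i hi => ?_⟩, fun i => ?_⟩
  · exact HomologicalComplex.isZero_single_obj_X _ _ _ _ (by omega)
  · by_cases hi : i = 0
    · subst hi
      exact Groth.Agent.Lib.helper16.FLF.isFinLocFree_of_iso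
        (HomologicalComplex.singleObjXSelf (ComplexShape.up ℤ) 0 M).symm hM
    · exact isFinLocFree_of_isZero (HomologicalComplex.isZero_single_obj_X _ _ _ _ hi)

/-- finitely many generating sections ⇒ `0`-pseudo-coherent -/
theorem pcData_zero_of_generators (M : Y.Modules) (G : SheafOfModules.GeneratingSections M)
    [Finite G.I] :
    PCData 0 (DerivedCategory.Q.obj ((HomologicalComplex.single Y.Modules (ComplexShape.up ℤ) 0).obj M)) := by
  refine ⟨(HomologicalComplex.single Y.Modules (ComplexShape.up ℤ) 0).obj (SheafOfModules.free G.I),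
    DerivedCategory.Q.map ((HomologicalComplex.single Y.Modules (ComplexShape.up ℤ) 0).map G.π),
    isStrictlyPerfect_single (isFinLocFree_free G.I), fun i hi => ?_, ?_⟩
  · exact isIso_of_isZero _ (isZero_homology_Q_single _ i (by omega))
      (isZero_homology_Q_single _ i (by omega))
  · exact epi_H0_Q_single_map G.π

section TwoTerm

open CochainComplex HomComplex DerivedCategory

variable {C : Type*} [Category C] [Abelian C] [HasDerivedCategory C]

/-- For `d : A ⟶ B` with cokernel `π : B ⟶ M`, the cone of `A[0] ⟶ B[0]` maps to `M[0]` by a morphism which is an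
isomorphism on `H^i` for `i ≥ 0`. -/
theorem exists_cone_to_single {A B M : C} (d : A ⟶ B) (π : B ⟶ M) (w : d ≫ π = 0)
    (hc : IsColimit (CokernelCofork.ofπ π w)) :
    ∃ γ : mappingCone ((HomologicalComplex.single C (ComplexShape.up ℤ) 0).map d) ⟶
        (HomologicalComplex.single C (ComplexShape.up ℤ) 0).obj M,
      ∀ i : ℤ, -1 < i → IsIso ((DerivedCategory.homologyFunctor C i).map (Q.map γ)) := by
  let S := HomologicalComplex.single C (ComplexShape.up ℤ) 0
  have hφβ : S.map d ≫ S.map π = 0 := by rw [← S.map_comp, w, S.map_zero]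
  let γ : mappingCone (S.map d) ⟶ S.obj M :=
    mappingCone.desc (S.map d) 0 (S.map π) (by simp [hφβ])
  have hγ : mappingCone.inr (S.map d) ≫ γ = S.map π := mappingCone.inr_desc _ _ _ _
  refine ⟨γ, fun i hi => ?_⟩
  let T := Q.mapTriangle.obj (mappingCone.triangle (S.map d))
  have hT : T ∈ distTriang (DerivedCategory C) := mappingCone_triangle_distinguished (S.map d)
  by_cases hi0 : i = 0
  · subst hi0
    -- the interesting degree
    have hb_epi : Epi ((DerivedCategory.homologyFunctor C 0).map T.mor₂) := by
      rw [HomologySequence.epi_homologyMap_mor₂_iff T hT 0 1 rfl]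
      exact (isZero_homology_Q_single A 1 (by omega)).eq_of_tgt _ _
    have hcb := (HomologySequence.exact₂ T hT 0).gIsCokernel
    have : PreservesColimit (parallelPair d 0)
        (S ⋙ DerivedCategory.Q ⋙ DerivedCategory.homologyFunctor C 0) :=
      preservesColimit_of_natIso _ (singleH0Iso (C := C)).symm
    have hcp := CokernelCofork.mapIsColimit _ hc
      (S ⋙ DerivedCategory.Q ⋙ DerivedCategory.homologyFunctor C 0)
    let e := hcb.coconePointUniqueUpToIso hcp
    have he : (DerivedCategory.homologyFunctor C 0).map T.mor₂ ≫ e.hom =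
        (DerivedCategory.homologyFunctor C 0).map (Q.map (S.map π)) :=
      IsColimit.comp_coconePointUniqueUpToIso_hom hcb hcp WalkingParallelPair.one
    have hc' : (DerivedCategory.homologyFunctor C 0).map T.mor₂ ≫
        (DerivedCategory.homologyFunctor C 0).map (Q.map γ) =
        (DerivedCategory.homologyFunctor C 0).map (Q.map (S.map π)) := by
      rw [← Functor.map_comp]
      congr 1
      show Q.map (mappingCone.inr (S.map d)) ≫ Q.map γ = _
      rw [← Functor.map_comp, hγ]
    have : (DerivedCategory.homologyFunctor C 0).map (Q.map γ) = e.hom :=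
      (cancel_epi ((DerivedCategory.homologyFunctor C 0).map T.mor₂)).1 (hc'.trans he.symm)
    rw [this]
    infer_instance
  · refine isIso_of_isZero _ ?_ (isZero_homology_Q_single M i hi0)
    have h3 := HomologySequence.exact₃ T hT i (i + 1) rfl
    refine h3.isZero_of_both_zeros ?_ ?_
    · exact (isZero_homology_Q_single B i hi0).eq_of_src _ _
    · exact (isZero_homology_Q_single A (i + 1) (by omega)).eq_of_tgt _ _

end TwoTerm

/-- a finite presentation ⇒ `(-1)`-pseudo-coherent -/
theorem pcData_negOne_of_presentation (M : Y.Modules) (P : SheafOfModules.Presentation M)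
    [P.IsFinite] :
    PCData (-1) (DerivedCategory.Q.obj ((HomologicalComplex.single Y.Modules (ComplexShape.up ℤ) 0).obj M)) := by
  have : Finite P.generators.I := SheafOfModules.GeneratingSections.IsFiniteType.finite
  have : Finite P.relations.I := SheafOfModules.GeneratingSections.IsFiniteType.finite
  obtain ⟨γ, hγ⟩ := exists_cone_to_single (P.relations.π ≫ kernel.ι P.generators.π) P.generators.π
    (by simp) P.isColimit
  refine ⟨_, DerivedCategory.Q.map γ,
    Groth.Agent.S6516.result _ (isStrictlyPerfect_single (isFinLocFree_free P.relations.I))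
      (isStrictlyPerfect_single (isFinLocFree_free P.generators.I)), hγ, ?_⟩
  exact epi_of_isZero_tgt _ (isZero_homology_Q_single M (-1) (by omega))

end Groth.Agent.Lib.helper25.DCohSingle
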