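import Mathlib
import Groth.Agent.Lib.Helper25.DCohPC4
import Groth.Agent.Lib.Helper25.DCohSingle

/-!
# Coherent modules on locally Noetherian schemes are pseudo-coherent (helper25)

* `restrictD_single_iso`: `(F[0])|_V ≅ (F|_V)[0]`.
* `isPseudoCoherentD_single_of_isCoh`: on a locally Noetherian scheme, a coherent module placed in degree `0` is
  `k`-pseudo-coherent for every `k`.
* `isPseudoCoherentD_singleFunctor_of_isCoh`: same in degree `b`.
-/

set_option autoImplicit false
universe u
open CategoryTheory CategoryTheory.Limits AlgebraicGeometry TopologicalSpace Opposite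
open Scheme.Modules ZeroObject

attribute [local instance] HasDerivedCategory.standard

namespace Groth.Agent.Lib.helper25.DCohPC5

open Groth.Agent.Lib.helper25.DCohRestrict Groth.Agent.Lib.helper25.DCohPerfect
  Groth.Agent.Lib.helper25.DCohHomology Groth.Agent.Lib.helper25.DCohPC
  Groth.Agent.Lib.helper25.DCohPC2 Groth.Agent.Lib.helper25.DCohPC3 Groth.Agent.Lib.helper25.DCohPC4
  Groth.Agent.Lib.helper25.IsoAbove Groth.Agent.Lib.helper25.FLFKernel
  Groth.Agent.Lib.helper25.DCohSingle

variable {X Y Z : Scheme.{u}}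

/-- `(F[0])|_V ≅ (F|_V)[0]` -/
noncomputable def restrictD_single_iso (F : X.Modules) (V : X.Opens) :
    (DCoh.restrictD V.ι).obj ((DerivedCategory.singleFunctor X.Modules 0).obj F) ≅
      (DerivedCategory.singleFunctor (V : Scheme.{u}).Modules 0).obj
        ((Scheme.Modules.restrictFunctor V.ι).obj F) :=
  ((Scheme.Modules.restrictFunctor V.ι).mapDerivedCategorySingleFunctor 0).app F

/-- a finite locally free module in degree `0` is `k`-pseudo-coherent for all `k` -/
lemma isPseudoCoherentD_single_of_isFinLocFree {M : Y.Modules} (hM : FlatMod.IsFinLocFree M) (k : ℤ) :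
    DCoh.IsPseudoCoherentD k ((DerivedCategory.singleFunctor Y.Modules 0).obj M) := by
  have e : DerivedCategory.Q.obj ((HomologicalComplex.single Y.Modules (ComplexShape.up ℤ) 0).obj M) ≅
      (DerivedCategory.singleFunctor Y.Modules 0).obj M := Iso.refl _
  exact isPseudoCoherentD_of_pcData_global
    ⟨(HomologicalComplex.single Y.Modules (ComplexShape.up ℤ) 0).obj M, e.hom,
      isStrictlyPerfect_single hM, isoAbove_of_isIso k e.hom⟩

/-- **Coherent ⇒ pseudo-coherent** (locally Noetherian schemes). -/
theorem isPseudoCoherentD_single_of_isCoh : ∀ (n : ℕ) (Y : Scheme.{u}) [IsLocallyNoetherian Y]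
    (F : Y.Modules), Coh.IsCoh F →
    DCoh.IsPseudoCoherentD (1 - n) ((DerivedCategory.singleFunctor Y.Modules 0).obj F) := by
  intro n
  induction n with
  | zero =>
    intro Y _ F _
    refine isPseudoCoherentD_of_pcData_global (pcData_of_isZero_homology (fun i hi => ?_))
    exact isZero_homology_Q_single F i (by simp at hi; omega)
  | succ n ih =>
    intro Y _ F hF
    refine isPseudoCoherentD_of_restrict (fun y => ?_)
    obtain ⟨ι, U, G, hfin, hcov, -⟩ :=
      Groth.Agent.Lib.helper16.CohFinite.exists_isOpenCover_generators F hF.2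
    have hy : y ∈ (⨆ i, U i : Y.Opens) := by rw [hcov.iSup_eq_top]; trivial
    obtain ⟨i, hi⟩ := Opens.mem_iSup.mp hy
    have := hfin i
    refine ⟨U i, hi, ?_⟩
    have hq : F.IsQuasicoherent := hF.1
    have hFU : Coh.IsCoh (F.restrict (U i).ι) :=
      ⟨inferInstance, Groth.Agent.Lib.helper16.CohFinite.isFiniteType_of_generatingSections _ (G i)⟩
    have hfree : FlatMod.IsFinLocFree (SheafOfModules.free (R := ((U i : Y.Opens) : Scheme.{u}).ringCatSheaf)
        (G i).I) := isFinLocFree_free _
    have hK : Coh.IsCoh (kernel (G i).π) :=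
      Groth.Agent.Lib.helper7.CohKer.isCoh_kernel (isCoh_of_isFinLocFree hfree) hFU _
    have hS : (ShortComplex.kernelSequence (G i).π).ShortExact :=
      { exact := ShortComplex.kernelSequence_exact _
        epi_g := inferInstanceAs (Epi (G i).π) }
    have hT := hS.singleTriangle_distinguished
    have h1 := ih ((U i : Y.Opens) : Scheme.{u}) (kernel (G i).π) hK
    have h1' : DCoh.IsPseudoCoherentD ((1 - ((n + 1 : ℕ) : ℤ)) + 1)
        ((DerivedCategory.singleFunctor _ 0).obj (kernel (G i).π)) := by
      have : (1 - ((n + 1 : ℕ) : ℤ)) + 1 = 1 - (n : ℤ) := by push_cast; ring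
      rw [this]
      exact h1
    have h3 := isPseudoCoherentD_obj₃ _ hT (1 - ((n + 1 : ℕ) : ℤ)) h1'
      (isPseudoCoherentD_single_of_isFinLocFree hfree _)
    exact isPseudoCoherentD_of_iso (restrictD_single_iso F (U i)).symm h3

theorem isPseudoCoherentD_single_of_isCoh' [IsLocallyNoetherian Y] {F : Y.Modules} (hF : Coh.IsCoh F)
    (k : ℤ) : DCoh.IsPseudoCoherentD k ((DerivedCategory.singleFunctor Y.Modules 0).obj F) := by
  by_cases hk : 1 ≤ k
  · exact isPseudoCoherentD_mono (isPseudoCoherentD_single_of_isCoh 0 Y F hF) (by simpa using hk)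
  · have := isPseudoCoherentD_single_of_isCoh (1 - k).toNat Y F hF
    have h0 : (1 : ℤ) - ((1 - k).toNat : ℤ) = k := by
      have : ((1 - k).toNat : ℤ) = 1 - k := Int.toNat_of_nonneg (by omega)
      rw [this]; ring
    rwa [h0] at this

/-- in degree `b` -/
theorem isPseudoCoherentD_singleFunctor_of_isCoh [IsLocallyNoetherian Y] {F : Y.Modules}
    (hF : Coh.IsCoh F) (b k : ℤ) :
    DCoh.IsPseudoCoherentD k ((DerivedCategory.singleFunctor Y.Modules b).obj F) := by
  have e := ((DerivedCategory.singleFunctors Y.Modules).shiftIso (-b) b 0 (by omega)).app F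
  exact isPseudoCoherentD_of_iso e
    (isPseudoCoherentD_shift (isPseudoCoherentD_single_of_isCoh' hF (k + -b)) (-b) k rfl)

end Groth.Agent.Lib.helper25.DCohPC5
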