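import Mathlib

/-!
# Retracts and distinguished triangles (helper25)

In a pretriangulated category:
* `retract_obj₃`: compatible retracts on the first two vertices of distinguished triangles give a retract on the third.
* `retract_obj₂`: compatible retracts on the first and third vertices give a retract on the second.
* `exists_retraction_mor₂`: if `T.mor₁ = 0` then `T.mor₂` is a split monomorphism.
* `exists_biprod_of_retract`: a retract is a direct summand.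
-/

set_option autoImplicit false
open CategoryTheory CategoryTheory.Limits Pretriangulated

namespace Groth.Agent.Lib.Helper25.TriRetract

variable {C : Type*} [Category C] [Preadditive C] [HasZeroObject C] [HasShift C ℤ]
  [∀ n : ℤ, (shiftFunctor C n).Additive] [Pretriangulated C]

/-- compatible retracts on the first two vertices give a retract on the third -/
theorem retract_obj₃ (T T' : Triangle C) (hT : T ∈ distTriang C) (hT' : T' ∈ distTriang C)
    (a : T.obj₁ ⟶ T'.obj₁) (a' : T'.obj₁ ⟶ T.obj₁) (ha : a ≫ a' = 𝟙 _)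
    (b : T.obj₂ ⟶ T'.obj₂) (b' : T'.obj₂ ⟶ T.obj₂) (hb : b ≫ b' = 𝟙 _)
    (comm : T.mor₁ ≫ b = a ≫ T'.mor₁) (comm' : T'.mor₁ ≫ b' = a' ≫ T.mor₁) :
    ∃ (c : T.obj₃ ⟶ T'.obj₃) (c' : T'.obj₃ ⟶ T.obj₃), c ≫ c' = 𝟙 _ := by
  obtain ⟨c₀, h1, h2⟩ := complete_distinguished_triangle_morphism T T' hT hT' a b comm
  obtain ⟨c₀', h1', h2'⟩ := complete_distinguished_triangle_morphism T' T hT' hT a' b' comm'
  let Φ : T ⟶ T :=
    { hom₁ := 𝟙 _
      hom₂ := 𝟙 _
      hom₃ := c₀ ≫ c₀'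
      comm₁ := by simp
      comm₂ := by
        rw [Category.id_comp, ← Category.assoc, h1, Category.assoc, h1', ← Category.assoc, hb,
          Category.id_comp]
      comm₃ := by
        rw [Category.assoc, ← h2', ← Category.assoc, ← h2, Category.assoc, ← Functor.map_comp, ha] }
  haveI : IsIso Φ.hom₃ := isIso₃_of_isIso₁₂ Φ hT hT
    (inferInstanceAs (IsIso (𝟙 T.obj₁))) (inferInstanceAs (IsIso (𝟙 T.obj₂)))
  haveI : IsIso (c₀ ≫ c₀') := inferInstanceAs (IsIso Φ.hom₃)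
  exact ⟨c₀, c₀' ≫ inv (c₀ ≫ c₀'), by rw [← Category.assoc]; exact IsIso.hom_inv_id _⟩

/-- compatible retracts on the first and third vertices give a retract on the second -/
theorem retract_obj₂ (T T' : Triangle C) (hT : T ∈ distTriang C) (hT' : T' ∈ distTriang C)
    (a : T.obj₁ ⟶ T'.obj₁) (a' : T'.obj₁ ⟶ T.obj₁) (ha : a ≫ a' = 𝟙 _)
    (c : T.obj₃ ⟶ T'.obj₃) (c' : T'.obj₃ ⟶ T.obj₃) (hc : c ≫ c' = 𝟙 _)
    (comm : T.mor₃ ≫ a⟦(1 : ℤ)⟧' = c ≫ T'.mor₃) (comm' : T'.mor₃ ≫ a'⟦(1 : ℤ)⟧' = c' ≫ T.mor₃) :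
    ∃ (b : T.obj₂ ⟶ T'.obj₂) (b' : T'.obj₂ ⟶ T.obj₂), b ≫ b' = 𝟙 _ := by
  obtain ⟨b₀, h1, h2⟩ := complete_distinguished_triangle_morphism₂ T T' hT hT' a c comm
  obtain ⟨b₀', h1', h2'⟩ := complete_distinguished_triangle_morphism₂ T' T hT' hT a' c' comm'
  let Φ : T ⟶ T :=
    { hom₁ := 𝟙 _
      hom₂ := b₀ ≫ b₀'
      hom₃ := 𝟙 _
      comm₁ := by
        rw [Category.id_comp, ← Category.assoc, h1, Category.assoc, h1', ← Category.assoc, ha,
          Category.id_comp]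
      comm₂ := by
        rw [Category.comp_id, Category.assoc, ← h2', ← Category.assoc, ← h2, Category.assoc, hc,
          Category.comp_id]
      comm₃ := by simp }
  haveI : IsIso Φ.hom₂ := isIso₂_of_isIso₁₃ Φ hT hT
    (inferInstanceAs (IsIso (𝟙 T.obj₁))) (inferInstanceAs (IsIso (𝟙 T.obj₃)))
  haveI : IsIso (b₀ ≫ b₀') := inferInstanceAs (IsIso Φ.hom₂)
  exact ⟨b₀, b₀' ≫ inv (b₀ ≫ b₀'), by rw [← Category.assoc]; exact IsIso.hom_inv_id _⟩

/-- if `T.mor₁ = 0` then `T.mor₂` is a split monomorphism -/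
theorem exists_retraction_mor₂ (T : Triangle C) (hT : T ∈ distTriang C) (h : T.mor₁ = 0) :
    ∃ r : T.obj₃ ⟶ T.obj₂, T.mor₂ ≫ r = 𝟙 _ := by
  obtain ⟨r, hr⟩ := Triangle.yoneda_exact₂ T hT (𝟙 T.obj₂) (by rw [h, zero_comp])
  exact ⟨r, hr.symm⟩

/-- a retract is a direct summand -/
theorem exists_biprod_of_retract {M B : C} (i : M ⟶ B) (p : B ⟶ M) (hip : i ≫ p = 𝟙 M) :
    ∃ (N : C), Nonempty (B ≅ M ⊞ N) := by
  obtain ⟨N, q, δ, hT⟩ := distinguished_cocone_triangle i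
  have hδ : δ = 0 := by
    have h1 : δ ≫ i⟦(1 : ℤ)⟧' = 0 := comp_distTriang_mor_zero₃₁ _ hT
    have h2 : δ = (δ ≫ i⟦(1 : ℤ)⟧') ≫ p⟦(1 : ℤ)⟧' := by
      rw [Category.assoc, ← Functor.map_comp, hip, CategoryTheory.Functor.map_id, Category.comp_id]
    rw [h2, h1, zero_comp]
  obtain ⟨e, -, -⟩ := exists_iso_binaryBiproduct_of_distTriang _ hT hδ
  exact ⟨N, ⟨e⟩⟩

end Groth.Agent.Lib.Helper25.TriRetract
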