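import Mathlib
import Groth.Agent.Lib.Helper25.FlatAmpPerfect
import Groth.Agent.Lib.Helper25.PerfectTor

/-!
# Direct summands of perfect objects of `D(O_X)` (helper25)

* `flat_stalk_of_restrict`, `isFlat_of_locally`: flatness of `O_X`-modules is local.
* `opcyclesResIso`: restriction to opens commutes with `opcycles`.
* `exists_local_chain_map_isoAbove`, `isFlat_opcycles_of_isoAbove_D`: `P` strictly perfect, `F` flat in `[a,b]`,
  `α : Q P ⟶ Q F` with `IsoAbove (a-1) α` ⟹ `P.opcycles a` flat (global statement).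
* `exists_strictlyPerfect_local_of_isFlat_opcycles`.
* `isIso_map_of_decomp`, `epi_map_of_decomp`, `isoAbove_sum`: direct sums of `IsoAbove` morphisms.
* `isStrictlyPerfect_biprod`, `isZero_homology_of_retract`.
* `isPerfect_of_summand`: local form of "a direct summand of a perfect object is perfect".
-/

set_option autoImplicit false
universe u
open CategoryTheory CategoryTheory.Limits AlgebraicGeometry TopologicalSpace Opposite
open Scheme.Modules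

attribute [local instance] HasDerivedCategory.standard

namespace Groth.Agent.Lib.helper25.PerfectSummand

open Groth.Agent.Lib.helper25.FlatClass Groth.Agent.Lib.helper25.IsoAbove
  Groth.Agent.Lib.helper25.FlatTrunc Groth.Agent.Lib.helper25.DCohRestrict
  Groth.Agent.Lib.helper25.DCohPerfect Groth.Agent.Lib.helper25.DCohPC
  Groth.Agent.Lib.helper25.DCohPC2 Groth.Agent.Lib.helper25.DCohPC3
  Groth.Agent.Lib.helper25.FlatAmpPerfect

variable {X Y : Scheme.{u}}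

/-- flatness of a stalk can be checked after restriction to an open neighbourhood -/
lemma flat_stalk_of_restrict (M : X.Modules) (V : X.Opens) (y : (V : Scheme.{u}))
    (h : Module.Flat ((V : Scheme.{u}).presheaf.stalk y) ((M.restrict V.ι).presheaf.stalk y)) :
    Module.Flat (X.presheaf.stalk (V.ι y)) (M.presheaf.stalk (V.ι y)) := by
  letI inst : Module ((V : Scheme.{u}).presheaf.stalk y) (M.presheaf.stalk (V.ι y)) :=
    Module.compHom _ (resRing V y)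
  let e : (M.restrict V.ι).presheaf.stalk y ≃ₗ[(V : Scheme.{u}).presheaf.stalk y]
      M.presheaf.stalk (V.ι y) :=
    { AddEquiv.ofBijective (resStalk M V y) (resStalk_bijective M V y) with
      map_smul' := fun r m => resStalk_smul M V y r m }
  have h1 : Module.Flat ((V : Scheme.{u}).presheaf.stalk y) (M.presheaf.stalk (V.ι y)) :=
    (Module.Flat.equiv_iff e).1 h
  exact (Groth.Agent.Lib.helper17.FlatOver2.flat_compHom_iff_of_bijective (resRing V y)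
      (resRing_bijective V y)).1 h1

/-- flatness is local -/
lemma isFlat_of_locally (M : X.Modules)
    (h : ∀ x : X, ∃ V : X.Opens, x ∈ V ∧ FlatMod.IsFlat (M.restrict V.ι)) : FlatMod.IsFlat M := by
  intro x
  obtain ⟨V, hxV, hV⟩ := h x
  exact flat_stalk_of_restrict M V ⟨x, hxV⟩ (hV ⟨x, hxV⟩)

/-- restriction along an open immersion commutes with the cokernels `opcycles` of complexes -/
noncomputable def opcyclesResIso {Z : Scheme.{u}} (g : Z ⟶ Y) [IsOpenImmersion g] (F : CochainComplex Y.Modules ℤ)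
    (i : ℤ) : ((resCx g).obj F).opcycles i ≅ (restrictFunctor g).obj (F.opcycles i) :=
  (F.sc i).mapOpcyclesIso (restrictFunctor g)

open DerivedCategory in
/-- local chain-map representative of a morphism from a strictly perfect complex, keeping `IsoAbove` -/
lemma exists_local_chain_map_isoAbove {P F : CochainComplex Y.Modules ℤ} (hP : DCoh.IsStrictlyPerfect P)
    (m : ℤ) (α : Q.obj P ⟶ Q.obj F) (hα : IsoAbove m α) (y : Y) :
    ∃ (W : Y.Opens) (c : (resCx W.ι).obj P ⟶ (resCx W.ι).obj F), y ∈ W ∧ IsoAbove m (Q.map c) := by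
  obtain ⟨W, c, hyW, hc⟩ := exists_local_chain_map hP α y
  refine ⟨W, c, hyW, ?_⟩
  have h1 := isoAbove_restrict W.ι hα
  have : Q.map c = (resDQIso W.ι P).inv ≫ ((DCoh.restrictD W.ι).map α ≫ (resDQIso W.ι F).hom) := by
    rw [hc]; simp
  rw [this]
  exact (h1.comp_iso _).iso_comp _

open DerivedCategory in
/-- **Flatness of the cokernel, derived-category form**: `P` strictly perfect, `F` a complex of flat modules
vanishing outside `[a,b]`, `α : Q P ⟶ Q F` iso on `H^i`, `i ≥ a` ⟹ `P.opcycles a` is flat. -/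
theorem isFlat_opcycles_of_isoAbove_D {P F : CochainComplex Y.Modules ℤ}
    (hP : DCoh.IsStrictlyPerfect P) (a b : ℤ) (hF : DCoh.VanishesOutside F a b)
    (hFf : ∀ i : ℤ, FlatMod.IsFlat (F.X i))
    (α : Q.obj P ⟶ Q.obj F) (hα : IsoAbove (a - 1) α) : FlatMod.IsFlat (P.opcycles a) := by
  refine isFlat_of_locally _ (fun y => ?_)
  obtain ⟨W, c, hyW, hc'⟩ := exists_local_chain_map_isoAbove hP (a - 1) α hα y
  refine ⟨W, hyW, ?_⟩
  obtain ⟨⟨a₀, b₀, hab₀⟩, hf₀⟩ := isStrictlyPerfect_res W.ι hP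
  have hflat : FlatMod.IsFlat (((resCx W.ι).obj P).opcycles a) :=
    isFlat_opcycles_of_isoAbove c a (max b b₀)
      (fun i => Groth.Agent.Lib.helper16.FLF.isFlat_of_isFinLocFree _ (hf₀ i))
      (fun i => isFlat_restrict (F.X i) W (hFf i))
      (fun i hi => hab₀ i (Or.inr (by omega)))
      (fun i hi => (restrictFunctor W.ι).map_isZero (hF i (Or.inr (by omega))))
      (fun i hi => (restrictFunctor W.ι).map_isZero (hF i (Or.inl hi)))
      hc'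
  exact isFlat_of_iso (opcyclesResIso W.ι P a) hflat

open DerivedCategory in
/-- a strictly perfect `P` with `P.opcycles a` flat mapping to a complex `G` concentrated in degrees `≥ a` by a
morphism which is an isomorphism on `H^i`, `i ≥ a`: locally `G` is quasi-isomorphic to a strictly perfect complex -/
theorem exists_strictlyPerfect_local_of_isFlat_opcycles {P G : CochainComplex Y.Modules ℤ}
    (hP : DCoh.IsStrictlyPerfect P) (a : ℤ) (hG : ∀ i : ℤ, i < a → IsZero (G.X i))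
    (α : Q.obj P ⟶ Q.obj G) (hα : IsoAbove (a - 1) α) (hfl : FlatMod.IsFlat (P.opcycles a)) (y : Y) :
    ∃ (W : Y.Opens), y ∈ W ∧ ∃ E : CochainComplex (W : Scheme.{u}).Modules ℤ, DCoh.IsStrictlyPerfect E ∧
      Nonempty (Q.obj E ≅ Q.obj ((resCx W.ι).obj G)) := by
  obtain ⟨W, c, hyW, hc'⟩ := exists_local_chain_map_isoAbove hP (a - 1) α hα y
  have hP' := isStrictlyPerfect_res W.ι hP
  have hflat : FlatMod.IsFlat (((resCx W.ι).obj P).opcycles a) :=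
    isFlat_of_iso (opcyclesResIso W.ι P a).symm (isFlat_restrict _ W hfl)
  have hflf := isFinLocFree_opcycles_of_isFlat hP'.2 a hflat
  obtain ⟨h1, h2⟩ := truncGE_isStrictlyPerfect_and_iso hP' c a
    (fun i hi => (restrictFunctor W.ι).map_isZero (hG i hi)) hc' hflf
  exact ⟨W, hyW, _, h1, h2⟩

/-- a retract of an object with vanishing `H^i` has vanishing `H^i` -/
lemma isZero_homology_of_retract {A S : DCoh.D Y} (i₀ : A ⟶ S) (p₀ : S ⟶ A)
    (hip : i₀ ≫ p₀ = 𝟙 A) (i : ℤ) (hz : IsZero ((DerivedCategory.homologyFunctor _ i).obj S)) :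
    IsZero ((DerivedCategory.homologyFunctor _ i).obj A) := by
  rw [IsZero.iff_id_eq_zero]
  have h1 : 𝟙 ((DerivedCategory.homologyFunctor _ i).obj A) =
      (DerivedCategory.homologyFunctor _ i).map i₀ ≫ (DerivedCategory.homologyFunctor _ i).map p₀ := by
    rw [← Functor.map_comp, hip, CategoryTheory.Functor.map_id]
  rw [h1, hz.eq_of_tgt ((DerivedCategory.homologyFunctor _ i).map i₀) 0, zero_comp]

section Decomp

variable {𝒞 𝒟 : Type*} [Category 𝒞] [Preadditive 𝒞] [Category 𝒟] [Preadditive 𝒟] (H : 𝒞 ⥤ 𝒟) [H.Additive]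
  {A A₁ A₂ B B₁ B₂ : 𝒞} (iA₁ : A₁ ⟶ A) (iA₂ : A₂ ⟶ A) (pA₁ : A ⟶ A₁) (pA₂ : A ⟶ A₂)
  (iB₁ : B₁ ⟶ B) (iB₂ : B₂ ⟶ B) (pB₁ : B ⟶ B₁) (pB₂ : B ⟶ B₂)
  (φ : A ⟶ B) (φ₁ : A₁ ⟶ B₁) (φ₂ : A₂ ⟶ B₂)

include iA₁ iA₂ pB₁ pB₂ in
lemma isIso_map_of_decomp (hA : pA₁ ≫ iA₁ + pA₂ ≫ iA₂ = 𝟙 A) (hB : pB₁ ≫ iB₁ + pB₂ ≫ iB₂ = 𝟙 B)
    (c₁ : iA₁ ≫ φ = φ₁ ≫ iB₁) (c₂ : iA₂ ≫ φ = φ₂ ≫ iB₂) (d₁ : φ ≫ pB₁ = pA₁ ≫ φ₁) (d₂ : φ ≫ pB₂ = pA₂ ≫ φ₂)
    [IsIso (H.map φ₁)] [IsIso (H.map φ₂)] : IsIso (H.map φ) := by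
  refine ⟨H.map pB₁ ≫ inv (H.map φ₁) ≫ H.map iA₁ + H.map pB₂ ≫ inv (H.map φ₂) ≫ H.map iA₂, ?_, ?_⟩
  · rw [Preadditive.comp_add, ← H.map_comp_assoc, d₁, ← H.map_comp_assoc, d₂, H.map_comp, H.map_comp]
    simp only [Category.assoc, IsIso.hom_inv_id_assoc]
    rw [← H.map_comp, ← H.map_comp, ← H.map_add, hA, H.map_id]
  · rw [Preadditive.add_comp]
    simp only [Category.assoc]
    rw [← H.map_comp, c₁, ← H.map_comp, c₂, H.map_comp, H.map_comp]
    simp only [IsIso.inv_hom_id_assoc]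
    rw [← H.map_comp, ← H.map_comp, ← H.map_add, hB, H.map_id]

include iA₁ iA₂ pB₁ pB₂ in
lemma epi_map_of_decomp (hB : pB₁ ≫ iB₁ + pB₂ ≫ iB₂ = 𝟙 B)
    (c₁ : iA₁ ≫ φ = φ₁ ≫ iB₁) (c₂ : iA₂ ≫ φ = φ₂ ≫ iB₂)
    [Epi (H.map φ₁)] [Epi (H.map φ₂)] : Epi (H.map φ) := by
  refine ⟨fun {Z} g h hgh => ?_⟩
  have e1 : H.map iB₁ ≫ g = H.map iB₁ ≫ h := by
    rw [← cancel_epi (H.map φ₁), ← H.map_comp_assoc, ← H.map_comp_assoc, ← c₁, H.map_comp, Category.assoc,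
      Category.assoc, hgh]
  have e2 : H.map iB₂ ≫ g = H.map iB₂ ≫ h := by
    rw [← cancel_epi (H.map φ₂), ← H.map_comp_assoc, ← H.map_comp_assoc, ← c₂, H.map_comp, Category.assoc,
      Category.assoc, hgh]
  have hid : 𝟙 (H.obj B) = H.map pB₁ ≫ H.map iB₁ + H.map pB₂ ≫ H.map iB₂ := by
    rw [← H.map_comp, ← H.map_comp, ← H.map_add, hB, H.map_id]
  calc g = 𝟙 _ ≫ g := (Category.id_comp g).symm
    _ = 𝟙 _ ≫ h := by
      rw [hid, Preadditive.add_comp, Preadditive.add_comp, Category.assoc, Category.assoc, Category.assoc,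
        Category.assoc, e1, e2]
    _ = h := Category.id_comp h

end Decomp

open DerivedCategory in
/-- the "direct sum" of two morphisms `Q A₁ ⟶ B₁`, `Q A₂ ⟶ B₂`, where `B` is decomposed as `B₁ ⊕ B₂` -/
lemma isoAbove_sum (m : ℤ) {A₁ A₂ : CochainComplex Y.Modules ℤ} {B B₁ B₂ : DCoh.D Y}
    (iB₁ : B₁ ⟶ B) (iB₂ : B₂ ⟶ B) (pB₁ : B ⟶ B₁) (pB₂ : B ⟶ B₂)
    (h11 : iB₁ ≫ pB₁ = 𝟙 B₁) (h22 : iB₂ ≫ pB₂ = 𝟙 B₂) (h12 : iB₁ ≫ pB₂ = 0) (h21 : iB₂ ≫ pB₁ = 0)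
    (hB : pB₁ ≫ iB₁ + pB₂ ≫ iB₂ = 𝟙 B)
    (φ₁ : Q.obj A₁ ⟶ B₁) (φ₂ : Q.obj A₂ ⟶ B₂) (h₁ : IsoAbove m φ₁) (h₂ : IsoAbove m φ₂) :
    IsoAbove m (Q.map (biprod.fst : A₁ ⊞ A₂ ⟶ A₁) ≫ φ₁ ≫ iB₁ + Q.map (biprod.snd : A₁ ⊞ A₂ ⟶ A₂) ≫ φ₂ ≫ iB₂) := by
  set φ := Q.map (biprod.fst : A₁ ⊞ A₂ ⟶ A₁) ≫ φ₁ ≫ iB₁ + Q.map (biprod.snd : A₁ ⊞ A₂ ⟶ A₂) ≫ φ₂ ≫ iB₂ with hφ
  have hA : Q.map (biprod.fst : A₁ ⊞ A₂ ⟶ A₁) ≫ Q.map biprod.inl +
      Q.map (biprod.snd : A₁ ⊞ A₂ ⟶ A₂) ≫ Q.map biprod.inr = 𝟙 (Q.obj (A₁ ⊞ A₂)) := by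
    rw [← Functor.map_comp, ← Functor.map_comp, ← Functor.map_add, biprod.total, CategoryTheory.Functor.map_id]
  have c₁ : Q.map (biprod.inl : A₁ ⟶ A₁ ⊞ A₂) ≫ φ = φ₁ ≫ iB₁ := by
    rw [hφ, Preadditive.comp_add, ← Functor.map_comp_assoc, ← Functor.map_comp_assoc, biprod.inl_fst,
      biprod.inl_snd, CategoryTheory.Functor.map_id, Functor.map_zero, zero_comp, add_zero, Category.id_comp]
  have c₂ : Q.map (biprod.inr : A₂ ⟶ A₁ ⊞ A₂) ≫ φ = φ₂ ≫ iB₂ := by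
    rw [hφ, Preadditive.comp_add, ← Functor.map_comp_assoc, ← Functor.map_comp_assoc, biprod.inr_fst,
      biprod.inr_snd, CategoryTheory.Functor.map_id, Functor.map_zero, zero_comp, zero_add, Category.id_comp]
  have d₁ : φ ≫ pB₁ = Q.map (biprod.fst : A₁ ⊞ A₂ ⟶ A₁) ≫ φ₁ := by
    rw [hφ, Preadditive.add_comp]
    simp only [Category.assoc]
    rw [h11, h21, Category.comp_id, comp_zero, comp_zero, add_zero]
  have d₂ : φ ≫ pB₂ = Q.map (biprod.snd : A₁ ⊞ A₂ ⟶ A₂) ≫ φ₂ := by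
    rw [hφ, Preadditive.add_comp]
    simp only [Category.assoc]
    rw [h12, h22, Category.comp_id, comp_zero, comp_zero, zero_add]
  refine ⟨fun i hi => ?_, ?_⟩
  · haveI := h₁.1 i hi
    haveI := h₂.1 i hi
    exact isIso_map_of_decomp (homologyFunctor _ i) (Q.map biprod.inl) (Q.map biprod.inr) _ _ iB₁ iB₂ pB₁ pB₂
      φ φ₁ φ₂ hA hB c₁ c₂ d₁ d₂
  · haveI := h₁.2
    haveI := h₂.2
    exact epi_map_of_decomp (homologyFunctor _ m) (Q.map biprod.inl) (Q.map biprod.inr) iB₁ iB₂ pB₁ pB₂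
      φ φ₁ φ₂ hB c₁ c₂

lemma isStrictlyPerfect_biprod {P₁ P₂ : CochainComplex Y.Modules ℤ} (h₁ : DCoh.IsStrictlyPerfect P₁)
    (h₂ : DCoh.IsStrictlyPerfect P₂) : DCoh.IsStrictlyPerfect (P₁ ⊞ P₂) := by
  obtain ⟨⟨a₁, b₁, hab₁⟩, hf₁⟩ := h₁
  obtain ⟨⟨a₂, b₂, hab₂⟩, hf₂⟩ := h₂
  refine ⟨⟨min a₁ a₂, max b₁ b₂, fun i hi => ?_⟩, fun i => ?_⟩
  · refine IsZero.of_iso ?_ (HomologicalComplex.biprodXIso P₁ P₂ i)
    rw [IsZero.iff_id_eq_zero]
    apply biprod.hom_ext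
    · exact (hab₁ i (by omega)).eq_of_tgt _ _
    · exact (hab₂ i (by omega)).eq_of_tgt _ _
  · exact Groth.Agent.Lib.helper16.FLF.isFinLocFree_of_iso (HomologicalComplex.biprodXIso P₁ P₂ i).symm
      (Groth.Agent.Lib.helper16.FLF.isFinLocFree_biprod (hf₁ i) (hf₂ i))

open DerivedCategory in
/-- **Direct summands of perfect objects, local form**: if `B = K' ⊕ L'` is represented by a complex of flat modules
vanishing outside `[a,b]` and `K'`, `L'` have global `(a-1)`-pseudo-coherence data, then `K'` is perfect. -/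
theorem isPerfect_of_summand {K' L' B : DCoh.D Y} (i₁ : K' ⟶ B) (i₂ : L' ⟶ B) (p₁ : B ⟶ K') (p₂ : B ⟶ L')
    (h11 : i₁ ≫ p₁ = 𝟙 K') (h22 : i₂ ≫ p₂ = 𝟙 L') (h12 : i₁ ≫ p₂ = 0) (h21 : i₂ ≫ p₁ = 0)
    (hB : p₁ ≫ i₁ + p₂ ≫ i₂ = 𝟙 B)
    (P₀ : CochainComplex Y.Modules ℤ) (a b : ℤ) (hP₀ : DCoh.VanishesOutside P₀ a b)
    (hP₀f : ∀ i : ℤ, FlatMod.IsFlat (P₀.X i)) (e : B ≅ Q.obj P₀)
    (dK : PCData (a - 1) K') (dL : PCData (a - 1) L') : DCoh.IsPerfect K' := by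
  obtain ⟨PK, αK, hPK, hαK⟩ := dK
  obtain ⟨PL, αL, hPL, hαL⟩ := dL
  have hφ := isoAbove_sum (a - 1) i₁ i₂ p₁ p₂ h11 h22 h12 h21 hB αK αL hαK hαL
  have hflat : FlatMod.IsFlat ((PK ⊞ PL).opcycles a) :=
    isFlat_opcycles_of_isoAbove_D (isStrictlyPerfect_biprod hPK hPL) a b hP₀ hP₀f _ (hφ.comp_iso e.hom)
  have hflK : FlatMod.IsFlat (PK.opcycles a) :=
    isFlat_of_retract (HomologicalComplex.opcyclesMap (biprod.inl : PK ⟶ PK ⊞ PL) a)
      (HomologicalComplex.opcyclesMap (biprod.fst : PK ⊞ PL ⟶ PK) a)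
      (by rw [← HomologicalComplex.opcyclesMap_comp, biprod.inl_fst, HomologicalComplex.opcyclesMap_id]) hflat
  have hzK : ∀ i : ℤ, i < a → IsZero ((homologyFunctor _ i).obj K') := fun i hi =>
    isZero_homology_of_retract i₁ p₁ h11 i
      (IsZero.of_iso ((HomologicalComplex.ExactAt.of_isZero (hP₀ i (Or.inl hi))).isZero_homology.of_iso
        ((homologyFunctorFactors _ i).app P₀)) ((homologyFunctor _ i).mapIso e))
  obtain ⟨G₀, ⟨g₀⟩⟩ := exists_rep K'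
  have hG₀ : G₀.IsGE a := by
    rw [CochainComplex.isGE_iff]
    intro i hi
    rw [HomologicalComplex.exactAt_iff_isZero_homology]
    exact (hzK i hi).of_iso (((homologyFunctorFactors _ i).app G₀).symm ≪≫ (homologyFunctor _ i).mapIso g₀)
  haveI : QuasiIso (G₀.πTruncGE a) := (CochainComplex.quasiIso_πTruncGE_iff G₀ a).2 hG₀
  let eG : K' ≅ Q.obj (G₀.truncGE a) := g₀.symm ≪≫ asIso (Q.map (G₀.πTruncGE a))
  intro y
  obtain ⟨W, hyW, E, hE, ⟨iso⟩⟩ := exists_strictlyPerfect_local_of_isFlat_opcycles hPK a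
    (fun i hi => (G₀.truncGE a).isZero_of_isStrictlyGE a i hi) (αK ≫ eG.hom) (IsoAbove.comp_iso hαK eG.hom) hflK y
  exact isPerfect_at_of_restrictD_iso K' y W.ι (by simpa using hyW) E hE
    ⟨(DCoh.restrictD W.ι).mapIso eG ≪≫ resDQIso W.ι _ ≪≫ iso.symm⟩

end Groth.Agent.Lib.helper25.PerfectSummand
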