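import Mathlib
import Groth.Agent.Lib.Helper25.LiftOpenP
import Groth.Agent.Lib.Helper25.NiceInduction
import Groth.Agent.Lib.Helper25.TriRetract
import Groth.Agent.Lib.Helper25.DCohPC5
import Groth.Agent.S0924

/-!
# The thick triangulated class generated by the structure sheaf (helper25)

* `TG Y`: the smallest class of objects of `D(O_Y)` containing zero objects and `F[-a]` (`F` free of finite rank), closed
  under extensions (middle term of a distinguished triangle) and retracts.
* `TG.of_iso`, `TG.isPerfect`, `TG.shift`, `TG.obj₃`, `TG.obj₁`, `triClass_TG`, `TG.restrict`, `TG.biprod`, `tg_of_nice`.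
* `isPerfect_of_retract`, `isPerfect_single_of_isFinLocFree`.
-/

set_option autoImplicit false
universe u
open CategoryTheory CategoryTheory.Limits AlgebraicGeometry Opposite

attribute [local instance] HasDerivedCategory.standard

namespace Groth.Agent.Lib.Helper25.ThomasonTG

open Pretriangulated DerivedCategory TopologicalSpace Scheme.Modules
open Groth.Agent.Lib.Helper25.ApproxExtend Groth.Agent.Lib.helper25.DCohPerfect
  Groth.Agent.Lib.Helper25.LiftOpenP Groth.Agent.Lib.Helper25.TriRetract
  Groth.Agent.Lib.helper25.DCohRestrict Groth.Agent.Lib.Helper25.HomVanNice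

variable {Y : Scheme.{u}}

/-- a retract of a perfect object is perfect -/
theorem isPerfect_of_retract {P P' : DCoh.D Y} (i : P ⟶ P') (p : P' ⟶ P) (hip : i ≫ p = 𝟙 P)
    (hP' : DCoh.IsPerfect P') : DCoh.IsPerfect P := by
  obtain ⟨N, ⟨e⟩⟩ := exists_biprod_of_retract i p hip
  exact (Groth.Agent.S0924.result P N (isPerfect_of_iso e hP')).1

/-- a finite locally free module placed in one degree is perfect -/
theorem isPerfect_single_of_isFinLocFree (a : ℤ) {M : Y.Modules} (hM : FlatMod.IsFinLocFree M) :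
    DCoh.IsPerfect ((singleFunctor Y.Modules a).obj M) := by
  intro x
  let F₀ : CochainComplex Y.Modules ℤ :=
    (HomologicalComplex.single Y.Modules (ComplexShape.up ℤ) a).obj M
  have hF₀ : DCoh.IsStrictlyPerfect F₀ := by
    refine ⟨⟨a, a, fun i hi => ?_⟩, fun i => ?_⟩
    · exact HomologicalComplex.isZero_single_obj_X (ComplexShape.up ℤ) a _ i (by omega)
    · by_cases hi : i = a
      · subst hi
        exact Groth.Agent.Lib.helper16.FLF.isFinLocFree_of_iso
          (HomologicalComplex.singleObjXSelf (ComplexShape.up ℤ) i M).symm hM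
      · exact Groth.Agent.Lib.helper25.FLFKernel.isFinLocFree_of_isZero
          (HomologicalComplex.isZero_single_obj_X (ComplexShape.up ℤ) a _ i hi)
  exact isPerfect_at_of_openImmersion ((singleFunctor Y.Modules a).obj M) x (𝟙 Y) (by simp) F₀
    ⟨((singleFunctorIsoCompQ Y.Modules a).app _).symm⟩ _ (isStrictlyPerfect_res (𝟙 Y) hF₀)
    ⟨Iso.refl _⟩

variable (Y) in
/-- the thick triangulated class generated by the structure sheaf -/
inductive TG : DCoh.D Y → Prop
  | zero (P : DCoh.D Y) : IsZero P → TG P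
  | single (a : ℤ) (M : Y.Modules) (r : ℕ) : (M ≅ FlatMod.freeMod Y r) →
      TG ((singleFunctor Y.Modules a).obj M)
  | tri (T : Triangle (DCoh.D Y)) : T ∈ distTriang (DCoh.D Y) → TG T.obj₁ → TG T.obj₃ → TG T.obj₂
  | retract (P P' : DCoh.D Y) (i : P ⟶ P') (p : P' ⟶ P) : i ≫ p = 𝟙 P → TG P' → TG P

lemma TG.of_iso {P P' : DCoh.D Y} (e : P ≅ P') (h : TG Y P) : TG Y P' :=
  TG.retract P' P e.inv e.hom e.inv_hom_id h

theorem TG.isPerfect {P : DCoh.D Y} (h : TG Y P) : DCoh.IsPerfect P := by
  induction h with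
  | zero P hP => exact isPerfect_of_isZero hP
  | single a M r e =>
    exact isPerfect_single_of_isFinLocFree a
      (Groth.Agent.Lib.helper16.FLF.isFinLocFree_of_iso e.symm
        (Groth.Agent.Lib.helper16.FLF.isFinLocFree_freeMod Y r))
  | tri T hT _ _ h1 h3 => exact (isPerfect_two_out_of_three T hT).2.1 h1 h3
  | retract P P' i p hip _ h' => exact isPerfect_of_retract i p hip h'

theorem TG.shift {P : DCoh.D Y} (h : TG Y P) (n : ℤ) : TG Y (P⟦n⟧) := by
  induction h with
  | zero P hP => exact TG.zero _ (Functor.map_isZero _ hP)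
  | single a M r e =>
    exact TG.of_iso (((singleFunctors Y.Modules).shiftIso n (a - n) a (by omega)).app M).symm
      (TG.single (a - n) M r e)
  | tri T hT _ _ h1 h3 => exact TG.tri _ (Triangle.shift_distinguished T hT n) h1 h3
  | retract P P' i p hip _ h' =>
    exact TG.retract _ _ (i⟦n⟧') (p⟦n⟧')
      (by rw [← Functor.map_comp, hip, CategoryTheory.Functor.map_id]) h'

theorem TG.obj₃ (T : Triangle (DCoh.D Y)) (hT : T ∈ distTriang (DCoh.D Y)) (h1 : TG Y T.obj₁)
    (h2 : TG Y T.obj₂) : TG Y T.obj₃ :=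
  TG.tri T.rotate (rot_of_distTriang _ hT) h2 (h1.shift 1)

theorem TG.obj₁ (T : Triangle (DCoh.D Y)) (hT : T ∈ distTriang (DCoh.D Y)) (h2 : TG Y T.obj₂)
    (h3 : TG Y T.obj₃) : TG Y T.obj₁ :=
  TG.tri T.invRotate (inv_rot_of_distTriang _ hT) (h3.shift (-1)) h2

theorem triClass_TG : TriClass (TG Y) := ⟨TG.obj₃, TG.obj₁⟩

theorem TG.biprod {P P' : DCoh.D Y} (h : TG Y P) (h' : TG Y P') : TG Y (P ⊞ P') :=
  TG.tri _ (binaryBiproductTriangle_distinguished P P') h h'

theorem TG.restrict {Z : Scheme.{u}} (g : Z ⟶ Y) [IsOpenImmersion g] {P : DCoh.D Y} (h : TG Y P) :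
    TG Z ((DCoh.restrictD g).obj P) := by
  induction h with
  | zero P hP => exact TG.zero _ (Functor.map_isZero _ hP)
  | single a M r e =>
    obtain ⟨r', ⟨e'⟩⟩ := exists_iso_freeMod_res g ⟨r, ⟨e⟩⟩
    exact TG.of_iso (((restrictFunctor g).mapDerivedCategorySingleFunctor a).app M).symm
      (TG.single a _ r' e')
  | tri T hT _ _ h1 h3 => exact TG.tri _ ((DCoh.restrictD g).map_distinguished _ hT) h1 h3
  | retract P P' i p hip _ h' =>
    exact TG.retract _ _ ((DCoh.restrictD g).map i) ((DCoh.restrictD g).map p)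
      (by rw [← Functor.map_comp, hip, CategoryTheory.Functor.map_id]) h'

theorem tg_of_nice {P : DCoh.D Y} {c : ℤ} (h : Nice Y P c) : TG Y P :=
  Groth.Agent.Lib.Helper25.NiceInduction.of_nice (TG Y) (fun e h => h.of_iso e)
    (fun P hP => TG.zero P hP) (fun T hT h1 h3 => TG.tri T hT h1 h3)
    (fun a M r e => TG.single a M r e) h

end Groth.Agent.Lib.Helper25.ThomasonTG
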