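import Mathlib
import Groth.Agent.Lib.Helper25.ApproxAffine
import Groth.Agent.Lib.Helper25.ThomasonTG
import Groth.Agent.Lib.Helper23.HomNat

/-!
# Extending pseudo-coherent objects from a quasi-compact open of an affine scheme: the step (helper25)

* `Fr t P`: `P` perfect and in degrees `≤ t`; `fr_zero`, `fr_biprod`, `fr_Sp`, `exists_fr_list`.
* `exists_global_generators`: for `H` quasi-coherent on an affine `X` with `Γ(H, D(f))` finite over `Γ(X, D(f))`, finitely
  many global sections generate over `D(f)`.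
* `exists_fr_epi`: `C ∈ D_QCoh(X)`, `C|_U` `t`-pseudo-coherent with top degree `≤ t`: some `γ : P ⟶ C`, `P ∈ Fr t`, is onto on
  `Hᵗ` over `U`.
* `step`: the octahedron step improving `β : R ⟶ K` (iso above `m` on `U`) to `β' : R' ⟶ K` (iso above `m - 1` on `U`)
  with `f : R ⟶ R'` iso above `m` on `X`.
-/

set_option autoImplicit false
universe u
open CategoryTheory CategoryTheory.Limits AlgebraicGeometry Opposite

attribute [local instance] HasDerivedCategory.standard

namespace Groth.Agent.Lib.Helper25.ExtendPCStep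

open Pretriangulated DerivedCategory TopologicalSpace Scheme.Modules ZeroObject
open Groth.Agent.Lib.helper25.DCohPerfect Groth.Agent.Lib.Helper25.QCCEv
  Groth.Agent.Lib.helper25.IsoAbove Groth.Agent.Lib.Helper25.ApproxExtend

variable {X : Scheme.{u}}

/-- perfect, in degrees `≤ t` -/
def Fr (t : ℤ) (P : DCoh.D X) : Prop :=
  DCoh.IsPerfect P ∧ (TStructure.t : Triangulated.TStructure (DCoh.D X)).IsLE P t

lemma fr_zero (t : ℤ) {P : DCoh.D X} (hP : IsZero P) : Fr t P :=
  ⟨isPerfect_of_isZero hP, (TStructure.t : Triangulated.TStructure (DCoh.D X)).isLE_of_isZero hP t⟩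

lemma fr_biprod (t : ℤ) {P P' : DCoh.D X} (hP : Fr t P) (hP' : Fr t P') : Fr t (P ⊞ P') := by
  have hT := binaryBiproductTriangle_distinguished P P'
  exact ⟨(isPerfect_two_out_of_three _ hT).2.1 hP.1 hP'.1,
    (TStructure.t : Triangulated.TStructure (DCoh.D X)).isLE₂ _ hT t hP.2 hP'.2⟩

lemma fr_Sp (t : ℤ) : Fr t (Sp X t) := by
  refine ⟨Groth.Agent.Lib.Helper25.ThomasonTG.isPerfect_single_of_isFinLocFree t
    (Groth.Agent.Lib.helper16.FLF.isFinLocFree_structureModule X), ?_⟩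
  change (Sp X t).IsLE t
  infer_instance

/-- finitely many maps `O[-t] ⟶ E` jointly factor through an object of `Fr t` -/
lemma exists_fr_list (E : DCoh.D X) (t : ℤ) :
    ∀ L : List (Sp X t ⟶ E), ∃ (P : DCoh.D X) (α : P ⟶ E), Fr t P ∧
      ∀ σ ∈ L, ∃ τ : Sp X t ⟶ P, τ ≫ α = σ
  | [] => ⟨0, 0, fr_zero t (isZero_zero _), fun σ hσ => by simp at hσ⟩
  | σ :: L => by
    obtain ⟨P, α, hP, hα⟩ := exists_fr_list E t L
    refine ⟨P ⊞ Sp X t, biprod.desc α σ, fr_biprod t hP (fr_Sp t), fun σ' hσ' => ?_⟩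
    rcases List.mem_cons.1 hσ' with rfl | h'
    · exact ⟨biprod.inr, by rw [biprod.inr_desc]⟩
    · obtain ⟨τ', hτ'⟩ := hα σ' h'
      exact ⟨τ' ≫ biprod.inl, by rw [Category.assoc, biprod.inl_desc, hτ']⟩

open Groth.Agent.Lib.helper16.CohFinite in
/-- global sections generating the sections over a basic open -/
lemma exists_global_generators [IsAffine X] (H : X.Modules) [H.IsQuasicoherent] (f : Γ(X, ⊤))
    [Module.Finite Γ(X, X.basicOpen f) Γ(H, X.basicOpen f)] :
    ∃ (n : ℕ) (m : Fin n → Γ(H, ⊤)), Submodule.span Γ(X, X.basicOpen f)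
      (Set.range fun k => H.presheaf.map (homOfLE (X.basicOpen_le f)).op (m k)) = ⊤ := by
  letI := algOfLE (X := X) (X.basicOpen_le f)
  letI := modOfLE H (X.basicOpen_le f)
  haveI := isScalarTower_ofLE H (X.basicOpen_le f)
  haveI : IsLocalization.Away f Γ(X, X.basicOpen f) := (isAffineOpen_top X).isLocalization_basicOpen f
  haveI := isLocalizedModule_of_eq_basicOpen H (isAffineOpen_top X) f (X.basicOpen_le f) rfl
  obtain ⟨n, t, ht⟩ := Module.Finite.exists_fin (R := Γ(X, X.basicOpen f)) (M := Γ(H, X.basicOpen f))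
  choose ms hms using fun j => IsLocalizedModule.surj (Submonoid.powers f)
    (resLin H (X.basicOpen_le f)) (t j)
  refine ⟨n, fun j => (ms j).1, ?_⟩
  rw [eq_top_iff, ← ht, Submodule.span_le]
  rintro _ ⟨j, rfl⟩
  have hu : IsUnit (algebraMap Γ(X, ⊤) Γ(X, X.basicOpen f) ((ms j).2 : Γ(X, ⊤))) :=
    IsLocalization.map_units Γ(X, X.basicOpen f) (ms j).2
  obtain ⟨v, hv⟩ := hu
  have h2 : t j = (↑v⁻¹ : Γ(X, X.basicOpen f)) • resLin H (X.basicOpen_le f) (ms j).1 := by
    rw [← hms j, Submonoid.smul_def, ← algebraMap_smul Γ(X, X.basicOpen f) ((ms j).2 : Γ(X, ⊤)) (t j),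
      ← hv, smul_smul, Units.inv_mul, one_smul]
  rw [SetLike.mem_coe, h2]
  exact Submodule.smul_mem _ _ (Submodule.subset_span ⟨j, rfl⟩)

/-- **generators step**: `X` affine, `U` quasi-compact open, `C ∈ D_QCoh(X)` with `C|_U` `t`-pseudo-coherent and
`Hⁱ(C|_U) = 0` for `i > t`.  Then there is `γ : P ⟶ C`, `P` perfect in degrees `≤ t`, such that `Hᵗ(γ|_U)` is an
epimorphism. -/
theorem exists_fr_epi [IsAffine X] (U : X.Opens) (hU : IsCompact (U : Set X)) (C : DCoh.D X)
    (hC : DCoh.IsQCohD C) (t : ℤ)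
    (hpc : DCoh.IsPseudoCoherentD t ((DCoh.restrictD U.ι).obj C))
    (htop : ∀ i : ℤ, t < i → IsZero (DCoh.HD ((DCoh.restrictD U.ι).obj C) i)) :
    ∃ (P : DCoh.D X) (γ : P ⟶ C), Fr t P ∧
      Epi ((homologyFunctor _ t).map ((DCoh.restrictD U.ι).map γ)) := by
  classical
  haveI hq : (DCoh.HD C t).IsQuasicoherent := hC t
  obtain ⟨S, hS, hUS⟩ := isCompact_and_isOpen_iff_finite_and_eq_biUnion_basicOpen.1 ⟨hU, U.isOpen⟩
  have hle : ∀ f ∈ S, X.basicOpen f ≤ U := by
    intro f hf x hx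
    show x ∈ (U : Set X)
    rw [hUS]
    exact Set.mem_biUnion hf hx
  have hcov : ∀ x ∈ U, ∃ f ∈ S, x ∈ X.basicOpen f := by
    intro x hx
    have hx' : x ∈ (U : Set X) := hx
    rw [hUS] at hx'
    obtain ⟨f, hf, hxf⟩ := Set.mem_iUnion₂.1 hx'
    exact ⟨f, hf, hxf⟩
  -- finiteness over the basic opens
  have hfin : ∀ f ∈ S, Module.Finite Γ(X, X.basicOpen f) Γ(DCoh.HD C t, X.basicOpen f) := by
    intro f hf
    let W' : (U : Scheme.{u}).Opens := U.ι ⁻¹ᵁ X.basicOpen f
    have hW' : IsAffineOpen W' :=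
      ((isAffineOpen_top X).basicOpen f).preimage_of_isOpenImmersion U.ι
        (by rw [Scheme.Opens.opensRange_ι]; exact hle f hf)
    have him : U.ι ''ᵁ W' = X.basicOpen f := by
      rw [Scheme.Hom.image_preimage_eq_opensRange_inf, Scheme.Opens.opensRange_ι]
      exact inf_eq_right.mpr (hle f hf)
    haveI h1 : Module.Finite Γ((U : Scheme.{u}), W') Γ(DCoh.HD ((DCoh.restrictD U.ι).obj C) t, W') :=
      Groth.Agent.Lib.Helper25.ApproxFG.finite_sections_HD _
        (Groth.Agent.Lib.Helper25.RGZ4.isQCohD_restrictD U.ι C hC) t t le_rfl hpc htop hW'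
    obtain ⟨eH⟩ := Groth.Agent.Lib.Helper25.DerBC.nonempty_homology_mapDerivedCategory_iso
        (restrictFunctor U.ι) C t
    haveI h2 : Module.Finite Γ((U : Scheme.{u}), W') Γ((restrictFunctor U.ι).obj (DCoh.HD C t), W') :=
      Groth.Agent.Lib.Helper25.ApproxFG.finite_of_iso eH W'
    have h3 := Groth.Agent.Lib.Helper25.ApproxFG.finite_restrict (DCoh.HD C t) U W'
    rw [him] at h3
    exact h3
  -- generators
  have hgen : ∀ f : S, ∃ (n : ℕ) (m : Fin n → Γ(DCoh.HD C t, ⊤)),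
      Submodule.span Γ(X, X.basicOpen f.1) (Set.range fun k =>
        (DCoh.HD C t).presheaf.map (homOfLE (X.basicOpen_le f.1)).op (m k)) = ⊤ := by
    intro f
    haveI := hfin f.1 f.2
    exact exists_global_generators (DCoh.HD C t) f.1
  choose n m hm using hgen
  have hsurj := (bijective_ev t C hC).2
  choose σ hσ using fun (p : Σ f : S, Fin (n f)) => hsurj (m p.1 p.2)
  haveI : Fintype S := hS.fintype
  let L : List (Sp X t ⟶ C) := (Finset.univ : Finset (Σ f : S, Fin (n f))).toList.map σ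
  obtain ⟨P, γ, hP, hγ⟩ := exists_fr_list C t L
  refine ⟨P, γ, hP, ?_⟩
  let u := (homologyFunctor X.Modules t).map γ
  -- surjectivity over the basic opens
  have hsurjf : ∀ f : S, Function.Surjective (u.app (X.basicOpen f.1)).hom := by
    intro f
    have hr : LinearMap.range (Groth.Agent.Lib.Helper25.ApproxFG.appLin u (X.basicOpen f.1)) = ⊤ := by
      rw [eq_top_iff, ← hm f, Submodule.span_le]
      rintro _ ⟨k, rfl⟩
      obtain ⟨τ, hτ⟩ := hγ (σ ⟨f, k⟩) (List.mem_map.2 ⟨⟨f, k⟩, Finset.mem_toList.2 (Finset.mem_univ _), rfl⟩)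
      refine ⟨(DCoh.HD P t).presheaf.map (homOfLE (X.basicOpen_le f.1)).op (ev t τ), ?_⟩
      have h1 := Groth.Agent.Lib.helper16.QCohEpi.app_map u (X.basicOpen_le f.1) (ev t τ)
      refine h1.trans ?_
      congr 1
      rw [← hσ ⟨f, k⟩, ← hτ, ev_comp]
      rfl
    intro y
    obtain ⟨x, hx⟩ := LinearMap.range_eq_top.1 hr y
    exact ⟨x, hx⟩
  -- epimorphism on `U`
  have hepi : Epi ((restrictFunctor U.ι).map u) := by
    haveI : ((restrictFunctor U.ι).obj (DCoh.HD C t)).IsQuasicoherent := inferInstance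
    refine Groth.Agent.Lib.helper16.QCohEpi.epi_of_surjective_on_affine_cover _
      (fun f : S => U.ι ⁻¹ᵁ X.basicOpen f.1) (fun f => ?_) (fun x => ?_) (fun f => ?_)
    · exact ((isAffineOpen_top X).basicOpen f.1).preimage_of_isOpenImmersion U.ι
        (by rw [Scheme.Opens.opensRange_ι]; exact hle f.1 f.2)
    · obtain ⟨f, hf, hxf⟩ := hcov x.1 x.2
      exact ⟨⟨f, hf⟩, hxf⟩
    · have him : U.ι ''ᵁ (U.ι ⁻¹ᵁ X.basicOpen f.1) = X.basicOpen f.1 := by
        rw [Scheme.Hom.image_preimage_eq_opensRange_inf, Scheme.Opens.opensRange_ι]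
        exact inf_eq_right.mpr (hle f.1 f.2)
      show Function.Surjective (u.app (U.ι ''ᵁ (U.ι ⁻¹ᵁ X.basicOpen f.1))).hom
      rw [him]
      exact hsurjf f
  have e := Groth.Agent.Lib.helper23.HomNat.homologyNatIso (restrictFunctor U.ι) t
  exact (Groth.Agent.Lib.helper25.IsoAbove.epi_map_iff_of_natIso e γ).2 hepi

/-- vanishing of the cohomology of the restriction of an object in degrees `≤ t` -/
lemma isZero_homology_restrictD_of_isLE (U : X.Opens) {P : DCoh.D X} {t : ℤ}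
    (hP : (TStructure.t : Triangulated.TStructure (DCoh.D X)).IsLE P t) (i : ℤ) (hi : t < i) :
    IsZero ((homologyFunctor _ i).obj ((DCoh.restrictD U.ι).obj P)) := by
  have hP' : P.IsLE t := hP
  rw [DerivedCategory.isLE_iff] at hP'
  obtain ⟨e⟩ := Groth.Agent.Lib.Helper25.DerBC.nonempty_homology_mapDerivedCategory_iso
    (restrictFunctor U.ι) P i
  exact IsZero.of_iso (Functor.map_isZero _ (hP' i hi)) e

/-- **the step**: improving an approximation on `U` by one degree, with a transition map which is an isomorphism in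
high degrees on all of `X` -/
theorem step [IsAffine X] (U : X.Opens) (hU : IsCompact (U : Set X)) {K : DCoh.D X}
    (hK : DCoh.IsQCohD K) (hKU : ∀ m : ℤ, DCoh.IsPseudoCoherentD m ((DCoh.restrictD U.ι).obj K))
    {R : DCoh.D X} (β : R ⟶ K) (hR : DCoh.IsPerfect R) (m : ℤ)
    (hβ : IsoAbove m ((DCoh.restrictD U.ι).map β)) :
    ∃ (R' : DCoh.D X) (β' : R' ⟶ K) (f : R ⟶ R'), DCoh.IsPerfect R' ∧ f ≫ β' = β ∧
      IsoAbove (m - 1) ((DCoh.restrictD U.ι).map β') ∧ IsoAbove m f := by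
  let J := DCoh.restrictD U.ι
  obtain ⟨C, q, δ, hT⟩ := distinguished_cocone_triangle β
  have hTJ := J.map_distinguished _ hT
  have hCtop : ∀ i : ℤ, m ≤ i → IsZero ((homologyFunctor _ i).obj (J.obj C)) :=
    (isoAbove_iff_cone _ hTJ m).1 hβ
  have hCq : DCoh.IsQCohD C :=
    Groth.Agent.H1.WSerreTri.cohIn_obj₂ (P := Groth.Agent.S1007.QC X) _ (rot_of_distTriang _ hT) hK
      (Groth.Agent.Lib.Helper25.HomVanMV.isQCohD_shift R
        (Groth.Agent.Lib.Helper25.ApproxAffine.isQCohD_of_isPerfect hR) 1)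
  have hCpc : DCoh.IsPseudoCoherentD (m - 1) (J.obj C) :=
    Groth.Agent.Lib.helper25.DCohPC3.isPseudoCoherentD_obj₃ _ hTJ (m - 1)
      (Groth.Agent.Lib.helper25.PerfectTor.isPseudoCoherentD_of_isPerfect
        (Groth.Agent.Lib.Helper25.HomVanQcqs.isPerfect_restrictD U.ι hR) (m - 1 + 1)) (hKU (m - 1))
  obtain ⟨P, γ, hP, hepi⟩ := exists_fr_epi U hU C hCq (m - 1) hCpc
    (fun i hi => hCtop i (by omega))
  have hγU : IsoAbove (m - 1) (J.map γ) := by
    refine ⟨fun i hi => ?_, hepi⟩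
    exact isIso_of_isZero _ (isZero_homology_restrictD_of_isLE U hP.2 i hi) (hCtop i (by omega))
  obtain ⟨C', γ', δ', hT'⟩ := distinguished_cocone_triangle γ
  obtain ⟨R', β', h'', hT''⟩ := distinguished_cocone_triangle₁ (q ≫ γ')
  have oct := Triangulated.someOctahedron' (u₁₂ := q) (u₂₃ := γ') (u₁₃ := q ≫ γ') rfl hT hT' hT''
  refine ⟨R', β', oct.m₁, ?_, oct.comm₁, ?_, ?_⟩
  · exact (isPerfect_two_out_of_three _ oct.mem).2.1 hR hP.1
  · have hC' : ∀ i : ℤ, m - 1 ≤ i → IsZero ((homologyFunctor _ i).obj (J.obj C')) :=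
      (isoAbove_iff_cone _ (J.map_distinguished _ hT') (m - 1)).1 hγU
    exact (isoAbove_iff_cone _ (J.map_distinguished _ hT'') (m - 1)).2 hC'
  · refine (isoAbove_iff_cone _ oct.mem m).2 (fun i hi => ?_)
    have hP' : P.IsLE (m - 1) := hP.2
    rw [DerivedCategory.isLE_iff] at hP'
    exact hP' i (by omega)

end Groth.Agent.Lib.Helper25.ExtendPCStep
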