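import Mathlib
import Groth.Prelude.Def_CxOX
import Groth.Agent.Lib.Helper25.RGZ1
import Groth.Agent.Lib.Helper25.SchKInj2
import Groth.Agent.Lib.Helper25.DCohPerfect
import Groth.Agent.S6508
import Groth.Agent.S0922

/-!
# Gluing objects of `D(O_X)` on two opens (helper25)

* `isIso_restrictD_of_le`: a morphism of `D(O_Y)` invertible after restriction along an open immersion `j` is
  invertible after restriction to every open contained in the image of `j`.
* `isIso_restrictD_unit`: the unit `A ⟶ Rj_* j^* A` is invertible after restriction along `j`.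
* `isIso_restrictD_Rpush_map`: `(R(T.ι)_* μ)|_V` is invertible as soon as `μ|_{T ∩ V}` is (base change S6508).
* `exists_glue`: for `A ∈ D(O_U)`, `B ∈ D(O_V)` with `A|_{U ∩ V} ≅ B|_{U ∩ V}` there is `F ∈ D(O_X)` with
  `F|_U ≅ A`, `F|_V ≅ B` (S0945).  `F` is the cocone of `Rj_{V*}B ⟶ cone(Rj_{U*}A ⟶ Rj_{(U∩V)*}(B|_{U∩V}))`.
-/

set_option autoImplicit false
universe u
open CategoryTheory CategoryTheory.Limits AlgebraicGeometry Pretriangulated
attribute [local instance] HasDerivedCategory.standard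

namespace Groth.Agent.Lib.Helper25.GlueOpens

open AlgebraicGeometry.Scheme.Modules Groth.Agent.Lib.Helper25.SchKInj
  Groth.Agent.Lib.helper25.DCohPerfect

/-- a morphism of `D(O_Y)` which becomes invertible on an open subscheme `j : U' ⟶ Y` is invertible on
every open contained in the image of `j` -/
lemma isIso_restrictD_of_le {Y U' : Scheme.{u}} (j : U' ⟶ Y) [IsOpenImmersion j] (O : Y.Opens)
    (hO : O ≤ j.opensRange) {A A'' : DCoh.D Y} (φ : A ⟶ A'')
    (hφ : IsIso ((DCoh.restrictD j).map φ)) :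
    IsIso ((DCoh.restrictD O.ι).map φ) := by
  obtain ⟨C, g, h, hT⟩ := distinguished_cocone_triangle φ
  have hz : IsZero ((DCoh.restrictD j).obj C) := by
    have hT' := (DCoh.restrictD j).map_distinguished _ hT
    exact (Triangle.isZero₃_iff_isIso₁ _ hT').2 hφ
  have hr : Set.range O.ι.base ⊆ Set.range j.base := by
    rw [Scheme.Opens.range_ι]
    exact hO
  let l : (O : Scheme.{u}) ⟶ U' := IsOpenImmersion.lift j O.ι hr
  have hl : l ≫ j = O.ι := IsOpenImmersion.lift_fac _ _ _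
  haveI : IsOpenImmersion (l ≫ j) := by rw [hl]; infer_instance
  haveI : IsOpenImmersion l := IsOpenImmersion.of_comp l j
  obtain ⟨c⟩ := nonempty_restrictD_comp_iso l j C
  obtain ⟨d⟩ := nonempty_restrictD_congr_iso hl.symm C
  have hz' : IsZero ((DCoh.restrictD O.ι).obj C) :=
    IsZero.of_iso ((DCoh.restrictD l).map_isZero hz) (d ≪≫ c)
  have hT'' := (DCoh.restrictD O.ι).map_distinguished _ hT
  exact (Triangle.isZero₃_iff_isIso₁ _ hT'').1 hz'

/-- the unit of `j^* ⊣ Rj_*` becomes invertible after restriction along `j` -/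
lemma isIso_restrictD_unit {Y U' : Scheme.{u}} (j : U' ⟶ Y) [IsOpenImmersion j] [DCoh.HasRpush j]
    (adj : DCoh.restrictD j ⊣ DCoh.Rpush j) (A : DCoh.D Y) :
    IsIso ((DCoh.restrictD j).map (adj.unit.app A)) := by
  have h := adj.left_triangle_components A
  haveI := Groth.Agent.Lib.Helper25.RGZ1.isIso_counit j adj ((DCoh.restrictD j).obj A)
  have h2 : IsIso ((DCoh.restrictD j).map (adj.unit.app A) ≫
      adj.counit.app ((DCoh.restrictD j).obj A)) := by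
    rw [h]
    exact IsIso.id _
  exact IsIso.of_isIso_comp_right _ (adj.counit.app ((DCoh.restrictD j).obj A))

/-- base change: `(R(T.ι)_* μ)|_V` is invertible as soon as `μ|_{T ∩ V}` is -/
lemma isIso_restrictD_Rpush_map {Y : Scheme.{u}} (T V : Y.Opens) [DCoh.HasRpush T.ι]
    {A A' : DCoh.D (T : Scheme.{u})} (μ : A ⟶ A')
    (hμ : IsIso ((DCoh.restrictD (T.ι ⁻¹ᵁ V).ι).map μ)) :
    IsIso ((DCoh.restrictD V.ι).map ((DCoh.Rpush T.ι).map μ)) := by
  haveI : DCoh.HasRpush (T.ι ∣_ V) := hasRpush _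
  obtain ⟨e⟩ := Groth.Agent.S6508.result T.ι V
  have h1 : IsIso ((DCoh.restrictD (T.ι ⁻¹ᵁ V).ι ⋙ DCoh.Rpush (T.ι ∣_ V)).map μ) := by
    rw [Functor.comp_map]
    infer_instance
  exact (NatIso.isIso_map_iff e μ).2 h1

lemma nonempty_Rpush_congr {Y Z : Scheme.{u}} {f g : Y ⟶ Z} (h : f = g) [DCoh.HasRpush f]
    [DCoh.HasRpush g] : Nonempty (DCoh.Rpush f ≅ DCoh.Rpush g) := by
  subst h
  exact ⟨Iso.refl _⟩

lemma preimage_le_opensRange_homOfLE {X : Scheme.{u}} (U V : X.Opens) :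
    U.ι ⁻¹ᵁ V ≤ (X.homOfLE (inf_le_left : U ⊓ V ≤ U)).opensRange := by
  intro x hx
  have hxV : U.ι.base x ∈ V := hx
  have hxU : U.ι.base x ∈ U := by
    have h : U.ι.base x ∈ U.ι.opensRange := ⟨x, rfl⟩
    rwa [Scheme.Opens.opensRange_ι] at h
  have hxW : U.ι.base x ∈ U ⊓ V := ⟨hxU, hxV⟩
  refine ⟨⟨U.ι.base x, hxW⟩, ?_⟩
  rw [Scheme.homOfLE_apply']
  rfl

lemma preimage_le_opensRange_homOfLE' {X : Scheme.{u}} (U V : X.Opens) :
    V.ι ⁻¹ᵁ U ≤ (X.homOfLE (inf_le_right : U ⊓ V ≤ V)).opensRange := by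
  intro x hx
  have hxU : V.ι.base x ∈ U := hx
  have hxV : V.ι.base x ∈ V := by
    have h : V.ι.base x ∈ V.ι.opensRange := ⟨x, rfl⟩
    rwa [Scheme.Opens.opensRange_ι] at h
  have hxW : V.ι.base x ∈ U ⊓ V := ⟨hxU, hxV⟩
  refine ⟨⟨V.ι.base x, hxW⟩, ?_⟩
  rw [Scheme.homOfLE_apply']
  rfl

/-- **gluing objects of the derived category on two opens** (existence part) -/
theorem exists_glue {X : Scheme.{u}} (U V : X.Opens)
    (A : DCoh.D (U : Scheme.{u})) (B : DCoh.D (V : Scheme.{u}))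
    (c : (DCoh.restrictD (X.homOfLE (inf_le_left : U ⊓ V ≤ U))).obj A ≅
      (DCoh.restrictD (X.homOfLE (inf_le_right : U ⊓ V ≤ V))).obj B) :
    ∃ F : DCoh.D X, Nonempty ((DCoh.restrictD U.ι).obj F ≅ A) ∧
      Nonempty ((DCoh.restrictD V.ι).obj F ≅ B) := by
  let j' : ((U ⊓ V : X.Opens) : Scheme.{u}) ⟶ U := X.homOfLE (inf_le_left : U ⊓ V ≤ U)
  let j'' : ((U ⊓ V : X.Opens) : Scheme.{u}) ⟶ V := X.homOfLE (inf_le_right : U ⊓ V ≤ V)
  haveI : DCoh.HasRpush U.ι := hasRpush _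
  haveI : DCoh.HasRpush V.ι := hasRpush _
  haveI : DCoh.HasRpush j' := hasRpush _
  haveI : DCoh.HasRpush j'' := hasRpush _
  haveI : DCoh.HasRpush (j' ≫ U.ι) := hasRpush _
  haveI : DCoh.HasRpush (j'' ≫ V.ι) := hasRpush _
  obtain ⟨adj'⟩ := Groth.Agent.Lib.Helper25.RGZ1.nonempty_adj j'
  obtain ⟨adj''⟩ := Groth.Agent.Lib.Helper25.RGZ1.nonempty_adj j''
  obtain ⟨adjU⟩ := Groth.Agent.Lib.Helper25.RGZ1.nonempty_adj U.ι
  obtain ⟨adjV⟩ := Groth.Agent.Lib.Helper25.RGZ1.nonempty_adj V.ι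
  let BW := (DCoh.restrictD j'').obj B
  let A' : DCoh.D (U : Scheme.{u}) := (DCoh.Rpush j').obj BW
  let μ : A ⟶ A' := adj'.unit.app A ≫ (DCoh.Rpush j').map c.hom
  let ν : B ⟶ (DCoh.Rpush j'').obj BW := adj''.unit.app B
  obtain ⟨κ1⟩ := Groth.Agent.S0922.result j'' V.ι
  obtain ⟨κ2⟩ := Groth.Agent.S0922.result j' U.ι
  have hcomp : j'' ≫ V.ι = j' ≫ U.ι := by
    rw [X.homOfLE_ι, X.homOfLE_ι]
  obtain ⟨κ3⟩ := nonempty_Rpush_congr hcomp
  let κ : DCoh.Rpush j'' ⋙ DCoh.Rpush V.ι ≅ DCoh.Rpush j' ⋙ DCoh.Rpush U.ι := κ1 ≪≫ κ3 ≪≫ κ2.symm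
  let P := (DCoh.Rpush U.ι).obj A
  let Q := (DCoh.Rpush V.ι).obj B
  let R := (DCoh.Rpush U.ι).obj A'
  let φP : P ⟶ R := (DCoh.Rpush U.ι).map μ
  let φQ : Q ⟶ R := (DCoh.Rpush V.ι).map ν ≫ κ.hom.app BW
  obtain ⟨Ca, p, h₃, hT1⟩ := distinguished_cocone_triangle φP
  obtain ⟨F, u, w, hT2⟩ := distinguished_cocone_triangle₁ (φQ ≫ p)
  refine ⟨F, ?_, ?_⟩
  · -- the `U`-side
    have h4 : IsIso ((DCoh.restrictD (V.ι ⁻¹ᵁ U).ι).map ν) :=
      isIso_restrictD_of_le j'' _ (preimage_le_opensRange_homOfLE' U V) ν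
        (isIso_restrictD_unit j'' adj'' B)
    have h5 : IsIso ((DCoh.restrictD U.ι).map φQ) := by
      haveI := isIso_restrictD_Rpush_map V U ν h4
      dsimp only [φQ]
      rw [Functor.map_comp]
      infer_instance
    have hT1' := (DCoh.restrictD U.ι).map_distinguished _ hT1
    have hT2' := (DCoh.restrictD U.ι).map_distinguished _ hT2
    have hcomm : (DCoh.restrictD U.ι).map (φQ ≫ p) ≫ 𝟙 ((DCoh.restrictD U.ι).obj Ca) =
        (DCoh.restrictD U.ι).map φQ ≫ (DCoh.restrictD U.ι).map p := by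
      rw [Category.comp_id, Functor.map_comp]
    obtain ⟨a, ha1, ha2⟩ := complete_distinguished_triangle_morphism₁ _ _ hT2' hT1'
      ((DCoh.restrictD U.ι).map φQ) (𝟙 ((DCoh.restrictD U.ι).obj Ca)) hcomm
    let Φ : (DCoh.restrictD U.ι).mapTriangle.obj (Triangle.mk u (φQ ≫ p) w) ⟶
        (DCoh.restrictD U.ι).mapTriangle.obj (Triangle.mk φP p h₃) :=
      { hom₁ := a
        hom₂ := (DCoh.restrictD U.ι).map φQ
        hom₃ := 𝟙 ((DCoh.restrictD U.ι).obj Ca)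
        comm₁ := ha1
        comm₂ := hcomm
        comm₃ := ha2 }
    have hIa : IsIso a := isIso₁_of_isIso₂₃ Φ hT2' hT1' h5
      (inferInstanceAs (IsIso (𝟙 ((DCoh.restrictD U.ι).obj Ca))))
    have hIc := Groth.Agent.Lib.Helper25.RGZ1.isIso_counit U.ι adjU A
    let e1 : (DCoh.restrictD U.ι).obj F ≅ (DCoh.restrictD U.ι).obj P := @asIso _ _ _ _ a hIa
    let e2 : (DCoh.restrictD U.ι).obj P ≅ A := @asIso _ _ _ _ (adjU.counit.app A) hIc
    exact ⟨e1 ≪≫ e2⟩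
  · -- the `V`-side
    have h1 : IsIso ((DCoh.restrictD (U.ι ⁻¹ᵁ V).ι).map μ) := by
      haveI := isIso_restrictD_of_le j' _ (preimage_le_opensRange_homOfLE U V) (adj'.unit.app A)
        (isIso_restrictD_unit j' adj' A)
      dsimp only [μ]
      rw [Functor.map_comp]
      infer_instance
    have h2 : IsIso ((DCoh.restrictD V.ι).map φP) := isIso_restrictD_Rpush_map U V μ h1
    have hT1' := (DCoh.restrictD V.ι).map_distinguished _ hT1
    have hT2' := (DCoh.restrictD V.ι).map_distinguished _ hT2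
    have hz : IsZero ((DCoh.restrictD V.ι).obj Ca) := (Triangle.isZero₃_iff_isIso₁ _ hT1').2 h2
    have h3 : IsIso ((DCoh.restrictD V.ι).map u) := (Triangle.isZero₃_iff_isIso₁ _ hT2').1 hz
    have hIc := Groth.Agent.Lib.Helper25.RGZ1.isIso_counit V.ι adjV B
    let e1 : (DCoh.restrictD V.ι).obj F ≅ (DCoh.restrictD V.ι).obj Q :=
      @asIso _ _ _ _ ((DCoh.restrictD V.ι).map u) h3
    let e2 : (DCoh.restrictD V.ι).obj Q ≅ B := @asIso _ _ _ _ (adjV.counit.app B) hIc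
    exact ⟨e1 ≪≫ e2⟩

end Groth.Agent.Lib.Helper25.GlueOpens
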