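import Mathlib
import Groth.Agent.Lib.Helper25.GlueOpens

/-!
# Gluing objects of `D(O_X)` on two opens, general presentation of the overlap (helper25)

`exists_glue'`: as `GlueOpens.exists_glue`, but the overlap `U ∩ V` is presented by an arbitrary scheme `Z` with open
immersions `j' : Z ⟶ U`, `j'' : Z ⟶ V` (`j'' ≫ V.ι = j' ≫ U.ι`, images `U ∩ V`); same proof.
-/

set_option autoImplicit false
universe u
open CategoryTheory CategoryTheory.Limits AlgebraicGeometry Pretriangulated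
attribute [local instance] HasDerivedCategory.standard

namespace Groth.Agent.Lib.Helper25.GlueOpens2

open AlgebraicGeometry.Scheme.Modules Groth.Agent.Lib.Helper25.SchKInj
  Groth.Agent.Lib.helper25.DCohPerfect Groth.Agent.Lib.Helper25.GlueOpens

/-- **gluing objects of the derived category on two opens**, the overlap being presented by any scheme `Z` with
open immersions `j' : Z ⟶ U`, `j'' : Z ⟶ V` over `X` whose images are the traces of `V`, `U` -/
theorem exists_glue' {X : Scheme.{u}} (U V : X.Opens) {Z : Scheme.{u}}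
    (j' : Z ⟶ (U : Scheme.{u})) (j'' : Z ⟶ (V : Scheme.{u})) [IsOpenImmersion j'] [IsOpenImmersion j'']
    (hcomp : j'' ≫ V.ι = j' ≫ U.ι)
    (hr' : U.ι ⁻¹ᵁ V ≤ j'.opensRange) (hr'' : V.ι ⁻¹ᵁ U ≤ j''.opensRange)
    (A : DCoh.D (U : Scheme.{u})) (B : DCoh.D (V : Scheme.{u}))
    (c : (DCoh.restrictD j').obj A ≅ (DCoh.restrictD j'').obj B) :
    ∃ F : DCoh.D X, Nonempty ((DCoh.restrictD U.ι).obj F ≅ A) ∧
      Nonempty ((DCoh.restrictD V.ι).obj F ≅ B) := by
  haveI : DCoh.HasRpush U.ι := hasRpush _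
  haveI : DCoh.HasRpush V.ι := hasRpush _
  haveI : DCoh.HasRpush j' := hasRpush _
  haveI : DCoh.HasRpush j'' := hasRpush _
  haveI : DCoh.HasRpush (j' ≫ U.ι) := hasRpush _
  haveI : DCoh.HasRpush (j'' ≫ V.ι) := hasRpush _
  obtain ⟨adj'⟩ := Groth.Agent.Lib.Helper25.RGZ1.nonempty_adj j'
  obtain ⟨adj''⟩ := Groth.Agent.Lib.Helper25.RGZ1.nonempty_adj j''
  obtain ⟨adjU⟩ := Groth.Agent.Lib.Helper25.RGZ1.nonempty_adj U.ι
  obtain ⟨adjV⟩ := Groth.Agent.Lib.Helper25.RGZ1.nonempty_adj V.ι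
  let BW := (DCoh.restrictD j'').obj B
  let A' : DCoh.D (U : Scheme.{u}) := (DCoh.Rpush j').obj BW
  let μ : A ⟶ A' := adj'.unit.app A ≫ (DCoh.Rpush j').map c.hom
  let ν : B ⟶ (DCoh.Rpush j'').obj BW := adj''.unit.app B
  obtain ⟨κ1⟩ := Groth.Agent.S0922.result j'' V.ι
  obtain ⟨κ2⟩ := Groth.Agent.S0922.result j' U.ι
  obtain ⟨κ3⟩ := nonempty_Rpush_congr hcomp
  let κ : DCoh.Rpush j'' ⋙ DCoh.Rpush V.ι ≅ DCoh.Rpush j' ⋙ DCoh.Rpush U.ι := κ1 ≪≫ κ3 ≪≫ κ2.symm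
  let P := (DCoh.Rpush U.ι).obj A
  let Q := (DCoh.Rpush V.ι).obj B
  let R := (DCoh.Rpush U.ι).obj A'
  let φP : P ⟶ R := (DCoh.Rpush U.ι).map μ
  let φQ : Q ⟶ R := (DCoh.Rpush V.ι).map ν ≫ κ.hom.app BW
  obtain ⟨Ca, p, h₃, hT1⟩ := distinguished_cocone_triangle φP
  obtain ⟨F, u, w, hT2⟩ := distinguished_cocone_triangle₁ (φQ ≫ p)
  refine ⟨F, ?_, ?_⟩
  · -- the `U`-side
    have h4 : IsIso ((DCoh.restrictD (V.ι ⁻¹ᵁ U).ι).map ν) :=
      isIso_restrictD_of_le j'' _ hr'' ν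
        (isIso_restrictD_unit j'' adj'' B)
    have h5 : IsIso ((DCoh.restrictD U.ι).map φQ) := by
      haveI := isIso_restrictD_Rpush_map V U ν h4
      dsimp only [φQ]
      rw [Functor.map_comp]
      infer_instance
    have hT1' := (DCoh.restrictD U.ι).map_distinguished _ hT1
    have hT2' := (DCoh.restrictD U.ι).map_distinguished _ hT2
    have hcomm : (DCoh.restrictD U.ι).map (φQ ≫ p) ≫ 𝟙 ((DCoh.restrictD U.ι).obj Ca) =
        (DCoh.restrictD U.ι).map φQ ≫ (DCoh.restrictD U.ι).map p := by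
      rw [Category.comp_id, Functor.map_comp]
    obtain ⟨a, ha1, ha2⟩ := complete_distinguished_triangle_morphism₁ _ _ hT2' hT1'
      ((DCoh.restrictD U.ι).map φQ) (𝟙 ((DCoh.restrictD U.ι).obj Ca)) hcomm
    let Φ : (DCoh.restrictD U.ι).mapTriangle.obj (Triangle.mk u (φQ ≫ p) w) ⟶
        (DCoh.restrictD U.ι).mapTriangle.obj (Triangle.mk φP p h₃) :=
      { hom₁ := a
        hom₂ := (DCoh.restrictD U.ι).map φQ
        hom₃ := 𝟙 ((DCoh.restrictD U.ι).obj Ca)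
        comm₁ := ha1
        comm₂ := hcomm
        comm₃ := ha2 }
    have hIa : IsIso a := isIso₁_of_isIso₂₃ Φ hT2' hT1' h5
      (inferInstanceAs (IsIso (𝟙 ((DCoh.restrictD U.ι).obj Ca))))
    have hIc := Groth.Agent.Lib.Helper25.RGZ1.isIso_counit U.ι adjU A
    let e1 : (DCoh.restrictD U.ι).obj F ≅ (DCoh.restrictD U.ι).obj P := @asIso _ _ _ _ a hIa
    let e2 : (DCoh.restrictD U.ι).obj P ≅ A := @asIso _ _ _ _ (adjU.counit.app A) hIc
    exact ⟨e1 ≪≫ e2⟩
  · -- the `V`-side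
    have h1 : IsIso ((DCoh.restrictD (U.ι ⁻¹ᵁ V).ι).map μ) := by
      haveI := isIso_restrictD_of_le j' _ hr' (adj'.unit.app A)
        (isIso_restrictD_unit j' adj' A)
      dsimp only [μ]
      rw [Functor.map_comp]
      infer_instance
    have h2 : IsIso ((DCoh.restrictD V.ι).map φP) := isIso_restrictD_Rpush_map U V μ h1
    have hT1' := (DCoh.restrictD V.ι).map_distinguished _ hT1
    have hT2' := (DCoh.restrictD V.ι).map_distinguished _ hT2
    have hz : IsZero ((DCoh.restrictD V.ι).obj Ca) := (Triangle.isZero₃_iff_isIso₁ _ hT1').2 h2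
    have h3 : IsIso ((DCoh.restrictD V.ι).map u) := (Triangle.isZero₃_iff_isIso₁ _ hT2').1 hz
    have hIc := Groth.Agent.Lib.Helper25.RGZ1.isIso_counit V.ι adjV B
    let e1 : (DCoh.restrictD V.ι).obj F ≅ (DCoh.restrictD V.ι).obj Q :=
      @asIso _ _ _ _ ((DCoh.restrictD V.ι).map u) h3
    let e2 : (DCoh.restrictD V.ι).obj Q ≅ B := @asIso _ _ _ _ (adjV.counit.app B) hIc
    exact ⟨e1 ≪≫ e2⟩



end Groth.Agent.Lib.Helper25.GlueOpens2
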