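import Mathlib
import Groth.Agent.Lib.Helper25.MVSupp
import Groth.Agent.Lib.Helper25.ApproxExtend
import Groth.Agent.Lib.Helper25.QCCEv
import Groth.Agent.Lib.Helper25.GlueOpens

/-!
# Vanishing of objects of `D(O_X)` on opens (helper25)

* `isZero_restrictD_iff_sections`: `K|_O = 0 ↔ Γ(W, Hⁱ(K)) = 0` for all `i` and all opens `W ≤ O`.
* `isZero_restrictD_restrictD_iff`: `(K|_V)|_{O'} = 0 ↔ K|_{V.ι(O')} = 0` for `O'` an open of the open subscheme `V`.
* `isZero_restrictD_preimage`: `K|_U = 0 → (K|_V)|_{V ∩ U} = 0`.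
* `isZero_of_cover`: an object vanishing on both members of an open cover is zero;
  `isIso_of_cover`: a morphism invertible on both members of an open cover is invertible.
* `isZero_restrictD_Rpush`: `(Rj_{V*} M)|_O = 0` if `M|_{V ∩ O} = 0` (open base change).
* `isIso_unit_of_isZero_restrict`: for `U ⊔ V = ⊤` and `C|_U = 0` the unit `C ⟶ Rj_{V*}(C|_V)` is invertible.
-/

set_option autoImplicit false
universe u
open CategoryTheory CategoryTheory.Limits AlgebraicGeometry Opposite

attribute [local instance] HasDerivedCategory.standard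

namespace Groth.Agent.Lib.Helper25.VanLocus

open Pretriangulated DerivedCategory TopologicalSpace Scheme.Modules
open Groth.Agent.Lib.Helper25.SchKInj Groth.Agent.Lib.Helper25.DerBC
  Groth.Agent.Lib.helper7.RestrictSupport

variable {X : Scheme.{u}}

/-- vanishing on an open in terms of sections of the cohomology sheaves -/
theorem isZero_restrictD_iff_sections (K : DCoh.D X) (O : X.Opens) :
    IsZero ((DCoh.restrictD O.ι).obj K) ↔
      ∀ (i : ℤ) (W : X.Opens), W ≤ O → Subsingleton Γ(DCoh.HD K i, W) := by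
  constructor
  · intro h i
    obtain ⟨e⟩ := nonempty_homology_mapDerivedCategory_iso (restrictFunctor O.ι) K i
    have h1 : IsZero ((restrictFunctor O.ι).obj (DCoh.HD K i)) :=
      IsZero.of_iso (Functor.map_isZero _ h) e.symm
    exact (isZero_restrict_iff _ O).1 h1
  · intro h
    apply isZero_of_homology
    intro i
    obtain ⟨e⟩ := nonempty_homology_mapDerivedCategory_iso (restrictFunctor O.ι) K i
    exact IsZero.of_iso ((isZero_restrict_iff _ O).2 (h i)) e

/-- subsingleton sections transport along isomorphisms of modules -/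
lemma subsingleton_sections_of_iso {Y : Scheme.{u}} {M N : Y.Modules} (e : M ≅ N) (W : Y.Opens)
    (h : Subsingleton Γ(M, W)) : Subsingleton Γ(N, W) := by
  have hb := (Groth.Agent.Lib.Helper25.QCCEv.bijective_app_of_isIso e.hom W).2
  refine ⟨fun a b => ?_⟩
  obtain ⟨a', rfl⟩ := hb a
  obtain ⟨b', rfl⟩ := hb b
  have hab : a' = b' := h.elim a' b'
  rw [hab]

/-- vanishing on an open of an open subscheme -/
theorem isZero_restrictD_restrictD_iff (K : DCoh.D X) (V : X.Opens) (O' : (V : Scheme.{u}).Opens) :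
    IsZero ((DCoh.restrictD O'.ι).obj ((DCoh.restrictD V.ι).obj K)) ↔
      IsZero ((DCoh.restrictD (V.ι ''ᵁ O').ι).obj K) := by
  rw [isZero_restrictD_iff_sections, isZero_restrictD_iff_sections]
  have key : ∀ (i : ℤ) (W' : (V : Scheme.{u}).Opens),
      Subsingleton Γ(DCoh.HD ((DCoh.restrictD V.ι).obj K) i, W') ↔
        Subsingleton Γ(DCoh.HD K i, V.ι ''ᵁ W') := by
    intro i W'
    obtain ⟨e⟩ := nonempty_homology_mapDerivedCategory_iso (restrictFunctor V.ι) K i
    exact ⟨fun h => subsingleton_sections_of_iso e W' h,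
      fun h => subsingleton_sections_of_iso e.symm W' h⟩
  constructor
  · intro h i W hW
    have hW' : V.ι ⁻¹ᵁ W ≤ O' := by
      intro x hx
      obtain ⟨y, hy, hyx⟩ := hW hx
      have : y = x := V.ι.isOpenEmbedding.injective hyx
      rwa [← this]
    have e : V.ι ''ᵁ (V.ι ⁻¹ᵁ W) = W := by
      rw [Scheme.Hom.image_preimage_eq_opensRange_inf, Scheme.Opens.opensRange_ι]
      refine inf_eq_right.mpr (hW.trans ?_)
      rintro _ ⟨y, -, rfl⟩
      exact y.2
    have := (key i _).1 (h i _ hW')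
    rwa [e] at this
  · intro h i W' hW'
    refine (key i W').2 (h i _ ?_)
    rintro _ ⟨y, hy, rfl⟩
    exact ⟨y, hW' hy, rfl⟩

/-- `K|_U = 0 → (K|_V)|_{V ∩ U} = 0` -/
theorem isZero_restrictD_preimage (K : DCoh.D X) (U V : X.Opens)
    (h : IsZero ((DCoh.restrictD U.ι).obj K)) :
    IsZero ((DCoh.restrictD (V.ι ⁻¹ᵁ U).ι).obj ((DCoh.restrictD V.ι).obj K)) := by
  rw [isZero_restrictD_restrictD_iff]
  refine Groth.Agent.Lib.Helper25.MVSupp.isZero_restrictD_of_le ?_ K h
  rw [Scheme.Hom.image_preimage_eq_opensRange_inf]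
  exact inf_le_right

/-- an object vanishing on both members of an open cover is zero -/
theorem isZero_of_cover (K : DCoh.D X) (U V : X.Opens) (hUV : U ⊔ V = ⊤)
    (hU : IsZero ((DCoh.restrictD U.ι).obj K)) (hV : IsZero ((DCoh.restrictD V.ι).obj K)) :
    IsZero K := by
  apply isZero_of_homology
  intro i
  obtain ⟨eU⟩ := nonempty_homology_mapDerivedCategory_iso (restrictFunctor U.ι) K i
  obtain ⟨eV⟩ := nonempty_homology_mapDerivedCategory_iso (restrictFunctor V.ι) K i
  exact Groth.Agent.Lib.Helper25.ApproxExtend.isZero_of_cover _ U V hUV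
    (IsZero.of_iso (Functor.map_isZero _ hU) eU.symm)
    (IsZero.of_iso (Functor.map_isZero _ hV) eV.symm)

/-- a morphism invertible on both members of an open cover is invertible -/
theorem isIso_of_cover {K L : DCoh.D X} (φ : K ⟶ L) (U V : X.Opens) (hUV : U ⊔ V = ⊤)
    (hU : IsIso ((DCoh.restrictD U.ι).map φ)) (hV : IsIso ((DCoh.restrictD V.ι).map φ)) :
    IsIso φ := by
  obtain ⟨C, q, w, hT⟩ := distinguished_cocone_triangle φ
  refine (Triangle.isZero₃_iff_isIso₁ _ hT).1 (isZero_of_cover C U V hUV ?_ ?_)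
  · exact (Triangle.isZero₃_iff_isIso₁ _ ((DCoh.restrictD U.ι).map_distinguished _ hT)).2 hU
  · exact (Triangle.isZero₃_iff_isIso₁ _ ((DCoh.restrictD V.ι).map_distinguished _ hT)).2 hV

/-- open base change: `(Rj_{V*} M)|_O = 0` if `M|_{V ∩ O} = 0` -/
theorem isZero_restrictD_Rpush (V O : X.Opens) [DCoh.HasRpush V.ι] (M : DCoh.D (V : Scheme.{u}))
    (h : IsZero ((DCoh.restrictD (V.ι ⁻¹ᵁ O).ι).obj M)) :
    IsZero ((DCoh.restrictD O.ι).obj ((DCoh.Rpush V.ι).obj M)) := by
  haveI : DCoh.HasRpush (V.ι ∣_ O) := hasRpush _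
  obtain ⟨e⟩ := nonempty_Rpush_restrict_iso V.ι O
  exact IsZero.of_iso (Groth.Agent.Lib.Helper25.MVSupp.isZero_Rpush_of_isZero _ _ h) (e.app M)

/-- for `U ⊔ V = ⊤` and `C|_U = 0` the unit `C ⟶ Rj_{V*}(C|_V)` is invertible -/
theorem isIso_unit_of_isZero_restrict (U V : X.Opens) (hUV : U ⊔ V = ⊤) [DCoh.HasRpush V.ι]
    (adj : DCoh.restrictD V.ι ⊣ DCoh.Rpush V.ι) (C : DCoh.D X)
    (hCU : IsZero ((DCoh.restrictD U.ι).obj C)) : IsIso (adj.unit.app C) := by
  refine isIso_of_cover _ U V hUV ?_ ?_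
  · refine Groth.Agent.Lib.Helper25.ApproxExtend.isIso_of_isZero _ hCU ?_
    exact isZero_restrictD_Rpush V U _ (isZero_restrictD_preimage C U V hCU)
  · exact Groth.Agent.Lib.Helper25.GlueOpens.isIso_restrictD_unit V.ι adj C

end Groth.Agent.Lib.Helper25.VanLocus
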