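import Mathlib
import Groth.Agent.Lib.Helper25.LiftOpen
import Groth.Agent.Lib.Helper25.VanLocus
import Groth.Agent.Lib.Helper25.FlatAmpPerfect
import Groth.Agent.Lib.Helper25.HomVanQcqs

/-!
# Lifting morphisms over `X = U ∪ V` with `V` affine (helper25)

* `isPerfect_of_cover`, `isQCohD_of_iso`.
* `lift_cover`: `X = U ∪ V`, `V` affine, `U ∩ V` quasi-compact; `R₀` perfect, `E ∈ D_QCoh(X)`, `a : R₀|_U ⟶ E|_U`.
  Then there are a perfect `R₁`, `β : R₁ ⟶ R₀` with `β|_U` invertible and `ρ : R₁ ⟶ E` with `β|_U ≫ a = ρ|_U`; moreover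
  `R₁` vanishes on every open on which `R₀` vanishes.
  (The obstruction `R₀ ⟶ cone(E ⟶ Rj_{U*}(E|_U))` lives on `V ∖ U`; it is killed by a Koszul-type modification of
  `R₀|_V` supported on `V ∖ U`, pushed forward to `X`.)
-/

set_option autoImplicit false
universe u
open CategoryTheory CategoryTheory.Limits AlgebraicGeometry Opposite

attribute [local instance] HasDerivedCategory.standard

namespace Groth.Agent.Lib.Helper25.LiftCover

open Pretriangulated DerivedCategory TopologicalSpace Scheme.Modules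
open Groth.Agent.Lib.Helper25.PowKill Groth.Agent.Lib.Helper25.KLinRestrict
  Groth.Agent.Lib.Helper25.ApproxExtend Groth.Agent.Lib.helper25.DCohPerfect
  Groth.Agent.Lib.Helper25.HomVanMV Groth.Agent.Lib.Helper25.VanLocus
  Groth.Agent.Lib.Helper25.LiftOpen

variable {X : Scheme.{u}}

/-- perfectness can be checked on a two-member open cover -/
lemma isPerfect_of_cover (K : DCoh.D X) (U V : X.Opens) (hUV : U ⊔ V = ⊤)
    (hU : DCoh.IsPerfect ((DCoh.restrictD U.ι).obj K))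
    (hV : DCoh.IsPerfect ((DCoh.restrictD V.ι).obj K)) : DCoh.IsPerfect K := by
  refine Groth.Agent.Lib.helper25.FlatAmpPerfect.isPerfect_of_restrict (fun x => ?_)
  have hx : x ∈ ((U ⊔ V : X.Opens) : Set X) := by rw [hUV]; trivial
  rcases hx with h | h
  · exact ⟨U, h, hU⟩
  · exact ⟨V, h, hV⟩

lemma isQCohD_of_iso {K K' : DCoh.D X} (e : K ≅ K') (hK : DCoh.IsQCohD K) : DCoh.IsQCohD K' := by
  intro i
  haveI : (DCoh.HD K i).IsQuasicoherent := hK i
  exact Groth.Agent.Lib.helper16.QCohFibre.isQuasicoherent_of_iso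
    ((homologyFunctor X.Modules i).mapIso e)

/-- **lifting over a cover `X = U ∪ V` with `V` affine** -/
theorem lift_cover (U V : X.Opens) (hV : IsAffineOpen V)
    (hUVc : IsCompact ((U ⊓ V : X.Opens) : Set X)) (hcov : U ⊔ V = ⊤)
    (R₀ E : DCoh.D X) (hR₀ : DCoh.IsPerfect R₀) (hE : DCoh.IsQCohD E)
    (a : (DCoh.restrictD U.ι).obj R₀ ⟶ (DCoh.restrictD U.ι).obj E) :
    ∃ (R₁ : DCoh.D X) (β : R₁ ⟶ R₀) (ρ : R₁ ⟶ E), DCoh.IsPerfect R₁ ∧
      IsIso ((DCoh.restrictD U.ι).map β) ∧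
      (DCoh.restrictD U.ι).map β ≫ a = (DCoh.restrictD U.ι).map ρ ∧
      ∀ O : X.Opens, IsZero ((DCoh.restrictD O.ι).obj R₀) →
        IsZero ((DCoh.restrictD O.ι).obj R₁) := by
  classical
  haveI : IsAffine (V : Scheme.{u}) := hV
  haveI := Groth.Agent.Lib.Helper25.SchKInj.hasRpush U.ι
  haveI := Groth.Agent.Lib.Helper25.SchKInj.hasRpush V.ι
  obtain ⟨adjU⟩ := Groth.Agent.Lib.Helper25.RGZ1.nonempty_adj U.ι
  obtain ⟨adjV⟩ := Groth.Agent.Lib.Helper25.RGZ1.nonempty_adj V.ι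
  let JU := DCoh.restrictD U.ι
  let JV := DCoh.restrictD V.ι
  let RU := DCoh.Rpush U.ι
  let RV := DCoh.Rpush V.ι
  let η : E ⟶ RU.obj (JU.obj E) := adjU.unit.app E
  obtain ⟨C, q, w, hT⟩ := distinguished_cocone_triangle η
  -- `C` vanishes on `U`
  have hJη : IsIso (JU.map η) := by
    haveI := Groth.Agent.Lib.Helper25.RGZ1.isIso_counit U.ι adjU (JU.obj E)
    have h1 : JU.map η ≫ adjU.counit.app (JU.obj E) = 𝟙 _ := adjU.left_triangle_components E
    haveI : IsIso (JU.map η ≫ adjU.counit.app (JU.obj E)) := by rw [h1]; infer_instance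
    exact IsIso.of_isIso_comp_right (JU.map η) (adjU.counit.app (JU.obj E))
  have hCU : IsZero (JU.obj C) :=
    (Triangle.isZero₃_iff_isIso₁ _ (JU.map_distinguished _ hT)).2 hJη
  -- the open `U ∩ V` of `V`
  let WV : (V : Scheme.{u}).Opens := V.ι ⁻¹ᵁ U
  have hCW : IsZero ((DCoh.restrictD WV.ι).obj (JV.obj C)) := isZero_restrictD_preimage C U V hCU
  have himg : V.ι ''ᵁ WV = U ⊓ V := by
    rw [Scheme.Hom.image_preimage_eq_opensRange_inf, Scheme.Opens.opensRange_ι, inf_comm]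
  have hWVc : IsCompact (WV : Set (V : Scheme.{u})) := by
    rw [V.ι.isOpenEmbedding.isEmbedding.isCompact_iff]
    have : (V.ι.base '' (WV : Set (V : Scheme.{u}))) = ((U ⊓ V : X.Opens) : Set X) := by
      rw [← himg]; rfl
    rw [this]
    exact hUVc
  -- `C|_V` is quasi-coherent
  have hCVq : DCoh.IsQCohD (JV.obj C) := by
    have hT' := JV.map_distinguished _ hT
    haveI : DCoh.HasRpush (U.ι ∣_ V) := Groth.Agent.Lib.Helper25.SchKInj.hasRpush _
    obtain ⟨e⟩ := Groth.Agent.Lib.Helper25.SchKInj.nonempty_Rpush_restrict_iso U.ι V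
    haveI : CompactSpace ((U.ι ⁻¹ᵁ V : (U : Scheme.{u}).Opens) : Scheme.{u}) := by
      refine isCompact_iff_compactSpace.mp ?_
      rw [U.ι.isOpenEmbedding.isEmbedding.isCompact_iff]
      have h1 : U.ι ''ᵁ (U.ι ⁻¹ᵁ V) = U ⊓ V := by
        rw [Scheme.Hom.image_preimage_eq_opensRange_inf, Scheme.Opens.opensRange_ι]
      have : (U.ι.base '' ((U.ι ⁻¹ᵁ V : (U : Scheme.{u}).Opens) : Set (U : Scheme.{u}))) =
          ((U ⊓ V : X.Opens) : Set X) := by
        rw [← h1]; rfl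
      rw [this]
      exact hUVc
    haveI : QuasiCompact (U.ι ∣_ V) :=
      (HasAffineProperty.iff_of_isAffine (P := @QuasiCompact)).2 inferInstance
    have h1 : DCoh.IsQCohD (JV.obj (RU.obj (JU.obj E))) := by
      refine isQCohD_of_iso (e.app (JU.obj E)).symm ?_
      exact Groth.Agent.Lib.Helper25.RpushQC.isQCohD_Rpush (U.ι ∣_ V) _
        (Groth.Agent.Lib.Helper25.RGZ4.isQCohD_restrictD _ _
          (Groth.Agent.Lib.Helper25.RGZ4.isQCohD_restrictD U.ι E hE))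
    exact Groth.Agent.H1.WSerreTri.cohIn_obj₂ (P := Groth.Agent.S1007.QC (V : Scheme.{u})) _
      (rot_of_distTriang _ hT') h1
      (isQCohD_shift _ (Groth.Agent.Lib.Helper25.RGZ4.isQCohD_restrictD V.ι E hE) 1)
  -- `U ∩ V` as a union of basic opens of `V`
  obtain ⟨s, hs, hWs⟩ := isCompact_and_isOpen_iff_finite_and_eq_biUnion_basicOpen.mp
    ⟨hWVc, WV.isOpen⟩
  letI : (V : Scheme.{u}).Over (Spec (CommRingCat.of ↑Γ((V : Scheme.{u}), ⊤))) :=
    ⟨(V : Scheme.{u}).toSpecΓ⟩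
  have hg : ∀ g : Γ((V : Scheme.{u}), ⊤), (show Γ((V : Scheme.{u}), ⊤) from
      Coh.toGlobal ((V : Scheme.{u}) ↘ Spec (CommRingCat.of ↑Γ((V : Scheme.{u}), ⊤))) g) = g := by
    intro g
    show ((V : Scheme.{u}).toSpecΓ.appTop.hom) ((Scheme.ΓSpecIso _).inv.hom g) = g
    rw [Scheme.toSpecΓ_appTop]
    exact congr($((Scheme.ΓSpecIso _).inv_hom_id) g)
  let as : List ↑Γ((V : Scheme.{u}), ⊤) := hs.toFinset.toList
  have hle : ∀ g ∈ as, (V : Scheme.{u}).basicOpen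
      (show Γ((V : Scheme.{u}), ⊤) from
        Coh.toGlobal ((V : Scheme.{u}) ↘ Spec (CommRingCat.of ↑Γ((V : Scheme.{u}), ⊤))) g) ≤ WV := by
    intro g hg'
    rw [hg g]
    have hg'' : g ∈ s := by simpa [as] using hg'
    intro x hx
    have : x ∈ (WV : Set (V : Scheme.{u})) := by
      rw [hWs]
      exact Set.mem_biUnion hg'' hx
    exact this
  have hcovV : ∀ x ∈ WV, ∃ g ∈ as, x ∈ (V : Scheme.{u}).basicOpen
      (show Γ((V : Scheme.{u}), ⊤) from
        Coh.toGlobal ((V : Scheme.{u}) ↘ Spec (CommRingCat.of ↑Γ((V : Scheme.{u}), ⊤))) g) := by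
    intro x hx
    have hx' : x ∈ ⋃ i ∈ s, ((V : Scheme.{u}).basicOpen i : Set (V : Scheme.{u})) := by
      rw [← hWs]; exact hx
    obtain ⟨g, hgs, hxg⟩ := Set.mem_iUnion₂.1 hx'
    refine ⟨g, by simpa [as] using hgs, ?_⟩
    rw [hg g]
    exact hxg
  have hCt : ∀ g ∈ as, Tors ↑Γ((V : Scheme.{u}), ⊤) g (V : Scheme.{u})
      ((V : Scheme.{u}) ↘ Spec (CommRingCat.of ↑Γ((V : Scheme.{u}), ⊤))) (JV.obj C) := fun g hg' =>
    Groth.Agent.Lib.Helper25.MVSupp.isZero_restrictD_of_le (hle g hg') _ hCW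
  -- the obstruction
  let αt : R₀ ⟶ RU.obj (JU.obj E) := adjU.homEquiv R₀ (JU.obj E) a
  have hKV : DCoh.IsPerfect (JV.obj R₀) :=
    Groth.Agent.Lib.Helper25.HomVanQcqs.isPerfect_restrictD V.ι hR₀
  obtain ⟨K', c, δ', hK', hcδ, hz, hW⟩ := steps ↑Γ((V : Scheme.{u}), ⊤) (V : Scheme.{u}) hCVq as hCt hKV
    (JV.map (αt ≫ q))
  -- `K'` vanishes on `U ∩ V`
  have hK'W : IsZero ((DCoh.restrictD WV.ι).obj K') := by
    refine Groth.Agent.Lib.Helper25.SchKInj.isZero_restrictD_of_support WV K' (fun i x hx hxW => ?_)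
    obtain ⟨g, hg', hxg⟩ := hcovV x hxW
    exact Groth.Agent.Lib.Helper25.SchKInj.support_HD_restrictD _ K' (hz g hg') i hx hxg
  -- push forward to `X`
  let ĉ : R₀ ⟶ RV.obj K' := adjV.homEquiv R₀ K' c
  have hRK'U : IsZero (JU.obj (RV.obj K')) := isZero_restrictD_Rpush V U K' hK'W
  have hRK' : DCoh.IsPerfect (RV.obj K') := by
    refine isPerfect_of_cover _ U V hcov (isPerfect_of_isZero hRK'U) ?_
    haveI := Groth.Agent.Lib.Helper25.RGZ1.isIso_counit V.ι adjV K'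
    exact isPerfect_of_iso (asIso (adjV.counit.app K')).symm hK'
  obtain ⟨R₁, β, v, hT₁⟩ := distinguished_cocone_triangle₁ ĉ
  have hR₁ : DCoh.IsPerfect R₁ := (isPerfect_two_out_of_three _ hT₁).2.2 hR₀ hRK'
  have hJβ : IsIso (JU.map β) :=
    (Triangle.isZero₃_iff_isIso₁ _ (JU.map_distinguished _ hT₁)).1 hRK'U
  -- the obstruction vanishes on `R₁`
  haveI hunit : IsIso (adjV.unit.app C) := isIso_unit_of_isZero_restrict U V hcov adjV C hCU
  have h0 : (β ≫ αt) ≫ q = 0 := by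
    rw [← cancel_mono (adjV.unit.app C), zero_comp, Category.assoc, Category.assoc]
    have hnat : (αt ≫ q) ≫ adjV.unit.app C = adjV.unit.app R₀ ≫ RV.map (JV.map (αt ≫ q)) :=
      adjV.unit.naturality (αt ≫ q)
    have hĉ : ĉ = adjV.unit.app R₀ ≫ RV.map c := adjV.homEquiv_unit _ _ _
    have hβc : β ≫ ĉ = 0 := comp_distTriang_mor_zero₁₂ _ hT₁
    rw [← Category.assoc αt q, hnat, ← hcδ, Functor.map_comp, ← Category.assoc (adjV.unit.app R₀),
      ← hĉ, ← Category.assoc β, hβc, zero_comp]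
  obtain ⟨ρ, hρ⟩ := Triangle.coyoneda_exact₂ _ hT (β ≫ αt) h0
  refine ⟨R₁, β, ρ, hR₁, hJβ, ?_, ?_⟩
  · apply (adjU.homEquiv R₁ (JU.obj E)).injective
    rw [adjU.homEquiv_naturality_left]
    exact hρ.trans ((adjU.unit.naturality ρ).trans
      (adjU.homEquiv_unit (X := R₁) (Y := JU.obj E) (f := JU.map ρ)).symm)
  · intro O hO
    have h1 : IsZero ((DCoh.restrictD O.ι).obj (RV.obj K')) :=
      isZero_restrictD_Rpush V O K' (hW _ (isZero_restrictD_preimage R₀ O V hO))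
    exact Triangle.isZero₁_of_isZero₂₃ _ ((DCoh.restrictD O.ι).map_distinguished _ hT₁) hO h1

end Groth.Agent.Lib.Helper25.LiftCover
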