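import Mathlib

/-!
# The cone of a complementary idempotent (helper25)

`nonempty_iso_biprod_of_idempotent_cone`: in a triangulated category, if `M` is a retract of `B` via `(i, p)`, the cone of
the complementary idempotent `𝟙 B - p ≫ i` is isomorphic to `M ⊞ M[1]` (Thomason's trick).
Proof: `𝟙 - p ≫ i = q ≫ k` with `q : B ⟶ N` the cokernel-like map of `i` and `k` a section; octahedron.
-/

set_option autoImplicit false
open CategoryTheory CategoryTheory.Limits Pretriangulated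

namespace Groth.Agent.Lib.Helper25.TriIdem

variable {C : Type*} [Category C] [Preadditive C] [HasZeroObject C] [HasShift C ℤ]
  [∀ n : ℤ, (shiftFunctor C n).Additive] [Pretriangulated C] [IsTriangulated C]

theorem nonempty_iso_biprod_of_idempotent_cone {M B Z : C} (i : M ⟶ B) (p : B ⟶ M)
    (hip : i ≫ p = 𝟙 M) (f : B ⟶ Z) (g : Z ⟶ B⟦(1 : ℤ)⟧)
    (hT : Triangle.mk (𝟙 B - p ≫ i) f g ∈ distTriang C) :
    Nonempty (Z ≅ M ⊞ M⟦(1 : ℤ)⟧) := by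
  obtain ⟨N, q, δ, hT₁⟩ := distinguished_cocone_triangle i
  have hδ : δ = 0 := by
    have h1 : δ ≫ i⟦(1 : ℤ)⟧' = 0 := comp_distTriang_mor_zero₃₁ _ hT₁
    have h2 : δ = (δ ≫ i⟦(1 : ℤ)⟧') ≫ p⟦(1 : ℤ)⟧' := by
      rw [Category.assoc, ← Functor.map_comp, hip, CategoryTheory.Functor.map_id, Category.comp_id]
    rw [h2, h1, zero_comp]
  have hiq : i ≫ q = 0 := comp_distTriang_mor_zero₁₂ _ hT₁
  obtain ⟨k₀, hk₀⟩ : ∃ k₀ : N ⟶ B, k₀ ≫ q = 𝟙 N := by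
    obtain ⟨k₀, hk₀⟩ : ∃ k₀ : N ⟶ B, 𝟙 N = k₀ ≫ q := Triangle.coyoneda_exact₃ _ hT₁ (𝟙 N) (by
      show 𝟙 N ≫ δ = 0
      rw [hδ, comp_zero])
    exact ⟨k₀, hk₀.symm⟩
  let e : B ⟶ B := 𝟙 B - p ≫ i
  have heq : e ≫ q = q := by
    show (𝟙 B - p ≫ i) ≫ q = q
    rw [Preadditive.sub_comp, Category.id_comp, Category.assoc, hiq, comp_zero, sub_zero]
  have hep : e ≫ p = 0 := by
    show (𝟙 B - p ≫ i) ≫ p = 0
    rw [Preadditive.sub_comp, Category.id_comp, Category.assoc, hip, Category.comp_id, sub_self]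
  let k : N ⟶ B := k₀ ≫ e
  have hkq : k ≫ q = 𝟙 N := by
    show (k₀ ≫ e) ≫ q = 𝟙 N
    rw [Category.assoc, heq, hk₀]
  have hkp : k ≫ p = 0 := by
    show (k₀ ≫ e) ≫ p = 0
    rw [Category.assoc, hep, comp_zero]
  have hsum : e = q ≫ k := by
    have hzq : (e - q ≫ k) ≫ q = 0 := by
      rw [Preadditive.sub_comp, Category.assoc, hkq, Category.comp_id, heq, sub_self]
    obtain ⟨z', hz'⟩ : ∃ z' : B ⟶ M, e - q ≫ k = z' ≫ i :=
      Triangle.coyoneda_exact₂ _ hT₁ (e - q ≫ k) hzq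
    have hzp : (e - q ≫ k) ≫ p = 0 := by
      rw [Preadditive.sub_comp, Category.assoc, hkp, comp_zero, sub_zero, hep]
    have hz0 : z' = 0 := by
      have h3 : (z' ≫ i) ≫ p = 0 := by
        have h4 : z' ≫ i = e - q ≫ k := hz'.symm
        rw [h4]; exact hzp
      rwa [Category.assoc, hip, Category.comp_id] at h3
    have h5 : e - q ≫ k = 0 := by
      rw [hz', hz0]; exact zero_comp
    exact sub_eq_zero.1 h5
  have h₁₂ : Triangle.mk q δ (-i⟦(1 : ℤ)⟧') ∈ distTriang C := rot_of_distTriang _ hT₁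
  obtain ⟨Z₂₃, v₂₃, w₂₃, h₂₃⟩ := distinguished_cocone_triangle k
  have h₁₃ : Triangle.mk (q ≫ k) f g ∈ distTriang C := by
    rw [← hsum]; exact hT
  have oct := Triangulated.someOctahedron (u₁₂ := q) (u₂₃ := k) (u₁₃ := q ≫ k) rfl h₁₂ h₂₃ h₁₃
  have hmem := oct.mem
  have h0 : w₂₃ ≫ δ⟦(1 : ℤ)⟧' = 0 := by
    rw [hδ, Functor.map_zero, comp_zero]
  obtain ⟨e₁, -, -⟩ := exists_iso_binaryBiproduct_of_distTriang _ hmem h0
  -- `Z₂₃ ≅ M`
  have hw : w₂₃ = 0 := by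
    have h1 : w₂₃ ≫ k⟦(1 : ℤ)⟧' = 0 := comp_distTriang_mor_zero₃₁ _ h₂₃
    have h2 : w₂₃ = (w₂₃ ≫ k⟦(1 : ℤ)⟧') ≫ q⟦(1 : ℤ)⟧' := by
      rw [Category.assoc, ← Functor.map_comp, hkq, CategoryTheory.Functor.map_id, Category.comp_id]
    rw [h2, h1, zero_comp]
  haveI : Epi v₂₃ := Triangle.epi₂ _ h₂₃ hw
  have hkv : k ≫ v₂₃ = 0 := comp_distTriang_mor_zero₁₂ _ h₂₃
  obtain ⟨pb, hpb⟩ : ∃ pb : Z₂₃ ⟶ M, p = v₂₃ ≫ pb := Triangle.yoneda_exact₂ _ h₂₃ p hkp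
  have hpi : p ≫ i = 𝟙 B - e := by
    show p ≫ i = 𝟙 B - (𝟙 B - p ≫ i)
    rw [sub_sub_cancel]
  let eZM : Z₂₃ ≅ M :=
    { hom := pb
      inv := i ≫ v₂₃
      hom_inv_id := by
        rw [← cancel_epi v₂₃, ← Category.assoc, ← hpb, ← Category.assoc, hpi, Preadditive.sub_comp,
          Category.id_comp, hsum, Category.assoc, hkv, comp_zero, sub_zero, Category.comp_id]
      inv_hom_id := by
        rw [Category.assoc, ← hpb, hip] }
  exact ⟨e₁ ≪≫ biprod.mapIso (Iso.refl _) eZM ≪≫ biprod.braiding _ _⟩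

end Groth.Agent.Lib.Helper25.TriIdem
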