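import Mathlib
import Groth.Agent.Lib.Helper25.ThomasonTG
import Groth.Agent.Lib.Helper25.ApproxAffine
import Groth.Agent.Lib.Helper25.VanLocus
import Groth.Agent.Lib.Helper25.TriIdem

/-!
# Tools for Thomason's extension trick (helper25)

`Y` a qcqs scheme over `Spec A`, opens of the form `⋃ D(a)`.
* `exists_retract_extension`: an object of `TG(W)` is a retract of the restriction of an object of `TG(Y)`.
* `bijective_restrict_map`, `retract_of_restrict`: for `Y = D ∪ W'`, morphisms into objects vanishing on `D` are determined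
  on `W'`.
* `isZero_restrict_cone_pow`, `exists_retract_cone_pow`: Koszul cones `cone(aⁿ : E ⟶ E)` and retracts.
* `exists_extension_biprod_shift`: if `M` is a retract of `E|_D` then `M ⊞ M[1]` extends (cone of a lift of the
  complementary idempotent).
-/

set_option autoImplicit false
universe u
open CategoryTheory CategoryTheory.Limits AlgebraicGeometry Opposite

attribute [local instance] HasDerivedCategory.standard

namespace Groth.Agent.Lib.Helper25.ThomasonExt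

open Pretriangulated DerivedCategory TopologicalSpace Scheme.Modules ZeroObject
open Groth.Agent.Lib.Helper25.ApproxExtend Groth.Agent.Lib.helper25.DCohPerfect
  Groth.Agent.Lib.Helper25.LiftOpenP Groth.Agent.Lib.Helper25.TriRetract
  Groth.Agent.Lib.helper25.DCohRestrict Groth.Agent.Lib.Helper25.HomVanNice
  Groth.Agent.Lib.Helper25.ThomasonTG Groth.Agent.Lib.Helper25.ApproxAffine

variable (A : Type u) [CommRing A]

/-- **extension up to retracts**: an object of `TG(W)`, `W = ⋃ D(a)` a quasi-compact open of a qcqs scheme `Y` over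
`Spec A`, is a retract of the restriction of an object of `TG(Y)` -/
theorem exists_retract_extension (Y : Scheme.{u}) [Y.Over (Spec (CommRingCat.of A))] [CompactSpace ↥Y]
    [QuasiSeparatedSpace ↥Y] (W : Y.Opens) (hWc : IsCompact (W : Set Y)) (l : List A)
    (hle : ∀ a ∈ l, Y.basicOpen
      (show Γ(Y, ⊤) from Coh.toGlobal (Y ↘ Spec (CommRingCat.of A)) a) ≤ W)
    (hcov : ∀ x ∈ W, ∃ a ∈ l, x ∈ Y.basicOpen
      (show Γ(Y, ⊤) from Coh.toGlobal (Y ↘ Spec (CommRingCat.of A)) a))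
    {E' : DCoh.D (W : Scheme.{u})} (h : TG W E') :
    ∃ (E : DCoh.D Y), TG Y E ∧ ∃ (i : E' ⟶ (DCoh.restrictD W.ι).obj E)
      (p : (DCoh.restrictD W.ι).obj E ⟶ E'), i ≫ p = 𝟙 E' := by
  let J := DCoh.restrictD W.ι
  induction h with
  | zero P hP =>
    exact ⟨0, TG.zero _ (isZero_zero _), 0, 0, hP.eq_of_src _ _⟩
  | single a M r e =>
    let e1 : J.obj ((singleFunctor Y.Modules a).obj (FlatMod.freeMod Y r)) ≅
        (singleFunctor (W : Scheme.{u}).Modules a).obj M :=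
      ((restrictFunctor W.ι).mapDerivedCategorySingleFunctor a).app (FlatMod.freeMod Y r) ≪≫
        (singleFunctor (W : Scheme.{u}).Modules a).mapIso
          (Groth.Agent.Lib.helper16.FLF.restrictFreeModIso W.ι r ≪≫ e.symm)
    exact ⟨_, TG.single a (FlatMod.freeMod Y r) r (Iso.refl _), e1.inv, e1.hom, e1.inv_hom_id⟩
  | tri T hT _ _ ih1 ih3 =>
    obtain ⟨E₁, hE₁, i₁, p₁, h1⟩ := ih1
    obtain ⟨E₃, hE₃, i₃, p₃, h3⟩ := ih3
    let cs : J.obj (E₁⟦(1 : ℤ)⟧) ≅ (J.obj E₁)⟦(1 : ℤ)⟧ := (J.commShiftIso (1 : ℤ)).app E₁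
    let v : J.obj E₃ ⟶ J.obj (E₁⟦(1 : ℤ)⟧) := p₃ ≫ T.mor₃ ≫ i₁⟦(1 : ℤ)⟧' ≫ cs.inv
    obtain ⟨E₃', β, γ, -, hE₃', hJβ, hβγ⟩ := lift_P A Y triClass_TG W hWc l hle hcov E₃
      (E₁⟦(1 : ℤ)⟧) hE₃.isPerfect hE₃ (isQCohD_of_isPerfect (hE₁.shift 1).isPerfect) v
    obtain ⟨E₂, f, g, hT₂⟩ := distinguished_cocone_triangle₂ γ
    have hE₂ : TG Y E₂ := TG.tri _ hT₂ hE₁ hE₃'
    have hT' := J.map_distinguished _ hT₂
    haveI : IsIso (J.map β) := hJβ
    have hinv : inv (J.map β) ≫ J.map γ = v := by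
      rw [← hβγ, IsIso.inv_hom_id_assoc]
    let c : T.obj₃ ⟶ J.obj E₃' := i₃ ≫ inv (J.map β)
    let c' : J.obj E₃' ⟶ T.obj₃ := J.map β ≫ p₃
    obtain ⟨b, b', hb⟩ := retract_obj₂ T (J.mapTriangle.obj (Triangle.mk f g γ)) hT hT'
      i₁ p₁ h1 c c'
      (by
        show (i₃ ≫ inv (J.map β)) ≫ J.map β ≫ p₃ = 𝟙 T.obj₃
        rw [Category.assoc, IsIso.inv_hom_id_assoc, h3])
      (by
        show T.mor₃ ≫ i₁⟦(1 : ℤ)⟧' = (i₃ ≫ inv (J.map β)) ≫ (J.map γ ≫ cs.hom)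
        rw [Category.assoc, ← Category.assoc (inv (J.map β)), hinv]
        simp only [v, Category.assoc, Iso.inv_hom_id, Category.comp_id]
        rw [← Category.assoc, h3, Category.id_comp])
      (by
        show (J.map γ ≫ cs.hom) ≫ p₁⟦(1 : ℤ)⟧' = (J.map β ≫ p₃) ≫ T.mor₃
        rw [← hβγ]
        simp only [v, Category.assoc, Iso.inv_hom_id_assoc]
        rw [← Functor.map_comp, h1, CategoryTheory.Functor.map_id, Category.comp_id])
    exact ⟨E₂, hE₂, b, b', hb⟩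
  | retract P P' i p hip _ ih =>
    obtain ⟨E, hE, i', p', h'⟩ := ih
    exact ⟨E, hE, i ≫ i', p' ≫ p, by rw [Category.assoc, ← Category.assoc i', h', Category.id_comp, hip]⟩

section FF

variable {Y : Scheme.{u}}

/-- restriction to `W'` is bijective on morphisms into an object vanishing on `D`, if `D ∪ W' = Y` -/
theorem bijective_restrict_map (D W' : Y.Opens) (hcov : D ⊔ W' = ⊤) (K L : DCoh.D Y)
    (hL : IsZero ((DCoh.restrictD D.ι).obj L)) :
    Function.Bijective (fun φ : K ⟶ L => (DCoh.restrictD W'.ι).map φ) := by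
  haveI := Groth.Agent.Lib.Helper25.SchKInj.hasRpush W'.ι
  obtain ⟨adj⟩ := Groth.Agent.Lib.Helper25.RGZ1.nonempty_adj W'.ι
  haveI : IsIso (adj.unit.app L) :=
    Groth.Agent.Lib.Helper25.VanLocus.isIso_unit_of_isZero_restrict D W' hcov adj L hL
  have h : (fun φ : K ⟶ L => (DCoh.restrictD W'.ι).map φ) =
      (adj.homEquiv K ((DCoh.restrictD W'.ι).obj L)).symm ∘ (fun φ : K ⟶ L => φ ≫ adj.unit.app L) := by
    funext φ
    show _ = (adj.homEquiv K _).symm (φ ≫ adj.unit.app L)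
    rw [Equiv.eq_symm_apply, adj.homEquiv_unit]
    exact (adj.unit.naturality φ).symm
  rw [h]
  refine (Equiv.bijective _).comp ⟨fun φ ψ hφψ => ?_, fun ψ => ⟨ψ ≫ inv (adj.unit.app L), ?_⟩⟩
  · exact (cancel_mono (adj.unit.app L)).1 hφψ
  · simp

/-- a retract over `W'` of objects vanishing on `D` (`D ∪ W' = Y`) is a retract over `Y` -/
theorem retract_of_restrict (D W' : Y.Opens) (hcov : D ⊔ W' = ⊤) {G E : DCoh.D Y}
    (hG : IsZero ((DCoh.restrictD D.ι).obj G)) (hE : IsZero ((DCoh.restrictD D.ι).obj E))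
    (i' : (DCoh.restrictD W'.ι).obj G ⟶ (DCoh.restrictD W'.ι).obj E)
    (p' : (DCoh.restrictD W'.ι).obj E ⟶ (DCoh.restrictD W'.ι).obj G) (h : i' ≫ p' = 𝟙 _) :
    ∃ (i : G ⟶ E) (p : E ⟶ G), i ≫ p = 𝟙 G := by
  obtain ⟨i, hi⟩ := (bijective_restrict_map D W' hcov G E hE).2 i'
  obtain ⟨p, hp⟩ := (bijective_restrict_map D W' hcov E G hG).2 p'
  refine ⟨i, p, (bijective_restrict_map D W' hcov G G hG).1 ?_⟩
  show (DCoh.restrictD W'.ι).map (i ≫ p) = (DCoh.restrictD W'.ι).map (𝟙 G)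
  rw [Functor.map_comp, CategoryTheory.Functor.map_id]
  exact (congrArg₂ (· ≫ ·) hi hp).trans h

end FF

section Kos

open Groth.Agent.Lib.Helper25.PowKill Groth.Agent.Lib.Helper25.KLinRestrict
  Groth.Agent.Lib.Helper25.KLinUnit

variable (Y : Scheme.{u}) [Y.Over (Spec (CommRingCat.of A))]

/-- the cone of `aⁿ : K ⟶ K` vanishes on `D(a)` -/
lemma isZero_restrict_cone_pow (a : A) (n : ℕ) {K K' : DCoh.D Y} {c : K ⟶ K'}
    {d : K' ⟶ K⟦(1 : ℤ)⟧} (hT : Triangle.mk ((a ^ n) • 𝟙 K) c d ∈ distTriang (DCoh.D Y)) :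
    IsZero ((DCoh.restrictD (Y.basicOpen
      (show Γ(Y, ⊤) from Coh.toGlobal (Y ↘ Spec (CommRingCat.of A)) a)).ι).obj K') := by
  let W : Y.Opens := Y.basicOpen (show Γ(Y, ⊤) from Coh.toGlobal (Y ↘ Spec (CommRingCat.of A)) a)
  letI : (W : Scheme.{u}).Over (Spec (CommRingCat.of A)) :=
    ⟨W.ι ≫ (Y ↘ Spec (CommRingCat.of A))⟩
  haveI : W.ι.IsOver (Spec (CommRingCat.of A)) := ⟨rfl⟩
  have hT' := (DCoh.restrictD W.ι).map_distinguished _ hT
  refine (Triangle.isZero₃_iff_isIso₁ _ hT').2 ?_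
  have h1 : (DCoh.restrictD W.ι).map ((a ^ n) • 𝟙 K) = (a ^ n) • 𝟙 _ := by
    rw [Functor.map_smul, CategoryTheory.Functor.map_id]
  show IsIso ((DCoh.restrictD W.ι).map ((a ^ n) • 𝟙 K))
  rw [h1]
  refine isIso_smul_id A (a ^ n) ?_ _
  rw [map_pow]
  exact (isUnit_appTop_basicOpen _).pow n

/-- **Koszul retract**: a perfect `G'` on `W'` vanishing on `D(a)` which is a retract of `E|_{W'}`, `E ∈ TG(Y)`, is a
retract of `E_a|_{W'}` for the cone `E_a ∈ TG(Y)` of a power of `a` on `E`; `E_a` vanishes on `D(a)` -/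
theorem exists_retract_cone_pow [QuasiSeparatedSpace ↥Y] (a : A) (W' : Y.Opens)
    (hW'c : IsCompact (W' : Set Y)) {G' : DCoh.D (W' : Scheme.{u})} (hG' : DCoh.IsPerfect G')
    (hG'a : Tors A a (W' : Scheme.{u}) (W'.ι ≫ (Y ↘ Spec (CommRingCat.of A))) G')
    {E : DCoh.D Y} (hE : TG Y E) (i' : G' ⟶ (DCoh.restrictD W'.ι).obj E)
    (p' : (DCoh.restrictD W'.ι).obj E ⟶ G') (h : i' ≫ p' = 𝟙 G') :
    ∃ (E_a : DCoh.D Y), TG Y E_a ∧
      IsZero ((DCoh.restrictD (Y.basicOpen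
        (show Γ(Y, ⊤) from Coh.toGlobal (Y ↘ Spec (CommRingCat.of A)) a)).ι).obj E_a) ∧
      (∀ O : Y.Opens, IsZero ((DCoh.restrictD O.ι).obj E) → IsZero ((DCoh.restrictD O.ι).obj E_a)) ∧
      ∃ (i'' : G' ⟶ (DCoh.restrictD W'.ι).obj E_a) (p'' : (DCoh.restrictD W'.ι).obj E_a ⟶ G'),
        i'' ≫ p'' = 𝟙 G' := by
  letI : (W' : Scheme.{u}).Over (Spec (CommRingCat.of A)) :=
    ⟨W'.ι ≫ (Y ↘ Spec (CommRingCat.of A))⟩
  haveI : W'.ι.IsOver (Spec (CommRingCat.of A)) := ⟨rfl⟩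
  haveI : CompactSpace ↥(W' : Scheme.{u}) := isCompact_iff_compactSpace.mp hW'c
  haveI : QuasiSeparatedSpace ↥(W' : Scheme.{u}) := W'.ι.isOpenEmbedding.quasiSeparatedSpace
  let J := DCoh.restrictD W'.ι
  obtain ⟨n, hn⟩ := pow_smul_eq_zero' (A := A) (a := a) (W' : Scheme.{u}) hG'
    (isQCohD_of_isPerfect hG') hG'a (𝟙 G')
  let g : E ⟶ E := (a ^ n) • 𝟙 E
  obtain ⟨E_a, c, d, hT⟩ := distinguished_cocone_triangle g
  have hEa : TG Y E_a := TG.obj₃ _ hT hE hE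
  have hz := isZero_restrict_cone_pow A Y a n hT
  obtain ⟨Z, f, g', hT₀⟩ := distinguished_cocone_triangle (0 : G' ⟶ G')
  have hJg : J.map g = (a ^ n) • 𝟙 (J.obj E) := by
    show J.map ((a ^ n) • 𝟙 E) = _
    rw [Functor.map_smul, CategoryTheory.Functor.map_id]
  have hT' := J.map_distinguished _ hT
  obtain ⟨c₃, c₃', hc⟩ := retract_obj₃ (Triangle.mk (0 : G' ⟶ G') f g')
    (J.mapTriangle.obj (Triangle.mk g c d)) hT₀ hT' i' p' h i' p' h
    (by
      show (0 : G' ⟶ G') ≫ i' = i' ≫ J.map g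
      rw [zero_comp, hJg, Linear.comp_smul, Category.comp_id, ← Category.id_comp i',
        ← Linear.smul_comp, hn, zero_comp])
    (by
      show J.map g ≫ p' = p' ≫ (0 : G' ⟶ G')
      rw [comp_zero, hJg, Linear.smul_comp, Category.id_comp, ← Category.comp_id p',
        ← Linear.comp_smul, hn, comp_zero])
  obtain ⟨r, hr⟩ := exists_retraction_mor₂ _ hT₀ rfl
  have hc' : c₃ ≫ c₃' ≫ r = r := by rw [← Category.assoc, hc]; exact Category.id_comp r
  exact ⟨E_a, hEa, hz, fun O hO => Triangle.isZero₃_of_isZero₁₂ _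
      ((DCoh.restrictD O.ι).map_distinguished _ hT) hO hO, f ≫ c₃, c₃' ≫ r,
    (Category.assoc f c₃ (c₃' ≫ r)).trans ((congrArg (fun t => f ≫ t) hc').trans hr)⟩

end Kos

/-- **idempotent cone trick**: if `M` is a retract of `E|_D` (`E` perfect and in a class `Pc` closed under cones,
`D = ⋃ D(a)` quasi-compact), there is a perfect `E'` in `Pc` with `E'|_D ≅ M ⊞ M[1]` -/
theorem exists_extension_biprod_shift (Y : Scheme.{u}) [Y.Over (Spec (CommRingCat.of A))]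
    [CompactSpace ↥Y] [QuasiSeparatedSpace ↥Y] {Pc : DCoh.D Y → Prop} (hPc : TriClass Pc)
    (D : Y.Opens) (hDc : IsCompact (D : Set Y)) (l : List A)
    (hle : ∀ a ∈ l, Y.basicOpen
      (show Γ(Y, ⊤) from Coh.toGlobal (Y ↘ Spec (CommRingCat.of A)) a) ≤ D)
    (hcov : ∀ x ∈ D, ∃ a ∈ l, x ∈ Y.basicOpen
      (show Γ(Y, ⊤) from Coh.toGlobal (Y ↘ Spec (CommRingCat.of A)) a))
    (E : DCoh.D Y) (hE : DCoh.IsPerfect E) (hEPc : Pc E) {M : DCoh.D (D : Scheme.{u})}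
    (i : M ⟶ (DCoh.restrictD D.ι).obj E) (p : (DCoh.restrictD D.ι).obj E ⟶ M) (hip : i ≫ p = 𝟙 M) :
    ∃ E' : DCoh.D Y, DCoh.IsPerfect E' ∧ Pc E' ∧
      Nonempty ((DCoh.restrictD D.ι).obj E' ≅ M ⊞ M⟦(1 : ℤ)⟧) := by
  let J := DCoh.restrictD D.ι
  let e : J.obj E ⟶ J.obj E := 𝟙 _ - p ≫ i
  obtain ⟨E₁, β, γ, hE₁, hE₁Pc, hJβ, hβγ⟩ := lift_P A Y hPc D hDc l hle hcov E E hE hEPc
    (isQCohD_of_isPerfect hE) e
  obtain ⟨E', f, g, hT⟩ := distinguished_cocone_triangle γ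
  have hE' : DCoh.IsPerfect E' := isPerfect_obj₃ _ hT hE₁ hE
  have hE'Pc : Pc E' := hPc.obj₃ _ hT hE₁Pc hEPc
  have hT' := J.map_distinguished _ hT
  haveI : IsIso (J.map β) := hJβ
  let δ'' : J.obj E' ⟶ (J.obj E)⟦(1 : ℤ)⟧ :=
    (J.map g ≫ (J.commShiftIso (1 : ℤ)).hom.app E₁) ≫ (J.map β)⟦(1 : ℤ)⟧'
  have hT'' : Triangle.mk e (J.map f) δ'' ∈ distTriang (DCoh.D (D : Scheme.{u})) := by
    refine isomorphic_distinguished _ hT' _
      (Triangle.isoMk _ _ (asIso (J.map β)).symm (Iso.refl _) (Iso.refl _) ?_ ?_ ?_)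
    · show e ≫ 𝟙 _ = inv (J.map β) ≫ J.map γ
      rw [Category.comp_id, ← hβγ, IsIso.inv_hom_id_assoc]
    · show J.map f ≫ 𝟙 _ = 𝟙 _ ≫ J.map f
      rw [Category.comp_id, Category.id_comp]
    · show δ'' ≫ (inv (J.map β))⟦(1 : ℤ)⟧' = 𝟙 _ ≫ (J.map g ≫ (J.commShiftIso (1 : ℤ)).hom.app E₁)
      have h1 : (J.map β)⟦(1 : ℤ)⟧' ≫ (inv (J.map β))⟦(1 : ℤ)⟧' = 𝟙 _ := by
        rw [← Functor.map_comp, IsIso.hom_inv_id, CategoryTheory.Functor.map_id]
      rw [Category.id_comp]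
      exact (Category.assoc _ _ _).trans ((congrArg
        (fun t => (J.map g ≫ (J.commShiftIso (1 : ℤ)).hom.app E₁) ≫ t) h1).trans
          (Category.comp_id _))
  exact ⟨E', hE', hE'Pc,
    Groth.Agent.Lib.Helper25.TriIdem.nonempty_iso_biprod_of_idempotent_cone i p hip (J.map f) δ'' hT''⟩

end Groth.Agent.Lib.Helper25.ThomasonExt
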