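import Mathlib
import Groth.Agent.Lib.Helper25.ThomasonExt

/-!
# Thomason's theorem on perfect objects over quasi-affine-like schemes (helper25)

* `tg_of_range_subset`, `nonempty_restrictD_biprod_shift_iso`.
* `tg_of_locally`: on a qcqs scheme `Y` over `Spec A` covered by basic opens `D(a)`, `a ∈ l`, a perfect object lying in
  `TG` on each `D(a)` lies in `TG(Y)` (the thick triangulated class generated by the structure sheaf).
  Induction on `l`: extend `F|_{D(a)}` up to retracts, idempotent cone trick, lift over `D(a)`; the cone is supported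
  off `D(a)`, hence governed by the union of the remaining `D(b)` (Koszul cone of a power of `a`, full faithfulness of
  restriction on objects vanishing on `D(a)`).
-/

set_option autoImplicit false
universe u
open CategoryTheory CategoryTheory.Limits AlgebraicGeometry Opposite

attribute [local instance] HasDerivedCategory.standard

namespace Groth.Agent.Lib.Helper25.ThomasonMain

open Pretriangulated DerivedCategory TopologicalSpace Scheme.Modules ZeroObject
open Groth.Agent.Lib.Helper25.ApproxExtend Groth.Agent.Lib.helper25.DCohPerfect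
  Groth.Agent.Lib.Helper25.LiftOpenP Groth.Agent.Lib.Helper25.TriRetract
  Groth.Agent.Lib.helper25.DCohRestrict Groth.Agent.Lib.Helper25.HomVanNice
  Groth.Agent.Lib.Helper25.ThomasonTG Groth.Agent.Lib.Helper25.ApproxAffine
  Groth.Agent.Lib.Helper25.ThomasonExt Groth.Agent.Lib.Helper25.PowKill

variable (A : Type u) [CommRing A]

/-- transport of `TG` along a factorization of open immersions -/
lemma tg_of_range_subset {Y Z₁ Z₂ : Scheme.{u}} (g₁ : Z₁ ⟶ Y) (g₂ : Z₂ ⟶ Y) [IsOpenImmersion g₁]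
    [IsOpenImmersion g₂] (hr : Set.range g₁ ⊆ Set.range g₂) (P : DCoh.D Y)
    (h : TG Z₂ ((DCoh.restrictD g₂).obj P)) : TG Z₁ ((DCoh.restrictD g₁).obj P) := by
  let k := IsOpenImmersion.lift g₂ g₁ hr
  have hk : k ≫ g₂ = g₁ := IsOpenImmersion.lift_fac g₂ g₁ hr
  haveI : IsOpenImmersion (k ≫ g₂) := by rw [hk]; infer_instance
  haveI : IsOpenImmersion k := IsOpenImmersion.of_comp k g₂
  obtain ⟨e₁⟩ := nonempty_restrictD_congr_iso hk.symm P
  obtain ⟨e₂⟩ := nonempty_restrictD_comp_iso k g₂ P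
  exact (h.restrict k).of_iso (e₁ ≪≫ e₂).symm

/-- restriction commutes with `F ⊞ F[1]` -/
lemma nonempty_restrictD_biprod_shift_iso {Y Z : Scheme.{u}} (g : Z ⟶ Y) [IsOpenImmersion g]
    (F : DCoh.D Y) :
    Nonempty ((DCoh.restrictD g).obj (F ⊞ F⟦(1 : ℤ)⟧) ≅
      (DCoh.restrictD g).obj F ⊞ ((DCoh.restrictD g).obj F)⟦(1 : ℤ)⟧) := by
  haveI : PreservesBinaryBiproducts (DCoh.restrictD g) :=
    preservesBinaryBiproducts_of_preservesBiproducts _
  exact ⟨(DCoh.restrictD g).mapBiprod F (F⟦(1 : ℤ)⟧) ≪≫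
    biprod.mapIso (Iso.refl _) (((DCoh.restrictD g).commShiftIso (1 : ℤ)).app F)⟩

/-- **Thomason's theorem, intrinsic form**: on a qcqs scheme `Y` over `Spec A` covered by the basic opens `D(a)`, `a ∈ l`,
a perfect object which lies in `TG` on each `D(a)` lies in `TG(Y)` -/
theorem tg_of_locally (l : List A) : ∀ (Y : Scheme.{u}) [Y.Over (Spec (CommRingCat.of A))]
    [CompactSpace ↥Y] [QuasiSeparatedSpace ↥Y],
    (∀ x : Y, ∃ a ∈ l, x ∈ Y.basicOpen
      (show Γ(Y, ⊤) from Coh.toGlobal (Y ↘ Spec (CommRingCat.of A)) a)) →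
    ∀ (F : DCoh.D Y), DCoh.IsPerfect F →
    (∀ a ∈ l, TG (Y.basicOpen
        (show Γ(Y, ⊤) from Coh.toGlobal (Y ↘ Spec (CommRingCat.of A)) a))
      ((DCoh.restrictD (Y.basicOpen
        (show Γ(Y, ⊤) from Coh.toGlobal (Y ↘ Spec (CommRingCat.of A)) a)).ι).obj F)) →
    TG Y F := by
  induction l with
  | nil =>
    intro Y _ _ _ hcov F _ _
    haveI : IsEmpty Y := ⟨fun x => by obtain ⟨a, ha, -⟩ := hcov x; simp at ha⟩
    exact TG.zero _ (Groth.Agent.Lib.Helper25.HomVanQcqs.isZero_of_isEmpty F)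
  | cons a l' ih =>
    intro Y _ _ _ hcov F hF hloc
    let s := Y ↘ Spec (CommRingCat.of A)
    let DY : A → Y.Opens := fun b => Y.basicOpen (show Γ(Y, ⊤) from Coh.toGlobal s b)
    let D : Y.Opens := DY a
    let W' : Y.Opens := ⨆ b ∈ l', DY b
    have hDYc : ∀ b, IsCompact ((DY b : Y.Opens) : Set Y) := fun b =>
      isCompact_basicOpen Y (U := ⊤) (by simpa using isCompact_univ) _
    have hW'le : ∀ b ∈ l', DY b ≤ W' := fun b hb => le_iSup₂ (f := fun b _ => DY b) b hb
    have hW'cov : ∀ x ∈ W', ∃ b ∈ l', x ∈ DY b := by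
      intro x hx
      obtain ⟨b, hb⟩ := Opens.mem_iSup.1 hx
      obtain ⟨hbl, hxb⟩ := Opens.mem_iSup.1 hb
      exact ⟨b, hbl, hxb⟩
    have hW'c : IsCompact ((W' : Y.Opens) : Set Y) := by
      have h1 : ((W' : Y.Opens) : Set Y) = ⋃ b ∈ {b | b ∈ l'}, ((DY b : Y.Opens) : Set Y) := by
        ext x
        rw [Set.mem_iUnion₂]
        exact ⟨fun hx => by obtain ⟨b, hb, hxb⟩ := hW'cov x hx; exact ⟨b, hb, hxb⟩,
          fun ⟨b, hb, hxb⟩ => hW'le b hb hxb⟩
      rw [h1]
      exact (List.finite_toSet l').isCompact_biUnion (fun b _ => hDYc b)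
    have hcovY : D ⊔ W' = ⊤ := by
      rw [eq_top_iff]
      intro x _
      obtain ⟨b, hb, hxb⟩ := hcov x
      rcases List.mem_cons.1 hb with rfl | hb'
      · exact Or.inl hxb
      · exact Or.inr (hW'le b hb' hxb)
    have hDle : ∀ b ∈ [a], DY b ≤ D := by
      intro b hb
      rw [List.mem_singleton.1 hb]
    have hDcov : ∀ x ∈ D, ∃ b ∈ [a], x ∈ DY b := fun x hx => ⟨a, List.mem_singleton.2 rfl, hx⟩
    let JD := DCoh.restrictD D.ι
    -- (1) extension of `F|_D` up to retracts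
    obtain ⟨E'', hE'', i₀, p₀, h₀⟩ := exists_retract_extension A Y D (hDYc a) [a] hDle hDcov
      (hloc a List.mem_cons_self)
    -- (2) idempotent cone
    obtain ⟨E''', hE'''p, hE''', ⟨φ⟩⟩ := exists_extension_biprod_shift A Y triClass_TG D (hDYc a) [a]
      hDle hDcov E'' hE''.isPerfect hE'' i₀ p₀ h₀
    -- (3) lift the isomorphism `E'''|_D ≅ (F ⊞ F[1])|_D`
    let F₂ : DCoh.D Y := F ⊞ F⟦(1 : ℤ)⟧
    have hF₂ : DCoh.IsPerfect F₂ :=
      (isPerfect_two_out_of_three _ (binaryBiproductTriangle_distinguished F (F⟦(1 : ℤ)⟧))).2.1 hF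
        (isPerfect_shift hF 1)
    obtain ⟨ψ⟩ := nonempty_restrictD_biprod_shift_iso D.ι F
    obtain ⟨E₁, β, γ, hE₁p, hE₁, hJβ, hβγ⟩ := lift_P A Y triClass_TG D (hDYc a) [a] hDle hDcov E''' F₂
      hE'''p hE''' (isQCohD_of_isPerfect hF₂) (φ.hom ≫ ψ.inv)
    have hJγ : IsIso (JD.map γ) := by
      haveI : IsIso (JD.map β) := hJβ
      rw [← hβγ]
      infer_instance
    -- (4) the cone of `γ` vanishes on `D`
    obtain ⟨G, c, d, hTG⟩ := distinguished_cocone_triangle γ
    have hGp : DCoh.IsPerfect G := isPerfect_obj₃ _ hTG hE₁p hF₂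
    have hGD : IsZero (JD.obj G) := (Triangle.isZero₃_iff_isIso₁ _ (JD.map_distinguished _ hTG)).2 hJγ
    -- (5) `G ∈ TG(Y)`
    have hG : TG Y G := by
      letI : (W' : Scheme.{u}).Over (Spec (CommRingCat.of A)) := ⟨W'.ι ≫ s⟩
      haveI : CompactSpace ↥(W' : Scheme.{u}) := isCompact_iff_compactSpace.mp hW'c
      haveI : QuasiSeparatedSpace ↥(W' : Scheme.{u}) := W'.ι.isOpenEmbedding.quasiSeparatedSpace
      let JW := DCoh.restrictD W'.ι
      have hbo : ∀ b : A, (W' : Scheme.{u}).basicOpen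
          (show Γ((W' : Scheme.{u}), ⊤) from Coh.toGlobal (W'.ι ≫ s) b) = W'.ι ⁻¹ᵁ DY b := fun b =>
        (Scheme.preimage_basicOpen_top W'.ι _).symm
      have hG' : TG (W' : Scheme.{u}) (JW.obj G) := by
        refine ih (W' : Scheme.{u}) ?_ (JW.obj G)
          (Groth.Agent.Lib.Helper25.HomVanQcqs.isPerfect_restrictD W'.ι hGp) ?_
        · intro x
          obtain ⟨b, hb, hxb⟩ := hW'cov x.1 x.2
          refine ⟨b, hb, ?_⟩
          exact (hbo b).ge (show x ∈ W'.ι ⁻¹ᵁ DY b from hxb)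
        · intro b hb
          show TG _ ((DCoh.restrictD ((W' : Scheme.{u}).basicOpen
            (show Γ((W' : Scheme.{u}), ⊤) from Coh.toGlobal (W'.ι ≫ s) b)).ι).obj (JW.obj G))
          -- `G|_{D(b)} ∈ TG`
          have h1 : TG (DY b) ((DCoh.restrictD (DY b).ι).obj G) := by
            let Jb := DCoh.restrictD (DY b).ι
            have hFb : TG (DY b) (Jb.obj F) := hloc b (List.mem_cons_of_mem _ hb)
            obtain ⟨ψb⟩ := nonempty_restrictD_biprod_shift_iso (DY b).ι F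
            have hF₂b : TG (DY b) (Jb.obj F₂) := (hFb.biprod (hFb.shift 1)).of_iso ψb.symm
            exact TG.obj₃ _ (Jb.map_distinguished _ hTG) (hE₁.restrict _) hF₂b
          obtain ⟨e⟩ := nonempty_restrictD_comp_iso ((W' : Scheme.{u}).basicOpen
            (show Γ((W' : Scheme.{u}), ⊤) from Coh.toGlobal (W'.ι ≫ s) b)).ι W'.ι G
          refine TG.of_iso e (tg_of_range_subset _ (DY b).ι ?_ G h1)
          rintro _ ⟨x, rfl⟩
          have hx : x.1 ∈ W'.ι ⁻¹ᵁ DY b := (hbo b).le x.2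
          exact ⟨⟨W'.ι.base x.1, hx⟩, rfl⟩
      obtain ⟨E, hE, i', p', h'⟩ := exists_retract_extension A Y W' hW'c l' hW'le hW'cov hG'
      have hG'a : Tors A a (W' : Scheme.{u}) (W'.ι ≫ s) (JW.obj G) := tors_restrict s W' G hGD
      obtain ⟨E_a, hE_a, hE_aD, -, i'', p'', h''⟩ := exists_retract_cone_pow A Y a W' hW'c
        (Groth.Agent.Lib.Helper25.HomVanQcqs.isPerfect_restrictD W'.ι hGp) hG'a hE i' p' h'
      obtain ⟨i, p, hip⟩ := retract_of_restrict D W' hcovY hGD hE_aD i'' p'' h''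
      exact TG.retract _ _ i p hip hE_a
    have hF₂TG : TG Y F₂ := TG.tri _ hTG hE₁ hG
    exact TG.retract F F₂ biprod.inl biprod.fst biprod.inl_fst hF₂TG

end Groth.Agent.Lib.Helper25.ThomasonMain
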