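import Mathlib
import Groth.Agent.Lib.Helper25.ThomasonMain

/-!
# Thomason's extension theorem on an affine scheme (helper25)

`exists_perfect_extension_biprod_shift`: `X` affine, `W ⊆ X` a quasi-compact open, `P` perfect on `W` vanishing on
`W ∩ D(f)`, `f ∈ fs`.  Then `P ⊞ P[1] ≅ Q|_W` for a perfect `Q ∈ D(O_X)` vanishing on the `D(f)`.
(Nice cover of `W` by basic opens, `ThomasonMain.tg_of_locally`, extension up to retracts, Koszul cones for the
supports, idempotent cone trick.)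
-/

set_option autoImplicit false
universe u
open CategoryTheory CategoryTheory.Limits AlgebraicGeometry Opposite

attribute [local instance] HasDerivedCategory.standard

namespace Groth.Agent.Lib.Helper25.ThomasonAffine

open Pretriangulated DerivedCategory TopologicalSpace Scheme.Modules ZeroObject
open Groth.Agent.Lib.Helper25.ApproxExtend Groth.Agent.Lib.helper25.DCohPerfect
  Groth.Agent.Lib.Helper25.LiftOpenP Groth.Agent.Lib.Helper25.TriRetract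
  Groth.Agent.Lib.helper25.DCohRestrict Groth.Agent.Lib.Helper25.HomVanNice
  Groth.Agent.Lib.Helper25.ThomasonTG Groth.Agent.Lib.Helper25.ApproxAffine
  Groth.Agent.Lib.Helper25.ThomasonExt Groth.Agent.Lib.Helper25.PowKill
  Groth.Agent.Lib.Helper25.ThomasonMain

lemma tg_congr_open {Y : Scheme.{u}} {O₁ O₂ : Y.Opens} (h : O₁ = O₂) {P : DCoh.D Y}
    (h1 : TG O₁ ((DCoh.restrictD O₁.ι).obj P)) : TG O₂ ((DCoh.restrictD O₂.ι).obj P) := by
  subst h; exact h1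

lemma isZero_congr_open {Y : Scheme.{u}} {O₁ O₂ : Y.Opens} (h : O₁ = O₂) {P : DCoh.D Y}
    (h1 : IsZero ((DCoh.restrictD O₁.ι).obj P)) : IsZero ((DCoh.restrictD O₂.ι).obj P) := by
  subst h; exact h1

/-- **Thomason's extension theorem (affine case, with supports)**: `X` affine, `W ⊆ X` a quasi-compact open, `P` a
perfect object on `W` vanishing on `W ∩ D(f)` for `f ∈ fs`.  Then `P ⊞ P[1]` is the restriction of a perfect object of
`D(O_X)` vanishing on the `D(f)`, `f ∈ fs`. -/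
theorem exists_perfect_extension_biprod_shift (X : Scheme.{u}) [IsAffine X] (W : X.Opens)
    (hWc : IsCompact (W : Set X)) (fs : List Γ(X, ⊤)) (P : DCoh.D (W : Scheme.{u}))
    (hP : DCoh.IsPerfect P)
    (hPT : ∀ f ∈ fs, IsZero ((DCoh.restrictD (W.ι ⁻¹ᵁ X.basicOpen f).ι).obj P)) :
    ∃ Q : DCoh.D X, DCoh.IsPerfect Q ∧
      (∀ f ∈ fs, IsZero ((DCoh.restrictD (X.basicOpen f).ι).obj Q)) ∧
      Nonempty ((DCoh.restrictD W.ι).obj Q ≅ P ⊞ P⟦(1 : ℤ)⟧) := by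
  classical
  letI : X.Over (Spec (CommRingCat.of ↑Γ(X, ⊤))) := ⟨X.toSpecΓ⟩
  have hg : ∀ a : Γ(X, ⊤), (show Γ(X, ⊤) from
      Coh.toGlobal (X ↘ Spec (CommRingCat.of ↑Γ(X, ⊤))) a) = a := by
    intro a
    show (X.toSpecΓ.appTop.hom) ((Scheme.ΓSpecIso _).inv.hom a) = a
    rw [Scheme.toSpecΓ_appTop]
    exact congr($((Scheme.ΓSpecIso _).inv_hom_id) a)
  let s := X ↘ Spec (CommRingCat.of ↑Γ(X, ⊤))
  letI : (W : Scheme.{u}).Over (Spec (CommRingCat.of ↑Γ(X, ⊤))) := ⟨W.ι ≫ s⟩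
  haveI : CompactSpace ↥(W : Scheme.{u}) := isCompact_iff_compactSpace.mp hWc
  haveI : QuasiSeparatedSpace ↥(W : Scheme.{u}) := W.ι.isOpenEmbedding.quasiSeparatedSpace
  have hbo : ∀ b : Γ(X, ⊤), (W : Scheme.{u}).basicOpen
      (show Γ((W : Scheme.{u}), ⊤) from Coh.toGlobal (W.ι ≫ s) b) = W.ι ⁻¹ᵁ X.basicOpen b := by
    intro b
    have h1 : (W : Scheme.{u}).basicOpen
        (show Γ((W : Scheme.{u}), ⊤) from Coh.toGlobal (W.ι ≫ s) b) =
        W.ι ⁻¹ᵁ X.basicOpen (show Γ(X, ⊤) from Coh.toGlobal s b) :=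
      (Scheme.preimage_basicOpen_top W.ι _).symm
    rw [hg b] at h1
    exact h1
  -- a cover of `W` by basic opens on which `P` lies in `TG`
  have key : ∀ x : W, ∃ g : Γ(X, ⊤), x.1 ∈ X.basicOpen g ∧ X.basicOpen g ≤ W ∧
      TG (W.ι ⁻¹ᵁ X.basicOpen g) ((DCoh.restrictD (W.ι ⁻¹ᵁ X.basicOpen g).ι).obj P) := by
    intro x
    obtain ⟨O, c, hxO, -, hnice⟩ := exists_nice_nhd P hP x
    obtain ⟨_, ⟨_, ⟨g, rfl⟩, rfl⟩, hxg, hgO⟩ := (isBasis_basicOpen X).exists_subset_of_mem_open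
      (show x.1 ∈ ((W.ι ''ᵁ O : X.Opens) : Set X) from ⟨x, hxO, rfl⟩) (W.ι ''ᵁ O).isOpen
    have hgW : X.basicOpen g ≤ W := by
      intro y hy
      obtain ⟨z, -, rfl⟩ := hgO hy
      exact z.2
    refine ⟨g, hxg, hgW, tg_of_nice (nice_of_range_subset (W.ι ⁻¹ᵁ X.basicOpen g).ι O.ι ?_ P hnice)⟩
    rintro _ ⟨y, rfl⟩
    have hy : W.ι.base y.1 ∈ X.basicOpen g := y.2
    obtain ⟨z, hz, hzy⟩ := hgO hy
    have : z = y.1 := W.ι.isOpenEmbedding.injective hzy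
    exact ⟨⟨y.1, this ▸ hz⟩, rfl⟩
  choose g hxg hgW hTGg using key
  obtain ⟨t, ht⟩ := hWc.elim_finite_subcover (fun x : W => ((X.basicOpen (g x) : X.Opens) : Set X))
    (fun x => (X.basicOpen (g x)).isOpen) (fun y hy => Set.mem_iUnion.2 ⟨⟨y, hy⟩, hxg ⟨y, hy⟩⟩)
  let l : List ↑Γ(X, ⊤) := t.toList.map g
  have hl : ∀ a ∈ l, ∃ x : W, g x = a := by
    intro a ha
    obtain ⟨x, -, rfl⟩ := List.mem_map.1 ha
    exact ⟨x, rfl⟩
  have hle : ∀ a ∈ l, X.basicOpen (show Γ(X, ⊤) from Coh.toGlobal s a) ≤ W := by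
    intro a ha
    obtain ⟨x, rfl⟩ := hl a ha
    rw [hg]
    exact hgW x
  have hcov : ∀ x ∈ W, ∃ a ∈ l, x ∈ X.basicOpen (show Γ(X, ⊤) from Coh.toGlobal s a) := by
    intro x hx
    obtain ⟨y, hy⟩ := Set.mem_iUnion.1 (ht hx)
    obtain ⟨hyt, hxy⟩ := Set.mem_iUnion.1 hy
    refine ⟨g y, List.mem_map.2 ⟨y, Finset.mem_toList.2 hyt, rfl⟩, ?_⟩
    rw [hg]
    exact hxy
  -- `P ∈ TG(W)`
  have hTG : TG (W : Scheme.{u}) P := by
    refine tg_of_locally ↑Γ(X, ⊤) l (W : Scheme.{u}) ?_ P hP ?_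
    · intro x
      obtain ⟨a, ha, hxa⟩ := hcov x.1 x.2
      refine ⟨a, ha, (hbo a).ge ?_⟩
      rw [hg] at hxa
      exact hxa
    · intro a ha
      obtain ⟨x, rfl⟩ := hl a ha
      exact tg_congr_open (hbo (g x)).symm (hTGg x)
  obtain ⟨E, hE, i, p, hip⟩ := exists_retract_extension ↑Γ(X, ⊤) X W hWc l hle hcov hTG
  -- supports
  have hsupp : ∀ fs' : List ↑Γ(X, ⊤), (∀ f ∈ fs', f ∈ fs) → ∃ E' : DCoh.D X, TG X E' ∧
      (∀ f ∈ fs', IsZero ((DCoh.restrictD (X.basicOpen f).ι).obj E')) ∧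
      ∃ (i : P ⟶ (DCoh.restrictD W.ι).obj E') (p : (DCoh.restrictD W.ι).obj E' ⟶ P), i ≫ p = 𝟙 P := by
    intro fs'
    induction fs' with
    | nil => intro _; exact ⟨E, hE, fun f hf => by simp at hf, i, p, hip⟩
    | cons f fs'' ih =>
      intro hsub
      obtain ⟨E', hE', hz', i', p', hip'⟩ := ih (fun f' hf' => hsub f' (List.mem_cons_of_mem _ hf'))
      have hPf : Tors ↑Γ(X, ⊤) f (W : Scheme.{u}) (W.ι ≫ s) P :=
        isZero_congr_open (hbo f).symm (hPT f (hsub f List.mem_cons_self))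
      obtain ⟨E_f, hE_f, hzf, hpres, i'', p'', hip''⟩ :=
        exists_retract_cone_pow ↑Γ(X, ⊤) X f W hWc hP hPf hE' i' p' hip'
      refine ⟨E_f, hE_f, ?_, i'', p'', hip''⟩
      intro f' hf'
      rcases List.mem_cons.1 hf' with rfl | h'
      · exact isZero_congr_open (congrArg X.basicOpen (hg f')) hzf
      · exact hpres _ (hz' f' h')
  obtain ⟨E_T, hE_T, hE_Tz, i, p, hip⟩ := hsupp fs (fun _ h => h)
  -- idempotent cone within the class of objects vanishing on the `D(f)`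
  let Pc : DCoh.D X → Prop := fun K => ∀ f ∈ fs, IsZero ((DCoh.restrictD (X.basicOpen f).ι).obj K)
  have hPc : TriClass Pc :=
    ⟨fun T hT h1 h2 f hf => Triangle.isZero₃_of_isZero₁₂ _
        ((DCoh.restrictD (X.basicOpen f).ι).map_distinguished _ hT) (h1 f hf) (h2 f hf),
      fun T hT h2 h3 f hf => Triangle.isZero₁_of_isZero₂₃ _
        ((DCoh.restrictD (X.basicOpen f).ι).map_distinguished _ hT) (h2 f hf) (h3 f hf)⟩
  obtain ⟨Q, hQ, hQPc, hQiso⟩ := exists_extension_biprod_shift ↑Γ(X, ⊤) X hPc W hWc l hle hcov E_T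
    hE_T.isPerfect hE_Tz i p hip
  exact ⟨Q, hQ, hQPc, hQiso⟩

end Groth.Agent.Lib.Helper25.ThomasonAffine
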