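import Mathlib
import Groth.Agent.Lib.Helper25.ThomasonAffine
import Groth.Agent.Lib.Helper25.LiftCover
import Groth.Agent.Lib.Helper25.GlueOpens2
import Groth.Agent.Lib.Helper25.ApproxAffine
import Groth.Agent.Lib.Helper8.PushSupp
import Groth.Agent.S7261

/-!
# Approximation by perfect complexes: the gluing step (helper25)

Stacks 08ER.  `X = U ∪ V` with `V` affine, `U` and `U ∩ V` quasi-compact.

* `isZero_restrictD_of_range_subset`, `isZero_restrictD_of_cover`, `isZero_restrictD_biprod_shift`: vanishing loci.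
* `exists_glued_lift`: a perfect `P` on `U` vanishing on `U ∩ O` with `α : P ⟶ E|_U` gives a perfect `R` on `X`
  vanishing on `O`, `ρ : R ⟶ E` and `θ : R|_U ≅ P ⊞ P[1]` with `ρ|_U = θ ≫ fst ≫ α` (Thomason's trick + gluing + lifting).
* `mem_support_restrict_iff`, `mem_support_HD_restrictD_iff`, `isZero_HD_restrictD_iff`: supports and restriction.
* `Approx O E m`; `approx_base` (base case via the affine approximation S7261 and `ApproxExtend.approx_extend`).
* `isoAbove_glued`, `approx_cover_aux` (induction on the top degree of `E|_U`), `approx_cover` (the statement of S7266).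
-/

set_option autoImplicit false
universe u
open CategoryTheory CategoryTheory.Limits AlgebraicGeometry Opposite

attribute [local instance] HasDerivedCategory.standard

namespace Groth.Agent.Lib.Helper25.ApproxCover

open Pretriangulated DerivedCategory TopologicalSpace Scheme.Modules ZeroObject
open Groth.Agent.Lib.Helper25.ApproxExtend Groth.Agent.Lib.helper25.DCohPerfect
  Groth.Agent.Lib.helper25.DCohRestrict Groth.Agent.Lib.Helper25.VanLocus
  Groth.Agent.Lib.Helper25.ThomasonAffine Groth.Agent.Lib.Helper25.ThomasonMain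
  Groth.Agent.Lib.Helper25.LiftCover Groth.Agent.Lib.Helper25.GlueOpens2
  Groth.Agent.Lib.helper25.IsoAbove Groth.Agent.Lib.Helper25.DerBC

variable {X : Scheme.{u}}

/-- an object vanishing on `O'` vanishes along every open immersion with image in `O'` -/
lemma isZero_restrictD_of_range_subset {Y Z : Scheme.{u}} (g : Z ⟶ Y) [IsOpenImmersion g]
    (O' : Y.Opens) (hr : Set.range g.base ⊆ (O' : Set Y)) (K : DCoh.D Y)
    (hK : IsZero ((DCoh.restrictD O'.ι).obj K)) : IsZero ((DCoh.restrictD g).obj K) := by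
  have hr' : Set.range g.base ⊆ Set.range O'.ι.base := by
    rw [Scheme.Opens.range_ι]; exact hr
  let l := IsOpenImmersion.lift O'.ι g hr'
  have hl : l ≫ O'.ι = g := IsOpenImmersion.lift_fac _ _ _
  haveI : IsOpenImmersion (l ≫ O'.ι) := by rw [hl]; infer_instance
  haveI : IsOpenImmersion l := IsOpenImmersion.of_comp l O'.ι
  obtain ⟨c⟩ := nonempty_restrictD_comp_iso l O'.ι K
  obtain ⟨d⟩ := nonempty_restrictD_congr_iso hl.symm K
  exact IsZero.of_iso ((DCoh.restrictD l).map_isZero hK) (d ≪≫ c)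

/-- vanishing on an open `O` can be checked on a two-member open cover -/
lemma isZero_restrictD_of_cover (K : DCoh.D X) (O U V : X.Opens) (hUV : U ⊔ V = ⊤)
    (hU : IsZero ((DCoh.restrictD (U.ι ⁻¹ᵁ O).ι).obj ((DCoh.restrictD U.ι).obj K)))
    (hV : IsZero ((DCoh.restrictD (V.ι ⁻¹ᵁ O).ι).obj ((DCoh.restrictD V.ι).obj K))) :
    IsZero ((DCoh.restrictD O.ι).obj K) := by
  rw [isZero_restrictD_restrictD_iff, Scheme.Hom.image_preimage_eq_opensRange_inf,
    Scheme.Opens.opensRange_ι] at hU hV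
  refine VanLocus.isZero_of_cover _ (O.ι ⁻¹ᵁ U) (O.ι ⁻¹ᵁ V) ?_ ?_ ?_
  · rw [← Scheme.Hom.preimage_sup, hUV]; rfl
  · rw [isZero_restrictD_restrictD_iff, Scheme.Hom.image_preimage_eq_opensRange_inf,
      Scheme.Opens.opensRange_ι]
    exact isZero_congr_open (inf_comm U O) hU
  · rw [isZero_restrictD_restrictD_iff, Scheme.Hom.image_preimage_eq_opensRange_inf,
      Scheme.Opens.opensRange_ι]
    exact isZero_congr_open (inf_comm V O) hV

/-- `P ⊞ P[1]` vanishes wherever `P` does -/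
lemma isZero_restrictD_biprod_shift {Y Z : Scheme.{u}} (g : Z ⟶ Y) [IsOpenImmersion g] (P : DCoh.D Y)
    (hP : IsZero ((DCoh.restrictD g).obj P)) :
    IsZero ((DCoh.restrictD g).obj (P ⊞ P⟦(1 : ℤ)⟧)) := by
  obtain ⟨e⟩ := nonempty_restrictD_biprod_shift_iso g P
  refine IsZero.of_iso ?_ e
  have h1 : IsZero (((DCoh.restrictD g).obj P)⟦(1 : ℤ)⟧) := Functor.map_isZero _ hP
  exact Triangle.isZero₂_of_isZero₁₃ _ (binaryBiproductTriangle_distinguished _ _) hP h1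

/-- **the gluing step**: `X = U ∪ V` with `V` affine and `U ∩ V`, `V ∩ O` quasi-compact; `P` perfect on `U` vanishing on
`U ∩ O`, `α : P ⟶ E|_U`.  Then there are a perfect `R` on `X` vanishing on `O`, `ρ : R ⟶ E` and an isomorphism
`θ : R|_U ≅ P ⊞ P[1]` with `ρ|_U = θ ≫ fst ≫ α`. -/
theorem exists_glued_lift (U V : X.Opens) (hV : IsAffineOpen V)
    (hUVc : IsCompact ((U ⊓ V : X.Opens) : Set X)) (hcov : U ⊔ V = ⊤) (O : X.Opens)
    (hOV : IsCompact ((V ⊓ O : X.Opens) : Set X))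
    (E : DCoh.D X) (hE : DCoh.IsQCohD E) (P : DCoh.D (U : Scheme.{u})) (hP : DCoh.IsPerfect P)
    (hPO : IsZero ((DCoh.restrictD (U.ι ⁻¹ᵁ O).ι).obj P)) (α : P ⟶ (DCoh.restrictD U.ι).obj E) :
    ∃ (R : DCoh.D X) (ρ : R ⟶ E) (θ : (DCoh.restrictD U.ι).obj R ≅ P ⊞ P⟦(1 : ℤ)⟧),
      DCoh.IsPerfect R ∧ IsZero ((DCoh.restrictD O.ι).obj R) ∧
      (DCoh.restrictD U.ι).map ρ = θ.hom ≫ biprod.fst ≫ α := by
  classical
  haveI : IsAffine (V : Scheme.{u}) := hV
  let WV : (V : Scheme.{u}).Opens := V.ι ⁻¹ᵁ U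
  have himg : V.ι ''ᵁ WV = U ⊓ V := by
    rw [Scheme.Hom.image_preimage_eq_opensRange_inf, Scheme.Opens.opensRange_ι, inf_comm]
  have hWVc : IsCompact (WV : Set (V : Scheme.{u})) := by
    rw [V.ι.isOpenEmbedding.isEmbedding.isCompact_iff]
    have : (V.ι.base '' (WV : Set (V : Scheme.{u}))) = ((U ⊓ V : X.Opens) : Set X) := by
      rw [← himg]; rfl
    rw [this]
    exact hUVc
  -- the open immersion `U ∩ V ⟶ U`
  have hrk : Set.range (WV.ι ≫ V.ι).base ⊆ Set.range U.ι.base := by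
    rintro _ ⟨x, rfl⟩
    rw [Scheme.Opens.range_ι]
    exact x.2
  let k' : (WV : Scheme.{u}) ⟶ (U : Scheme.{u}) := IsOpenImmersion.lift U.ι (WV.ι ≫ V.ι) hrk
  have hk' : k' ≫ U.ι = WV.ι ≫ V.ι := IsOpenImmersion.lift_fac _ _ _
  haveI : IsOpenImmersion (k' ≫ U.ι) := by rw [hk']; infer_instance
  haveI : IsOpenImmersion k' := IsOpenImmersion.of_comp k' U.ι
  have hk'x : ∀ x : (WV : Scheme.{u}), U.ι.base (k'.base x) = V.ι.base (WV.ι.base x) := fun x => by
    have := congrArg (fun f => f.base x) hk'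
    simpa using this
  let PW := (DCoh.restrictD k').obj P
  have hPW : DCoh.IsPerfect PW := Groth.Agent.Lib.Helper25.HomVanQcqs.isPerfect_restrictD k' hP
  -- `V ∩ O` as a union of basic opens of `V`
  let OV : (V : Scheme.{u}).Opens := V.ι ⁻¹ᵁ O
  have hOVc : IsCompact (OV : Set (V : Scheme.{u})) := by
    rw [V.ι.isOpenEmbedding.isEmbedding.isCompact_iff]
    have h1 : V.ι ''ᵁ OV = V ⊓ O := by
      rw [Scheme.Hom.image_preimage_eq_opensRange_inf, Scheme.Opens.opensRange_ι]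
    have : (V.ι.base '' (OV : Set (V : Scheme.{u}))) = ((V ⊓ O : X.Opens) : Set X) := by
      rw [← h1]; rfl
    rw [this]
    exact hOV
  obtain ⟨sT, hsT, hOVs⟩ := isCompact_and_isOpen_iff_finite_and_eq_biUnion_basicOpen.mp
    ⟨hOVc, OV.isOpen⟩
  let fsT : List ↑Γ((V : Scheme.{u}), ⊤) := hsT.toFinset.toList
  have hfsT : ∀ f, f ∈ fsT ↔ f ∈ sT := fun f => by simp [fsT]
  have hfle : ∀ f ∈ fsT, (V : Scheme.{u}).basicOpen f ≤ OV := by
    intro f hf x hx
    have : x ∈ (OV : Set (V : Scheme.{u})) := by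
      rw [hOVs]; exact Set.mem_biUnion ((hfsT f).1 hf) hx
    exact this
  have hfcov : ∀ x ∈ OV, ∃ f ∈ fsT, x ∈ (V : Scheme.{u}).basicOpen f := by
    intro x hx
    have hx' : x ∈ ⋃ i ∈ sT, ((V : Scheme.{u}).basicOpen i : Set (V : Scheme.{u})) := by
      rw [← hOVs]; exact hx
    obtain ⟨f, hf, hxf⟩ := Set.mem_iUnion₂.1 hx'
    exact ⟨f, (hfsT f).2 hf, hxf⟩
  -- `P|_{U ∩ V}` vanishes on the `D(f)`
  have hPT : ∀ f ∈ fsT, IsZero ((DCoh.restrictD (WV.ι ⁻¹ᵁ (V : Scheme.{u}).basicOpen f).ι).obj PW) := by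
    intro f hf
    obtain ⟨c⟩ := nonempty_restrictD_comp_iso (WV.ι ⁻¹ᵁ (V : Scheme.{u}).basicOpen f).ι k' P
    refine IsZero.of_iso ?_ c.symm
    refine isZero_restrictD_of_range_subset _ (U.ι ⁻¹ᵁ O) ?_ P hPO
    rintro _ ⟨x, rfl⟩
    have hx : WV.ι.base x.1 ∈ (V : Scheme.{u}).basicOpen f := x.2
    have h2 : V.ι.base (WV.ι.base x.1) ∈ O := hfle f hf hx
    show U.ι.base (k'.base x.1) ∈ O
    rw [hk'x]
    exact h2
  obtain ⟨Q, hQ, hQz, ⟨eQ⟩⟩ := exists_perfect_extension_biprod_shift (V : Scheme.{u}) WV hWVc fsT PW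
    hPW hPT
  have hQO : IsZero ((DCoh.restrictD OV.ι).obj Q) := by
    refine Groth.Agent.Lib.Helper25.SchKInj.isZero_restrictD_of_support OV Q (fun i x hx hxO => ?_)
    obtain ⟨f, hf, hxf⟩ := hfcov x hxO
    exact Groth.Agent.Lib.Helper25.SchKInj.support_HD_restrictD _ Q (hQz f hf) i hx hxf
  -- gluing
  obtain ⟨ψ⟩ := nonempty_restrictD_biprod_shift_iso k' P
  let P₂ : DCoh.D (U : Scheme.{u}) := P ⊞ P⟦(1 : ℤ)⟧
  have hP₂ : DCoh.IsPerfect P₂ :=
    (isPerfect_two_out_of_three _ (binaryBiproductTriangle_distinguished P (P⟦(1 : ℤ)⟧))).2.1 hP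
      (isPerfect_shift hP 1)
  obtain ⟨R₀, ⟨eU⟩, ⟨eV⟩⟩ := exists_glue' U V k' WV.ι hk'.symm
    (by
      intro x hx
      have hxV : U.ι.base x ∈ V := hx
      have hxU : U.ι.base x ∈ U := x.2
      let y : (WV : Scheme.{u}) := ⟨⟨U.ι.base x, hxV⟩, hxU⟩
      refine ⟨y, U.ι.isOpenEmbedding.injective ?_⟩
      rw [hk'x]
      rfl)
    (by rw [Scheme.Opens.opensRange_ι])
    P₂ Q (ψ ≪≫ eQ.symm)
  have hR₀ : DCoh.IsPerfect R₀ := isPerfect_of_cover R₀ U V hcov
    (isPerfect_of_iso eU.symm hP₂) (isPerfect_of_iso eV.symm hQ)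
  have hR₀O : IsZero ((DCoh.restrictD O.ι).obj R₀) := by
    refine isZero_restrictD_of_cover R₀ O U V hcov ?_ ?_
    · exact IsZero.of_iso (isZero_restrictD_biprod_shift _ P hPO) ((DCoh.restrictD _).mapIso eU)
    · exact IsZero.of_iso hQO ((DCoh.restrictD _).mapIso eV)
  -- lifting the morphism
  obtain ⟨R₁, β, ρ, hR₁, hJβ, hβρ, hvan⟩ := lift_cover U V hV hUVc hcov R₀ E hR₀ hE
    (eU.hom ≫ biprod.fst ≫ α)
  haveI : IsIso ((DCoh.restrictD U.ι).map β) := hJβ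
  refine ⟨R₁, ρ, asIso ((DCoh.restrictD U.ι).map β) ≪≫ eU, hR₁, hvan O hR₀O, ?_⟩
  rw [← hβρ]
  simp

/-- the support of the restriction of a module to an open -/
lemma mem_support_restrict_iff (M : X.Modules) (V : X.Opens) (y : (V : Scheme.{u})) :
    y ∈ CohB1.support ((restrictFunctor V.ι).obj M) ↔ V.ι.base y ∈ CohB1.support M := by
  have hb : Function.Bijective (((restrictStalkNatIso V.ι y).hom.app M).hom) :=
    ConcreteCategory.bijective_of_isIso ((restrictStalkNatIso V.ι y).hom.app M)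
  show ¬ Subsingleton _ ↔ ¬ Subsingleton _
  rw [not_iff_not]
  exact ⟨fun h => @Function.Surjective.subsingleton _ _ _ h hb.surjective,
    fun h => @Function.Injective.subsingleton _ _ _ hb.injective h⟩

/-- the supports of the cohomology sheaves of a restriction -/
lemma mem_support_HD_restrictD_iff (V : X.Opens) (E : DCoh.D X) (i : ℤ) (y : (V : Scheme.{u})) :
    y ∈ CohB1.support (DCoh.HD ((DCoh.restrictD V.ι).obj E) i) ↔
      V.ι.base y ∈ CohB1.support (DCoh.HD E i) := by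
  obtain ⟨e⟩ := nonempty_homology_mapDerivedCategory_iso (restrictFunctor V.ι) E i
  have h := Groth.Agent.Lib.helper8.StalkLen.support_eq_of_iso e
  rw [← mem_support_restrict_iff]
  exact ⟨fun hy => h.le hy, fun hy => h.ge hy⟩

/-- vanishing of a cohomology sheaf of a restriction in terms of supports -/
lemma isZero_HD_restrictD_iff (W : X.Opens) (E : DCoh.D X) (i : ℤ) :
    IsZero (DCoh.HD ((DCoh.restrictD W.ι).obj E) i) ↔
      CohB1.support (DCoh.HD E i) ⊆ (W : Set X)ᶜ := by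
  obtain ⟨e⟩ := nonempty_homology_mapDerivedCategory_iso (restrictFunctor W.ι) E i
  rw [← Groth.Agent.Lib.helper7.RestrictSupport.isZero_restrict_iff_support]
  exact ⟨fun h => IsZero.of_iso h e.symm, fun h => IsZero.of_iso h e⟩

/-- approximation of `E` to order `m` by a perfect object vanishing on the open `O` -/
def Approx (O : X.Opens) (E : DCoh.D X) (m : ℤ) : Prop :=
  ∃ (P : DCoh.D X) (α : P ⟶ E), DCoh.IsPerfect P ∧ IsZero ((DCoh.restrictD O.ι).obj P) ∧ IsoAbove m α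

/-- **base case**: if the cohomology sheaves `Hⁱ(E)`, `i > m - |fs|`, vanish on `O ∪ U`, where `V ∖ (O ∪ U)` is the zero
locus of `fs` and `X = U ∪ V`, then `E` can be approximated. -/
theorem approx_base (U V : X.Opens) (hV : IsAffineOpen V) (hcov : U ⊔ V = ⊤) (O : X.Opens)
    (fs : Finset ↑Γ((V : Scheme.{u}), ⊤))
    (hfs : ∀ y : (V : Scheme.{u}), V.ι.base y ∈ O ⊔ U ↔ ∃ f ∈ fs, y ∈ (V : Scheme.{u}).basicOpen f)
    (m : ℤ) (E : DCoh.D X) (hE : DCoh.IsQCohD E) (hpc : DCoh.IsPseudoCoherentD m E)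
    (hOU : ∀ i : ℤ, m - (fs.card : ℤ) ≤ i →
      CohB1.support (DCoh.HD E i) ⊆ ((O ⊔ U : X.Opens) : Set X)ᶜ) :
    Approx O E m := by
  haveI : IsAffine (V : Scheme.{u}) := hV
  have hzl : ∀ y : (V : Scheme.{u}), y ∈ (V : Scheme.{u}).zeroLocus (U := ⊤)
      (↑fs : Set ↑Γ((V : Scheme.{u}), ⊤)) ↔ V.ι.base y ∉ O ⊔ U := by
    intro y
    rw [Scheme.mem_zeroLocus_iff, hfs]
    push Not
    rfl
  obtain ⟨P, α, hP, hPs, hiso, hepi⟩ := Groth.Agent.S7261.result (V : Scheme.{u}) fs m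
    ((DCoh.restrictD V.ι).obj E)
    (Groth.Agent.Lib.Helper25.RGZ4.isQCohD_restrictD V.ι E hE)
    (Groth.Agent.Lib.helper25.PerfectTor.isPseudoCoherentD_restrictD hpc V)
    (fun i hi y hy => by
      rw [hzl]
      rw [mem_support_HD_restrictD_iff] at hy
      exact hOU i (by omega) hy)
  let T' : Set X := ((O ⊔ U : X.Opens) : Set X)ᶜ
  have hT' : IsClosed T' := (O ⊔ U : X.Opens).isOpen.isClosed_compl
  have hT'V : T' ⊆ (V : Set X) := by
    intro x hx
    have h1 : x ∈ U ⊔ V := by rw [hcov]; trivial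
    rcases h1 with h1 | h1
    · exact absurd (Or.inr h1 : x ∈ O ⊔ U) hx
    · exact h1
  obtain ⟨P', α', hP', hP's, hiso', hepi'⟩ := approx_extend V T' hT' hT'V E m P α hP
    (fun i y hy => (hzl y).1 (hPs i hy)) hiso hepi
    (fun i hi => hOU i (by have := fs.card.cast_nonneg (α := ℤ); omega))
  refine ⟨P', α', hP', ?_, hiso', hepi'⟩
  refine Groth.Agent.Lib.Helper25.SchKInj.isZero_restrictD_of_support O P' (fun i x hx hxO => ?_)
  exact hP's i hx (Or.inl hxO)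

/-- the map `θ ≫ fst ≫ α : R ≅ P ⊞ P[1] ⟶ P ⟶ E` is an isomorphism above `t` if `α` is one above `m₁ ≤ t` and
`Hⁱ(E) = 0` for `i > t` -/
lemma isoAbove_glued {Y : Scheme.{u}} {P E R : DCoh.D Y} (α : P ⟶ E) (θ : R ≅ P ⊞ P⟦(1 : ℤ)⟧)
    (m₁ t : ℤ) (h : m₁ ≤ t) (hα : IsoAbove m₁ α) (hE : ∀ i : ℤ, t < i → IsZero (DCoh.HD E i)) :
    IsoAbove t (θ.hom ≫ biprod.fst ≫ α) := by
  let t' : Triangulated.TStructure (DCoh.D Y) := TStructure.t
  have hP : ∀ i : ℤ, t < i → IsZero (DCoh.HD P i) := fun i hi => by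
    haveI := hα.isIso i (by omega)
    exact IsZero.of_iso (hE i hi) (asIso ((homologyFunctor _ i).map α))
  have hPLE : t'.IsLE P t := (DerivedCategory.isLE_iff _ _).2 hP
  have h1 : t'.IsLE (P⟦(1 : ℤ)⟧) (t - 1) := t'.isLE_shift P t 1 (t - 1) (by omega)
  have h1' : t'.IsLE (P⟦(1 : ℤ)⟧) t := t'.isLE_of_le _ (t - 1) t (by omega)
  have h2 : t'.IsLE (P ⊞ P⟦(1 : ℤ)⟧) t :=
    t'.isLE₂ _ (binaryBiproductTriangle_distinguished _ _) t hPLE h1'
  have h3 : t'.IsLE R t := t'.isLE_of_iso θ.symm t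
  have hR := (DerivedCategory.isLE_iff R t).1 h3
  refine ⟨fun i hi => isIso_of_isZero _ (hR i hi) (hE i hi), ?_⟩
  rw [Functor.map_comp, Functor.map_comp]
  haveI : Epi ((homologyFunctor _ t).map α) := hα.epi t h
  haveI : IsSplitEpi (biprod.fst : P ⊞ P⟦(1 : ℤ)⟧ ⟶ P) :=
    IsSplitEpi.mk' ⟨biprod.inl, biprod.inl_fst⟩
  infer_instance

/-- **the induction on the top degree of `E|_U`** -/
theorem approx_cover_aux (U V : X.Opens) (hV : IsAffineOpen V)
    (hUVc : IsCompact ((U ⊓ V : X.Opens) : Set X)) (hcov : U ⊔ V = ⊤) (O : X.Opens)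
    (hOV : IsCompact ((V ⊓ O : X.Opens) : Set X))
    (fs : Finset ↑Γ((V : Scheme.{u}), ⊤))
    (hfs : ∀ y : (V : Scheme.{u}), V.ι.base y ∈ O ⊔ U ↔ ∃ f ∈ fs, y ∈ (V : Scheme.{u}).basicOpen f)
    (rU : ℤ) (hrU : 0 ≤ rU)
    (hAU : ∀ (m : ℤ) (E : DCoh.D (U : Scheme.{u})), DCoh.IsQCohD E → DCoh.IsPseudoCoherentD (m - rU) E →
      (∀ i : ℤ, m - rU ≤ i →
        CohB1.support (DCoh.HD E i) ⊆ ((U.ι ⁻¹ᵁ O : (U : Scheme.{u}).Opens) : Set (U : Scheme.{u}))ᶜ) →
      Approx (U.ι ⁻¹ᵁ O) E m)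
    (m : ℤ) : ∀ (N : ℕ) (E : DCoh.D X), DCoh.IsQCohD E →
      DCoh.IsPseudoCoherentD (m - (rU + (fs.card : ℤ))) E →
      (∀ i : ℤ, m - (rU + (fs.card : ℤ)) ≤ i → CohB1.support (DCoh.HD E i) ⊆ (O : Set X)ᶜ) →
      (∀ i : ℤ, m - (fs.card : ℤ) + (N : ℤ) ≤ i → CohB1.support (DCoh.HD E i) ⊆ (U : Set X)ᶜ) →
      Approx O E m
  | 0, E, hE, hpc, hO, hU => by
    refine approx_base U V hV hcov O fs hfs m E hE
      (Groth.Agent.Lib.helper25.DCohPC4.isPseudoCoherentD_mono hpc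
        (by have := fs.card.cast_nonneg (α := ℤ); omega)) (fun i hi x hx hxOU => ?_)
    rcases hxOU with h | h
    · exact hO i (by omega) hx h
    · exact hU i (by simpa using hi) hx h
  | N + 1, E, hE, hpc, hO, hU => by
    set c : ℤ := (fs.card : ℤ) with hc
    have hc0 : 0 ≤ c := fs.card.cast_nonneg (α := ℤ)
    let t : ℤ := m - c + (N : ℤ)
    let m₁ : ℤ := min m t
    have hm₁m : m₁ ≤ m := min_le_left _ _
    have hm₁t : m₁ ≤ t := min_le_right _ _
    have hm₁ : m - c ≤ m₁ := le_min (by omega) (by show m - c ≤ m - c + (N : ℤ); omega)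
    let J := DCoh.restrictD U.ι
    -- approximation on `U`
    obtain ⟨P, α, hP, hPO, hα⟩ := hAU m₁ (J.obj E)
      (Groth.Agent.Lib.Helper25.RGZ4.isQCohD_restrictD U.ι E hE)
      (Groth.Agent.Lib.helper25.DCohPC4.isPseudoCoherentD_mono
        (Groth.Agent.Lib.helper25.PerfectTor.isPseudoCoherentD_restrictD hpc U) (by omega))
      (fun i hi y hy hyO => by
        rw [mem_support_HD_restrictD_iff] at hy
        exact hO i (by omega) hy hyO)
    -- glue and lift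
    obtain ⟨R, ρ, θ, hR, hRO, hρ⟩ := exists_glued_lift U V hV hUVc hcov O hOV E hE P hP hPO α
    obtain ⟨E', β, δ, hT⟩ := distinguished_cocone_triangle ρ
    have hEU : ∀ i : ℤ, t < i → IsZero (DCoh.HD (J.obj E) i) := fun i hi =>
      (isZero_HD_restrictD_iff U E i).2 (hU i (by push_cast; show m - c + ((N : ℤ) + 1) ≤ i; omega))
    have hIA : IsoAbove t (J.map ρ) := by
      rw [hρ]
      exact isoAbove_glued α θ m₁ t hm₁t hα hEU
    have hE' : DCoh.IsQCohD E' :=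
      Groth.Agent.H1.WSerreTri.cohIn_obj₂ (P := Groth.Agent.S1007.QC X) _ (rot_of_distTriang _ hT) hE
        (Groth.Agent.Lib.Helper25.HomVanMV.isQCohD_shift R
          (Groth.Agent.Lib.Helper25.ApproxAffine.isQCohD_of_isPerfect hR) 1)
    have hpc' : DCoh.IsPseudoCoherentD (m - (rU + c)) E' :=
      Groth.Agent.Lib.helper25.DCohPC3.isPseudoCoherentD_obj₃ _ hT _
        (Groth.Agent.Lib.helper25.PerfectTor.isPseudoCoherentD_of_isPerfect hR _) hpc
    have hO' : ∀ i : ℤ, m - (rU + c) ≤ i → CohB1.support (DCoh.HD E' i) ⊆ (O : Set X)ᶜ := by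
      intro i hi
      rw [← isZero_HD_restrictD_iff]
      haveI hJβ : IsIso ((DCoh.restrictD O.ι).map β) :=
        (Triangle.isZero₁_iff_isIso₂ _ ((DCoh.restrictD O.ι).map_distinguished _ hT)).1 hRO
      exact IsZero.of_iso ((isZero_HD_restrictD_iff O E i).2 (hO i hi))
        ((homologyFunctor _ i).mapIso (asIso ((DCoh.restrictD O.ι).map β))).symm
    have hU' : ∀ i : ℤ, m - c + (N : ℤ) ≤ i → CohB1.support (DCoh.HD E' i) ⊆ (U : Set X)ᶜ := by
      intro i hi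
      rw [← isZero_HD_restrictD_iff]
      exact (isoAbove_iff_cone _ (J.map_distinguished _ hT) t).1 hIA i hi
    obtain ⟨P', α', hP', hP'O, hα'⟩ := approx_cover_aux U V hV hUVc hcov O hOV fs hfs rU hrU hAU m N E'
      hE' hpc' hO' hU'
    exact Groth.Agent.Lib.Helper25.ApproxAffine.octa_step O m hT hR hRO α' hP' hP'O hα'

/-- **approximation by perfect complexes passes from `U` to `X = U ∪ V`**, `V` affine (Stacks 08ER) -/
theorem approx_cover (U V : X.Opens) (hU : IsCompact (U : Set X)) (hV : IsAffineOpen V)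
    (hUV : IsCompact ((U ⊓ V : X.Opens) : Set X)) (hcov : U ⊔ V = ⊤)
    (hAU : ∀ (T : Set ↥(U : Scheme.{u})), IsClosed T → IsRetrocompact Tᶜ → ∃ r : ℤ,
      ∀ (m : ℤ) (E : DCoh.D (U : Scheme.{u})), DCoh.IsQCohD E →
        DCoh.IsPseudoCoherentD (m - r) E → (∀ i : ℤ, m - r ≤ i → CohB1.support (DCoh.HD E i) ⊆ T) →
        ∃ (P : DCoh.D (U : Scheme.{u})) (α : P ⟶ E), DCoh.IsPerfect P ∧
          (∀ i : ℤ, CohB1.support (DCoh.HD P i) ⊆ T) ∧
          (∀ i : ℤ, m < i → IsIso ((DerivedCategory.homologyFunctor _ i).map α)) ∧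
          Epi ((DerivedCategory.homologyFunctor _ m).map α))
    (T : Set ↥X) (hT : IsClosed T) (hTr : IsRetrocompact Tᶜ) :
    ∃ r : ℤ, ∀ (m : ℤ) (E : DCoh.D X), DCoh.IsQCohD E →
      DCoh.IsPseudoCoherentD (m - r) E → (∀ i : ℤ, m - r ≤ i → CohB1.support (DCoh.HD E i) ⊆ T) →
      ∃ (P : DCoh.D X) (α : P ⟶ E), DCoh.IsPerfect P ∧ (∀ i : ℤ, CohB1.support (DCoh.HD P i) ⊆ T) ∧
        (∀ i : ℤ, m < i → IsIso ((DerivedCategory.homologyFunctor _ i).map α)) ∧
        Epi ((DerivedCategory.homologyFunctor _ m).map α) := by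
  classical
  haveI : IsAffine (V : Scheme.{u}) := hV
  haveI : CompactSpace ↥(U : Scheme.{u}) := isCompact_iff_compactSpace.mp hU
  let O : X.Opens := ⟨Tᶜ, hT.isOpen_compl⟩
  have hOc : (O : Set X)ᶜ = T := compl_compl T
  have hOV : IsCompact ((V ⊓ O : X.Opens) : Set X) := by
    have h := hTr hV.isCompact V.isOpen
    have : ((V ⊓ O : X.Opens) : Set X) = Tᶜ ∩ (V : Set X) := Set.inter_comm _ _
    rw [this]
    exact h
  -- approximation on `U`
  let OU : (U : Scheme.{u}).Opens := U.ι ⁻¹ᵁ O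
  have hTU : IsRetrocompact (((OU : Set (U : Scheme.{u}))ᶜ)ᶜ) := by
    rw [compl_compl]
    exact IsRetrocompact.preimage_of_isOpenEmbedding (f := U.ι.base) (s := Tᶜ)
      U.ι.isOpenEmbedding hTr
  obtain ⟨rU₀, hrU₀⟩ := hAU ((OU : Set (U : Scheme.{u}))ᶜ) OU.isOpen.isClosed_compl hTU
  let rU : ℤ := max rU₀ 0
  have hrU : 0 ≤ rU := le_max_right _ _
  have hrU' : rU₀ ≤ rU := le_max_left _ _
  have hAU' : ∀ (m : ℤ) (E : DCoh.D (U : Scheme.{u})), DCoh.IsQCohD E →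
      DCoh.IsPseudoCoherentD (m - rU) E →
      (∀ i : ℤ, m - rU ≤ i →
        CohB1.support (DCoh.HD E i) ⊆ ((U.ι ⁻¹ᵁ O : (U : Scheme.{u}).Opens) : Set (U : Scheme.{u}))ᶜ) →
      Approx (U.ι ⁻¹ᵁ O) E m := by
    intro m E hE hpc hs
    obtain ⟨P, α, hP, hPs, hiso, hepi⟩ := hrU₀ m E hE
      (Groth.Agent.Lib.helper25.DCohPC4.isPseudoCoherentD_mono hpc (by omega))
      (fun i hi => hs i (by omega))
    exact ⟨P, α, hP, Groth.Agent.Lib.Helper25.SchKInj.isZero_restrictD_of_support OU P hPs, hiso, hepi⟩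
  -- `V ∩ (O ∪ U)` as a union of basic opens of `V`
  let OV : (V : Scheme.{u}).Opens := V.ι ⁻¹ᵁ (O ⊔ U)
  have hOVc : IsCompact (OV : Set (V : Scheme.{u})) := by
    rw [V.ι.isOpenEmbedding.isEmbedding.isCompact_iff]
    have h1 : V.ι ''ᵁ OV = V ⊓ (O ⊔ U) := by
      rw [Scheme.Hom.image_preimage_eq_opensRange_inf, Scheme.Opens.opensRange_ι]
    have h2 : (V.ι.base '' (OV : Set (V : Scheme.{u}))) = ((V ⊓ (O ⊔ U) : X.Opens) : Set X) := by
      rw [← h1]; rfl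
    have h3 : ((V ⊓ (O ⊔ U) : X.Opens) : Set X) =
        ((V ⊓ O : X.Opens) : Set X) ∪ ((U ⊓ V : X.Opens) : Set X) := by
      ext x
      simp only [Opens.coe_inf, Opens.coe_sup, Set.mem_inter_iff, Set.mem_union, SetLike.mem_coe]
      tauto
    rw [h2, h3]
    exact hOV.union hUV
  obtain ⟨sT, hsT, hOVs⟩ := isCompact_and_isOpen_iff_finite_and_eq_biUnion_basicOpen.mp
    ⟨hOVc, OV.isOpen⟩
  let fs : Finset ↑Γ((V : Scheme.{u}), ⊤) := hsT.toFinset
  have hfs : ∀ y : (V : Scheme.{u}), V.ι.base y ∈ O ⊔ U ↔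
      ∃ f ∈ fs, y ∈ (V : Scheme.{u}).basicOpen f := by
    intro y
    have h1 : V.ι.base y ∈ O ⊔ U ↔ y ∈ (OV : Set (V : Scheme.{u})) := Iff.rfl
    rw [h1, hOVs]
    simp only [Set.mem_iUnion, SetLike.mem_coe, exists_prop, fs, Set.Finite.mem_toFinset]
  refine ⟨rU + (fs.card : ℤ), fun m E hE hpc hs => ?_⟩
  -- the top degree of `E|_U`
  obtain ⟨b, hb⟩ := Groth.Agent.Lib.Helper25.RpushPCUnbdd.exists_isLE_of_isPseudoCoherentD
    ((DCoh.restrictD U.ι).obj E)
    (Groth.Agent.Lib.helper25.PerfectTor.isPseudoCoherentD_restrictD hpc U)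
  rw [DerivedCategory.isLE_iff] at hb
  obtain ⟨P, α, hP, hPO, hα⟩ := approx_cover_aux U V hV hUV hcov O hOV fs hfs rU hrU hAU' m
    (b + 1 - (m - (fs.card : ℤ))).toNat E hE hpc
    (fun i hi => by rw [hOc]; exact hs i hi)
    (fun i hi => (isZero_HD_restrictD_iff U E i).1 (hb i (by
      have := Int.self_le_toNat (b + 1 - (m - (fs.card : ℤ)))
      omega)))
  refine ⟨P, α, hP, fun i => ?_, hα.1, hα.2⟩
  have := Groth.Agent.Lib.Helper25.SchKInj.support_HD_restrictD O P hPO i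
  rwa [hOc] at this

end Groth.Agent.Lib.Helper25.ApproxCover
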