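import Mathlib
import Groth.Agent.Lib.Helper25.ApproxCover
import Groth.Agent.Lib.Helper25.HomVanQcqs

/-!
# Approximation by perfect complexes on quasi-compact quasi-separated schemes (helper25)

Stacks 08ES.

* `ApproxHolds Y`: approximation by perfect complexes holds on `Y`.
* `approxHolds_of_isEmpty`, `approxHolds_fin` (induction on the number of affine opens in a cover, via
  `ApproxCover.approx_cover`), `approxHolds_of_qcqs`.
-/

set_option autoImplicit false
universe u
open CategoryTheory CategoryTheory.Limits AlgebraicGeometry Opposite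

attribute [local instance] HasDerivedCategory.standard

namespace Groth.Agent.Lib.Helper25.ApproxQcqs

open Pretriangulated DerivedCategory TopologicalSpace Scheme.Modules ZeroObject
open Groth.Agent.Lib.Helper25.ApproxExtend Groth.Agent.Lib.Helper25.HomVanQcqs
  Groth.Agent.Lib.Helper25.ApproxCover

/-- approximation by perfect complexes holds on `Y` -/
def ApproxHolds (Y : Scheme.{u}) : Prop :=
  ∀ (T : Set ↥Y), IsClosed T → IsRetrocompact Tᶜ → ∃ r : ℤ, ∀ (m : ℤ) (E : DCoh.D Y), DCoh.IsQCohD E →
    DCoh.IsPseudoCoherentD (m - r) E → (∀ i : ℤ, m - r ≤ i → CohB1.support (DCoh.HD E i) ⊆ T) →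
    ∃ (P : DCoh.D Y) (α : P ⟶ E), DCoh.IsPerfect P ∧ (∀ i : ℤ, CohB1.support (DCoh.HD P i) ⊆ T) ∧
      (∀ i : ℤ, m < i → IsIso ((DerivedCategory.homologyFunctor _ i).map α)) ∧
      Epi ((DerivedCategory.homologyFunctor _ m).map α)

lemma approxHolds_of_isEmpty (Y : Scheme.{u}) [IsEmpty Y] : ApproxHolds Y := by
  intro T _ _
  refine ⟨0, fun m E _ _ _ => ⟨0, 0, isPerfect_of_isZero (isZero_zero _), fun i x _ => isEmptyElim x,
    fun i _ => ?_, ?_⟩⟩
  · exact isIso_of_isZero _ (isZero_modules_of_isEmpty _) (isZero_modules_of_isEmpty _)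
  · exact (isZero_modules_of_isEmpty _).epi _

theorem approxHolds_fin : ∀ (n : ℕ) (Y : Scheme.{u}) [QuasiSeparatedSpace Y] (U : Fin n → Y.Opens),
    (⨆ i, U i) = ⊤ → (∀ i, IsAffineOpen (U i)) → ApproxHolds Y := by
  intro n
  induction n with
  | zero =>
    intro Y _ U hcov _
    haveI : IsEmpty Y := isEmpty_of_top_eq_bot (by rw [← hcov, iSup_of_empty])
    exact approxHolds_of_isEmpty Y
  | succ n ih =>
    intro Y _ U hcov haff
    let V : Y.Opens := ⨆ i : Fin n, U i.castSucc
    let W : Y.Opens := U (Fin.last n)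
    have hVW : V ⊔ W = ⊤ := by
      rw [← hcov]
      exact (Groth.Agent.Lib.helper27.SerreVan.iSup_fin_succ U).symm
    haveI : QuasiSeparatedSpace (V : Scheme.{u}) :=
      QuasiSeparatedSpace.of_isOpenEmbedding V.ι.isOpenEmbedding
    have h1 : ApproxHolds (V : Scheme.{u}) :=
      ih V (fun i => V.ι ⁻¹ᵁ U i.castSucc) (preimage_iSup_eq_top V _ le_rfl)
        (fun i => by
          refine (haff i.castSucc).preimage_of_isOpenImmersion V.ι ?_
          rw [Scheme.Opens.opensRange_ι]
          exact le_iSup (fun i : Fin n => U i.castSucc) i)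
    have hVc : IsCompact (V : Set Y) := by
      have : (V : Set Y) = ⋃ i : Fin n, (U i.castSucc : Set Y) := by
        simp [V]
      rw [this]
      exact isCompact_iUnion fun i => (haff i.castSucc).isCompact
    have hc : IsCompact ((V ⊓ W : Y.Opens) : Set Y) :=
      hVc.inter_of_isOpen (haff _).isCompact V.isOpen W.isOpen
    exact approx_cover V W hVc (haff _) hc hVW h1

/-- **approximation by perfect complexes holds on quasi-compact quasi-separated schemes** (Stacks 08ES) -/
theorem approxHolds_of_qcqs (X : Scheme.{u}) [CompactSpace X] [QuasiSeparatedSpace X] : ApproxHolds X := by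
  classical
  obtain ⟨s, hs, hcov⟩ := (isCompact_iff_finite_and_eq_biUnion_affineOpens (X := X)
    (U := (⊤ : X.Opens))).mp isCompact_univ
  obtain ⟨t, e, he⟩ := hs.fin_embedding
  refine approxHolds_fin t X (fun k => ((e k : X.affineOpens) : X.Opens)) ?_ (fun k => (e k).2)
  have h1 : (⨆ i ∈ s, (i : X.Opens)) = ⨆ k : Fin t, ((e k : X.affineOpens) : X.Opens) := by
    rw [← he, iSup_range]
  rw [← h1]
  exact hcov.symm

end Groth.Agent.Lib.Helper25.ApproxQcqs
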