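import Mathlib
import Groth.Prelude.Def_DerLim
import Groth.Agent.Lib.Helper27.TelescopeHom
import Groth.Agent.Lib.Helper25.DCoprodHomology2
import Groth.Agent.Lib.Helper25.QCCPerfect
import Groth.Agent.Lib.Helper25.ApproxQcqs
import Groth.Agent.Lib.Helper25.HomVanQcqs
import Groth.Agent.Lib.Helper1.TruncCoh

/-!
# Pseudo-coherent objects as homotopy colimits of perfect objects (helper25)

Stacks 0DJN (and its version with supports).

* `isIso_desc_of_eventually_iso`: sequential colimits with eventually invertible cocone legs.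
* `exactSeq`, `exactCoprodNat`: exactness of sequential colimits and countable coproducts of `O_X`-modules.
* `isHocolim_of_eventually_iso`: a compatible system `E n ⟶ K` which is eventually invertible on each cohomology sheaf
  is a homotopy colimit (via helper27's `hocolim_homological`).
* `isIso_homology_of_isIso_truncGE`, `isIso_truncGE_of_isoAbove`.
* `Stage`, `exists_next`: the tower of approximations (using `HomVanQcqs.exists_van`).
* `pseudoCoherent_iff_hocolim`.
-/

set_option autoImplicit false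
universe u
open CategoryTheory CategoryTheory.Limits AlgebraicGeometry Opposite

attribute [local instance] HasDerivedCategory.standard

namespace Groth.Agent.Lib.Helper25.HocolimPerf

open Pretriangulated DerivedCategory TopologicalSpace

section Seq

variable {A : Type*} [Category A]

/-- a cocone over a sequence whose legs are eventually isomorphisms induces an isomorphism from the colimit -/
lemma isIso_desc_of_eventually_iso (S : ℕ ⥤ A) [HasColimit S] (c : Cocone S) (N : ℕ)
    (hN : ∀ n, N ≤ n → IsIso (c.ι.app n)) : IsIso (colimit.desc S c) := by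
  haveI := hN N le_rfl
  refine ⟨⟨inv (c.ι.app N) ≫ colimit.ι S N, ?_, ?_⟩⟩
  · refine colimit.hom_ext (fun n => ?_)
    rw [colimit.ι_desc_assoc, Category.comp_id]
    let n' := max n N
    have h1 : n ≤ n' := le_max_left _ _
    have h2 : N ≤ n' := le_max_right _ _
    haveI := hN n' h2
    have e1 : c.ι.app n = S.map (homOfLE h1) ≫ c.ι.app n' := (c.w (homOfLE h1)).symm
    have e2 : c.ι.app N = S.map (homOfLE h2) ≫ c.ι.app n' := (c.w (homOfLE h2)).symm
    have e3 : S.map (homOfLE h2) = c.ι.app N ≫ inv (c.ι.app n') := by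
      rw [IsIso.eq_comp_inv]; exact e2.symm
    have e4 : colimit.ι S N = S.map (homOfLE h2) ≫ colimit.ι S n' := (colimit.w S (homOfLE h2)).symm
    have e5 : colimit.ι S n = S.map (homOfLE h1) ≫ colimit.ι S n' := (colimit.w S (homOfLE h1)).symm
    have key : inv (c.ι.app N) ≫ colimit.ι S N = inv (c.ι.app n') ≫ colimit.ι S n' := by
      rw [IsIso.inv_comp_eq, e4, e3, Category.assoc]
    calc c.ι.app n ≫ inv (c.ι.app N) ≫ colimit.ι S N
        = c.ι.app n ≫ inv (c.ι.app n') ≫ colimit.ι S n' := by rw [key]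
      _ = (S.map (homOfLE h1) ≫ c.ι.app n') ≫ inv (c.ι.app n') ≫ colimit.ι S n' := by rw [← e1]
      _ = S.map (homOfLE h1) ≫ colimit.ι S n' := by
          rw [Category.assoc, IsIso.hom_inv_id_assoc]
      _ = colimit.ι S n := e5.symm
  · rw [Category.assoc, colimit.ι_desc]
    simp

end Seq

variable {X : Scheme.{u}}

lemma exactSeq (X : Scheme.{u}) : HasExactColimitsOfShape ℕ X.Modules := by
  haveI : AB5OfSize.{u, u} X.Modules := Groth.Agent.Lib.Helper21.ModGroth.ab5_mod X.ringCatSheaf
  haveI : HasFilteredColimitsOfSize.{0, 0} X.Modules := ⟨fun J _ _ => inferInstance⟩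
  haveI : AB5OfSize.{0, 0} X.Modules := AB5OfSize_of_univLE.{0, 0, u, u} X.Modules
  infer_instance

lemma exactCoprodNat (X : Scheme.{u}) : HasExactColimitsOfShape (Discrete ℕ) X.Modules := by
  haveI : AB5OfSize.{u, u} X.Modules := Groth.Agent.Lib.Helper21.ModGroth.ab5_mod X.ringCatSheaf
  haveI : HasFilteredColimitsOfSize.{0, 0} X.Modules := ⟨fun J _ _ => inferInstance⟩
  haveI : AB5OfSize.{0, 0} X.Modules := AB5OfSize_of_univLE.{0, 0, u, u} X.Modules
  haveI : HasFiniteBiproducts X.Modules := Abelian.hasFiniteBiproducts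
  haveI h4 : AB4OfSize.{0} X.Modules := AB4.of_AB5 X.Modules
  exact h4.ofShape ℕ

open Groth.Agent.Lib.helper27 Groth.Agent.Lib.helper25.DCoprodHomology in
/-- a compatible system `i n : E n ⟶ K` which is eventually an isomorphism on each cohomology sheaf exhibits `K` as a
homotopy colimit -/
theorem isHocolim_of_eventually_iso [HasColimitsOfShape (Discrete ℕ) (DCoh.D X)]
    (E : ℕ → DCoh.D X) (f : ∀ n, E n ⟶ E (n + 1)) (K : DCoh.D X) (i : ∀ n, E n ⟶ K)
    (hcompat : ∀ n, f n ≫ i (n + 1) = i n)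
    (hiso : ∀ j : ℤ, ∃ N : ℕ, ∀ n, N ≤ n → IsIso ((homologyFunctor X.Modules j).map (i n))) :
    DerLim.IsHocolim E f K i := by
  haveI := exactSeq X
  haveI := exactCoprodNat X
  let φ : (∐ E) ⟶ ∐ E := 𝟙 (∐ E) - DerLim.shiftMap E f
  obtain ⟨L, p, c', hT⟩ := distinguished_cocone_triangle φ
  have hφi : φ ≫ Sigma.desc i = 0 := by
    refine Sigma.hom_ext _ _ (fun n => ?_)
    simp only [φ, DerLim.shiftMap, Preadditive.sub_comp, Preadditive.comp_sub, Category.id_comp,
      Sigma.ι_desc, Sigma.ι_desc_assoc, Category.assoc, comp_zero, hcompat, sub_self]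
  obtain ⟨g, hg⟩ : ∃ g : L ⟶ K, Sigma.desc i = p ≫ g :=
    Triangle.yoneda_exact₂ _ hT (Sigma.desc i) hφi
  have hp : Sigma.desc (fun n => Sigma.ι E n ≫ p) = p := by
    refine Sigma.hom_ext _ _ (fun n => ?_)
    simp
  have hL : DerLim.IsHocolim E f L (fun n => Sigma.ι E n ≫ p) := ⟨c', by rw [hp]; exact hT⟩
  have hgiso : IsIso g := by
    rw [DerivedCategory.isIso_iff]
    intro j
    let H := homologyFunctor X.Modules j
    obtain ⟨e, he⟩ := hocolim_homological H E f L _ hL
    obtain ⟨N, hN⟩ := hiso j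
    let S := Functor.ofSequence (fun n => H.map (f n))
    let cK : Cocone S :=
      { pt := H.obj K
        ι := NatTrans.ofSequence (fun n => H.map (i n)) (fun n => by
          simp only [S, Functor.ofSequence_map_homOfLE_succ, Functor.const_obj_obj,
            Functor.const_obj_map, Category.comp_id]
          exact (H.map_comp _ _).symm.trans (congrArg (fun t => H.map t) (hcompat n))) }
    have hdesc : IsIso (colimit.desc S cK) :=
      isIso_desc_of_eventually_iso S cK N (fun n hn => hN n hn)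
    have hg' : p ≫ g = Sigma.desc i := hg.symm
    have h1 : e.hom ≫ H.map g = colimit.desc S cK := by
      refine colimit.hom_ext (fun n => ?_)
      have h2 : H.map (Sigma.ι E n ≫ p) ≫ H.map g = H.map (i n) := by
        rw [← H.map_comp, Category.assoc, hg', Sigma.ι_desc]
      have h4 : colimit.ι S n ≫ e.hom = H.map (Sigma.ι E n ≫ p) := he n
      rw [colimit.ι_desc, ← Category.assoc, h4]
      exact h2
    have h3 : H.map g = e.inv ≫ colimit.desc S cK := by rw [← h1, Iso.inv_hom_id_assoc]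
    rw [h3]
    exact IsIso.comp_isIso' (inferInstance : IsIso e.inv) hdesc
  have c1 : φ ≫ 𝟙 (∐ E) = 𝟙 (∐ E) ≫ φ := by rw [Category.comp_id, Category.id_comp]
  have c2 : Sigma.desc i ≫ inv g = 𝟙 (∐ E) ≫ p := by
    rw [Category.id_comp, IsIso.comp_inv_eq]; exact hg
  have c3 : (inv g ≫ c') ≫ (𝟙 (∐ E))⟦(1 : ℤ)⟧' = inv g ≫ c' := by
    rw [CategoryTheory.Functor.map_id, Category.comp_id]
  exact ⟨inv g ≫ c', isomorphic_distinguished _ hT _
    (Triangle.isoMk (Triangle.mk φ (Sigma.desc i) (inv g ≫ c')) (Triangle.mk φ p c')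
      (Iso.refl _) (Iso.refl _) (asIso g).symm c1 c2 c3)⟩

section Trunc

open Groth.Agent.Lib.helper25.IsoAbove

/-- if `τ_{≥ a} φ` is an isomorphism, `φ` is an isomorphism on `Hʲ`, `j ≥ a` -/
lemma isIso_homology_of_isIso_truncGE {A B : DCoh.D X} (φ : A ⟶ B) (a : ℤ)
    (h : IsIso (((TStructure.t : Triangulated.TStructure (DCoh.D X)).truncGE a).map φ)) (j : ℤ)
    (hj : a ≤ j) : IsIso ((homologyFunctor X.Modules j).map φ) := by
  let t : Triangulated.TStructure (DCoh.D X) := TStructure.t
  let H := homologyFunctor X.Modules j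
  have nat : φ ≫ (t.truncGEπ a).app B = (t.truncGEπ a).app A ≫ (t.truncGE a).map φ :=
    (t.truncGEπ a).naturality φ
  haveI hA : IsIso (H.map ((t.truncGEπ a).app A)) :=
    Groth.Agent.H1.TruncCoh.isIso_homology_truncGEπ A a j hj
  haveI hB : IsIso (H.map ((t.truncGEπ a).app B)) :=
    Groth.Agent.H1.TruncCoh.isIso_homology_truncGEπ B a j hj
  have h2 : H.map φ ≫ H.map ((t.truncGEπ a).app B) =
      H.map ((t.truncGEπ a).app A) ≫ H.map ((t.truncGE a).map φ) := by
    rw [← H.map_comp, ← H.map_comp, nat]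
  have h3 : H.map φ = H.map ((t.truncGEπ a).app A) ≫ H.map ((t.truncGE a).map φ) ≫
      inv (H.map ((t.truncGEπ a).app B)) := by
    rw [← Category.assoc, ← h2, Category.assoc, IsIso.hom_inv_id, Category.comp_id]
  rw [h3]
  infer_instance

/-- a map which is an isomorphism on `Hⁱ`, `i > m`, and onto on `Hᵐ` induces an isomorphism on `τ_{≥ a}`, `a > m` -/
lemma isIso_truncGE_of_isoAbove {A B : DCoh.D X} (φ : A ⟶ B) (m a : ℤ) (hm : m < a)
    (h : IsoAbove m φ) :
    IsIso (((TStructure.t : Triangulated.TStructure (DCoh.D X)).truncGE a).map φ) := by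
  let t : Triangulated.TStructure (DCoh.D X) := TStructure.t
  obtain ⟨C, q, w, hT⟩ := distinguished_cocone_triangle φ
  have hC := (isoAbove_iff_cone _ hT m).1 h
  haveI hLE : t.IsLE C (m - 1) := by
    change C.IsLE (m - 1)
    rw [DerivedCategory.isLE_iff]
    intro i hi
    exact hC i (by omega)
  have hC' : t.IsLE (C⟦(-1 : ℤ)⟧) m := t.isLE_shift C (m - 1) (-1) m (by omega)
  have hC'' : t.IsLE (C⟦(-1 : ℤ)⟧) (a - 1) := t.isLE_of_le _ m (a - 1) (by omega)
  exact t.isIso₂_truncGE_map_of_isLE _ (inv_rot_of_distTriang _ hT) (a - 1) a (by omega) hC''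

end Trunc

section Tower

open Groth.Agent.Lib.helper25.IsoAbove Groth.Agent.Lib.Helper25.HomVanAffine

/-- a stage of the tower of perfect approximations of `K` -/
structure Stage (O : X.Opens) (K : DCoh.D X) where
  E : DCoh.D X
  i : E ⟶ K
  m : ℤ
  perf : DCoh.IsPerfect E
  van : IsZero ((DCoh.restrictD O.ι).obj E)
  iso : IsoAbove m i

variable [CompactSpace ↥X] [QuasiSeparatedSpace ↥X] (O : X.Opens) (K : DCoh.D X)

/-- the next stage: a better approximation through which the given one factors -/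
lemma exists_next (hKq : DCoh.IsQCohD K)
    (happ : ∀ m : ℤ, ∃ (P : DCoh.D X) (α : P ⟶ K), DCoh.IsPerfect P ∧
      IsZero ((DCoh.restrictD O.ι).obj P) ∧ IsoAbove m α) (s : Stage O K) :
    ∃ (s' : Stage O K) (f : s.E ⟶ s'.E), f ≫ s'.i = s.i ∧ s'.m ≤ s.m - 1 := by
  let t : Triangulated.TStructure (DCoh.D X) := TStructure.t
  obtain ⟨c, hc⟩ := Groth.Agent.Lib.Helper25.HomVanQcqs.exists_van X s.E s.perf
  let m' : ℤ := min (s.m - 1) c
  obtain ⟨P, α, hP, hPO, hα⟩ := happ m'
  obtain ⟨C, q, w, hT⟩ := distinguished_cocone_triangle α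
  have hCq : DCoh.IsQCohD C :=
    Groth.Agent.H1.WSerreTri.cohIn_obj₂ (P := Groth.Agent.S1007.QC X) _ (rot_of_distTriang _ hT) hKq
      (Groth.Agent.Lib.Helper25.HomVanMV.isQCohD_shift P
        (Groth.Agent.Lib.Helper25.ApproxAffine.isQCohD_of_isPerfect hP) 1)
  have hC := (isoAbove_iff_cone _ hT m').1 hα
  have hLE : C.IsLE c := by
    rw [DerivedCategory.isLE_iff]
    intro i hi
    exact hC i (by have := min_le_right (s.m - 1) c; omega)
  have h0 : s.i ≫ q = 0 := hc C hCq hLE _
  obtain ⟨f, hf⟩ : ∃ f : s.E ⟶ P, s.i = f ≫ α := Triangle.coyoneda_exact₂ _ hT s.i h0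
  exact ⟨⟨P, α, m', hP, hPO, hα⟩, f, hf.symm, min_le_left _ _⟩

end Tower

section Main

open Groth.Agent.Lib.helper25.IsoAbove Groth.Agent.Lib.Helper25.ApproxQcqs

/-- **pseudo-coherent objects are homotopy colimits of perfect objects** (Stacks 0DJN), with supports -/
theorem pseudoCoherent_iff_hocolim (X : Scheme.{u}) [CompactSpace ↥X] [QuasiSeparatedSpace ↥X]
    [HasColimitsOfShape (Discrete ℕ) (DCoh.D X)] (O : X.Opens) (hO : IsCompact (O : Set X))
    (K : DCoh.D X) (hKO : IsZero ((DCoh.restrictD O.ι).obj K)) :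
    (∀ m : ℤ, DCoh.IsPseudoCoherentD m K) ↔
    ∃ (E : ℕ → DCoh.D X) (f : ∀ n, E n ⟶ E (n + 1)) (i : ∀ n, E n ⟶ K),
      (∀ n, DCoh.IsPerfect (E n)) ∧ (∀ n, IsZero ((DCoh.restrictD O.ι).obj (E n))) ∧
      DerLim.IsHocolim E f K i ∧
      ∀ n : ℕ, IsIso (((TStructure.t : Triangulated.TStructure (DCoh.D X)).truncGE
        (-(n : ℤ))).map (i n)) := by
  constructor
  · intro hpc
    have hKq : DCoh.IsQCohD K :=
      Groth.Agent.Lib.Helper25.RpushPCUnbdd.isQCohD_of_isPseudoCoherentD K hpc
    -- approximations of all orders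
    have happ : ∀ m : ℤ, ∃ (P : DCoh.D X) (α : P ⟶ K), DCoh.IsPerfect P ∧
        IsZero ((DCoh.restrictD O.ι).obj P) ∧ IsoAbove m α := by
      obtain ⟨r, hr⟩ := approxHolds_of_qcqs X ((O : Set X)ᶜ) O.isOpen.isClosed_compl
        (by rw [compl_compl]; exact hO.isRetrocompact O.isOpen)
      intro m
      obtain ⟨P, α, hP, hPs, h1, h2⟩ := hr m K hKq (hpc _)
        (fun i _ => Groth.Agent.Lib.Helper25.SchKInj.support_HD_restrictD O K hKO i)
      exact ⟨P, α, hP, Groth.Agent.Lib.Helper25.SchKInj.isZero_restrictD_of_support O P hPs, h1, h2⟩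
    -- the tower
    obtain ⟨P₀, α₀, hP₀, hP₀O, hα₀⟩ := happ (-1)
    let s₀ : Stage O K := ⟨P₀, α₀, -1, hP₀, hP₀O, hα₀⟩
    choose next fnext hnext using exists_next O K hKq happ
    let seq : ℕ → Stage O K := fun n => Nat.rec s₀ (fun _ s => next s) n
    have hseq : ∀ n, seq (n + 1) = next (seq n) := fun n => rfl
    have hm : ∀ n : ℕ, (seq n).m ≤ -(n : ℤ) - 1 := by
      intro n
      induction n with
      | zero => exact le_of_eq (by simp [seq, s₀])
      | succ n ih =>
        have := (hnext (seq n)).2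
        rw [hseq]
        push_cast
        omega
    refine ⟨fun n => (seq n).E, fun n => fnext (seq n), fun n => (seq n).i,
      fun n => (seq n).perf, fun n => (seq n).van, ?_, fun n => ?_⟩
    · refine isHocolim_of_eventually_iso _ _ K _ (fun n => (hnext (seq n)).1) (fun j => ?_)
      refine ⟨(-j).toNat, fun n hn => (seq n).iso.isIso j ?_⟩
      have h1 := hm n
      have h2 := Int.self_le_toNat (-j)
      have h3 : ((-j).toNat : ℤ) ≤ (n : ℤ) := by exact_mod_cast hn
      omega
    · exact isIso_truncGE_of_isoAbove _ (seq n).m _ (by have := hm n; omega) (seq n).iso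
  · rintro ⟨E, f, i, hperf, -, -, htr⟩ m
    let n : ℕ := (1 - m).toNat
    have hn : 1 - m ≤ (n : ℤ) := Int.self_le_toNat (1 - m)
    refine (Groth.Agent.Lib.Helper25.RpushPCUnbdd.isPseudoCoherentD_iff_of_isIso_homology (i n) m
      (fun j hj => isIso_homology_of_isIso_truncGE (i n) _ (htr n) j (by omega))).1 ?_
    exact Groth.Agent.Lib.helper25.PerfectTor.isPseudoCoherentD_of_isPerfect (hperf n) m

end Main

end Groth.Agent.Lib.Helper25.HocolimPerf
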