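import Mathlib
import Groth.Agent.Lib.Helper25.ExtendPCStep
import Groth.Agent.Lib.Helper25.HocolimPerf
import Groth.Agent.Lib.Helper23.DCoprod5

/-!
# Extending pseudo-coherent objects from a quasi-compact open of an affine scheme: the tower (helper25)

* `isEventuallyConstantFrom_ofSequence`.
* `Stage`, `exists_next`: the tower of approximations `R n ⟶ K`.
* `exists_pc_of_restrict`: `X` affine, `U` quasi-compact open, `K ∈ D_QCoh(X)` with `K|_U` pseudo-coherent: there is a
  pseudo-coherent `L` on `X` and `L ⟶ K` invertible on `U` (`L` is the homotopy colimit of the tower).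
-/

set_option autoImplicit false
universe u
open CategoryTheory CategoryTheory.Limits AlgebraicGeometry Opposite

attribute [local instance] HasDerivedCategory.standard

namespace Groth.Agent.Lib.Helper25.ExtendPCHocolim

open Pretriangulated DerivedCategory TopologicalSpace Scheme.Modules ZeroObject
open Groth.Agent.Lib.helper25.DCohPerfect
  Groth.Agent.Lib.helper25.IsoAbove Groth.Agent.Lib.Helper25.ApproxExtend
  Groth.Agent.Lib.Helper25.ExtendPCStep Groth.Agent.Lib.Helper25.HocolimPerf

/-- a sequence whose transition maps are eventually invertible is eventually constant -/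
lemma isEventuallyConstantFrom_ofSequence {C : Type*} [Category C] {Y : ℕ → C}
    (g : ∀ n, Y n ⟶ Y (n + 1)) (N : ℕ) (h : ∀ n, N ≤ n → IsIso (g n)) :
    (Functor.ofSequence g).IsEventuallyConstantFrom N := by
  intro n φ
  have hn : N ≤ n := leOfHom φ
  obtain ⟨k, rfl⟩ := Nat.exists_eq_add_of_le hn
  induction k with
  | zero =>
    have : φ = 𝟙 _ := Subsingleton.elim _ _
    rw [this, CategoryTheory.Functor.map_id]
    infer_instance
  | succ k ih =>
    have h1 : φ = homOfLE (Nat.le_add_right N k) ≫ homOfLE (Nat.le_succ (N + k)) :=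
      Subsingleton.elim _ _
    rw [h1, Functor.map_comp, Functor.ofSequence_map_homOfLE_succ]
    have i1 := ih (homOfLE (Nat.le_add_right N k)) (Nat.le_add_right N k)
    have i2 := h (N + k) (Nat.le_add_right N k)
    exact IsIso.comp_isIso' i1 i2

variable {X : Scheme.{u}}

/-- a stage of the tower -/
structure Stage (U : X.Opens) (K : DCoh.D X) where
  R : DCoh.D X
  β : R ⟶ K
  m : ℤ
  perf : DCoh.IsPerfect R
  iso : IsoAbove m ((DCoh.restrictD U.ι).map β)

lemma exists_next [IsAffine X] (U : X.Opens) (hU : IsCompact (U : Set X)) {K : DCoh.D X}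
    (hK : DCoh.IsQCohD K) (hKU : ∀ m : ℤ, DCoh.IsPseudoCoherentD m ((DCoh.restrictD U.ι).obj K))
    (s : Stage U K) :
    ∃ (s' : Stage U K) (f : s.R ⟶ s'.R), f ≫ s'.β = s.β ∧ s'.m = s.m - 1 ∧ IsoAbove s.m f := by
  obtain ⟨R', β', f, h1, h2, h3, h4⟩ := step U hU hK hKU s.β s.perf s.m s.iso
  exact ⟨⟨R', β', s.m - 1, h1, h3⟩, f, h2, rfl, h4⟩

open Groth.Agent.Lib.helper27 Groth.Agent.Lib.helper25.DCoprodHomology in
/-- **extension of pseudo-coherent objects, intrinsic form**: `X` affine, `U` quasi-compact open, `K ∈ D_QCoh(X)` with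
`K|_U` pseudo-coherent.  Then there is a pseudo-coherent `L` on `X` with a map `L ⟶ K` which is an isomorphism on `U`. -/
theorem exists_pc_of_restrict [IsAffine X] (U : X.Opens) (hU : IsCompact (U : Set X)) (K : DCoh.D X)
    (hK : DCoh.IsQCohD K) (hKU : ∀ m : ℤ, DCoh.IsPseudoCoherentD m ((DCoh.restrictD U.ι).obj K)) :
    ∃ (L : DCoh.D X) (g : L ⟶ K), (∀ m : ℤ, DCoh.IsPseudoCoherentD m L) ∧
      IsIso ((DCoh.restrictD U.ι).map g) := by
  haveI := exactSeq X
  haveI := exactCoprodNat X
  haveI : HasColimitsOfShape (Discrete ℕ) (DCoh.D X) :=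
    Groth.Agent.Lib.helper23.DCoprod.hasCoproductsOfShape
  haveI : CompactSpace ((U : X.Opens) : Scheme.{u}) := isCompact_iff_compactSpace.mp hU
  let J := DCoh.restrictD U.ι
  obtain ⟨b, hb⟩ := Groth.Agent.Lib.Helper25.RpushPCUnbdd.exists_isLE_of_isPseudoCoherentD
    (J.obj K) (hKU 0)
  rw [DerivedCategory.isLE_iff] at hb
  -- the initial stage
  have h0 : IsoAbove (b + 1) (J.map (0 : (0 : DCoh.D X) ⟶ K)) := by
    refine ⟨fun i hi => ?_, ?_⟩
    · exact isIso_of_isZero _ (Functor.map_isZero _ (Functor.map_isZero _ (isZero_zero _)))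
        (hb i (by omega))
    · have hz : IsZero ((homologyFunctor _ (b + 1)).obj (J.obj K)) := hb (b + 1) (by omega)
      exact ⟨fun _ _ _ => hz.eq_of_src _ _⟩
  let s₀ : Stage U K := ⟨0, 0, b + 1, isPerfect_of_isZero (isZero_zero _), h0⟩
  choose next fnext hnext using exists_next U hU hK hKU
  let seq : ℕ → Stage U K := fun n => Nat.rec s₀ (fun _ s => next s) n
  have hseq : ∀ n, seq (n + 1) = next (seq n) := fun n => rfl
  have hm : ∀ n : ℕ, (seq n).m = b + 1 - (n : ℤ) := by
    intro n
    induction n with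
    | zero => simp [seq, s₀]
    | succ n ih =>
      have := (hnext (seq n)).2.1
      rw [hseq, this, ih]
      push_cast
      ring
  let E : ℕ → DCoh.D X := fun n => (seq n).R
  let f : ∀ n, E n ⟶ E (n + 1) := fun n => fnext (seq n)
  let β : ∀ n, E n ⟶ K := fun n => (seq n).β
  have hcompat : ∀ n, f n ≫ β (n + 1) = β n := fun n => (hnext (seq n)).1
  -- the homotopy colimit
  let φ : (∐ E) ⟶ ∐ E := 𝟙 (∐ E) - DerLim.shiftMap E f
  obtain ⟨L, p, c', hT⟩ := distinguished_cocone_triangle φ
  have hφβ : φ ≫ Sigma.desc β = 0 := by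
    refine Sigma.hom_ext _ _ (fun n => ?_)
    simp only [φ, DerLim.shiftMap, Preadditive.sub_comp, Preadditive.comp_sub, Category.id_comp,
      Sigma.ι_desc, Sigma.ι_desc_assoc, Category.assoc, comp_zero, hcompat, sub_self]
  obtain ⟨g, hg⟩ : ∃ g : L ⟶ K, Sigma.desc β = p ≫ g :=
    Triangle.yoneda_exact₂ _ hT (Sigma.desc β) hφβ
  have hp : Sigma.desc (fun n => Sigma.ι E n ≫ p) = p := by
    refine Sigma.hom_ext _ _ (fun n => ?_)
    simp
  have hL : DerLim.IsHocolim E f L (fun n => Sigma.ι E n ≫ p) := ⟨c', by rw [hp]; exact hT⟩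
  have hιg : ∀ n, (Sigma.ι E n ≫ p) ≫ g = β n := fun n => by
    rw [Category.assoc, ← hg, Sigma.ι_desc]
  -- the legs are isomorphisms on cohomology in high degrees
  have key : ∀ (j : ℤ) (n : ℕ), b + 1 - (n : ℤ) < j →
      IsIso ((homologyFunctor X.Modules j).map (Sigma.ι E n ≫ p)) := by
    intro j n hjn
    let H := homologyFunctor X.Modules j
    obtain ⟨e, he⟩ := hocolim_homological H E f L _ hL
    have hS : (Functor.ofSequence (fun n => H.map (f n))).IsEventuallyConstantFrom n :=
      isEventuallyConstantFrom_ofSequence _ n (fun k hk => (hnext (seq k)).2.2.isIso j (by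
        rw [hm]
        have : (n : ℤ) ≤ (k : ℤ) := by exact_mod_cast hk
        omega))
    have h1 := hS.isIso_ι_of_isColimit (colimit.isColimit _)
    have h2 : H.map (Sigma.ι E n ≫ p) =
        colimit.ι (Functor.ofSequence (fun n => H.map (f n))) n ≫ e.hom := (he n).symm
    rw [h2]
    exact IsIso.comp_isIso' h1 inferInstance
  refine ⟨L, g, fun m => ?_, ?_⟩
  · let n : ℕ := (b + 3 - m).toNat
    have hn : b + 3 - m ≤ (n : ℤ) := Int.self_le_toNat (b + 3 - m)
    refine (Groth.Agent.Lib.Helper25.RpushPCUnbdd.isPseudoCoherentD_iff_of_isIso_homology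
      (Sigma.ι E n ≫ p) m (fun j hj => key j n (by omega))).1 ?_
    exact Groth.Agent.Lib.helper25.PerfectTor.isPseudoCoherentD_of_isPerfect (seq n).perf m
  · rw [DerivedCategory.isIso_iff]
    intro j
    let n : ℕ := (b + 2 - j).toNat
    have hn : b + 2 - j ≤ (n : ℤ) := Int.self_le_toNat (b + 2 - j)
    have hkey := key j n (by omega)
    have h1 : IsIso ((homologyFunctor _ j).map (J.map (Sigma.ι E n ≫ p))) := by
      refine (NatIso.isIso_map_iff
        (Groth.Agent.Lib.helper23.HomNat.homologyNatIso (restrictFunctor U.ι) j) _).2 ?_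
      dsimp only [Functor.comp_map]
      infer_instance
    have h2 : IsIso ((homologyFunctor _ j).map (J.map (β n))) :=
      (seq n).iso.isIso j (by rw [hm]; omega)
    have h3 : (homologyFunctor _ j).map (J.map (Sigma.ι E n ≫ p)) ≫
        (homologyFunctor _ j).map (J.map g) = (homologyFunctor _ j).map (J.map (β n)) := by
      rw [← Functor.map_comp, ← Functor.map_comp, hιg]
    rw [← h3] at h2
    exact IsIso.of_isIso_comp_left ((homologyFunctor _ j).map (J.map (Sigma.ι E n ≫ p))) _

end Groth.Agent.Lib.Helper25.ExtendPCHocolim
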