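import Mathlib
import Groth.Prelude.Def_DCoh3
import Groth.Agent.Lib.Helper23.Kz5
import Groth.Agent.Lib.Helper25.DCohRestrict

/-!
# Natural isomorphisms between restriction functors on `D(O_X)` (helper25)

* `compIso g h : restrictD (g ≫ h) ≅ restrictD h ⋙ restrictD g`, `congrIso`, `idIso`.
* `equivOfIso j : D(O_X) ≌ D(O_U)` for an isomorphism `j : U ⟶ X`, with functor `restrictD j`.
-/

set_option autoImplicit false
universe u
open CategoryTheory CategoryTheory.Limits AlgebraicGeometry Opposite

attribute [local instance] HasDerivedCategory.standard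

namespace Groth.Agent.Lib.Helper25.RestrictDNat

open Scheme.Modules Groth.Agent.Lib.helper23.Kz

variable {X Y Z : Scheme.{u}}

/-- restriction along a composite of open immersions -/
noncomputable def compIso (g : Z ⟶ Y) (h : Y ⟶ X) [IsOpenImmersion g] [IsOpenImmersion h] :
    DCoh.restrictD (g ≫ h) ≅ DCoh.restrictD h ⋙ DCoh.restrictD g :=
  mapDCIso (restrictFunctorComp g h) ≪≫ mapDCComp (restrictFunctor h) (restrictFunctor g)

/-- restriction along equal open immersions -/
noncomputable def congrIso {g g' : Z ⟶ Y} [IsOpenImmersion g] [IsOpenImmersion g'] (h : g = g') :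
    DCoh.restrictD g ≅ DCoh.restrictD g' :=
  mapDCIso (restrictFunctorCongr h)

/-- restriction along the identity -/
noncomputable def idIso (X : Scheme.{u}) : DCoh.restrictD (𝟙 X) ≅ 𝟭 (DCoh.D X) :=
  mapDCIso restrictFunctorId ≪≫ mapDCId _

/-- restriction along an isomorphism is an equivalence -/
noncomputable def equivOfIso (j : Y ⟶ X) [IsIso j] : DCoh.D X ≌ DCoh.D Y :=
  CategoryTheory.Equivalence.mk (DCoh.restrictD j) (DCoh.restrictD (inv j))
    ((idIso X).symm ≪≫ congrIso (show 𝟙 X = inv j ≫ j by simp) ≪≫ compIso (inv j) j)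
    ((compIso j (inv j)).symm ≪≫ congrIso (show j ≫ inv j = 𝟙 Y by simp) ≪≫ idIso Y)

@[simp] lemma equivOfIso_functor (j : Y ⟶ X) [IsIso j] : (equivOfIso j).functor = DCoh.restrictD j := rfl

@[simp] lemma equivOfIso_inverse (j : Y ⟶ X) [IsIso j] :
    (equivOfIso j).inverse = DCoh.restrictD (inv j) := rfl

end Groth.Agent.Lib.Helper25.RestrictDNat
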