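import Mathlib
import Groth.Agent.Lib.Helper25.ThomasonAffine
import Groth.Agent.Lib.Helper25.RegPerfect
import Groth.Agent.Lib.Helper23.PerfDev
import Groth.Agent.S0997

/-!
# Perfect objects on `Spec A` and perfect objects of `D(A)` (helper25)

* `tg_of_isPerfect_affine`: on an affine scheme every perfect object lies in `ThomasonTG.TG` (thick subcategory
  generated by finite free modules).
* `isPerfect_Q_of_isStrictlyPerfect`, `isPerfect_tildeD_of_isPerfect`, `isPerfect_single`.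
* `exists_perfect_of_tg`: objects of `TG (Spec R)` are of the form `M~` with `M` perfect in `D(R)` (uses S0997).
* `isPerfect_tildeD_iff` (S1105): `M~` perfect iff `M` perfect.
-/

set_option autoImplicit false
universe u
open CategoryTheory CategoryTheory.Limits AlgebraicGeometry Opposite

attribute [local instance] HasDerivedCategory.standard

namespace Groth.Agent.Lib.Helper25.TildePerfect

open Pretriangulated DerivedCategory TopologicalSpace Scheme.Modules ZeroObject
open Groth.Agent.Lib.Helper25.ApproxExtend Groth.Agent.Lib.helper25.DCohPerfect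
  Groth.Agent.Lib.Helper25.LiftOpenP Groth.Agent.Lib.Helper25.TriRetract
  Groth.Agent.Lib.helper25.DCohRestrict Groth.Agent.Lib.Helper25.HomVanNice
  Groth.Agent.Lib.Helper25.ThomasonTG Groth.Agent.Lib.Helper25.ThomasonMain
  Groth.Agent.Lib.Helper25.ThomasonAffine

/-- on an affine scheme every perfect object lies in the thick subcategory generated by `O_X` -/
theorem tg_of_isPerfect_affine (X : Scheme.{u}) [IsAffine X] (P : DCoh.D X) (hP : DCoh.IsPerfect P) :
    TG X P := by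
  classical
  letI : X.Over (Spec (CommRingCat.of ↑Γ(X, ⊤))) := ⟨X.toSpecΓ⟩
  have hg : ∀ a : Γ(X, ⊤), (show Γ(X, ⊤) from
      Coh.toGlobal (X ↘ Spec (CommRingCat.of ↑Γ(X, ⊤))) a) = a := by
    intro a
    show (X.toSpecΓ.appTop.hom) ((Scheme.ΓSpecIso _).inv.hom a) = a
    rw [Scheme.toSpecΓ_appTop]
    exact congr($((Scheme.ΓSpecIso _).inv_hom_id) a)
  have key : ∀ x : X, ∃ g : Γ(X, ⊤), x ∈ X.basicOpen g ∧
      TG (X.basicOpen g) ((DCoh.restrictD (X.basicOpen g).ι).obj P) := by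
    intro x
    obtain ⟨O, c, hxO, -, hnice⟩ := exists_nice_nhd P hP x
    obtain ⟨_, ⟨_, ⟨g, rfl⟩, rfl⟩, hxg, hgO⟩ := (isBasis_basicOpen X).exists_subset_of_mem_open
      (show x ∈ (O : Set X) from hxO) O.isOpen
    refine ⟨g, hxg, tg_of_nice (nice_of_range_subset (X.basicOpen g).ι O.ι ?_ P hnice)⟩
    rintro _ ⟨y, rfl⟩
    exact ⟨⟨y.1, hgO y.2⟩, rfl⟩
  choose g hxg hTGg using key
  obtain ⟨t, ht⟩ := (isCompact_univ (X := X)).elim_finite_subcover
    (fun x : X => ((X.basicOpen (g x) : X.Opens) : Set X))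
    (fun x => (X.basicOpen (g x)).isOpen) (fun y _ => Set.mem_iUnion.2 ⟨y, hxg y⟩)
  let l : List ↑Γ(X, ⊤) := t.toList.map g
  have hl : ∀ a ∈ l, ∃ x : X, g x = a := by
    intro a ha
    obtain ⟨x, -, rfl⟩ := List.mem_map.1 ha
    exact ⟨x, rfl⟩
  refine tg_of_locally ↑Γ(X, ⊤) l X ?_ P hP ?_
  · intro x
    obtain ⟨y, hy⟩ := Set.mem_iUnion.1 (ht (Set.mem_univ x))
    obtain ⟨hyt, hxy⟩ := Set.mem_iUnion.1 hy
    refine ⟨g y, List.mem_map.2 ⟨y, Finset.mem_toList.2 hyt, rfl⟩, ?_⟩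
    rw [hg]
    exact hxy
  · intro a ha
    obtain ⟨x, rfl⟩ := hl a ha
    exact tg_congr_open (congrArg X.basicOpen (hg (g x)).symm) (hTGg x)

/-- a strictly perfect complex is perfect -/
theorem isPerfect_Q_of_isStrictlyPerfect {Y : Scheme.{u}} (F₀ : CochainComplex Y.Modules ℤ)
    (hF₀ : DCoh.IsStrictlyPerfect F₀) : DCoh.IsPerfect (Q.obj F₀) := by
  intro x
  exact isPerfect_at_of_openImmersion (Q.obj F₀) x (𝟙 Y) (by simp) F₀
    ⟨Iso.refl _⟩ _ (isStrictlyPerfect_res (𝟙 Y) hF₀) ⟨Iso.refl _⟩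

variable (A : Type u) [CommRing A] [PreservesFiniteLimits (tilde.functor (CommRingCat.of A))]

/-- `M` perfect in `D(A)` implies `M~` perfect -/
theorem isPerfect_tildeD_of_isPerfect (M : Dual.D A) (hM : DRing.IsPerfect A M) :
    DCoh.IsPerfect ((DCoh.tildeD (CommRingCat.of A)).obj M) := by
  obtain ⟨E, a, b, hV, hP, ⟨e⟩⟩ := hM
  let F₀ : CochainComplex (Spec (CommRingCat.of A)).Modules ℤ :=
    ((tilde.functor (CommRingCat.of A)).mapHomologicalComplex (ComplexShape.up ℤ)).obj E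
  have hF₀ : DCoh.IsStrictlyPerfect F₀ := by
    refine ⟨⟨a, b, fun i hi => (tilde.functor (CommRingCat.of A)).map_isZero (hV i hi)⟩, fun i => ?_⟩
    haveI := (hP i).1
    haveI := (hP i).2
    exact Groth.Agent.Lib.Helper25.RegPerfect.isFinLocFree_tilde (CommRingCat.of A) (E.X i)
  refine isPerfect_of_iso ?_ (isPerfect_Q_of_isStrictlyPerfect F₀ hF₀)
  exact (((tilde.functor (CommRingCat.of A)).mapDerivedCategoryFactors).app E).symm ≪≫
    (DCoh.tildeD (CommRingCat.of A)).mapIso e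

omit [PreservesFiniteLimits (tilde.functor (CommRingCat.of A))] in
/-- a finite projective module in one degree is perfect -/
lemma isPerfect_single (a : ℤ) (N : ModuleCat.{u} A) [Module.Finite A N] [Module.Projective A N] :
    DRing.IsPerfect A ((singleFunctor (ModuleCat.{u} A) a).obj N) := by
  refine ⟨(HomologicalComplex.single (ModuleCat.{u} A) (ComplexShape.up ℤ) a).obj N, a, a, ?_, ?_,
    ⟨((singleFunctorIsoCompQ (ModuleCat.{u} A) a).app N).symm⟩⟩
  · intro i hi
    exact HomologicalComplex.isZero_single_obj_X _ _ _ _ (by omega)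
  · intro i
    by_cases hi : i = a
    · subst hi
      let e := (HomologicalComplex.singleObjXSelf (ComplexShape.up ℤ) i N).toLinearEquiv
      exact ⟨Module.Finite.equiv e.symm, Module.Projective.of_equiv e.symm⟩
    · have hz : IsZero (((HomologicalComplex.single (ModuleCat.{u} A) (ComplexShape.up ℤ) a).obj N).X i) :=
        HomologicalComplex.isZero_single_obj_X _ _ _ _ hi
      haveI := ModuleCat.subsingleton_of_isZero hz
      exact ⟨inferInstance, inferInstance⟩

section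

variable (R : CommRingCat.{u}) [PreservesFiniteLimits (tilde.functor R)]

open Groth.Agent.Lib.helper23 in
/-- objects of the thick subcategory generated by `O` on `Spec R` come from perfect objects of `D(R)` -/
theorem exists_perfect_of_tg {K : DCoh.D (Spec (CommRingCat.of R))}
    (hK : TG (Spec (CommRingCat.of R)) K) :
    ∃ M : DerivedCategory (ModuleCat.{u} R), DRing.IsPerfect R M ∧
      Nonempty ((DCoh.tildeD R).obj M ≅ K) := by
  obtain ⟨hfull, hfaith, hess⟩ := Groth.Agent.S0997.result R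
  haveI := hfull
  haveI := hfaith
  induction hK with
  | zero P hP =>
    exact ⟨0, PerfDev.isPerfect_of_isZero R (isZero_zero _),
      ⟨((DCoh.tildeD R).map_isZero (isZero_zero _)).iso hP⟩⟩
  | single a N r e =>
    refine ⟨(singleFunctor (ModuleCat.{u} R) a).obj
      (Groth.Agent.Lib.helper16.FLF.stdFree R r), ?_, ⟨?_⟩⟩
    · exact isPerfect_single R a _
    · exact ((tilde.functor R).mapDerivedCategorySingleFunctor a).app _ ≪≫
        (singleFunctor _ a).mapIso
          (Groth.Agent.Lib.helper16.FLF.tildeFreeModIso R r ≪≫ e.symm)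
  | tri T hT _ _ h1 h3 =>
    obtain ⟨M₁, hM₁, ⟨e₁⟩⟩ := h1
    obtain ⟨M₃, hM₃, ⟨e₃⟩⟩ := h3
    let δ' : (DCoh.tildeD R).obj M₃ ⟶ (DCoh.tildeD R).obj (M₁⟦(1 : ℤ)⟧) :=
      e₃.hom ≫ T.mor₃ ≫ e₁.inv⟦(1 : ℤ)⟧' ≫ ((DCoh.tildeD R).commShiftIso (1 : ℤ)).inv.app M₁
    obtain ⟨C, f, g, hC⟩ := distinguished_cocone_triangle₂ ((DCoh.tildeD R).preimage δ')
    have hFC := (DCoh.tildeD R).map_distinguished _ hC
    have hcomm : ((DCoh.tildeD R).map ((DCoh.tildeD R).preimage δ') ≫
        ((DCoh.tildeD R).commShiftIso (1 : ℤ)).hom.app M₁) ≫ e₁.hom⟦(1 : ℤ)⟧' = e₃.hom ≫ T.mor₃ := by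
      rw [Functor.map_preimage]
      simp only [δ', Category.assoc, Iso.inv_hom_id_app_assoc, ← Functor.map_comp,
        Iso.inv_hom_id, CategoryTheory.Functor.map_id, Category.comp_id]
    have iso := isoTriangleOfIso₁₃ ((DCoh.tildeD R).mapTriangle.obj
      (Triangle.mk f g ((DCoh.tildeD R).preimage δ'))) T hFC hT e₁ e₃ hcomm
    exact ⟨C, (PerfDev.isPerfect_two_of_three R _ hC).2.1 hM₁ hM₃, ⟨Triangle.π₂.mapIso iso⟩⟩
  | retract P P' i p hip hP' h' =>
    obtain ⟨M', hM', ⟨e'⟩⟩ := h'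
    have hPperf : DCoh.IsPerfect P := (TG.retract P P' i p hip hP').isPerfect
    obtain ⟨M, ⟨e⟩⟩ := (hess P).1 (Groth.Agent.Lib.Helper25.ApproxAffine.isQCohD_of_isPerfect hPperf)
    let i' : M ⟶ M' := (DCoh.tildeD R).preimage (e.hom ≫ i ≫ e'.inv)
    let p' : M' ⟶ M := (DCoh.tildeD R).preimage (e'.hom ≫ p ≫ e.inv)
    have hip' : i' ≫ p' = 𝟙 M := by
      apply (DCoh.tildeD R).map_injective
      simp [i', p', reassoc_of% hip]
    obtain ⟨N, ⟨e''⟩⟩ := exists_biprod_of_retract i' p' hip'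
    exact ⟨M, (PerfDev.isPerfect_summand R M N (PerfDev.isPerfect_of_iso R e'' hM')).1, ⟨e⟩⟩

end

/-- **S1105**: `M~` is perfect iff `M` is perfect -/
theorem isPerfect_tildeD_iff (M : Dual.D A) :
    DCoh.IsPerfect ((DCoh.tildeD (CommRingCat.of A)).obj M) ↔ DRing.IsPerfect A M := by
  refine ⟨fun h => ?_, isPerfect_tildeD_of_isPerfect A M⟩
  obtain ⟨hfull, hfaith, -⟩ := Groth.Agent.S0997.result (CommRingCat.of A)
  haveI := hfull
  haveI := hfaith
  obtain ⟨M', hM', ⟨e⟩⟩ := exists_perfect_of_tg (CommRingCat.of A) (tg_of_isPerfect_affine _ _ h)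
  exact Groth.Agent.Lib.helper23.PerfDev.isPerfect_of_iso A
    ((DCoh.tildeD (CommRingCat.of A)).preimageIso e) hM'

end Groth.Agent.Lib.Helper25.TildePerfect
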