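import Mathlib
import Groth.Agent.Lib.Helper25.TildePerfect
import Groth.Agent.Lib.Helper23.HomNat
import Groth.Agent.Lib.Helper23.TA13
import Groth.Agent.Lib.Helper23.DRingPC
import Groth.Agent.Lib.Helper25.DCohPC4
import Groth.Agent.S7261

/-!
# Pseudo-coherence on `Spec A` and in `D(A)` (helper25)

* `isIso_homology_tildeD_map_iff`, `epi_homology_tildeD_map_iff`: `M ↦ M~` detects isomorphisms / epimorphisms on cohomology.
* `isPseudoCoherentD_tildeD_of_isPseudoCoherent`, `isPseudoCoherentD_tildeD_iff` (S1004): `M~` is `m`-pseudo-coherent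
  iff `M` is (approximation by perfect complexes S7261 + `TildePerfect` + helper23's `NPC.of_nIso`).
-/

set_option autoImplicit false
universe u
open CategoryTheory CategoryTheory.Limits AlgebraicGeometry Opposite

attribute [local instance] HasDerivedCategory.standard

namespace Groth.Agent.Lib.Helper25.TildePC

open Pretriangulated DerivedCategory TopologicalSpace Scheme.Modules ZeroObject
open Groth.Agent.Lib.Helper25.TildePerfect Groth.Agent.Lib.Helper25.ThomasonTG

section

variable (R : CommRingCat.{u}) [PreservesFiniteLimits (tilde.functor R)]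

lemma isIso_homology_tildeD_map_iff {M N : DerivedCategory (ModuleCat.{u} R)} (β : M ⟶ N) (i : ℤ) :
    IsIso ((homologyFunctor _ i).map ((DCoh.tildeD R).map β)) ↔
      IsIso ((homologyFunctor _ i).map β) := by
  have h := NatIso.isIso_map_iff (Groth.Agent.Lib.helper23.HomNat.homologyNatIso (tilde.functor R) i) β
  refine h.trans ?_
  constructor
  · intro h1
    dsimp only [Functor.comp_map] at h1
    exact isIso_of_fully_faithful (tilde.functor R) _
  · intro h1
    dsimp only [Functor.comp_map]
    infer_instance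

lemma epi_homology_tildeD_map_iff {M N : DerivedCategory (ModuleCat.{u} R)} (β : M ⟶ N) (i : ℤ) :
    Epi ((homologyFunctor _ i).map ((DCoh.tildeD R).map β)) ↔
      Epi ((homologyFunctor _ i).map β) := by
  let e := Groth.Agent.Lib.helper23.HomNat.homologyNatIso (tilde.functor R) i
  have hnat := e.hom.naturality β
  dsimp only [Functor.comp_map] at hnat
  constructor
  · intro h1
    have h2 : Epi ((tilde.functor R).map ((homologyFunctor _ i).map β)) := by
      have : (tilde.functor R).map ((homologyFunctor _ i).map β) =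
          e.inv.app M ≫ (homologyFunctor _ i).map ((DCoh.tildeD R).map β) ≫ e.hom.app N := by
        rw [hnat, ← Category.assoc, ← NatTrans.comp_app, Iso.inv_hom_id, NatTrans.id_app]
        exact (Category.id_comp _).symm
      rw [this]
      infer_instance
    exact (tilde.functor R).epi_of_epi_map h2
  · intro h1
    have : (homologyFunctor _ i).map ((DCoh.tildeD R).map β) =
        e.hom.app M ≫ (tilde.functor R).map ((homologyFunctor _ i).map β) ≫ e.inv.app N := by
      rw [← Category.assoc, ← hnat, Category.assoc, ← NatTrans.comp_app, Iso.hom_inv_id,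
        NatTrans.id_app]
      exact (Category.comp_id _).symm
    rw [this]
    infer_instance

end

variable (A : Type u) [CommRing A] [PreservesFiniteLimits (tilde.functor (CommRingCat.of A))]

open Groth.Agent.Lib.helper23 Groth.Agent.Lib.helper23.DRingPC Groth.Agent.Lib.helper23.PCohCore in
/-- `M` `m`-pseudo-coherent in `D(A)` implies `M~` `m`-pseudo-coherent -/
theorem isPseudoCoherentD_tildeD_of_isPseudoCoherent (M : Dual.D A) (m : ℤ)
    (hM : DRing.IsPseudoCoherent A m M) :
    DCoh.IsPseudoCoherentD m ((DCoh.tildeD (CommRingCat.of A)).obj M) := by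
  obtain ⟨E, a, b, α, hV, hF, h1, h2⟩ := hM
  let F₀ : CochainComplex (Spec (CommRingCat.of A)).Modules ℤ :=
    ((tilde.functor (CommRingCat.of A)).mapHomologicalComplex (ComplexShape.up ℤ)).obj E
  have hF₀ : DCoh.IsStrictlyPerfect F₀ := by
    refine ⟨⟨a, b, fun i hi => (tilde.functor (CommRingCat.of A)).map_isZero (hV i hi)⟩, fun i => ?_⟩
    haveI := (hF i).1
    haveI := (hF i).2
    exact Groth.Agent.Lib.Helper25.RegPerfect.isFinLocFree_tilde (CommRingCat.of A) (E.X i)
  let e : Q.obj F₀ ≅ (DCoh.tildeD (CommRingCat.of A)).obj (Q.obj E) :=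
    (((tilde.functor (CommRingCat.of A)).mapDerivedCategoryFactors).app E).symm
  refine Groth.Agent.Lib.helper25.DCohPC4.isPseudoCoherentD_of_pcData_global
    ⟨F₀, e.hom ≫ (DCoh.tildeD (CommRingCat.of A)).map α, hF₀, fun i hi => ?_, ?_⟩
  · haveI := (isIso_homology_tildeD_map_iff (CommRingCat.of A) α i).2 (h1 i hi)
    rw [Functor.map_comp]
    infer_instance
  · haveI := (epi_homology_tildeD_map_iff (CommRingCat.of A) α m).2 h2
    rw [Functor.map_comp]
    infer_instance

open Groth.Agent.Lib.helper23 Groth.Agent.Lib.helper23.DRingPC Groth.Agent.Lib.helper23.PCohCore in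
/-- **S1004**: `M~` is `m`-pseudo-coherent iff `M` is -/
theorem isPseudoCoherentD_tildeD_iff (M : Dual.D A) (m : ℤ) :
    DCoh.IsPseudoCoherentD m ((DCoh.tildeD (CommRingCat.of A)).obj M) ↔
      DRing.IsPseudoCoherent A m M := by
  refine ⟨fun hpc => ?_, isPseudoCoherentD_tildeD_of_isPseudoCoherent A M m⟩
  obtain ⟨hfull, hfaith, hess⟩ := Groth.Agent.S0997.result (CommRingCat.of A)
  haveI := hfull
  haveI := hfaith
  have hq : DCoh.IsQCohD ((DCoh.tildeD (CommRingCat.of A)).obj M) := (hess _).2 ⟨M, ⟨Iso.refl _⟩⟩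
  obtain ⟨P, α, hP, -, h1, h2⟩ := Groth.Agent.S7261.result (Spec (CommRingCat.of A)) ∅ m
    ((DCoh.tildeD (CommRingCat.of A)).obj M) hq hpc (fun i _ => by
      rw [Finset.coe_empty, Scheme.zeroLocus_empty_eq_univ]
      exact Set.subset_univ _)
  obtain ⟨N, hN, ⟨e⟩⟩ := exists_perfect_of_tg (CommRingCat.of A) (tg_of_isPerfect_affine _ _ hP)
  let β : N ⟶ M := (DCoh.tildeD (CommRingCat.of A)).preimage (e.hom ≫ α)
  have hβ : (DCoh.tildeD (CommRingCat.of A)).map β = e.hom ≫ α := Functor.map_preimage _ _
  have hβ1 : ∀ i : ℤ, m < i → IsIso ((homologyFunctor (ModuleCat.{u} A) i).map β) := by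
    intro i hi
    refine (isIso_homology_tildeD_map_iff (CommRingCat.of A) β i).1 ?_
    haveI := h1 i hi
    rw [hβ, Functor.map_comp]
    infer_instance
  have hβ2 : Epi ((homologyFunctor (ModuleCat.{u} A) m).map β) := by
    refine (epi_homology_tildeD_map_iff (CommRingCat.of A) β m).1 ?_
    rw [hβ, Functor.map_comp]
    infer_instance
  have hNpc : NPC (FF A) m N := (TA.npc_and_hasTorAmplitudeIn_of_isPerfect N hN).1 m
  exact (isPseudoCoherent_iff_npc A m M).2
    (NPC.of_nIso (FF A) (FF_sum A) (FF_hqs A) (FF_hql A) m hNpc β ⟨hβ1, hβ2⟩)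

end Groth.Agent.Lib.Helper25.TildePC
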