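import Mathlib
import Groth.Agent.Lib.Helper25.ExtendPCHocolim
import Groth.Agent.Lib.Helper25.TildePC
import Groth.Agent.Lib.Helper25.RestrictDNat
import Groth.Agent.S9498

/-!
# Extending pseudo-coherent objects from a quasi-compact open of an affine scheme (helper25)

Stacks 0DJM-type statements.

* `isPseudoCoherentD_restrictD_of_isOpenImmersion`.
* `exists_pc_extension`: `E` pseudo-coherent on a quasi-compact open `U` of an affine `X` is the restriction of a
  pseudo-coherent object of `D(O_X)` (apply `ExtendPCHocolim.exists_pc_of_restrict` to `Rj_* E`).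
* `exists_iso_stdFree`, `exists_finite_free_cx_spec`, `exists_finite_free_cx`: pseudo-coherent objects on affine schemes are
  represented by bounded above complexes of finite free modules (S0997, S1004, helper23's `isPseudoCoherent'_iff_npc`).
* `exists_finite_free_extension` (S1018).
-/

set_option autoImplicit false
universe u
open CategoryTheory CategoryTheory.Limits AlgebraicGeometry Opposite

attribute [local instance] HasDerivedCategory.standard

namespace Groth.Agent.Lib.Helper25.ExtendPCMain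

open Pretriangulated DerivedCategory TopologicalSpace Scheme.Modules ZeroObject
open Groth.Agent.Lib.helper25.DCohPerfect Groth.Agent.Lib.helper25.DCohRestrict
  Groth.Agent.Lib.helper25.DCohPC Groth.Agent.Lib.helper25.DCohPC2 Groth.Agent.Lib.helper25.DCohPC3
  Groth.Agent.Lib.Helper25.ExtendPCHocolim

variable {X : Scheme.{u}}

/-- pseudo-coherence restricts along open immersions -/
lemma isPseudoCoherentD_restrictD_of_isOpenImmersion {Z : Scheme.{u}} (j : Z ⟶ X) [IsOpenImmersion j]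
    {m : ℤ} {K : DCoh.D X} (h : DCoh.IsPseudoCoherentD m K) :
    DCoh.IsPseudoCoherentD m ((DCoh.restrictD j).obj K) := by
  refine isPseudoCoherentD_of_local (fun y => ?_)
  obtain ⟨V₂, hy₂, hpc⟩ := exists_pcData h (j y)
  let W : Z.Opens := j ⁻¹ᵁ V₂
  let g : (W : Scheme.{u}) ⟶ (V₂ : Scheme.{u}) := j ∣_ V₂
  have hg : g ≫ V₂.ι = W.ι ≫ j := morphismRestrict_ι j V₂
  have h1 := PCData.restrict g hpc
  obtain ⟨c⟩ := nonempty_restrictD_comp_iso g V₂.ι K
  obtain ⟨d⟩ := nonempty_restrictD_congr_iso hg K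
  obtain ⟨c'⟩ := nonempty_restrictD_comp_iso W.ι j K
  exact ⟨W, W.ι, inferInstance, ⟨⟨y, hy₂⟩, rfl⟩, h1.of_iso (c.symm ≪≫ d ≪≫ c')⟩

/-- **extension of pseudo-coherent objects**: `X` affine, `U` quasi-compact open, `E` pseudo-coherent on `U`.  Then `E` is
the restriction of a pseudo-coherent object of `D(O_X)`. -/
theorem exists_pc_extension [IsAffine X] (U : X.Opens) (hU : IsCompact (U : Set X))
    (E : DCoh.D (U : Scheme.{u})) (hE : ∀ m : ℤ, DCoh.IsPseudoCoherentD m E) :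
    ∃ L : DCoh.D X, (∀ m : ℤ, DCoh.IsPseudoCoherentD m L) ∧
      Nonempty ((DCoh.restrictD U.ι).obj L ≅ E) := by
  haveI : CompactSpace ((U : X.Opens) : Scheme.{u}) := isCompact_iff_compactSpace.mp hU
  haveI := Groth.Agent.Lib.Helper25.SchKInj.hasRpush U.ι
  obtain ⟨adj⟩ := Groth.Agent.Lib.Helper25.RGZ1.nonempty_adj U.ι
  let K := (DCoh.Rpush U.ι).obj E
  have hEq : DCoh.IsQCohD E := Groth.Agent.Lib.Helper25.RpushPCUnbdd.isQCohD_of_isPseudoCoherentD E hE
  have hK : DCoh.IsQCohD K := Groth.Agent.Lib.Helper25.RpushQC.isQCohD_Rpush U.ι E hEq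
  haveI := Groth.Agent.Lib.Helper25.RGZ1.isIso_counit U.ι adj E
  let e : (DCoh.restrictD U.ι).obj K ≅ E := asIso (adj.counit.app E)
  have hKU : ∀ m : ℤ, DCoh.IsPseudoCoherentD m ((DCoh.restrictD U.ι).obj K) := fun m =>
    isPseudoCoherentD_of_iso e.symm (hE m)
  obtain ⟨L, g, hL, hg⟩ := exists_pc_of_restrict U hU K hK hKU
  haveI := hg
  exact ⟨L, hL, ⟨asIso ((DCoh.restrictD U.ι).map g) ≪≫ e⟩⟩

open Groth.Agent.Lib.helper16.FLF in
/-- a finite free module is isomorphic to a standard free module -/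
lemma exists_iso_stdFree (R : CommRingCat.{u}) (M : ModuleCat.{u} R) [Module.Finite R M]
    [Module.Free R M] : ∃ n : ℕ, Nonempty (M ≅ stdFree R n) := by
  classical
  let b := Module.Free.chooseBasis R M
  let b' := b.reindex (Fintype.equivFin (Module.Free.ChooseBasisIndex R M))
  exact ⟨Fintype.card (Module.Free.ChooseBasisIndex R M), ⟨(b'.equivFun).toModuleIso⟩⟩

open Groth.Agent.Lib.helper23.DRingPC in
/-- a pseudo-coherent object on `Spec A` is represented by a bounded above complex of finite free modules -/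
theorem exists_finite_free_cx_spec (A : Type u) [CommRing A] (L : DCoh.D (Spec (CommRingCat.of A)))
    (hL : ∀ m : ℤ, DCoh.IsPseudoCoherentD m L) :
    ∃ (G : CochainComplex (Spec (CommRingCat.of A)).Modules ℤ) (b : ℤ),
      (∀ i : ℤ, b < i → IsZero (G.X i)) ∧
      (∀ i : ℤ, ∃ n : ℕ, Nonempty (G.X i ≅ FlatMod.freeMod (Spec (CommRingCat.of A)) n)) ∧
      Nonempty (Q.obj G ≅ L) := by
  haveI := Groth.Agent.S9498.preservesFiniteLimits_tilde (CommRingCat.of A)
  obtain ⟨-, -, hess⟩ := Groth.Agent.S0997.result (CommRingCat.of A)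
  obtain ⟨N, ⟨e⟩⟩ := (hess L).1
    (Groth.Agent.Lib.Helper25.RpushPCUnbdd.isQCohD_of_isPseudoCoherentD L hL)
  have hN : ∀ m : ℤ, DRing.IsPseudoCoherent A m N := fun m =>
    (Groth.Agent.Lib.Helper25.TildePC.isPseudoCoherentD_tildeD_iff A N m).1
      (isPseudoCoherentD_of_iso e.symm (hL m))
  have hN' : DRing.IsPseudoCoherent' A N :=
    (isPseudoCoherent'_iff_npc A N).2 (fun m => (isPseudoCoherent_iff_npc A m N).1 (hN m))
  obtain ⟨G₀, b, hb, hff, ⟨e₀⟩⟩ := hN'
  refine ⟨((tilde.functor (CommRingCat.of A)).mapHomologicalComplex (ComplexShape.up ℤ)).obj G₀, b,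
    fun i hi => (tilde.functor (CommRingCat.of A)).map_isZero (hb i hi), fun i => ?_, ⟨?_⟩⟩
  · haveI := (hff i).1
    haveI := (hff i).2
    obtain ⟨n, ⟨a⟩⟩ := exists_iso_stdFree (CommRingCat.of A) (G₀.X i)
    exact ⟨n, ⟨(tilde.functor (CommRingCat.of A)).mapIso a ≪≫
      Groth.Agent.Lib.helper16.FLF.tildeFreeModIso (CommRingCat.of A) n⟩⟩
  · exact (((tilde.functor (CommRingCat.of A)).mapDerivedCategoryFactors).app G₀).symm ≪≫
      (DCoh.tildeD (CommRingCat.of A)).mapIso e₀ ≪≫ e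

/-- a pseudo-coherent object on an affine scheme is represented by a bounded above complex of finite free modules -/
theorem exists_finite_free_cx [IsAffine X] (L : DCoh.D X) (hL : ∀ m : ℤ, DCoh.IsPseudoCoherentD m L) :
    ∃ (G : CochainComplex X.Modules ℤ) (b : ℤ), (∀ i : ℤ, b < i → IsZero (G.X i)) ∧
      (∀ i : ℤ, ∃ n : ℕ, Nonempty (G.X i ≅ FlatMod.freeMod X n)) ∧ Nonempty (Q.obj G ≅ L) := by
  let φ : X ⟶ Spec (CommRingCat.of ↑Γ(X, ⊤)) := X.isoSpec.hom
  let ψ : Spec (CommRingCat.of ↑Γ(X, ⊤)) ⟶ X := X.isoSpec.inv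
  haveI : IsIso φ := inferInstanceAs (IsIso X.isoSpec.hom)
  haveI : IsIso ψ := inferInstanceAs (IsIso X.isoSpec.inv)
  obtain ⟨G', b, hb, hfr, ⟨e'⟩⟩ := exists_finite_free_cx_spec ↑Γ(X, ⊤) ((DCoh.restrictD ψ).obj L)
    (fun m => isPseudoCoherentD_restrictD_of_isOpenImmersion ψ (hL m))
  refine ⟨(resCx φ).obj G', b, fun i hi => (restrictFunctor φ).map_isZero (hb i hi), fun i => ?_, ?_⟩
  · obtain ⟨n, ⟨a⟩⟩ := hfr i
    exact ⟨n, ⟨(restrictFunctor φ).mapIso a ≪≫
      Groth.Agent.Lib.helper16.FLF.restrictFreeModIso φ n⟩⟩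
  · obtain ⟨c⟩ := nonempty_restrictD_comp_iso φ ψ L
    obtain ⟨d⟩ := nonempty_restrictD_congr_iso (show φ ≫ ψ = 𝟙 X from X.isoSpec.hom_inv_id) L
    exact ⟨(resDQIso φ G').symm ≪≫ (DCoh.restrictD φ).mapIso e' ≪≫ c.symm ≪≫ d ≪≫
      (Groth.Agent.Lib.Helper25.RestrictDNat.idIso X).app L⟩

/-- **S1018**: a pseudo-coherent object on a quasi-compact open `U` of an affine scheme `X` is the restriction of a
bounded above complex of finite free `O_X`-modules -/
theorem exists_finite_free_extension [IsAffine X] (U : X.Opens) (hU : IsCompact (U : Set X))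
    (E : DCoh.D (U : Scheme.{u})) (hE : ∀ m : ℤ, DCoh.IsPseudoCoherentD m E) :
    ∃ (G : CochainComplex X.Modules ℤ) (b : ℤ), (∀ i : ℤ, b < i → IsZero (G.X i)) ∧
      (∀ i : ℤ, ∃ n : ℕ, Nonempty (G.X i ≅ FlatMod.freeMod X n)) ∧
      Nonempty (DerivedCategory.Q.obj ((DCoh.restrictCx U).obj G) ≅ E) := by
  obtain ⟨L, hL, ⟨e⟩⟩ := exists_pc_extension U hU E hE
  obtain ⟨G, b, hb, hfr, ⟨a⟩⟩ := exists_finite_free_cx L hL
  exact ⟨G, b, hb, hfr, ⟨(resDQIso U.ι G).symm ≪≫ (DCoh.restrictD U.ι).mapIso a ≪≫ e⟩⟩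

end Groth.Agent.Lib.Helper25.ExtendPCMain
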