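import Groth.Agent.Lib.Helper25.LpullComp
import Groth.Agent.Lib.Helper13.RKF1

/-!
# `f^*` on K-flat complexes: quasi-isomorphisms and the value of `Lf^*`

* `acyclic_extCx φ Q hQ hac`: termwise extension of scalars of an acyclic K-flat complex of modules is acyclic.
* `acyclic_pullback_of_isKFlat f C hK hac`: `f^*` of an acyclic K-flat complex of `O_Y`-modules is acyclic (stalkwise; no
  flatness of the terms is needed).
* `quasiIso_pullback_map_of_isKFlat`: `f^*` preserves quasi-isomorphisms between K-flat complexes.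
* `isIso_ε_app_of_isKFlat f G hG`, `nonempty_Lpull_iso_of_isKFlat`: `Lf^*(Q G) ≅ Q(f^* G)` for every K-flat `G`.
-/

set_option autoImplicit false
universe u
open CategoryTheory CategoryTheory.Limits AlgebraicGeometry ZeroObject

attribute [local instance] HasDerivedCategory.standard

namespace Groth.Agent.Lib.Helper25.PullKFlatQis

open Groth.Agent.Lib.Helper25.LpullAdapted Groth.Agent.Lib.Helper25.LDerAdapted
  Groth.Agent.Lib.Helper25.PullKFlat Groth.Agent.Lib.Helper25.StalkKFlat
  Groth.Agent.Lib.Helper25.StalkTensorCx Groth.Agent.Lib.Helper25.KFlatTri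
  Groth.Agent.Lib.Helper25.LpullComp

section ring

variable {R S : Type u} [CommRing R] [CommRing S] (φ : R →+* S)

/-- termwise extension of scalars of an acyclic K-flat complex is acyclic -/
theorem acyclic_extCx (Q : DRing.Cx R) (hQ : DRing.IsKFlat R Q) (hac : ∀ i : ℤ, Q.ExactAt i) (i : ℤ) :
    ((Groth.Agent.Lib.helper13.ExtKFlat.extCx φ).obj Q).ExactAt i := by
  have h0 : ∀ i : ℤ, (0 : CochainComplex (ModuleCat.{u} R) ℤ).ExactAt i := fun i =>
    HomologicalComplex.ExactAt.of_isZero ((HomologicalComplex.eval _ _ i).map_isZero (isZero_zero _))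
  have hq : QuasiIso (0 : (0 : CochainComplex (ModuleCat.{u} R) ℤ) ⟶ Q) := by
    rw [quasiIso_iff]
    intro i
    exact (quasiIsoAt_iff_exactAt _ i (h0 i)).2 (hac i)
  have hz : Groth.Agent.Lib.helper13.KFlat.IsKFlatR (0 : CochainComplex (ModuleCat.{u} R) ℤ) :=
    Groth.Agent.Lib.helper13.RKF.isKFlatR_of_isZero _ (isZero_zero _)
  have h1 := Groth.Agent.Lib.helper13.RKF.quasiIso_extendScalars_map φ hz hQ (0 : (0 : CochainComplex (ModuleCat.{u} R) ℤ) ⟶ Q)
  have h2 : (((ModuleCat.extendScalars.{u, u, u} φ).mapHomologicalComplex (ComplexShape.up ℤ)).obj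
      (0 : CochainComplex (ModuleCat.{u} R) ℤ)).ExactAt i :=
    HomologicalComplex.ExactAt.of_isZero ((HomologicalComplex.eval _ _ i).map_isZero
      (Functor.map_isZero ((ModuleCat.extendScalars.{u, u, u} φ).mapHomologicalComplex
        (ComplexShape.up ℤ)) (isZero_zero _)))
  exact (quasiIsoAt_iff_exactAt (((ModuleCat.extendScalars.{u, u, u} φ).mapHomologicalComplex
    (ComplexShape.up ℤ)).map (0 : (0 : CochainComplex (ModuleCat.{u} R) ℤ) ⟶ Q)) i h2).1 inferInstance

end ring

variable {X Y : Scheme.{u}} (f : X ⟶ Y)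

/-- **`f^*` of an acyclic K-flat complex is acyclic** (no flatness of the terms needed) -/
theorem acyclic_pullback_of_isKFlat (C : CochainComplex Y.Modules ℤ) (hK : DCoh.IsKFlat C)
    (hac : ∀ i : ℤ, C.ExactAt i) (i : ℤ) :
    (((Scheme.Modules.pullback f).mapHomologicalComplex (ComplexShape.up ℤ)).obj C).ExactAt i := by
  rw [HomologicalComplex.exactAt_iff_isZero_homology]
  apply isZero_homology_of_forall_stalk
  intro x
  have h1 := isKFlat_stalk_of_isKFlat (f x) C hK
  have h2 : ∀ i : ℤ, ((stalkCx (f x)).obj C).ExactAt i := fun i => by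
    rw [HomologicalComplex.exactAt_iff_isZero_homology]
    exact isZero_homology_map (DerSch.stalkFunctor Y (f x)) C i
      ((HomologicalComplex.exactAt_iff_isZero_homology _ _).1 (hac i))
  have h3 := acyclic_extCx (f.stalkMap x).hom _ h1 h2 i
  rw [HomologicalComplex.exactAt_iff_isZero_homology] at h3
  exact h3.of_iso ((HomologicalComplex.homologyFunctor _ _ i).mapIso (stalkCxPullbackIso f x C))

/-- **`f^*` preserves quasi-isomorphisms between K-flat complexes** -/
theorem quasiIso_pullback_map_of_isKFlat {E E' : CochainComplex Y.Modules ℤ} (g : E ⟶ E')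
    (h : DCoh.IsKFlat E) (h' : DCoh.IsKFlat E') (hg : QuasiIso g) :
    QuasiIso (((Scheme.Modules.pullback f).mapHomologicalComplex (ComplexShape.up ℤ)).map g) := by
  rw [quasiIso_iff_mappingCone_exactAt]
  intro n
  refine HomologicalComplex.ExactAt.of_iso ?_
    (CochainComplex.mappingCone.mapHomologicalComplexIso g (Scheme.Modules.pullback f))
  exact acyclic_pullback_of_isKFlat f _ (dcoh_isKFlat_mappingCone g h h')
    (fun n => (quasiIso_iff_mappingCone_exactAt g).1 hg n) n

lemma hΦ₁ {E E' : CochainComplex Y.Modules ℤ} (g : E ⟶ E') (h : DCoh.IsKFlat E)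
    (h' : DCoh.IsKFlat E') (hg : QuasiIso g) :
    IsIso ((DCoh.pullKh f).map ((HomotopyCategory.quotient _ _).map g)) := by
  have := quasiIso_pullback_map_of_isKFlat f g h h' hg
  change IsIso (DerivedCategory.Qh.map (((Scheme.Modules.pullback f).mapHomotopyCategory
    (ComplexShape.up ℤ)).map ((HomotopyCategory.quotient _ _).map g)))
  have : IsIso (DerivedCategory.Q.map
      (((Scheme.Modules.pullback f).mapHomologicalComplex (ComplexShape.up ℤ)).map g)) :=
    inferInstance
  exact this

/-- **`Lf^*` is computed by `f^*` on K-flat complexes** -/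
theorem isIso_ε_app_of_isKFlat [DCoh.HasLpull f] (G : CochainComplex Y.Modules ℤ)
    (hG : DCoh.IsKFlat G) : IsIso ((ε f).app ((HomotopyCategory.quotient _ _).obj G)) :=
  isIso_counit_app_quotient_obj (fun E => DCoh.IsKFlat E) Groth.Agent.Lib.Helper25.LTensorDCoh.hzero
    (fun E n h => dcoh_isKFlat_shift E n h) (fun g h h' => dcoh_isKFlat_mappingCone g h h')
    Groth.Agent.Lib.Helper25.LTensorDCoh.hres₀
    (DCoh.pullKh f) (fun g h h' hg => hΦ₁ f g h h' hg) _ (ε f) G hG

/-- `Lf^*(Q G) ≅ Q(f^* G)` for K-flat `G` -/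
theorem nonempty_Lpull_iso_of_isKFlat [DCoh.HasLpull f] (G : CochainComplex Y.Modules ℤ)
    (hG : DCoh.IsKFlat G) :
    Nonempty ((DCoh.Lpull f).obj (DerivedCategory.Q.obj G) ≅ DerivedCategory.Q.obj
      (((Scheme.Modules.pullback f).mapHomologicalComplex (ComplexShape.up ℤ)).obj G)) := by
  have h := isIso_ε_app_of_isKFlat f G hG
  exact ⟨@asIso _ _ _ _ _ h⟩

end Groth.Agent.Lib.Helper25.PullKFlatQis
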