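import Mathlib
import Groth.Prelude.Def_DCoh3
import Groth.Prelude.Def_CxOX
import Groth.Agent.Lib.Helper25.LpullRpushAdj
import Groth.Agent.Lib.Helper25.PullFlatExact
import Groth.Agent.Lib.Helper25.ExtZeroUnit
import Groth.Agent.Lib.Helper25.MVSupp
import Groth.Agent.Lib.Helper25.QCCEv
import Groth.Agent.Lib.Helper25.PullKFlatQis
import Groth.Agent.Lib.Helper23.Kz5
import Groth.Agent.Lib.Helper11.InvMod

/-!
# Natural isomorphisms between derived pullbacks, restrictions and extensions by zero (helper25)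

* `nonempty_mapDC_iso_Lpull`: `(h^*).mapDerivedCategory ≅ Lh^*` for `h` flat.
* `nonempty_restrictD_iso_Lpull`: `restrictD j ≅ Lj^*` for an open immersion `j`.
* `nonempty_Lpull_restrictD`: `Lf^* ⋙ (-)|_V ≅ (-)|_U ⋙ L(f.resLE U V)^*`; `_flat`, `nonempty_mapDC_restrictD`: variants with
  `(h^*).mapDerivedCategory` for flat morphisms.
* `adjExt V : j_{V!} ⊣ (-)|_V` on derived categories, with invertible unit.
* `nonempty_extZeroD_Lpull`: `j_{V!} ⋙ Lf^* ≅ L(f|_V)^* ⋙ j_{f⁻¹V !}`.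
* `nonempty_mapDC_Sp_iso`, `nonempty_restrictD_Sp_iso`, `nonempty_Lpull_Sp_iso`, `nonempty_shift_Sp_iso`: the objects
  `O[-n]` are preserved.
-/

set_option autoImplicit false
universe u
open CategoryTheory AlgebraicGeometry
attribute [local instance] HasDerivedCategory.standard

namespace Groth.Agent.Lib.Helper25.FBCIso

open Groth.Agent.Lib.Helper25.QCCEv Groth.Agent.Lib.helper23.Kz

attribute [local instance] Groth.Agent.Lib.Helper25.SchKInj.hasRpush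
  Groth.Agent.Lib.Helper25.LpullAdapted.hasLpull

variable {X Y : Scheme.{u}}

/-- `(h^*).mapDerivedCategory ≅ Lh^*` for flat `h` -/
theorem nonempty_mapDC_iso_Lpull (h : X ⟶ Y) [Flat h] :
    Nonempty ((Scheme.Modules.pullback h).mapDerivedCategory ≅ DCoh.Lpull h) := by
  obtain ⟨adj', -⟩ := Groth.Agent.Lib.Helper25.DerAdjK.exists_adjunction
    (Groth.Agent.Lib.Helper25.SchKInj.hKinj X) (Scheme.Modules.pullbackPushforwardAdjunction h)
    (DCoh.Rpush h) ((DCoh.pushKh h).totalRightDerivedUnit DerivedCategory.Qh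
      (HomotopyCategory.quasiIso X.Modules (ComplexShape.up ℤ)))
  exact ⟨adj'.leftAdjointUniq (Groth.Agent.Lib.Helper25.LpullRpushAdj.adj h)⟩

/-- `restrictD j ≅ Lj^*` -/
theorem nonempty_restrictD_iso_Lpull {U : Scheme.{u}} (j : U ⟶ X) [IsOpenImmersion j] :
    Nonempty (DCoh.restrictD j ≅ DCoh.Lpull j) := by
  obtain ⟨e⟩ := nonempty_mapDC_iso_Lpull j
  exact ⟨mapDCIso (Scheme.Modules.restrictFunctorIsoPullback j) ≪≫ e⟩

lemma nonempty_Lpull_congr {f f' : X ⟶ Y} (e : f = f') : Nonempty (DCoh.Lpull f ≅ DCoh.Lpull f') := by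
  subst e
  exact ⟨Iso.refl _⟩

/-- `Lf^* ⋙ (-)|_V ≅ (-)|_U ⋙ L(f.resLE U V)^*` -/
theorem nonempty_Lpull_restrictD (f : X ⟶ Y) (U : Y.Opens) (V : X.Opens) (e : V ≤ f ⁻¹ᵁ U) :
    Nonempty (DCoh.Lpull f ⋙ DCoh.restrictD V.ι ≅ DCoh.restrictD U.ι ⋙ DCoh.Lpull (f.resLE U V e)) := by
  obtain ⟨iV⟩ := nonempty_restrictD_iso_Lpull V.ι
  obtain ⟨iU⟩ := nonempty_restrictD_iso_Lpull U.ι
  obtain ⟨c1⟩ := Groth.Agent.Lib.Helper25.LpullComp.nonempty_Lpull_comp V.ι f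
  obtain ⟨c2⟩ := Groth.Agent.Lib.Helper25.LpullComp.nonempty_Lpull_comp (f.resLE U V e) U.ι
  obtain ⟨c3⟩ := nonempty_Lpull_congr (Scheme.Hom.resLE_comp_ι f e).symm
  exact ⟨Functor.isoWhiskerLeft _ iV ≪≫ c1 ≪≫ c3 ≪≫ c2.symm ≪≫ Functor.isoWhiskerRight iU.symm _⟩

/-- the same, with `(h^*).mapDerivedCategory` on the restricted side -/
theorem nonempty_Lpull_restrictD_flat (f : X ⟶ Y) (U : Y.Opens) (V : X.Opens) (e : V ≤ f ⁻¹ᵁ U)
    [Flat (f.resLE U V e)] :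
    Nonempty (DCoh.Lpull f ⋙ DCoh.restrictD V.ι ≅
      DCoh.restrictD U.ι ⋙ (Scheme.Modules.pullback (f.resLE U V e)).mapDerivedCategory) := by
  obtain ⟨a⟩ := nonempty_Lpull_restrictD f U V e
  obtain ⟨b⟩ := nonempty_mapDC_iso_Lpull (f.resLE U V e)
  exact ⟨a ≪≫ Functor.isoWhiskerLeft _ b.symm⟩

/-- the same, with `(h^*).mapDerivedCategory` on both sides -/
theorem nonempty_mapDC_restrictD (f : X ⟶ Y) [Flat f] (U : Y.Opens) (V : X.Opens) (e : V ≤ f ⁻¹ᵁ U) :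
    Nonempty ((Scheme.Modules.pullback f).mapDerivedCategory ⋙ DCoh.restrictD V.ι ≅
      DCoh.restrictD U.ι ⋙ (Scheme.Modules.pullback (f.resLE U V e)).mapDerivedCategory) := by
  obtain ⟨a⟩ := nonempty_Lpull_restrictD_flat f U V e
  obtain ⟨b⟩ := nonempty_mapDC_iso_Lpull f
  exact ⟨Functor.isoWhiskerRight b _ ≪≫ a⟩

section ext

variable (V : X.Opens)

/-- `j_{V!} ⊣ (-)|_V` on derived categories -/
noncomputable def adjExt [Limits.PreservesFiniteLimits (CxOX.extZero V.ι)] :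
    CxOX.extZeroD V.ι ⊣ DCoh.restrictD V.ι :=
  Groth.Agent.Lib.helper25.DerivedAdj.mapDerivedCategoryAdj (CxOX.extZeroAdj V.ι)

instance isIso_unit_adjExt [Limits.PreservesFiniteLimits (CxOX.extZero V.ι)] (P : DCoh.D (V : Scheme.{u})) :
    IsIso ((adjExt V).unit.app P) :=
  Groth.Agent.Lib.Helper25.ExtZeroUnit.isIso_unit_app (CxOX.extZeroAdj V.ι) P

end ext

/-- `j_{V!} ⋙ Lf^* ≅ L(f|_V)^* ⋙ j_{f⁻¹V !}` -/
theorem nonempty_extZeroD_Lpull (f : X ⟶ Y) (V : Y.Opens)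
    [Limits.PreservesFiniteLimits (CxOX.extZero V.ι)]
    [Limits.PreservesFiniteLimits (CxOX.extZero (f ⁻¹ᵁ V).ι)] :
    Nonempty (CxOX.extZeroD V.ι ⋙ DCoh.Lpull f ≅
      DCoh.Lpull (f ∣_ V) ⋙ CxOX.extZeroD (f ⁻¹ᵁ V).ι) := by
  obtain ⟨ρ⟩ := Groth.Agent.Lib.Helper25.SchKInj.nonempty_Rpush_restrict_iso f V
  let adj1 : CxOX.extZeroD V.ι ⋙ DCoh.Lpull f ⊣ DCoh.Rpush f ⋙ DCoh.restrictD V.ι :=
    (adjExt V).comp (Groth.Agent.Lib.Helper25.LpullRpushAdj.adj f)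
  let adj2 : DCoh.Lpull (f ∣_ V) ⋙ CxOX.extZeroD (f ⁻¹ᵁ V).ι ⊣
      DCoh.restrictD (f ⁻¹ᵁ V).ι ⋙ DCoh.Rpush (f ∣_ V) :=
    (Groth.Agent.Lib.Helper25.LpullRpushAdj.adj (f ∣_ V)).comp (adjExt (f ⁻¹ᵁ V))
  exact ⟨(adj1.ofNatIsoRight ρ).leftAdjointUniq adj2⟩

section Sp

/-- `h^* O_Y[-n] ≅ O_X[-n]` -/
theorem nonempty_mapDC_Sp_iso (h : X ⟶ Y) [Flat h] (n : ℤ) :
    Nonempty ((Scheme.Modules.pullback h).mapDerivedCategory.obj (Sp Y n) ≅ Sp X n) :=
  ⟨((Scheme.Modules.pullback h).mapDerivedCategorySingleFunctor n).app (Coh.structureModule Y) ≪≫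
    (DerivedCategory.singleFunctor X.Modules n).mapIso
      (Groth.Agent.Lib.helper11.InvMod.pullbackUnitIso h)⟩

/-- `O_Y[-n]|_U ≅ O_U[-n]` -/
theorem nonempty_restrictD_Sp_iso {U : Scheme.{u}} (j : U ⟶ X) [IsOpenImmersion j] (n : ℤ) :
    Nonempty ((DCoh.restrictD j).obj (Sp X n) ≅ Sp U n) := by
  obtain ⟨a⟩ := nonempty_mapDC_Sp_iso j n
  exact ⟨(mapDCIso (Scheme.Modules.restrictFunctorIsoPullback j)).app _ ≪≫ a⟩

/-- `Lf^* O_Y[-n] ≅ O_X[-n]` -/
theorem nonempty_Lpull_Sp_iso (f : X ⟶ Y) (n : ℤ) :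
    Nonempty ((DCoh.Lpull f).obj (Sp Y n) ≅ Sp X n) := by
  let G : CochainComplex Y.Modules ℤ :=
    (HomologicalComplex.single Y.Modules (ComplexShape.up ℤ) n).obj (Coh.structureModule Y)
  have hG : DCoh.IsKFlat G := by
    refine Groth.Agent.Lib.helper13.KFlat.dcoh_isKFlat_of_bounded_above G n
      (fun q hq => HomologicalComplex.isZero_single_obj_X (ComplexShape.up ℤ) n _ q (by omega))
      (fun q => ?_)
    by_cases hq : q = n
    · subst hq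
      exact Groth.Agent.Lib.helper25.FlatClass.isFlat_of_iso
        (HomologicalComplex.singleObjXSelf (ComplexShape.up ℤ) q (Coh.structureModule Y)).symm
        (Groth.Agent.Lib.helper16.FLF.isFlat_of_isFinLocFree _
          (Groth.Agent.Lib.helper16.FLF.isFinLocFree_structureModule Y))
    · exact Groth.Agent.Lib.helper16.FLF.isFlat_of_isFinLocFree _
        (Groth.Agent.Lib.helper25.FLFKernel.isFinLocFree_of_isZero
          (HomologicalComplex.isZero_single_obj_X (ComplexShape.up ℤ) n _ q hq))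
  obtain ⟨a⟩ := Groth.Agent.Lib.Helper25.PullKFlatQis.nonempty_Lpull_iso_of_isKFlat f G hG
  let e1 : Sp Y n ≅ DerivedCategory.Q.obj G :=
    (DerivedCategory.singleFunctorIsoCompQ Y.Modules n).app _
  let e2 : ((Scheme.Modules.pullback f).mapHomologicalComplex (ComplexShape.up ℤ)).obj G ≅
      (HomologicalComplex.single X.Modules (ComplexShape.up ℤ) n).obj
        ((Scheme.Modules.pullback f).obj (Coh.structureModule Y)) :=
    ((HomologicalComplex.singleMapHomologicalComplex (Scheme.Modules.pullback f)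
      (ComplexShape.up ℤ) n).app _)
  exact ⟨(DCoh.Lpull f).mapIso e1 ≪≫ a ≪≫ DerivedCategory.Q.mapIso e2 ≪≫
    ((DerivedCategory.singleFunctorIsoCompQ X.Modules n).app _).symm ≪≫
    (DerivedCategory.singleFunctor X.Modules n).mapIso
      (Groth.Agent.Lib.helper11.InvMod.pullbackUnitIso f)⟩

/-- `O_X[-n]⟦k⟧ ≅ O_X[-(n - k)]` -/
theorem nonempty_shift_Sp_iso (X : Scheme.{u}) (n k m : ℤ) (h : k + m = n) :
    Nonempty ((Sp X n)⟦k⟧ ≅ Sp X m) :=
  ⟨((DerivedCategory.singleFunctors X.Modules).shiftIso k m n h).app (Coh.structureModule X)⟩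

end Sp

end Groth.Agent.Lib.Helper25.FBCIso
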