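import Mathlib
import Groth.Prelude.Def_DRing3
import Groth.Agent.Lib.Helper25.KInjMain
import Groth.Agent.Lib.Helper25.DerBC
import Groth.Agent.Lib.Helper25.DerBC2
import Groth.Agent.Lib.Helper25.RDerRlim

/-!
# `RΓ_I` kills complexes on which an element of `I` acts bijectively (helper25)

* `exactAt_of_homotopy_of_pow_torsion`: a complex of `A`-modules on which `f` acts invertibly up to homotopy and
  locally nilpotently is acyclic.
* `isZero_RgammaI`: `RΓ_I(K) = 0` in `D(A)` if `f ∈ I` acts bijectively on every term of `K` (via a K-injective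
  resolution `J` of `K`: `f` is a homotopy equivalence of `J`, hence of `Γ_I(J)`, which is `f`-power torsion).
-/

set_option autoImplicit false
universe u
open CategoryTheory CategoryTheory.Limits
attribute [local instance] HasDerivedCategory.standard

namespace Groth.Agent.Lib.Helper25.RGammaSmul

variable {A : Type u} [CommRing A]

/-- a complex of `A`-modules on which multiplication by `f` is, up to homotopy, invertible and
every element is killed by a power of `f`, is acyclic -/
lemma exactAt_of_homotopy_of_pow_torsion (C : CochainComplex (ModuleCat.{u} A) ℤ) (f : A)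
    (g : C ⟶ C) (h : Homotopy ((f • 𝟙 C) ≫ g) (𝟙 C))
    (htors : ∀ (n : ℤ) (z : C.X n), ∃ k : ℕ, f ^ k • z = 0) (n : ℤ) : C.ExactAt n := by
  rw [HomologicalComplex.exactAt_iff' C (n - 1) n (n + 1) (by simp) (by simp),
    ShortComplex.moduleCat_exact_iff]
  intro z hz
  change C.X n at z
  change C.d n (n + 1) z = 0 at hz
  change ∃ w : C.X (n - 1), C.d (n - 1) n w = z
  obtain ⟨k, hk⟩ := htors n z
  induction k generalizing z with
  | zero =>
    rw [pow_zero, one_smul] at hk
    exact ⟨0, by rw [map_zero, hk]⟩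
  | succ k ih =>
    have hz₁ : C.d n (n + 1) (f • z) = 0 := by rw [map_smul, hz, smul_zero]
    obtain ⟨w₁, hw₁⟩ := ih (f • z) hz₁ (by rw [smul_smul, ← pow_succ, hk])
    have hc := congrArg (fun φ => φ z) (congrArg (fun φ => (ModuleCat.Hom.hom φ)) (h.comm n))
    rw [dNext_eq h.hom (show (ComplexShape.up ℤ).Rel n (n + 1) by simp),
      prevD_eq h.hom (show (ComplexShape.up ℤ).Rel (n - 1) n by simp)] at hc
    simp only [HomologicalComplex.comp_f, HomologicalComplex.id_f, ModuleCat.hom_add,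
      ModuleCat.hom_comp, LinearMap.add_apply, LinearMap.coe_comp, Function.comp_apply,
      ModuleCat.hom_id, LinearMap.id_coe, id_eq] at hc
    have e1 : (ModuleCat.Hom.hom ((f • 𝟙 C).f n)) z = f • z := rfl
    have hz' : (ModuleCat.Hom.hom (C.d n (n + 1))) z = 0 := hz
    have hw₁' : (ModuleCat.Hom.hom (C.d (n - 1) n)) w₁ = f • z := hw₁
    have hg := congrArg (fun φ => (ModuleCat.Hom.hom φ) w₁) (g.comm (n - 1) n)
    simp only [ModuleCat.hom_comp, LinearMap.coe_comp, Function.comp_apply] at hg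
    rw [e1, hz', map_zero, zero_add, ← hw₁', ← hg] at hc
    refine ⟨(ModuleCat.Hom.hom (g.f (n - 1))) w₁ - (ModuleCat.Hom.hom (h.hom n (n - 1))) z, ?_⟩
    change (ModuleCat.Hom.hom (C.d (n - 1) n)) _ = z
    rw [map_sub, hc]
    abel

open DerivedCategory in
/-- `RΓ_I(K) = 0` if some `f ∈ I` acts bijectively on all terms of `K` -/
theorem isZero_RgammaI (I : Ideal A) [DRing.HasRgammaI I]
    (K : CochainComplex (ModuleCat.{u} A) ℤ) (f : A) (hf : f ∈ I)
    (hK : ∀ n : ℤ, Function.Bijective (fun x : K.X n => f • x)) :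
    IsZero ((DRing.RgammaI I).obj (DerivedCategory.Q.obj K)) := by
  have hKinj : ∀ K : CochainComplex (ModuleCat.{u} A) ℤ, ∃ (I' : CochainComplex (ModuleCat.{u} A) ℤ)
      (f' : K ⟶ I'), I'.IsKInjective ∧ QuasiIso f' := fun K => by
    obtain ⟨I', f', h1, h2, -, -⟩ := Groth.Agent.Lib.Helper25.KInjMain.exists_kInjective_resolution K
    exact ⟨I', f', h1, h2⟩
  obtain ⟨J, ι, hJ, hι, -, -⟩ := Groth.Agent.Lib.Helper25.KInjMain.exists_kInjective_resolution K
  haveI := hJ
  haveI := hι
  haveI hmK : IsIso (f • 𝟙 K) := by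
    haveI : ∀ n, IsIso ((f • 𝟙 K).f n) := fun n => by
      rw [ConcreteCategory.isIso_iff_bijective]
      exact hK n
    exact HomologicalComplex.Hom.isIso_of_components _
  have hcomm : ι ≫ (f • 𝟙 J) = (f • 𝟙 K) ≫ ι := by
    rw [Linear.comp_smul, Linear.smul_comp, Category.comp_id, Category.id_comp]
  haveI : IsIso (Q.map (f • 𝟙 J)) := by
    have : Q.map (f • 𝟙 J) = inv (Q.map ι) ≫ Q.map (f • 𝟙 K) ≫ Q.map ι := by
      rw [IsIso.eq_inv_comp, ← Q.map_comp, ← Q.map_comp, hcomm]
    rw [this]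
    infer_instance
  haveI : IsIso (Qh.map ((HomotopyCategory.quotient _ (ComplexShape.up ℤ)).map (f • 𝟙 J))) :=
    (NatIso.isIso_map_iff (quotientCompQhIso (ModuleCat.{u} A)) (f • 𝟙 J)).2 ‹_›
  obtain ⟨g, ⟨h⟩⟩ : ∃ g : J ⟶ J, Nonempty (Homotopy ((f • 𝟙 J) ≫ g) (𝟙 J)) := by
    have hbij := CochainComplex.IsKInjective.Qh_map_bijective
      ((HomotopyCategory.quotient _ (ComplexShape.up ℤ)).obj J) J
    obtain ⟨g', hg'⟩ := hbij.2
      (inv (Qh.map ((HomotopyCategory.quotient _ (ComplexShape.up ℤ)).map (f • 𝟙 J))))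
    obtain ⟨g, rfl⟩ := (HomotopyCategory.quotient _ (ComplexShape.up ℤ)).map_surjective g'
    refine ⟨g, ⟨HomotopyCategory.homotopyOfEq _ _ ?_⟩⟩
    apply hbij.1
    rw [Functor.map_comp, Functor.map_comp, hg', IsIso.hom_inv_id, CategoryTheory.Functor.map_id,
      CategoryTheory.Functor.map_id]
  let C := ((DRing.gammaI I).mapHomologicalComplex (ComplexShape.up ℤ)).obj J
  have e1 : (f • 𝟙 C) ≫ ((DRing.gammaI I).mapHomologicalComplex (ComplexShape.up ℤ)).map g =
      ((DRing.gammaI I).mapHomologicalComplex (ComplexShape.up ℤ)).map ((f • 𝟙 J) ≫ g) := by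
    rw [Functor.map_comp]
    congr 1
  have e2 : ((DRing.gammaI I).mapHomologicalComplex (ComplexShape.up ℤ)).map (𝟙 J) = 𝟙 C :=
    CategoryTheory.Functor.map_id _ _
  have h' : Homotopy ((f • 𝟙 C) ≫ ((DRing.gammaI I).mapHomologicalComplex (ComplexShape.up ℤ)).map g)
      (𝟙 C) :=
    (Homotopy.ofEq e1).trans (((DRing.gammaI I).mapHomotopy h).trans (Homotopy.ofEq e2))
  have htors : ∀ (n : ℤ) (z : C.X n), ∃ k : ℕ, f ^ k • z = 0 := by
    intro n z
    change ↥(DRing.torsionSub I (J.X n)) at z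
    obtain ⟨k, hk⟩ := z.2
    exact ⟨k, Subtype.ext (hk _ (Ideal.pow_mem_pow hf k))⟩
  have hC : IsZero (Q.obj C) := by
    apply Groth.Agent.Lib.Helper25.DerBC.isZero_of_homology
    intro n
    refine IsZero.of_iso ?_ ((homologyFunctorFactors (ModuleCat.{u} A) n).app C)
    exact (HomologicalComplex.exactAt_iff_isZero_homology _ _).1
      (exactAt_of_homotopy_of_pow_torsion C f _ h' htors n)
  have hu := Groth.Agent.Lib.Helper25.RDerRlim.isIso_uQ_app (DRing.gammaI I) (DRing.RgammaI I)
    ((DRing.gammaIKh I).totalRightDerivedUnit DerivedCategory.Qh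
      (HomotopyCategory.quasiIso (ModuleCat.{u} A) (ComplexShape.up ℤ)))
    (fun I' hI' => by
      haveI : (DRing.RgammaI I).IsLeftKanExtension
          ((DRing.gammaIKh I).totalRightDerivedUnit DerivedCategory.Qh
            (HomotopyCategory.quasiIso (ModuleCat.{u} A) (ComplexShape.up ℤ))) :=
        Functor.IsRightDerivedFunctor.isLeftKanExtension _ _
          (HomotopyCategory.quasiIso (ModuleCat.{u} A) (ComplexShape.up ℤ))
      exact Groth.Agent.Lib.Helper25.DerBC.isIso_unit_app_of_isKInjective hKinj _ _ _ I') J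
  exact IsZero.of_iso hC ((DRing.RgammaI I).mapIso (asIso (Q.map ι)) ≪≫ (@asIso _ _ _ _ _ hu).symm)

end Groth.Agent.Lib.Helper25.RGammaSmul
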