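import Mathlib
import Groth.Agent.Lib.Helper16.QCohPullback

/-!
# `f_*(N~) ≅ (N_R)~` for `f = Spec φ : Spec S ⟶ Spec R` (helper25)

* `tildePushIso φ : tilde.functor S ⋙ pushforward (Spec.map φ) ≅ restrictScalars φ ⋙ tilde.functor R`
  (Mathlib's `isIso_fromTildeΓ_pushforward` + helper16's `pushΓIso`).
-/

set_option autoImplicit false
universe u
open CategoryTheory CategoryTheory.Limits AlgebraicGeometry

namespace Groth.Agent.Lib.Helper25.TildePush

open Scheme.Modules

variable {R S : CommRingCat.{u}} (φ : R ⟶ S)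

/-- the counit `(Γ M)~ ⟶ M` is invertible at `f_*(N~)` -/
instance isIso_fromTildeΓ_push_tilde (N : ModuleCat.{u} S) :
    IsIso ((pushforward (Spec.map φ)).obj ((tilde.functor S).obj N)).fromTildeΓ :=
  isIso_fromTildeΓ_pushforward φ _

/-- **`f_*(N~) ≅ (N_R)~`** for `f = Spec φ`, naturally in the `S`-module `N` -/
noncomputable def tildePushIso :
    tilde.functor S ⋙ pushforward (Spec.map φ) ≅
      ModuleCat.restrictScalars φ.hom ⋙ tilde.functor R := by
  haveI : IsIso (Functor.whiskerLeft (tilde.functor S ⋙ pushforward (Spec.map φ))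
      (fromTildeΓNatTrans (R := R))) := by
    rw [NatTrans.isIso_iff_isIso_app]
    intro N
    exact isIso_fromTildeΓ_push_tilde φ N
  exact (asIso (Functor.whiskerLeft (tilde.functor S ⋙ pushforward (Spec.map φ))
      (fromTildeΓNatTrans (R := R)))).symm ≪≫
    Functor.associator _ _ _ ≪≫
    Functor.isoWhiskerLeft (tilde.functor S) ((Functor.associator _ _ _).symm ≪≫
      Functor.isoWhiskerRight (Groth.Agent.Lib.helper16.QCohPullback.pushΓIso φ)
        (tilde.functor R) ≪≫ Functor.associator _ _ _) ≪≫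
    (Functor.associator _ _ _).symm ≪≫
    Functor.isoWhiskerRight (tilde.toTildeΓNatIso (R := S)).symm _ ≪≫
    Functor.leftUnitor _

end Groth.Agent.Lib.Helper25.TildePush
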