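import Mathlib
import Groth.Agent.Lib.Helper25.SchKInj
import Groth.Agent.Lib.Helper25.RestrictDNat

/-!
# Base change of `Rf_*` along isomorphisms of schemes (helper25)

* `pushEquiv`, `restrictIsoPush`: for an isomorphism `a`, `a_*` is an equivalence and `a^* ≅ (a⁻¹)_*`.
* `bcIso`: module-level base change for a commutative square whose horizontal maps are isomorphisms.
* `isKInjective_restrict_iso`, `nonempty_Rpush_restrict_iso`: `Rf_* ⋙ b^* ≅ a^* ⋙ Rf'_*`.
-/

set_option autoImplicit false
universe u
open CategoryTheory CategoryTheory.Limits AlgebraicGeometry Opposite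

attribute [local instance] HasDerivedCategory.standard

namespace Groth.Agent.Lib.Helper25.IsoBC

open Scheme.Modules

variable {X X' Y Y' : Scheme.{u}}

/-- pushforward along an isomorphism is an equivalence -/
noncomputable def pushEquiv (a : X' ⟶ X) [IsIso a] : X'.Modules ≌ X.Modules :=
  CategoryTheory.Equivalence.mk (pushforward a) (pushforward (inv a))
    ((pushforwardId X').symm ≪≫ pushforwardCongr (show 𝟙 X' = a ≫ inv a by simp) ≪≫
      (pushforwardComp a (inv a)).symm)
    (pushforwardComp (inv a) a ≪≫ pushforwardCongr (show inv a ≫ a = 𝟙 X by simp) ≪≫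
      pushforwardId X)

/-- restriction along an isomorphism is the pushforward along its inverse -/
noncomputable def restrictIsoPush (a : X' ⟶ X) [IsIso a] :
    restrictFunctor a ≅ pushforward (inv a) :=
  Adjunction.leftAdjointUniq (restrictAdjunction a) (pushEquiv a).symm.toAdjunction

/-- base change along isomorphisms, module level -/
noncomputable def bcIso (a : X' ⟶ X) (b : Y' ⟶ Y) [IsIso a] [IsIso b] (f : X ⟶ Y) (f' : X' ⟶ Y')
    (h : a ≫ f = f' ≫ b) :
    pushforward f ⋙ restrictFunctor b ≅ restrictFunctor a ⋙ pushforward f' :=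
  Functor.isoWhiskerLeft _ (restrictIsoPush b) ≪≫ pushforwardComp f (inv b) ≪≫
    pushforwardCongr (show f ≫ inv b = inv a ≫ f' by
      rw [IsIso.comp_inv_eq, Category.assoc, IsIso.eq_inv_comp, h]) ≪≫
    (pushforwardComp (inv a) f').symm ≪≫ Functor.isoWhiskerRight (restrictIsoPush a).symm _

/-- restriction along an isomorphism preserves K-injective complexes -/
theorem isKInjective_restrict_iso (a : X' ⟶ X) [IsIso a] (I : CochainComplex X.Modules ℤ)
    (hI : I.IsKInjective) :
    CochainComplex.IsKInjective
      (((restrictFunctor a).mapHomologicalComplex (ComplexShape.up ℤ)).obj I) := by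
  let adj : restrictFunctor (inv a) ⊣ restrictFunctor a :=
    (restrictAdjunction (inv a)).ofNatIsoRight (restrictIsoPush a).symm
  haveI := hI
  exact Groth.Agent.Lib.Helper21.KInjAdj.isKInjective_obj adj I

/-- **base change along isomorphisms for `Rf_*`** -/
theorem nonempty_Rpush_restrict_iso (a : X' ⟶ X) (b : Y' ⟶ Y) [IsIso a] [IsIso b] (f : X ⟶ Y)
    (f' : X' ⟶ Y') (h : a ≫ f = f' ≫ b) [DCoh.HasRpush f] [DCoh.HasRpush f'] :
    Nonempty (DCoh.Rpush f ⋙ DCoh.restrictD b ≅ DCoh.restrictD a ⋙ DCoh.Rpush f') :=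
  Groth.Agent.Lib.Helper25.DerBC.nonempty_derived_baseChange_iso
    (Groth.Agent.Lib.Helper25.SchKInj.hKinj X) (Groth.Agent.Lib.Helper25.SchKInj.hKinj _)
    (pushforward f) (pushforward f') (restrictFunctor a) (restrictFunctor b)
    (bcIso a b f f' h) (isKInjective_restrict_iso a)
    (DCoh.Rpush f)
    ((DCoh.pushKh f).totalRightDerivedUnit DerivedCategory.Qh
      (HomotopyCategory.quasiIso X.Modules (ComplexShape.up ℤ)))
    (DCoh.Rpush f')
    ((DCoh.pushKh f').totalRightDerivedUnit DerivedCategory.Qh
      (HomotopyCategory.quasiIso _ (ComplexShape.up ℤ)))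

end Groth.Agent.Lib.Helper25.IsoBC
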