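import Groth.Agent.Lib.Helper25.PullTensorIso
import Groth.Agent.Lib.Helper18.StalkPushClosed
import Groth.Agent.Lib.Helper16.PushColim3
import Groth.Agent.Lib.Helper13.ExtKFlat

/-!
# The projection formula `f_*M ⊗ N ≅ f_*(M ⊗ f^*N)` for a closed immersion (modules)

* `projHom f M N : f_*M ⊗ N ⟶ f_*(M ⊗ f^*N)` (any `f`), `projHom_tmul` (`m ⊗ n ↦ m ⊗ η n`), `projHom_naturality`.
* `stalkPushLin f M x : (f_*M)_{f x} ⟶ M_x` (linear over `O_{Y, f x}`; helper18's `stalkPush`), an isomorphism for a closed
  immersion.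
* `isIso_stalk_projHom`, `isZero_stalk_pushforward`, `isIso_projHom`: for a closed immersion `projHom` is an isomorphism
  (stalkwise: base change associativity `helper13.ExtKFlat.cbcIso` at points of the image, zero stalks elsewhere).
-/

set_option autoImplicit false
universe u
open CategoryTheory CategoryTheory.Limits AlgebraicGeometry Opposite TopologicalSpace MonoidalCategory
open ChangeOfRings

namespace Groth.Agent.Lib.Helper25.PushProj

open Groth.Agent.Lib.Helper25.StalkPre Groth.Agent.Lib.Helper25.StalkExact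
  Groth.Agent.Lib.Helper25.StalkSky Groth.Agent.Lib.helper12.PullTensor
  Groth.Agent.Lib.Helper25.PullTensorIso Groth.Agent.Lib.Lead.ModTensor

variable {X Y : Scheme.{u}} (f : X ⟶ Y)

/-- the projection morphism `f_*M ⊗ N ⟶ f_*(M ⊗ f^*N)` -/
noncomputable def projHom (M : X.Modules) (N : Y.Modules) :
    CohB1.tensorMod ((Scheme.Modules.pushforward f).obj M) N ⟶
      (Scheme.Modules.pushforward f).obj (CohB1.tensorMod M ((Scheme.Modules.pullback f).obj N)) :=
  tensorMap (𝟙 ((Scheme.Modules.pushforward f).obj M)) ((pbAdj f).unit.app N) ≫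
    laxHom f M ((Scheme.Modules.pullback f).obj N)

/-- section formula: `m ⊗ n ↦ m ⊗ η(n)` -/
theorem projHom_tmul (M : X.Modules) (N : Y.Modules) (U : Y.Opens)
    (m : M.val.obj (op (f ⁻¹ᵁ U))) (n : N.val.obj (op U)) :
    ((projHom f M N).val.app (op U)).hom
      (SecTwist.tmul ((Scheme.Modules.pushforward f).obj M) N U m n) =
    SecTwist.tmul M ((Scheme.Modules.pullback f).obj N) (f ⁻¹ᵁ U) m (unitSec f N U n) := by
  unfold projHom
  change ((laxHom f _ _).val.app (op U)).hom
    (((tensorMap (𝟙 ((Scheme.Modules.pushforward f).obj M)) ((pbAdj f).unit.app N)).val.app (op U)).hom _) = _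
  exact (congrArg _ (tensorMap_tmul (𝟙 ((Scheme.Modules.pushforward f).obj M))
    ((pbAdj f).unit.app N) U m n)).trans (laxHom_tmul f _ _ U _ _)

theorem projHom_naturality {M M' : X.Modules} {N N' : Y.Modules} (a : M ⟶ M') (b : N ⟶ N') :
    tensorMap ((Scheme.Modules.pushforward f).map a) b ≫ projHom f M' N' =
      projHom f M N ≫ (Scheme.Modules.pushforward f).map
        (tensorMap a ((Scheme.Modules.pullback f).map b)) := by
  apply tensorMod_hom_ext
  intro U m n
  change ((projHom f M' N').val.app (op U)).hom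
      (((tensorMap ((Scheme.Modules.pushforward f).map a) b).val.app (op U)).hom _) =
    ((tensorMap a ((Scheme.Modules.pullback f).map b)).val.app (op (f ⁻¹ᵁ U))).hom
      (((projHom f M N).val.app (op U)).hom _)
  refine (congrArg _ (tensorMap_tmul ((Scheme.Modules.pushforward f).map a) b U m n)).trans ?_
  refine (projHom_tmul f M' N' U _ _).trans ?_
  refine Eq.trans ?_ (congrArg _ (projHom_tmul f M N U m n)).symm
  refine Eq.trans ?_ (tensorMap_tmul _ _ (f ⁻¹ᵁ U) _ _).symm
  rw [unitSec_naturality]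
  rfl

section stalk

open Groth.Agent.Lib.Helper18.StalkPushClosed Groth.Agent.Lib.helper13.ExtKFlat

variable (M : X.Modules) (N : Y.Modules) (x : X)

/-- restriction of scalars along the stalk map -/
noncomputable abbrev res : ModuleCat.{u} (X.presheaf.stalk x) ⥤ ModuleCat.{u} (Y.presheaf.stalk (f x)) :=
  ModuleCat.restrictScalars.{u} (f.stalkMap x).hom

/-- the comparison `(f_*M)_{f x} ⟶ M_x` as a linear map over `O_{Y, f x}` -/
noncomputable def stalkPushLin :
    (DerSch.stalkFunctor Y (f x)).obj ((Scheme.Modules.pushforward f).obj M) ⟶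
      (res f x).obj ((DerSch.stalkFunctor X x).obj M) :=
  ModuleCat.ofHom (X := (DerSch.stalkFunctor Y (f x)).obj ((Scheme.Modules.pushforward f).obj M))
    (Y := (res f x).obj ((DerSch.stalkFunctor X x).obj M))
    { toFun := stalkPush f M x
      map_add' := map_add _
      map_smul' := fun r m => stalkPush_smul f M x r m }

lemma stalkPushLin_germ (V : Y.Opens) (hx : f x ∈ V) (s : M.val.obj (op (f ⁻¹ᵁ V))) :
    (stalkPushLin f M x).hom
      (((Scheme.Modules.pushforward f).obj M).presheaf.germ V (f x) hx s) =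
    M.presheaf.germ (f ⁻¹ᵁ V) x hx s := by
  change stalkPush f M x _ = _
  exact stalkPush_germ f M x V hx s

instance isIso_stalkPushLin [IsClosedImmersion f] : IsIso (stalkPushLin f M x) := by
  rw [ConcreteCategory.isIso_iff_bijective]
  change Function.Bijective (stalkPush f M x)
  exact stalkPush_bijective f M x f.isClosedEmbedding.isClosedMap
    (fun a ha => f.isClosedEmbedding.injective ha)

/-- the composite through the projection morphism -/
noncomputable def lhsΨ :
    (DerSch.stalkFunctor Y (f x)).obj (CohB1.tensorMod ((Scheme.Modules.pushforward f).obj M) N) ⟶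
      (res f x).obj ((DerSch.stalkFunctor X x).obj M ⊗
        (ext f x).obj ((DerSch.stalkFunctor Y (f x)).obj N)) :=
  (DerSch.stalkFunctor Y (f x)).map (projHom f M N) ≫
    stalkPushLin f (CohB1.tensorMod M ((Scheme.Modules.pullback f).obj N)) x ≫
    (res f x).map ((tensorBiStalkIso x M ((Scheme.Modules.pullback f).obj N)).hom ≫
      ((DerSch.stalkFunctor X x).obj M ◁ (σ f x N).hom))

/-- the composite of isomorphisms (for a closed immersion) -/
noncomputable def rhsΨ :
    (DerSch.stalkFunctor Y (f x)).obj (CohB1.tensorMod ((Scheme.Modules.pushforward f).obj M) N) ⟶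
      (res f x).obj ((DerSch.stalkFunctor X x).obj M ⊗
        (ext f x).obj ((DerSch.stalkFunctor Y (f x)).obj N)) :=
  (tensorBiStalkIso (f x) ((Scheme.Modules.pushforward f).obj M) N).hom ≫
    (stalkPushLin f M x ▷ (DerSch.stalkFunctor Y (f x)).obj N) ≫
    (cbcIso (f.stalkMap x).hom ((DerSch.stalkFunctor X x).obj M)
      ((DerSch.stalkFunctor Y (f x)).obj N)).inv

lemma cbcIso_inv_tm' {R R' : Type u} [CommRing R] [CommRing R'] (φ : R →+* R')
    (A : ModuleCat.{u} R') (B : ModuleCat.{u} R) (a : A) (b : B) :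
    (cbcIso φ A B).inv.hom (tm' φ A B a b) = tm φ A B a 1 b := by
  have h : cbcLE φ A B (tm φ A B a 1 b) = tm' φ A B a b := by
    rw [cbcLE_tm, one_smul]
  change (cbcLE φ A B).symm (tm' φ A B a b) = _
  rw [← h, LinearEquiv.symm_apply_apply]

lemma rhsΨ_germ (V : Y.Opens) (hx : f x ∈ V) (a : M.val.obj (op (f ⁻¹ᵁ V))) (b : N.val.obj (op V)) :
    (rhsΨ f M N x).hom
      ((CohB1.tensorMod ((Scheme.Modules.pushforward f).obj M) N).presheaf.germ V (f x) hx
        (SecTwist.tmul ((Scheme.Modules.pushforward f).obj M) N V a b)) =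
    tm (f.stalkMap x).hom ((DerSch.stalkFunctor X x).obj M) ((DerSch.stalkFunctor Y (f x)).obj N)
      (M.presheaf.germ (f ⁻¹ᵁ V) x hx a) 1 (N.presheaf.germ V (f x) hx b) := by
  have h1 := tensorBiStalkIso_hom_germ_tmul (f x) ((Scheme.Modules.pushforward f).obj M) N V hx a b
  change (cbcIso (f.stalkMap x).hom _ _).inv.hom
    ((stalkPushLin f M x ▷ (DerSch.stalkFunctor Y (f x)).obj N).hom
      ((tensorBiStalkIso (f x) ((Scheme.Modules.pushforward f).obj M) N).hom.hom _)) = _
  rw [h1]
  erw [ModuleCat.MonoidalCategory.whiskerRight_apply]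
  erw [stalkPushLin_germ f M x V hx a]
  exact cbcIso_inv_tm' _ _ _ _ _

lemma lhsΨ_germ (V : Y.Opens) (hx : f x ∈ V) (a : M.val.obj (op (f ⁻¹ᵁ V))) (b : N.val.obj (op V)) :
    (lhsΨ f M N x).hom
      ((CohB1.tensorMod ((Scheme.Modules.pushforward f).obj M) N).presheaf.germ V (f x) hx
        (SecTwist.tmul ((Scheme.Modules.pushforward f).obj M) N V a b)) =
    tm (f.stalkMap x).hom ((DerSch.stalkFunctor X x).obj M) ((DerSch.stalkFunctor Y (f x)).obj N)
      (M.presheaf.germ (f ⁻¹ᵁ V) x hx a) 1 (N.presheaf.germ V (f x) hx b) := by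
  have h1 := DerSch.stalkFunctor_map_germ (f x) (projHom f M N) V hx
    (SecTwist.tmul ((Scheme.Modules.pushforward f).obj M) N V a b)
  have h2 := projHom_tmul f M N V a b
  have h3 := stalkPushLin_germ f (CohB1.tensorMod M ((Scheme.Modules.pullback f).obj N)) x V hx
    (SecTwist.tmul M ((Scheme.Modules.pullback f).obj N) (f ⁻¹ᵁ V) a (unitSec f N V b))
  have h4 := tensorBiStalkIso_hom_germ_tmul x M ((Scheme.Modules.pullback f).obj N) (f ⁻¹ᵁ V) hx a
    (unitSec f N V b)
  have h5 := σ_hom_germ_unit f x N V hx b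
  change ((DerSch.stalkFunctor X x).obj M ◁ (σ f x N).hom).hom
    ((tensorBiStalkIso x M ((Scheme.Modules.pullback f).obj N)).hom.hom
      ((stalkPushLin f (CohB1.tensorMod M ((Scheme.Modules.pullback f).obj N)) x).hom
        (((DerSch.stalkFunctor Y (f x)).map (projHom f M N)).hom _))) = _
  rw [h1]
  erw [h2, h3, h4]
  erw [ModuleCat.MonoidalCategory.whiskerLeft_apply]
  erw [h5]
  rfl

theorem lhsΨ_eq_rhsΨ : lhsΨ f M N x = rhsΨ f M N x := by
  ext m
  induction m using tensorMod_stalk_induction with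
  | zero => exact (map_zero (lhsΨ f M N x).hom).trans (map_zero (rhsΨ f M N x).hom).symm
  | tmul V hx a b => exact (lhsΨ_germ f M N x V hx a b).trans (rhsΨ_germ f M N x V hx a b).symm
  | add s t hs ht =>
    exact (map_add (lhsΨ f M N x).hom s t).trans
      ((congrArg₂ (· + ·) hs ht).trans (map_add (rhsΨ f M N x).hom s t).symm)

section iso

variable [IsClosedImmersion f]

/-- `rhsΨ` as an isomorphism -/
noncomputable def eR :
    (DerSch.stalkFunctor Y (f x)).obj (CohB1.tensorMod ((Scheme.Modules.pushforward f).obj M) N) ≅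
      (res f x).obj ((DerSch.stalkFunctor X x).obj M ⊗
        (ext f x).obj ((DerSch.stalkFunctor Y (f x)).obj N)) :=
  tensorBiStalkIso (f x) ((Scheme.Modules.pushforward f).obj M) N ≪≫
    MonoidalCategory.whiskerRightIso (asIso (stalkPushLin f M x)) ((DerSch.stalkFunctor Y (f x)).obj N) ≪≫
    (cbcIso (f.stalkMap x).hom ((DerSch.stalkFunctor X x).obj M)
      ((DerSch.stalkFunctor Y (f x)).obj N)).symm

lemma eR_hom : (eR f M N x).hom = rhsΨ f M N x := rfl

/-- the isomorphism `(f_*(M ⊗ f^*N))_{f x} ≅ M_x ⊗ (O_x ⊗ N_{f x})` -/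
noncomputable def eL :
    (DerSch.stalkFunctor Y (f x)).obj ((Scheme.Modules.pushforward f).obj
      (CohB1.tensorMod M ((Scheme.Modules.pullback f).obj N))) ≅
      (res f x).obj ((DerSch.stalkFunctor X x).obj M ⊗
        (ext f x).obj ((DerSch.stalkFunctor Y (f x)).obj N)) :=
  asIso (stalkPushLin f (CohB1.tensorMod M ((Scheme.Modules.pullback f).obj N)) x) ≪≫
    (res f x).mapIso (tensorBiStalkIso x M ((Scheme.Modules.pullback f).obj N) ≪≫
      MonoidalCategory.whiskerLeftIso ((DerSch.stalkFunctor X x).obj M) (σ f x N))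

lemma lhsΨ_eq : lhsΨ f M N x =
    (DerSch.stalkFunctor Y (f x)).map (projHom f M N) ≫ (eL f M N x).hom := rfl

/-- the projection morphism is an isomorphism on stalks at points of a closed subscheme -/
theorem isIso_stalk_projHom :
    IsIso ((DerSch.stalkFunctor Y (f x)).map (projHom f M N)) := by
  have e : (DerSch.stalkFunctor Y (f x)).map (projHom f M N) =
      (eR f M N x).hom ≫ (eL f M N x).inv := by
    rw [eR_hom, ← lhsΨ_eq_rhsΨ, lhsΨ_eq, Category.assoc, Iso.hom_inv_id, Category.comp_id]
  rw [e]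
  infer_instance

end iso

end stalk

section off

variable [IsClosedImmersion f] (M : X.Modules) (N : Y.Modules) (y : Y)

/-- the stalks of `f_*M` vanish off the (closed) image -/
lemma isZero_stalk_pushforward (hy : y ∉ Set.range f) :
    IsZero ((DerSch.stalkFunctor Y y).obj ((Scheme.Modules.pushforward f).obj M)) := by
  have h := Groth.Agent.Lib.helper16.PushColim.isZero_stalk_pushforward f.base
    f.isClosedEmbedding.isClosed_range ((SheafOfModules.toSheaf X.ringCatSheaf).obj M) y hy
  have : Subsingleton ((DerSch.stalkFunctor Y y).obj ((Scheme.Modules.pushforward f).obj M)) :=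
    AddCommGrpCat.subsingleton_of_isZero h
  exact ModuleCat.isZero_of_subsingleton _

theorem isIso_stalk_projHom_off (hy : y ∉ Set.range f) :
    IsIso ((DerSch.stalkFunctor Y y).map (projHom f M N)) := by
  have hT := isZero_stalk_pushforward f
    (CohB1.tensorMod M ((Scheme.Modules.pullback f).obj N)) y hy
  have hS : IsZero ((DerSch.stalkFunctor Y y).obj
      (CohB1.tensorMod ((Scheme.Modules.pushforward f).obj M) N)) := by
    refine IsZero.of_iso ?_ (tensorBiStalkIso y ((Scheme.Modules.pushforward f).obj M) N)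
    exact Functor.map_isZero (MonoidalCategory.tensorRight ((DerSch.stalkFunctor Y y).obj N))
      (isZero_stalk_pushforward f M y hy)
  exact ⟨⟨0, hS.eq_of_src _ _, hT.eq_of_src _ _⟩⟩

/-- **the projection formula for a closed immersion, for modules** -/
instance isIso_projHom : IsIso (projHom f M N) := by
  apply isIso_of_forall_stalk
  intro y
  by_cases hy : y ∈ Set.range f
  · obtain ⟨x, rfl⟩ := hy
    exact isIso_stalk_projHom f M N x
  · exact isIso_stalk_projHom_off f M N y hy

end off

end Groth.Agent.Lib.Helper25.PushProj
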