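import Groth.Agent.Lib.Helper25.StalkTensorCx

/-!
# K-flatness of complexes of `O_X`-modules is stalkwise

* `isIso_counitApp`, `skyStalkIso`: the stalk at `x` of the skyscraper module at `x` with value `N` is `N`;
  the skyscraper functor is exact (`PreservesHomology`, `PreservesFiniteLimits`, `PreservesEpimorphisms`).
* `isZero_homology_of_forall_stalk`: acyclicity is stalkwise.
* `isKFlat_iff_forall_stalk`: `DCoh.IsKFlat E ↔ ∀ x, DRing.IsKFlat O_{X,x} E_x`.
-/
set_option autoImplicit false
universe u
open CategoryTheory CategoryTheory.Limits AlgebraicGeometry Opposite TopologicalSpace MonoidalCategory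

namespace Groth.Agent.Lib.Helper25.StalkKFlat

open Groth.Agent.Lib.Helper25.StalkPre Groth.Agent.Lib.Helper25.StalkExact
  Groth.Agent.Lib.Helper25.StalkSky Groth.Agent.Lib.Helper25.StalkTensorCx

variable {X : Scheme.{u}} (x : X)

section sky

variable (N : ModuleCat.{u} (X.presheaf.stalk x))

lemma bijective_counitApp : Function.Bijective (counitApp x N).hom := by
  constructor
  · rw [injective_iff_map_eq_zero]
    intro m hm
    obtain ⟨U, hxU, s, rfl⟩ := (skyObj x N).presheaf.exists_germ_eq (x := x) m
    rw [counitApp_germ] at hm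
    have hs : s = 0 := by
      funext h
      exact hm
    rw [hs, map_zero]
    rfl
  · intro n
    refine ⟨(skyObj x N).presheaf.germ ⊤ x trivial (fun _ => n), ?_⟩
    exact counitApp_germ x N ⊤ trivial _

instance isIso_counitApp : IsIso (counitApp x N) :=
  (ConcreteCategory.isIso_iff_bijective _).2 (bijective_counitApp x N)

instance : (sky x).IsRightAdjoint := (stalkSkyAdj x).isRightAdjoint

instance : (sky x).Additive := (stalkSkyAdj x).right_adjoint_additive

instance : PreservesFiniteLimits (sky x) := by
  have : PreservesLimitsOfSize.{0, 0} (sky x) := (stalkSkyAdj x).rightAdjoint_preservesLimits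
  infer_instance

instance : (sky x).PreservesEpimorphisms where
  preserves {N N'} g _ := by
    have hg : Function.Surjective g.hom := (ModuleCat.epi_iff_surjective g).1 inferInstance
    have h1 : Epi ((Scheme.Modules.toPresheaf X).map ((sky x).map g)) := by
      apply (config := { allowSynthFailures := true }) NatTrans.epi_of_epi_app
      intro U
      rw [AddCommGrpCat.epi_iff_surjective]
      intro t
      refine ⟨fun h => (hg ((t : PLift (x ∈ U.unop) → N') h)).choose, ?_⟩
      funext h
      exact (hg ((t : PLift (x ∈ U.unop) → N') h)).choose_spec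
    exact (Scheme.Modules.toPresheaf X).epi_of_epi_map h1

instance : (sky x).PreservesHomology :=
  Functor.preservesHomology_of_preservesEpis_and_kernels _

/-- the counit isomorphism `(sky N)_x ≅ N` -/
noncomputable def skyStalkIso : (DerSch.stalkFunctor X x).obj ((sky x).obj N) ≅ N :=
  asIso (counitApp x N)

end sky

/-- the skyscraper complex -/
noncomputable abbrev skyCx : DRing.Cx (X.presheaf.stalk x) ⥤ CochainComplex X.Modules ℤ :=
  (sky x).mapHomologicalComplex (ComplexShape.up ℤ)

/-- the complex of stalks of the skyscraper complex -/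
noncomputable def skyStalkCxIso (M : DRing.Cx (X.presheaf.stalk x)) :
    (stalkCx x).obj ((skyCx x).obj M) ≅ M :=
  HomologicalComplex.Hom.isoOfComponents (fun i => skyStalkIso x (M.X i)) (fun i j _ => by
    exact (counit_naturality x (M.d i j)).symm)

lemma isZero_homology_map {C D : Type*} [Category C] [Category D] [Abelian C] [Abelian D]
    (F : C ⥤ D) [F.Additive] [F.PreservesHomology]
    (M : CochainComplex C ℤ) (i : ℤ) (h : IsZero (M.homology i)) :
    IsZero (((F.mapHomologicalComplex (ComplexShape.up ℤ)).obj M).homology i) := by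
  rw [← HomologicalComplex.exactAt_iff_isZero_homology] at h ⊢
  exact ShortComplex.Exact.map h F

/-- a complex of `O_X`-modules all of whose complexes of stalks are acyclic in degree `i` is acyclic in degree `i` -/
lemma isZero_homology_of_forall_stalk (K : CochainComplex X.Modules ℤ) (i : ℤ)
    (h : ∀ x : X, IsZero (((stalkCx x).obj K).homology i)) : IsZero (K.homology i) := by
  apply isZero_of_forall_stalk
  intro x
  exact (h x).of_iso ((K.sc i).mapHomologyIso (DerSch.stalkFunctor X x)).symm

/-- the stalks of a K-flat complex of `O_X`-modules are K-flat -/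
theorem isKFlat_stalk_of_isKFlat (E : CochainComplex X.Modules ℤ) (hE : DCoh.IsKFlat E) :
    DRing.IsKFlat (X.presheaf.stalk x) ((stalkCx x).obj E) := by
  intro M hM i
  have h1 : ∀ i : ℤ, IsZero (((skyCx x).obj M).homology i) := fun i =>
    isZero_homology_map (sky x) M i (hM i)
  have h2 := hE ((skyCx x).obj M) h1 i
  have h3 := isZero_homology_map (DerSch.stalkFunctor X x) _ i h2
  let e : (stalkCx x).obj ((DCoh.tensorCx.obj ((skyCx x).obj M)).obj E) ≅ M ⊗ (stalkCx x).obj E :=
    stalkTensorCxIso x ((skyCx x).obj M) E ≪≫
      whiskerRightIso (skyStalkCxIso x M) ((stalkCx x).obj E)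
  exact h3.of_iso ((HomologicalComplex.homologyFunctor _ _ i).mapIso e.symm)

/-- a complex of `O_X`-modules all of whose complexes of stalks are K-flat is K-flat -/
theorem isKFlat_of_forall_stalk (E : CochainComplex X.Modules ℤ)
    (hE : ∀ x : X, DRing.IsKFlat (X.presheaf.stalk x) ((stalkCx x).obj E)) : DCoh.IsKFlat E := by
  intro L hL i
  apply isZero_homology_of_forall_stalk
  intro x
  have h1 : ∀ i : ℤ, IsZero (((stalkCx x).obj L).homology i) := fun i =>
    isZero_homology_map (DerSch.stalkFunctor X x) L i (hL i)
  have h2 := hE x ((stalkCx x).obj L) h1 i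
  exact h2.of_iso ((HomologicalComplex.homologyFunctor _ _ i).mapIso (stalkTensorCxIso x L E))

theorem isKFlat_iff_forall_stalk (E : CochainComplex X.Modules ℤ) :
    DCoh.IsKFlat E ↔ ∀ x : X, DRing.IsKFlat (X.presheaf.stalk x) ((stalkCx x).obj E) :=
  ⟨fun hE x => isKFlat_stalk_of_isKFlat x E hE, isKFlat_of_forall_stalk E⟩

end Groth.Agent.Lib.Helper25.StalkKFlat
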