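import Groth.Agent.Lib.Helper25.StalkPull

/-!
# The stalk of the unit of `f^* ⊣ f_*`

`stalkPullbackIso_hom_germ_unit`: under `(f^* M)_x ≅ O_{X,x} ⊗ M_{f x}` (`stalkPullbackIso`), the germ at `x` of the pullback
`η(s) ∈ (f^* M)(f⁻¹ V)` of a section `s ∈ M(V)` is `1 ⊗ germ s`.
-/
set_option autoImplicit false
universe u
open CategoryTheory CategoryTheory.Limits AlgebraicGeometry Opposite TopologicalSpace
open ChangeOfRings

namespace Groth.Agent.Lib.Helper25.StalkSky

variable {X Y : Scheme.{u}} (f : X ⟶ Y) (x : X)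

/-- the unit `M ⟶ f_* f^* M` -/
noncomputable abbrev pbUnit (M : Y.Modules) :
    M ⟶ (Scheme.Modules.pushforward f).obj ((Scheme.Modules.pullback f).obj M) :=
  (Scheme.Modules.pullbackPushforwardAdjunction f).unit.app M

/-- **The stalk of the unit of `f^* ⊣ f_*`**: under `(f^* M)_x ≅ O_{X,x} ⊗ M_{f x}`, the germ at `x` of the
pullback `η(s)` of a section `s` of `M` is `1 ⊗ germ s`. -/
theorem stalkPullbackIso_hom_germ_unit (M : Y.Modules) (V : Y.Opens) (hx : f x ∈ V) (s : Γ(M, V)) :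
    ((stalkPullbackIso f x).hom.app M).hom
      (((Scheme.Modules.pullback f).obj M).presheaf.germ (f ⁻¹ᵁ V) x hx ((pbUnit f M).app V s)) =
    (1 : X.presheaf.stalk x) ⊗ₜ[Y.presheaf.stalk (f x), (f.stalkMap x).hom] (M.presheaf.germ V (f x) hx s) := by
  have h := Adjunction.unit_leftAdjointUniq_hom_app (pullStalkAdj f x) (stalkExtendAdj f x) M
  have h' := congrArg (fun φ => (Scheme.Modules.Hom.app φ V s : PLift (f x ∈ V) → _) ⟨hx⟩) h
  exact h'

end Groth.Agent.Lib.Helper25.StalkSky
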