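import Groth.Agent.Lib.Helper25.StalkTensor
import Groth.Agent.Lib.Helper12.TensorRestrict
import Groth.Prelude.Def_DCoh4

/-!
# The stalk functor on `O_X`-modules is compatible with the tensor bifunctor

* `isIso_stalkMap_toSh`: the unit of sheafification of presheaves of modules induces isomorphisms on stalks.
* `tensorBiStalkIso x A B : (A ⊗ B)_x ≅ A_x ⊗ B_x` for `DCoh.tensorBi`, natural in both variables
  (`tensorBiStalkNatIso x`, an isomorphism of bifunctors in the form used by the prelude's `TotMap`).
-/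
set_option autoImplicit false
universe u
open CategoryTheory CategoryTheory.Limits AlgebraicGeometry Opposite TopologicalSpace

namespace Groth.Agent.Lib.Helper25.StalkPre

variable {X : Scheme.{u}} (x : X)

/-- the underlying presheaf of modules of an `O_X`-module, typed in `PM X` -/
noncomputable abbrev toPM (M : X.Modules) : PM X := M.val

example (M : X.Modules) : stalkObj x (toPM M) = (DerSch.stalkFunctor X x).obj M := rfl

lemma stalkMap_toPM_germ {M N : X.Modules} (φ : M ⟶ N) (U : X.Opens) (hx : x ∈ U) (s : (toPM M).obj (op U)) :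
    ((DerSch.stalkFunctor X x).map φ).hom (gm x (toPM M) U hx s) = gm x (toPM N) U hx (appAdd (show toPM M ⟶ toPM N from φ.val) U s) :=
  DerSch.stalkFunctor_map_germ x φ U hx s

lemma forget₂_stalkMap {P Q : PM X} (φ : P ⟶ Q) :
    (forget₂ (ModuleCat.{u} (X.presheaf.stalk x)) Ab).map (stalkMap x φ) =
      (TopCat.Presheaf.stalkFunctor Ab x).map ((PresheafOfModules.toPresheaf _).map φ) := by
  ext m
  obtain ⟨U, hx, s, rfl⟩ := exists_germ x P m
  refine (stalkMap_germ x φ U hx s).trans ?_
  exact (TopCat.Presheaf.stalkFunctor_map_germ_apply U x hx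
    ((PresheafOfModules.toPresheaf _).map φ) s).symm

open Groth.Agent.Lib.helper12.TensorRestrict in
lemma toPresheaf_map_toSheafify (P : X.PresheafOfModules) :
    (PresheafOfModules.toPresheaf _).map (toSheafify P) =
      CategoryTheory.toSheafify (Opens.grothendieckTopology X) P.presheaf :=
  PresheafOfModules.toPresheaf_map_sheafificationAdjunction_unit_app _ _

open Groth.Agent.Lib.helper12.TensorRestrict in
/-- the unit of sheafification, typed in `PM X` -/
noncomputable def toSh (P : PM X) : P ⟶ toPM ((CohB1.sheafifyMod X).obj P) := toSheafify P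

open Groth.Agent.Lib.helper12.TensorRestrict in
lemma toSh_naturality {P Q : PM X} (g : P ⟶ Q) :
    g ≫ toSh Q = toSh P ≫ (show toPM ((CohB1.sheafifyMod X).obj P) ⟶ toPM ((CohB1.sheafifyMod X).obj Q) from
      ((CohB1.sheafifyMod X).map g).val) :=
  toSheafify_naturality g

open Groth.Agent.Lib.helper12.TensorRestrict in
instance isIso_stalkMap_toSh (P : PM X) : IsIso (stalkMap x (toSh P)) := by
  have h : IsIso ((forget₂ (ModuleCat.{u} (X.presheaf.stalk x)) Ab).map (stalkMap x (toSh P))) := by
    rw [forget₂_stalkMap]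
    have : (PresheafOfModules.toPresheaf _).map (toSh P) =
        CategoryTheory.toSheafify (Opens.grothendieckTopology X) P.presheaf :=
      toPresheaf_map_toSheafify P
    rw [this]
    exact TopCat.Presheaf.stalkFunctor_map_unit_toSheafify_isIso x Ab (pre P)
  exact isIso_of_reflects_iso _ (forget₂ (ModuleCat.{u} (X.presheaf.stalk x)) Ab)

section shTensor

open MonoidalCategory

/-- the map on underlying presheaves of modules of a morphism of `O_X`-modules, typed in `PM X` -/
noncomputable abbrev toPMmap {M N : X.Modules} (φ : M ⟶ N) : toPM M ⟶ toPM N := φ.val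

lemma stalkFunctor_map_eq {M N : X.Modules} (φ : M ⟶ N) :
    (DerSch.stalkFunctor X x).map φ = stalkMap x (toPMmap φ) := by
  apply stalk_hom_ext x (toPM M)
  intro U hx s
  exact (DerSch.stalkFunctor_map_germ x φ U hx s).trans (stalkMap_germ x (toPMmap φ) U hx s).symm

lemma stalkMap_comp {P Q T : PM X} (f : P ⟶ Q) (g : Q ⟶ T) :
    stalkMap x (f ≫ g) = stalkMap x f ≫ stalkMap x g := (stalkPre x).map_comp f g

/-- sheafification, typed on `PM X` -/
noncomputable abbrev shO (P : PM X) : X.Modules := (CohB1.sheafifyMod X).obj P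

/-- sheafification on morphisms, typed on `PM X` -/
noncomputable abbrev shM {P Q : PM X} (g : P ⟶ Q) : shO P ⟶ shO Q := (CohB1.sheafifyMod X).map g

/-- the stalk of the sheafified tensor product of two presheaves of modules -/
noncomputable def shTensorIso (P Q : PM X) :
    stalkObj x (toPM (shO (P ⊗ Q))) ≅ stalkObj x P ⊗ stalkObj x Q :=
  (asIso (stalkMap x (toSh (P ⊗ Q)))).symm ≪≫ stalkTensorIso x P Q

lemma shTensorIso_naturality {P P' Q Q' : PM X} (f : P ⟶ P') (g : Q ⟶ Q') :
    stalkMap x (toPMmap (shM (f ⊗ₘ g))) ≫ (shTensorIso x P' Q').hom =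
      (shTensorIso x P Q).hom ≫ (stalkMap x f ⊗ₘ stalkMap x g) := by
  rw [← cancel_epi (stalkMap x (toSh (P ⊗ Q)))]
  have h1 : stalkMap x (toSh (P ⊗ Q)) ≫ stalkMap x (toPMmap (shM (f ⊗ₘ g))) =
      stalkMap x (f ⊗ₘ g) ≫ stalkMap x (toSh (P' ⊗ Q')) := by
    rw [← stalkMap_comp, ← stalkMap_comp]
    exact congrArg (stalkMap x) (toSh_naturality (f ⊗ₘ g)).symm
  have h2 : stalkMap x (toSh (P' ⊗ Q')) ≫ (shTensorIso x P' Q').hom = phi x P' Q' := by
    simp [shTensorIso, stalkTensorIso]
  have h3 : stalkMap x (toSh (P ⊗ Q)) ≫ (shTensorIso x P Q).hom = phi x P Q := by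
    simp [shTensorIso, stalkTensorIso]
  rw [reassoc_of% h1, h2, reassoc_of% h3, phi_naturality]

lemma stalkMap_id (P : PM X) : stalkMap x (𝟙 P) = 𝟙 _ := (stalkPre x).map_id P

/-- the stalk of the tensor product of two `O_X`-modules -/
noncomputable def tensorBiStalkIso (A B : X.Modules) :
    (DerSch.stalkFunctor X x).obj ((DCoh.tensorBi.obj A).obj B) ≅
      (DerSch.stalkFunctor X x).obj A ⊗ (DerSch.stalkFunctor X x).obj B :=
  shTensorIso x (toPM A) (toPM B)

lemma tensorBi_map_app_eq {A A' : X.Modules} (f : A ⟶ A') (B : X.Modules) :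
    (DCoh.tensorBi.map f).app B = shM (toPMmap f ▷ toPM B) := rfl

lemma tensorBi_obj_map_eq (A : X.Modules) {B B' : X.Modules} (g : B ⟶ B') :
    (DCoh.tensorBi.obj A).map g = shM (toPM A ◁ toPMmap g) := rfl

lemma tensorBiStalkIso_naturality_right (A : X.Modules) {B B' : X.Modules} (g : B ⟶ B') :
    (DerSch.stalkFunctor X x).map ((DCoh.tensorBi.obj A).map g) ≫ (tensorBiStalkIso x A B').hom =
      (tensorBiStalkIso x A B).hom ≫
        ((DerSch.stalkFunctor X x).obj A ◁ (DerSch.stalkFunctor X x).map g) := by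
  have h := shTensorIso_naturality x (𝟙 (toPM A)) (toPMmap g)
  rw [stalkMap_id, MonoidalCategory.id_tensorHom, MonoidalCategory.id_tensorHom,
    ← stalkFunctor_map_eq x g, ← stalkFunctor_map_eq x (shM (toPM A ◁ toPMmap g))] at h
  exact h

lemma tensorBiStalkIso_naturality_left {A A' : X.Modules} (f : A ⟶ A') (B : X.Modules) :
    (DerSch.stalkFunctor X x).map ((DCoh.tensorBi.map f).app B) ≫ (tensorBiStalkIso x A' B).hom =
      (tensorBiStalkIso x A B).hom ≫
        ((DerSch.stalkFunctor X x).map f ▷ (DerSch.stalkFunctor X x).obj B) := by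
  have h := shTensorIso_naturality x (toPMmap f) (𝟙 (toPM B))
  rw [stalkMap_id, MonoidalCategory.tensorHom_id, MonoidalCategory.tensorHom_id,
    ← stalkFunctor_map_eq x f, ← stalkFunctor_map_eq x (shM (toPMmap f ▷ toPM B))] at h
  exact h

/-- the stalk functor is monoidal for the tensor bifunctor of `O_X`-modules: isomorphism of bifunctors -/
noncomputable def tensorBiStalkNatIso :
    DCoh.tensorBi (X := X) ⋙ (Functor.whiskeringRight _ _ _).obj (DerSch.stalkFunctor X x) ≅
      DerSch.stalkFunctor X x ⋙ curriedTensor (ModuleCat.{u} (X.presheaf.stalk x)) ⋙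
        (Functor.whiskeringLeft _ _ _).obj (DerSch.stalkFunctor X x) :=
  NatIso.ofComponents
    (fun A => NatIso.ofComponents (fun B => tensorBiStalkIso x A B)
      (fun {B B'} g => tensorBiStalkIso_naturality_right x A g))
    (fun {A A'} f => by
      apply NatTrans.ext
      funext B
      exact tensorBiStalkIso_naturality_left x f B)

end shTensor

end Groth.Agent.Lib.Helper25.StalkPre
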