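import Groth.Agent.Lib.Helper12.PullTensor
import Groth.Agent.Lib.Helper25.StalkTensorBi
import Groth.Agent.Lib.Helper25.StalkPullUnit
import Groth.Agent.Lib.Helper25.StalkExact

/-!
# The pullback of `O`-modules is strong monoidal

`pullTensorHom h M N : h^*(M ⊗ N) ⟶ h^*M ⊗ h^*N` (helper12's oplax comparison) is an
isomorphism, checked on stalks: `(h^*M)_y ≅ O_{Y,y} ⊗ M_{h y}` (`stalkPullbackIso`),
`(A ⊗ B)_x ≅ A_x ⊗ B_x` (`tensorBiStalkIso`) and extension of scalars is strong monoidal.

Main results: `isIso_of_forall_stalk`, `tensorBiStalkIso_hom_germ_tmul`,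
`tensorMod_stalk_induction`, `lhsMap_eq_rhsMap`, `isIso_pullTensorHom`, `pullTensorIso`.
-/

set_option autoImplicit false
universe u
open CategoryTheory CategoryTheory.Limits AlgebraicGeometry Opposite TopologicalSpace MonoidalCategory
open ChangeOfRings

namespace Groth.Agent.Lib.Helper25.PullTensorIso

open Groth.Agent.Lib.Helper25.StalkPre Groth.Agent.Lib.Helper25.StalkExact
  Groth.Agent.Lib.Helper25.StalkSky

variable {X Y : Scheme.{u}}

section stalkIso

theorem epi_of_forall_stalk {M M' : X.Modules} (φ : M ⟶ M')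
    (h : ∀ x : X, Epi ((DerSch.stalkFunctor X x).map φ)) : Epi φ := by
  apply Preadditive.epi_of_isZero_cokernel
  apply isZero_of_forall_stalk
  intro x
  have := h x
  exact (isZero_cokernel_of_epi ((DerSch.stalkFunctor X x).map φ)).of_iso
    (PreservesCokernel.iso (DerSch.stalkFunctor X x) φ)

/-- a morphism of `O_X`-modules which is an isomorphism on all stalks is an isomorphism -/
theorem isIso_of_forall_stalk {M M' : X.Modules} (φ : M ⟶ M')
    (h : ∀ x : X, IsIso ((DerSch.stalkFunctor X x).map φ)) : IsIso φ := by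
  have : Mono φ := mono_of_forall_stalk φ (fun x => by have := h x; infer_instance)
  have : Epi φ := epi_of_forall_stalk φ (fun x => by have := h x; infer_instance)
  exact isIso_of_mono_of_epi φ

end stalkIso

section lemmaT

variable (x : X) (A B : X.Modules)

/-- the germ of the section `a ⊗ b` of `A ⊗ B` -/
lemma germ_tmul_eq (U : X.Opens) (hx : x ∈ U) (a : A.val.obj (op U)) (b : B.val.obj (op U)) :
    (CohB1.tensorMod A B).presheaf.germ U x hx (SecTwist.tmul A B U a b) =
      (stalkMap x (toSh (toPM A ⊗ toPM B))).hom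
        (gm x (toPM A ⊗ toPM B) U hx (tm (toPM A) (toPM B) a b)) :=
  (stalkMap_gm x (toSh (toPM A ⊗ toPM B)) U hx (tm (toPM A) (toPM B) a b)).symm

/-- **the stalk isomorphism on germs of pure tensors** -/
theorem tensorBiStalkIso_hom_germ_tmul (U : X.Opens) (hx : x ∈ U) (a : A.val.obj (op U))
    (b : B.val.obj (op U)) :
    (tensorBiStalkIso x A B).hom.hom
      ((CohB1.tensorMod A B).presheaf.germ U x hx (SecTwist.tmul A B U a b)) =
    (A.presheaf.germ U x hx a : A.presheaf.stalk x) ⊗ₜ[X.presheaf.stalk x]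
      (B.presheaf.germ U x hx b : B.presheaf.stalk x) := by
  rw [germ_tmul_eq]
  change (phi x (toPM A) (toPM B)).hom ((inv (stalkMap x (toSh (toPM A ⊗ toPM B)))).hom
    ((stalkMap x (toSh (toPM A ⊗ toPM B))).hom _)) = _
  have h1 : (inv (stalkMap x (toSh (toPM A ⊗ toPM B)))).hom
      ((stalkMap x (toSh (toPM A ⊗ toPM B))).hom
        (gm x (toPM A ⊗ toPM B) U hx (tm (toPM A) (toPM B) a b))) =
      gm x (toPM A ⊗ toPM B) U hx (tm (toPM A) (toPM B) a b) := by
    have := IsIso.hom_inv_id (stalkMap x (toSh (toPM A ⊗ toPM B)))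
    exact congrArg (fun φ => φ.hom (gm x (toPM A ⊗ toPM B) U hx (tm (toPM A) (toPM B) a b))) this
  rw [h1, phi_gm_tm]
  rfl

/-- induction principle for the stalk of a tensor product of `O_X`-modules -/
theorem tensorMod_stalk_induction {motive : (CohB1.tensorMod A B).presheaf.stalk x → Prop}
    (zero : motive 0)
    (tmul : ∀ (U : X.Opens) (hx : x ∈ U) (a : A.val.obj (op U)) (b : B.val.obj (op U)),
      motive ((CohB1.tensorMod A B).presheaf.germ U x hx (SecTwist.tmul A B U a b)))
    (add : ∀ s t, motive s → motive t → motive (s + t))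
    (m : (CohB1.tensorMod A B).presheaf.stalk x) : motive m := by
  have hsurj : Function.Surjective (stalkMap x (toSh (toPM A ⊗ toPM B))).hom :=
    ((ConcreteCategory.isIso_iff_bijective (stalkMap x (toSh (toPM A ⊗ toPM B)))).1 inferInstance).2
  obtain ⟨m', rfl⟩ := hsurj m
  obtain ⟨U, hx, t, rfl⟩ := exists_gm x (toPM A ⊗ toPM B) m'
  induction t using tm_induction with
  | zero =>
    rw [map_zero, map_zero]
    exact zero
  | tmul a b =>
    rw [← germ_tmul_eq]
    exact tmul U hx a b
  | add s t hs ht =>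
    rw [map_add, map_add]
    exact add _ _ hs ht

end lemmaT

section main

open Groth.Agent.Lib.helper12.PullTensor

variable (h : Y ⟶ X) (M N : X.Modules) (y : Y)

/-- extension of scalars along the stalk map at `y` -/
noncomputable abbrev ext : ModuleCat.{u} (X.presheaf.stalk (h y)) ⥤ ModuleCat.{u} (Y.presheaf.stalk y) :=
  ModuleCat.extendScalars.{u, u, u} (h.stalkMap y).hom

/-- `(h^* M)_y ≅ O_{Y,y} ⊗ M_{h y}` -/
noncomputable abbrev σ (M : X.Modules) :
    (DerSch.stalkFunctor Y y).obj ((Scheme.Modules.pullback h).obj M) ≅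
      (ext h y).obj ((DerSch.stalkFunctor X (h y)).obj M) :=
  (stalkPullbackIso h y).app M

lemma σ_hom_germ_unit (M : X.Modules) (U : X.Opens) (hx : h y ∈ U) (m : M.val.obj (op U)) :
    (σ h y M).hom.hom
      (((Scheme.Modules.pullback h).obj M).presheaf.germ (h ⁻¹ᵁ U) y hx (unitSec h M U m)) =
    (1 : Y.presheaf.stalk y) ⊗ₜ[X.presheaf.stalk (h y), (h.stalkMap y).hom]
      (M.presheaf.germ U (h y) hx m) :=
  stalkPullbackIso_hom_germ_unit h y M U hx m

lemma σ_inv_one_tmul_germ (M : X.Modules) (U : X.Opens) (hx : h y ∈ U) (m : M.val.obj (op U)) :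
    (σ h y M).inv.hom ((1 : Y.presheaf.stalk y) ⊗ₜ[X.presheaf.stalk (h y), (h.stalkMap y).hom]
      (M.presheaf.germ U (h y) hx m)) =
    ((Scheme.Modules.pullback h).obj M).presheaf.germ (h ⁻¹ᵁ U) y hx (unitSec h M U m) := by
  have e := σ_hom_germ_unit h y M U hx m
  refine (congrArg (σ h y M).inv.hom e).symm.trans ?_
  exact congrArg (fun φ => φ.hom
    (((Scheme.Modules.pullback h).obj M).presheaf.germ (h ⁻¹ᵁ U) y hx (unitSec h M U m)))
    (σ h y M).hom_inv_id

/-- the left hand composite -/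
noncomputable def lhsMap :
    (DerSch.stalkFunctor Y y).obj ((Scheme.Modules.pullback h).obj (CohB1.tensorMod M N)) ⟶
      (ext h y).obj ((DerSch.stalkFunctor X (h y)).obj M) ⊗
        (ext h y).obj ((DerSch.stalkFunctor X (h y)).obj N) :=
  (DerSch.stalkFunctor Y y).map (pullTensorHom h M N) ≫
    (tensorBiStalkIso y ((Scheme.Modules.pullback h).obj M) ((Scheme.Modules.pullback h).obj N)).hom ≫
    ((σ h y M).hom ⊗ₘ (σ h y N).hom)

/-- the right hand composite, an isomorphism -/
noncomputable def rhsMap :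
    (DerSch.stalkFunctor Y y).obj ((Scheme.Modules.pullback h).obj (CohB1.tensorMod M N)) ⟶
      (ext h y).obj ((DerSch.stalkFunctor X (h y)).obj M) ⊗
        (ext h y).obj ((DerSch.stalkFunctor X (h y)).obj N) :=
  (σ h y (CohB1.tensorMod M N)).hom ≫ (ext h y).map (tensorBiStalkIso (h y) M N).hom ≫
    Functor.OplaxMonoidal.δ (ext h y) _ _

instance : IsIso (rhsMap h M N y) := by
  unfold rhsMap
  have h1 : IsIso (Functor.OplaxMonoidal.δ (ext h y) ((DerSch.stalkFunctor X (h y)).obj M)
      ((DerSch.stalkFunctor X (h y)).obj N)) := inferInstance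
  have h2 : IsIso ((ext h y).map (tensorBiStalkIso (h y) M N).hom) := inferInstance
  exact IsIso.comp_isIso' inferInstance (IsIso.comp_isIso' h2 h1)

/-- the element `1 ⊗ m` of the extension of scalars -/
noncomputable def oneT (M : X.Modules) (m : M.presheaf.stalk (h y)) :
    (ext h y).obj ((DerSch.stalkFunctor X (h y)).obj M) :=
  (1 : Y.presheaf.stalk y) ⊗ₜ[X.presheaf.stalk (h y), (h.stalkMap y).hom] m

/-- the value of the left hand composite on the germ of `η(a ⊗ b)` -/
lemma lhsMap_germ (U : X.Opens) (hx : h y ∈ U) (a : M.val.obj (op U)) (b : N.val.obj (op U)) :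
    (lhsMap h M N y).hom
      (((Scheme.Modules.pullback h).obj (CohB1.tensorMod M N)).presheaf.germ (h ⁻¹ᵁ U) y hx
        (unitSec h (CohB1.tensorMod M N) U (SecTwist.tmul M N U a b))) =
    (oneT h y M (M.presheaf.germ U (h y) hx a)) ⊗ₜ[Y.presheaf.stalk y]
      (oneT h y N (N.presheaf.germ U (h y) hx b)) := by
  have h1 := DerSch.stalkFunctor_map_germ y (pullTensorHom h M N) (h ⁻¹ᵁ U) hx
    (unitSec h (CohB1.tensorMod M N) U (SecTwist.tmul M N U a b))
  have h2 := pullTensorHom_unitSec_tmul h M N U a b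
  have h3 := tensorBiStalkIso_hom_germ_tmul y ((Scheme.Modules.pullback h).obj M)
    ((Scheme.Modules.pullback h).obj N) (h ⁻¹ᵁ U) hx (unitSec h M U a) (unitSec h N U b)
  have h4 := σ_hom_germ_unit h y M U hx a
  have h5 := σ_hom_germ_unit h y N U hx b
  change ((σ h y M).hom ⊗ₘ (σ h y N).hom).hom
    ((tensorBiStalkIso y ((Scheme.Modules.pullback h).obj M) ((Scheme.Modules.pullback h).obj N)).hom.hom
      (((DerSch.stalkFunctor Y y).map (pullTensorHom h M N)).hom _)) = _
  rw [h1]
  erw [h2, h3]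
  erw [ModuleCat.MonoidalCategory.tensorHom_tmul]
  erw [h4, h5]
  rfl

/-- the value of the right hand composite on the germ of `η(a ⊗ b)` -/
lemma rhsMap_germ (U : X.Opens) (hx : h y ∈ U) (a : M.val.obj (op U)) (b : N.val.obj (op U)) :
    (rhsMap h M N y).hom
      (((Scheme.Modules.pullback h).obj (CohB1.tensorMod M N)).presheaf.germ (h ⁻¹ᵁ U) y hx
        (unitSec h (CohB1.tensorMod M N) U (SecTwist.tmul M N U a b))) =
    (oneT h y M (M.presheaf.germ U (h y) hx a)) ⊗ₜ[Y.presheaf.stalk y]
      (oneT h y N (N.presheaf.germ U (h y) hx b)) := by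
  have h1 := σ_hom_germ_unit h y (CohB1.tensorMod M N) U hx (SecTwist.tmul M N U a b)
  have h3 := tensorBiStalkIso_hom_germ_tmul (h y) M N U hx a b
  change (Functor.OplaxMonoidal.δ (ext h y) _ _).hom
    (((ext h y).map (tensorBiStalkIso (h y) M N).hom).hom
      ((σ h y (CohB1.tensorMod M N)).hom.hom _)) = _
  rw [h1]
  erw [ModuleCat.ExtendScalars.map_tmul]
  erw [h3]
  exact ModuleCat.extendScalars_δ_tmul (h.stalkMap y).hom _ _ _ _

lemma oneT_zero (M : X.Modules) : oneT h y M 0 = 0 :=
  TensorProduct.tmul_zero _ _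

lemma oneT_add (M : X.Modules) (s t : M.presheaf.stalk (h y)) :
    oneT h y M (s + t) = oneT h y M s + oneT h y M t :=
  TensorProduct.tmul_add _ _ _

/-- **the two composites agree** -/
theorem lhsMap_eq_rhsMap : lhsMap h M N y = rhsMap h M N y := by
  rw [← cancel_epi (σ h y (CohB1.tensorMod M N)).inv]
  apply ((ModuleCat.extendRestrictScalarsAdj.{u, u, u} (h.stalkMap y).hom).homEquiv _ _).injective
  ext m
  change ((σ h y (CohB1.tensorMod M N)).inv ≫ lhsMap h M N y).hom (oneT h y _ m) =
    ((σ h y (CohB1.tensorMod M N)).inv ≫ rhsMap h M N y).hom (oneT h y _ m)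
  induction m using tensorMod_stalk_induction with
  | zero =>
    rw [oneT_zero, map_zero, map_zero]
  | tmul U hx a b =>
    change (lhsMap h M N y).hom ((σ h y (CohB1.tensorMod M N)).inv.hom _) =
      (rhsMap h M N y).hom ((σ h y (CohB1.tensorMod M N)).inv.hom _)
    erw [σ_inv_one_tmul_germ h y (CohB1.tensorMod M N) U hx (SecTwist.tmul M N U a b)]
    rw [lhsMap_germ, rhsMap_germ]
  | add s t hs ht =>
    rw [oneT_add, map_add, map_add, hs, ht]

/-- the isomorphism `(h^*M ⊗ h^*N)_y ≅ (O_y ⊗ M_{hy}) ⊗ (O_y ⊗ N_{hy})` -/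
noncomputable def midIso :
    (DerSch.stalkFunctor Y y).obj (CohB1.tensorMod ((Scheme.Modules.pullback h).obj M)
      ((Scheme.Modules.pullback h).obj N)) ≅
      (ext h y).obj ((DerSch.stalkFunctor X (h y)).obj M) ⊗
        (ext h y).obj ((DerSch.stalkFunctor X (h y)).obj N) :=
  tensorBiStalkIso y ((Scheme.Modules.pullback h).obj M) ((Scheme.Modules.pullback h).obj N) ≪≫
    MonoidalCategory.tensorIso (σ h y M) (σ h y N)

lemma lhsMap_eq : lhsMap h M N y =
    (DerSch.stalkFunctor Y y).map (pullTensorHom h M N) ≫ (midIso h M N y).hom := rfl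

theorem isIso_stalk_pullTensorHom :
    IsIso ((DerSch.stalkFunctor Y y).map (pullTensorHom h M N)) := by
  have hI : IsIso (lhsMap h M N y) := by
    rw [lhsMap_eq_rhsMap]
    infer_instance
  have e : (DerSch.stalkFunctor Y y).map (pullTensorHom h M N) =
      lhsMap h M N y ≫ (midIso h M N y).inv := by
    rw [lhsMap_eq, Category.assoc, Iso.hom_inv_id, Category.comp_id]
  rw [e]
  infer_instance

/-- **`h^*` is strong monoidal**: the comparison `h^*(M ⊗ N) ⟶ h^*M ⊗ h^*N` is an
isomorphism. -/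
instance isIso_pullTensorHom : IsIso (pullTensorHom h M N) :=
  isIso_of_forall_stalk _ (fun y => isIso_stalk_pullTensorHom h M N y)

/-- `h^*(M ⊗ N) ≅ h^*M ⊗ h^*N` -/
noncomputable def pullTensorIso :
    (Scheme.Modules.pullback h).obj (CohB1.tensorMod M N) ≅
      CohB1.tensorMod ((Scheme.Modules.pullback h).obj M) ((Scheme.Modules.pullback h).obj N) :=
  asIso (pullTensorHom h M N)

end main

end Groth.Agent.Lib.Helper25.PullTensorIso
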