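import Mathlib
import Groth.Agent.Lib.Helper25.ImageLemmas

/-!
# Noetherian / Artinian objects in an abelian category: quotients and extensions

`IsNoetherianObject` and `IsArtinianObject` are closed under quotients and extensions
(Mathlib only has subobjects).
-/

open CategoryTheory CategoryTheory.Limits

namespace Groth.Agent.Lib.helper25

universe v u

variable {C : Type u} [Category.{v} C] [Abelian C]

/-- If `π ≫ P.arrow = w ≫ P'.arrow` with `π` epi, then `P ≤ P'`. -/
theorem subobject_le_of_refinement {B : C} {P P' : Subobject B} {T : C} (π : T ⟶ (P : C)) [Epi π]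
    (w : T ⟶ (P' : C)) (h : π ≫ P.arrow = w ≫ P'.arrow) : P ≤ P' := by
  have := imageSubobject_le_of_refinement P.arrow P'.arrow π w h
  rwa [imageSubobject_mono, imageSubobject_mono, Subobject.mk_arrow, Subobject.mk_arrow] at this

/-- Pullback of subobjects along an epimorphism reflects `≤`. -/
theorem pullback_le_pullback_iff_of_epi {B Q : C} (p : B ⟶ Q) [Epi p] (P P' : Subobject Q) :
    (Subobject.pullback p).obj P ≤ (Subobject.pullback p).obj P' ↔ P ≤ P' := by
  constructor
  · intro h
    have sq := Subobject.isPullback p P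
    have sq' := Subobject.isPullback p P'
    have : Epi (Subobject.pullbackπ p P) := Abelian.epi_fst_of_isLimit _ _ sq.isLimit
    refine subobject_le_of_refinement (Subobject.pullbackπ p P)
      (Subobject.ofLE _ _ h ≫ Subobject.pullbackπ p P') ?_
    rw [sq.w, Category.assoc, sq'.w, ← Category.assoc, Subobject.ofLE_arrow]
  · intro h
    exact (Subobject.pullback p).monotone h

theorem strictMono_pullback_of_epi {B Q : C} (p : B ⟶ Q) [Epi p] :
    StrictMono (fun P : Subobject Q => (Subobject.pullback p).obj P) :=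
  strictMono_of_le_iff_le fun P P' => (pullback_le_pullback_iff_of_epi p P P').symm

theorem isNoetherianObject_of_epi {B Q : C} (p : B ⟶ Q) [Epi p] [IsNoetherianObject B] :
    IsNoetherianObject Q := by
  have : WellFoundedGT (Subobject Q) := (strictMono_pullback_of_epi p).wellFoundedGT
  dsimp only [IsNoetherianObject]
  rw [ObjectProperty.is_iff, isNoetherianObject]
  exact this

theorem isArtinianObject_of_epi {B Q : C} (p : B ⟶ Q) [Epi p] [IsArtinianObject B] :
    IsArtinianObject Q := by
  have : WellFoundedLT (Subobject Q) := (strictMono_pullback_of_epi p).wellFoundedLT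
  dsimp only [IsArtinianObject]
  rw [ObjectProperty.is_iff, isArtinianObject]
  exact this

/-- The modular-law core: in an exact sequence `A ⟶ B ⟶ Q` (`i` mono), a subobject `P' ≥ P` of `B`
with `A ∩ P' ≤ A ∩ P` and `p(P') ≤ p(P)` is `≤ P`. -/
theorem le_of_inter_le_of_image_le {A B Q : C} (i : A ⟶ B) (p : B ⟶ Q) (w : i ≫ p = 0)
    (hex : (ShortComplex.mk i p w).Exact) [Mono i] {P P' : Subobject B} (hle : P ≤ P')
    (h1 : (Subobject.pullback i).obj P' ≤ (Subobject.pullback i).obj P)
    (h2 : imageSubobject (P'.arrow ≫ p) ≤ imageSubobject (P.arrow ≫ p)) : P' ≤ P := by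
  obtain ⟨A₁, π₁, hπ₁, y, hy⟩ := exists_refinement_of_imageSubobject_le _ _ h2
  -- d₂ : A₁ ⟶ P'
  let d₂ : A₁ ⟶ (P' : C) := π₁ - y ≫ Subobject.ofLE P P' hle
  have hd₂ : d₂ ≫ P'.arrow = π₁ ≫ P'.arrow - y ≫ P.arrow := by
    simp only [d₂, Preadditive.sub_comp, Category.assoc, Subobject.ofLE_arrow]
  have hd : (d₂ ≫ P'.arrow) ≫ p = 0 := by
    rw [hd₂, Preadditive.sub_comp, Category.assoc, Category.assoc, hy, sub_self]
  have : Mono (ShortComplex.mk i p w).f := by
    show Mono i
    infer_instance
  obtain ⟨d', hd'⟩ : ∃ d' : A₁ ⟶ A, d' ≫ i = d₂ ≫ P'.arrow :=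
    ⟨hex.lift (d₂ ≫ P'.arrow) hd, hex.lift_f _ hd⟩
  have sq := Subobject.isPullback i P
  have sq' := Subobject.isPullback i P'
  let l : A₁ ⟶ ((Subobject.pullback i).obj P' : C) := sq'.lift d₂ d' hd'.symm
  have hl : l ≫ ((Subobject.pullback i).obj P').arrow = d' := sq'.lift_snd _ _ _
  let z : A₁ ⟶ (P : C) := (l ≫ Subobject.ofLE _ _ h1) ≫ Subobject.pullbackπ i P
  have hz : z ≫ P.arrow = d₂ ≫ P'.arrow := by
    simp only [z, Category.assoc]
    rw [sq.w, Subobject.ofLE_arrow_assoc, ← Category.assoc, hl, hd']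
  refine subobject_le_of_refinement π₁ (z + y) ?_
  rw [Preadditive.add_comp, hz, hd₂, sub_add_cancel]

/-- The pair (`A ∩ P`, `p(P)`) is strictly monotone in `P`. -/
theorem strictMono_inter_image {A B Q : C} (i : A ⟶ B) (p : B ⟶ Q) (w : i ≫ p = 0)
    (hex : (ShortComplex.mk i p w).Exact) [Mono i] :
    StrictMono (fun P : Subobject B =>
      (((Subobject.pullback i).obj P, imageSubobject (P.arrow ≫ p)) :
        Subobject A × Subobject Q)) := by
  have hmono : ∀ P P' : Subobject B, P ≤ P' →
      (Subobject.pullback i).obj P ≤ (Subobject.pullback i).obj P' ∧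
        imageSubobject (P.arrow ≫ p) ≤ imageSubobject (P'.arrow ≫ p) := by
    intro P P' h
    refine ⟨(Subobject.pullback i).monotone h, ?_⟩
    rw [← Subobject.ofLE_arrow h, Category.assoc]
    exact imageSubobject_comp_le _ _
  intro P P' hlt
  rw [lt_iff_le_not_ge] at hlt ⊢
  refine ⟨⟨(hmono P P' hlt.1).1, (hmono P P' hlt.1).2⟩, fun hge => hlt.2 ?_⟩
  exact le_of_inter_le_of_image_le i p w hex hlt.1 hge.1 hge.2

theorem isNoetherianObject_of_exact {A B Q : C} (i : A ⟶ B) (p : B ⟶ Q) (w : i ≫ p = 0)
    (hex : (ShortComplex.mk i p w).Exact) [Mono i] [IsNoetherianObject A] [IsNoetherianObject Q] :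
    IsNoetherianObject B := by
  have : WellFoundedGT (Subobject B) := (strictMono_inter_image i p w hex).wellFoundedGT
  dsimp only [IsNoetherianObject]
  rw [ObjectProperty.is_iff, isNoetherianObject]
  exact this

theorem isArtinianObject_of_exact {A B Q : C} (i : A ⟶ B) (p : B ⟶ Q) (w : i ≫ p = 0)
    (hex : (ShortComplex.mk i p w).Exact) [Mono i] [IsArtinianObject A] [IsArtinianObject Q] :
    IsArtinianObject B := by
  have : WellFoundedLT (Subobject B) := (strictMono_inter_image i p w hex).wellFoundedLT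
  dsimp only [IsArtinianObject]
  rw [ObjectProperty.is_iff, isArtinianObject]
  exact this

end Groth.Agent.Lib.helper25
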