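import Mathlib
import Groth.Agent.Lib.Helper25.FinFac
import Groth.Agent.Lib.Helper27.Compact

/-!
# Brown representability for a triangulated subcategory, through a model with small morphism types (helper25)

`C` pretriangulated (morphisms in any universe), `C'` pretriangulated with morphisms in `Type w` and `w`-small
coproducts, `Ψ : C' ⥤ C` a triangulated equivalence, `P` a triangulated subcategory of `C` closed under `w`-small
coproducts.  `P' = Ψ⁻¹ P`, `ρ : P' ⥤ C`, `ε : P' ≌ P`.

* `brown_sub`: if `G ∈ P` generates `P` and maps from `G` to `w`-small coproducts of objects of `P` have finite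
  support (`FinFac.FF`), then every homological functor `P'ᵒᵖ ⥤ Ab.{w}` turning coproducts into products is
  representable (helper27's `brown_representable`).
* `isLeftAdjoint_ι`: under the same hypotheses `P.ι : P ⥤ C` is a left adjoint.
-/

set_option autoImplicit false
universe w v₁ u₁ u₂
open CategoryTheory CategoryTheory.Limits Pretriangulated Opposite
open CategoryTheory.Pretriangulated.Opposite

namespace Groth.Agent.Lib.Helper25.BrownSub

open Groth.Agent.Lib.Helper25.FinFac Groth.Agent.Lib.helper27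

variable {C : Type u₁} [Category.{v₁} C] [Preadditive C] [HasZeroObject C] [HasShift C ℤ]
  [∀ n : ℤ, (shiftFunctor C n).Additive] [Pretriangulated C]
  {C' : Type u₂} [Category.{w} C'] [Preadditive C'] [HasZeroObject C'] [HasShift C' ℤ]
  [∀ n : ℤ, (shiftFunctor C' n).Additive] [Pretriangulated C']
  (Ψ : C' ⥤ C) [Ψ.CommShift ℤ] [Ψ.IsTriangulated] [Ψ.IsEquivalence]
  (P : ObjectProperty C) [P.IsTriangulated] [P.IsClosedUnderIsomorphisms]

/-- the transported property -/
abbrev P' : ObjectProperty C' := P.inverseImage Ψ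

/-- the comparison functor from the small model of the subcategory to the ambient category -/
abbrev ρ : (P' Ψ P).FullSubcategory ⥤ C := (P' Ψ P).ι ⋙ Ψ

instance : (ρ Ψ P).Full := inferInstance
instance : (ρ Ψ P).Faithful := inferInstance
instance : (ρ Ψ P).Additive := inferInstance
noncomputable instance : (ρ Ψ P).CommShift ℤ := inferInstance
instance : (ρ Ψ P).IsTriangulated := inferInstance

/-- the comparison equivalence between the small model of the subcategory and the subcategory -/
abbrev ε : (P' Ψ P).FullSubcategory ⥤ P.FullSubcategory :=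
  P.lift (ρ Ψ P) (fun X => X.property)

instance : (ε Ψ P).EssSurj where
  mem_essImage K := by
    refine ⟨⟨Ψ.asEquivalence.inverse.obj K.obj,
      P.prop_of_iso (Ψ.asEquivalence.counitIso.app K.obj).symm K.property⟩, ⟨?_⟩⟩
    exact P.fullyFaithfulι.preimageIso (Ψ.asEquivalence.counitIso.app K.obj)

instance : (ε Ψ P).IsEquivalence where

/-- `ε ⋙ ι = ι' ⋙ Ψ` -/
def εCompι : ε Ψ P ⋙ P.ι ≅ ρ Ψ P := P.liftCompιIso _ _

lemma isLeftAdjoint_ι_of_small (h : (P' Ψ P).ι.IsLeftAdjoint) : P.ι.IsLeftAdjoint := by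
  have e : P.ι ≅ (ε Ψ P).inv ⋙ (P' Ψ P).ι ⋙ Ψ :=
    (Functor.leftUnitor _).symm ≪≫
      Functor.isoWhiskerRight (ε Ψ P).asEquivalence.counitIso.symm P.ι ≪≫
      Functor.associator _ _ _ ≪≫ Functor.isoWhiskerLeft _ (εCompι Ψ P)
  exact Functor.isLeftAdjoint_of_iso e.symm

variable [∀ J : Type w, P.IsClosedUnderColimitsOfShape (Discrete J)] [HasCoproducts.{w} C']

instance (J : Type w) : (P' Ψ P).IsClosedUnderColimitsOfShape (Discrete J) := inferInstance

instance hasCoproducts_sub : HasCoproducts.{w} (P' Ψ P).FullSubcategory := fun J => inferInstance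

instance (J : Type w) : PreservesColimitsOfShape (Discrete J) (ρ Ψ P) := inferInstance

instance : HasColimitsOfShape (Discrete ℕ) (P' Ψ P).FullSubcategory :=
  hasColimitsOfShape_of_equivalence (Discrete.equivalence (Equiv.ulift.{w} (α := ℕ)))

/-- the generator in the small model -/
noncomputable def G' (G : C) (hG : P G) : (P' Ψ P).FullSubcategory :=
  ⟨Ψ.asEquivalence.inverse.obj G, P.prop_of_iso (Ψ.asEquivalence.counitIso.app G).symm hG⟩

/-- `ρ G' ≅ G` -/
noncomputable def γ (G : C) (hG : P G) : (ρ Ψ P).obj (G' Ψ P G hG) ≅ G :=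
  Ψ.asEquivalence.counitIso.app G

lemma sigmaP_eq_eS {D : Type*} [Category D] [Preadditive D] {κ : Type*} (X : κ → D) [HasCoproduct X]
    (s : Finset κ) : sigmaP X s = eS (Sigma.ι X) (coproductIsCoproduct X) s := by
  classical
  apply hom_ext' (Sigma.ι X) (coproductIsCoproduct X)
  intro i
  rw [inj_eS]
  by_cases hi : i ∈ s
  · rw [if_pos hi, ι_sigmaP_of_mem X hi]
  · rw [if_neg hi, ι_sigmaP_of_not_mem X hi]

theorem isCompactObject_G' (G : C) (hG : P G) (hcpt : FF.{w} P G) :
    CohDer.IsCompactObject (G' Ψ P G hG) := by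
  rw [isCompactObject_iff]
  intro κ X α
  have hc' : IsColimit (Cofan.mk ((ρ Ψ P).obj (∐ X)) (fun k => (ρ Ψ P).map (Sigma.ι X k))) :=
    isColimitCofanMkObjOfIsColimit (ρ Ψ P) _ _ (coproductIsCoproduct X)
  have hff : FF.{w} P ((ρ Ψ P).obj (G' Ψ P G hG)) := ff_of_iso (γ Ψ P G hG).symm hcpt
  obtain ⟨S, hS⟩ := hff κ (fun k => (ρ Ψ P).obj (X k)) (fun k => (X k).property) _ _ hc'
    ((ρ Ψ P).map α)
  refine ⟨S, (ρ Ψ P).map_injective ?_⟩
  rw [Functor.map_comp, sigmaP_eq_eS, map_eS (Sigma.ι X) (coproductIsCoproduct X) (ρ Ψ P) hc' S]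
  exact hS

/-- **Brown representability for the small model of a compactly generated triangulated subcategory** -/
theorem brown_sub (G : C) (hG : P G)
    (hgen : ∀ K : C, P K → (∀ (n : ℤ) (φ : G⟦n⟧ ⟶ K), φ = 0) → IsZero K)
    (hcpt : FF.{w} P G)
    (H : ((P' Ψ P).FullSubcategory)ᵒᵖ ⥤ AddCommGrpCat.{w}) [H.IsHomological]
    [∀ κ : Type w, PreservesLimitsOfShape (Discrete κ) H] :
    (H ⋙ forget AddCommGrpCat.{w}).IsRepresentable := by
  refine brown_representable (fun _ : PUnit.{w + 1} => G' Ψ P G hG) ?_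
    (bfactor_of_compact _ (fun _ => isCompactObject_G' Ψ P G hG hcpt)) H
  intro X hX
  by_contra hcon
  push Not at hcon
  apply hX
  apply IsZero.of_full_of_faithful_of_isZero (ρ Ψ P)
  apply hgen _ X.property
  intro n φ
  let θ : (ρ Ψ P).obj ((G' Ψ P G hG)⟦n⟧) ≅ G⟦n⟧ :=
    ((ρ Ψ P).commShiftIso n).app (G' Ψ P G hG) ≪≫ (shiftFunctor C n).mapIso (γ Ψ P G hG)
  obtain ⟨f, hf⟩ := (ρ Ψ P).map_surjective (θ.hom ≫ φ)
  have h0 := hcon PUnit.unit n f
  rw [h0, Functor.map_zero] at hf
  rw [← cancel_epi θ.hom, ← hf, comp_zero]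

include Ψ in
/-- **the inclusion of a compactly generated triangulated subcategory closed under coproducts is a left
adjoint** -/
theorem isLeftAdjoint_ι (G : C) (hG : P G)
    (hgen : ∀ K : C, P K → (∀ (n : ℤ) (φ : G⟦n⟧ ⟶ K), φ = 0) → IsZero K)
    (hcpt : FF.{w} P G) : P.ι.IsLeftAdjoint := by
  apply isLeftAdjoint_ι_of_small Ψ P
  exact isLeftAdjoint_of_brown (P' Ψ P).ι (fun H _ _ => brown_sub Ψ P G hG hgen hcpt H)

end Groth.Agent.Lib.Helper25.BrownSub
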