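import Mathlib
import Groth.Agent.Lib.Helper25.BrownSub
import Groth.Agent.Lib.Helper27.CompactGen

/-!
# Compact objects of a compactly generated triangulated subcategory lie in the thick closure of the generator
(helper25)

Setting of `BrownSub`.  `thick_of_ff`: if `G ∈ P` is a compact generator of `P` (in the `FinFac.FF` sense), `K ∈ P` has
the finite support property and `Q` is a thick (triangulated, stable under retracts) subcategory containing `G`,
then `K ∈ Q` (helper27's `generates_iff_classical_generator`, Neeman).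
-/

set_option autoImplicit false
universe w v₁ u₁ u₂
open CategoryTheory CategoryTheory.Limits Pretriangulated Opposite

namespace Groth.Agent.Lib.Helper25.BrownSub

open Groth.Agent.Lib.Helper25.FinFac Groth.Agent.Lib.helper27

variable {C : Type u₁} [Category.{v₁} C] [Preadditive C] [HasZeroObject C] [HasShift C ℤ]
  [∀ n : ℤ, (shiftFunctor C n).Additive] [Pretriangulated C]
  {C' : Type u₂} [Category.{w} C'] [Preadditive C'] [HasZeroObject C'] [HasShift C' ℤ]
  [∀ n : ℤ, (shiftFunctor C' n).Additive] [Pretriangulated C'] [IsTriangulated C']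
  (Ψ : C' ⥤ C) [Ψ.CommShift ℤ] [Ψ.IsTriangulated] [Ψ.IsEquivalence]
  (P : ObjectProperty C) [P.IsTriangulated] [P.IsClosedUnderIsomorphisms]
  [∀ J : Type w, P.IsClosedUnderColimitsOfShape (Discrete J)] [HasCoproducts.{w} C']

instance inverseImage_isStableUnderRetracts {C₁ C₂ : Type*} [Category C₁] [Category C₂] (F : C₁ ⥤ C₂)
    (Q : ObjectProperty C₂) [Q.IsStableUnderRetracts] : (Q.inverseImage F).IsStableUnderRetracts where
  of_retract r h := Q.prop_of_retract (r.map F) h

theorem generates_G' (G : C) (hG : P G)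
    (hgen : ∀ K : C, P K → (∀ (n : ℤ) (φ : G⟦n⟧ ⟶ K), φ = 0) → IsZero K) :
    CohDer.Generates (fun _ : Unit => G' Ψ P G hG) := by
  intro K' hK'
  apply IsZero.of_full_of_faithful_of_isZero (ρ Ψ P)
  apply hgen _ K'.property
  intro n φ
  let θ : (ρ Ψ P).obj ((G' Ψ P G hG)⟦n⟧) ≅ G⟦n⟧ :=
    ((ρ Ψ P).commShiftIso n).app (G' Ψ P G hG) ≪≫ (shiftFunctor C n).mapIso (γ Ψ P G hG)
  obtain ⟨f, hf⟩ := (ρ Ψ P).map_surjective (θ.hom ≫ φ)
  have h0 : f = 0 := by
    have h1 := hK' () (-n) ((shiftFunctorCompIsoId _ n (-n) (by simp)).inv.app (G' Ψ P G hG) ≫ f⟦-n⟧')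
    apply (shiftFunctor _ (-n)).map_injective
    rw [Functor.map_zero, ← cancel_epi ((shiftFunctorCompIsoId _ n (-n) (by simp)).inv.app (G' Ψ P G hG)),
      comp_zero]
    exact h1
  rw [h0, Functor.map_zero] at hf
  rw [← cancel_epi θ.hom, ← hf, comp_zero]

include Ψ in
/-- **compact objects lie in the thick closure of a compact generator** -/
theorem thick_of_ff (G : C) (hG : P G)
    (hgen : ∀ K : C, P K → (∀ (n : ℤ) (φ : G⟦n⟧ ⟶ K), φ = 0) → IsZero K)
    (hcpt : FF.{w} P G)
    (Q : ObjectProperty C) [Q.IsTriangulated] [Q.IsStableUnderRetracts] [Q.IsClosedUnderIsomorphisms]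
    (hQG : Q G) (K : C) (hK : P K) (hKc : FF.{w} P K) : Q K := by
  have hcG := isCompactObject_G' Ψ P G hG hcpt
  have hcK := isCompactObject_G' Ψ P K hK hKc
  have hGen := generates_G' Ψ P G hG hgen
  have h1 := ((generates_iff_classical_generator (G' Ψ P G hG) hcG).1 hGen).2 (G' Ψ P K hK) hcK
  have hle : ObjectProperty.triangEnvelope (fun Y => Y = G' Ψ P G hG) ≤ Q.inverseImage (ρ Ψ P) := by
    rw [ObjectProperty.triangEnvelope_le_iff]
    rintro Y rfl
    exact Q.prop_of_iso (γ Ψ P G hG).symm hQG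
  exact Q.prop_of_iso (γ Ψ P K hK) (hle _ h1)

end Groth.Agent.Lib.Helper25.BrownSub
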