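import Mathlib

/-!
# An exact equivalence of abelian categories induces an equivalence of derived categories (helper25)

`A ≌ B` abelian categories, with *arbitrary* (unrelated) `HasDerivedCategory` instances.
* `dEquiv e : DerivedCategory A ≌ DerivedCategory B` with functor `e.functor.mapDerivedCategory` and
  inverse `e.inverse.mapDerivedCategory` (both triangulated, by Mathlib).
-/

set_option autoImplicit false
universe w₁ w₂ v₁ v₂ u₁ u₂
open CategoryTheory CategoryTheory.Limits

namespace Groth.Agent.Lib.Helper25.DEquiv

variable {A : Type u₁} [Category.{v₁} A] [Abelian A] [HasDerivedCategory.{w₁} A]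
  {B : Type u₂} [Category.{v₂} B] [Abelian B] [HasDerivedCategory.{w₂} B]
  (e : A ≌ B) [e.functor.Additive]

/-- the comparison equivalence of derived categories -/
noncomputable def dEquiv : DerivedCategory A ≌ DerivedCategory B :=
  Localization.equivalence DerivedCategory.Q (HomologicalComplex.quasiIso A (ComplexShape.up ℤ))
    DerivedCategory.Q (HomologicalComplex.quasiIso B (ComplexShape.up ℤ))
    (e.functor.mapHomologicalComplex _ ⋙ DerivedCategory.Q) e.functor.mapDerivedCategory
    (e.inverse.mapHomologicalComplex _ ⋙ DerivedCategory.Q) e.inverse.mapDerivedCategory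
    (Functor.associator _ _ _ ≪≫
      Functor.isoWhiskerLeft _ e.inverse.mapDerivedCategoryFactors ≪≫
      (Functor.associator _ _ _).symm ≪≫
      Functor.isoWhiskerRight (e.mapHomologicalComplex (ComplexShape.up ℤ)).unitIso.symm _ ≪≫
      Functor.leftUnitor _)
    (Functor.associator _ _ _ ≪≫
      Functor.isoWhiskerLeft _ e.functor.mapDerivedCategoryFactors ≪≫
      (Functor.associator _ _ _).symm ≪≫
      Functor.isoWhiskerRight (e.mapHomologicalComplex (ComplexShape.up ℤ)).counitIso _ ≪≫
      Functor.leftUnitor _)

lemma dEquiv_functor : (dEquiv e).functor = e.functor.mapDerivedCategory := rfl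
lemma dEquiv_inverse : (dEquiv e).inverse = e.inverse.mapDerivedCategory := rfl

instance : e.functor.mapDerivedCategory.IsEquivalence :=
  inferInstanceAs (dEquiv e).functor.IsEquivalence

instance : e.inverse.mapDerivedCategory.IsEquivalence :=
  inferInstanceAs (dEquiv e).inverse.IsEquivalence

end Groth.Agent.Lib.Helper25.DEquiv
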