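import Mathlib

/-!
# Successive approximation / open mapping lemma for complete uniform groups (helper25)

* `subset_image_of_approx`: `f : G →+ H` continuous, `G` complete, `H` Hausdorff; closed subgroups `D j ≤ G` and subgroups
  `C j ≤ H`, both antitone and arbitrarily small; if each `r ∈ C j` is `f d` up to `C (j+1)` with `d ∈ D j` then
  `C n ⊆ f '' D n`.
-/

set_option autoImplicit false
universe u v
open Filter Topology

namespace Groth.Agent.Lib.helper25.OpenMapApprox

variable {G H : Type*} [AddCommGroup G] [UniformSpace G] [IsUniformAddGroup G] [CompleteSpace G]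
  [AddCommGroup H] [TopologicalSpace H] [IsTopologicalAddGroup H] [T2Space H]

/-- **Successive approximation** (open mapping type lemma).  `f : G →+ H` continuous, `G` complete, `H` Hausdorff;
`D j ≤ G` closed subgroups, antitone and arbitrarily small; `C j ≤ H` subgroups, antitone and arbitrarily small;
if every `r ∈ C j` can be approximated as `r - f d ∈ C (j+1)` with `d ∈ D j`, then `C n ⊆ f '' D n`. -/
theorem subset_image_of_approx (f : G →+ H) (hf : Continuous f) (D : ℕ → AddSubgroup G) (C : ℕ → AddSubgroup H)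
    (hDcl : ∀ j, IsClosed (D j : Set G)) (hDanti : Antitone D)
    (hDsmall : ∀ W ∈ 𝓝 (0 : G), ∃ j, (D j : Set G) ⊆ W)
    (hCanti : Antitone C) (hCsmall : ∀ W ∈ 𝓝 (0 : H), ∃ j, (C j : Set H) ⊆ W)
    (hstep : ∀ j, ∀ r ∈ C j, ∃ d ∈ D j, r - f d ∈ C (j + 1)) (n : ℕ) (y : H) (hy : y ∈ C n) :
    ∃ x ∈ D n, f x = y := by
  classical
  -- the recursive construction of the partial sums
  have next : ∀ (k : ℕ) (p : {s : G // y - f s ∈ C (n + k)}),
      ∃ s' : G, y - f s' ∈ C (n + (k + 1)) ∧ s' - p.1 ∈ D (n + k) := by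
    rintro k ⟨s, hs⟩
    obtain ⟨d, hd, hr⟩ := hstep (n + k) _ hs
    refine ⟨s + d, ?_, by simpa using hd⟩
    have : y - f (s + d) = y - f s - f d := by rw [map_add]; abel
    rw [this]
    exact hr
  let S : ∀ k : ℕ, {s : G // y - f s ∈ C (n + k)} := fun k =>
    Nat.rec (motive := fun k => {s : G // y - f s ∈ C (n + k)}) ⟨0, by simpa using hy⟩
      (fun k p => ⟨(next k p).choose, (next k p).choose_spec.1⟩) k
  let s : ℕ → G := fun k => (S k).1
  have hs1 : ∀ k, s (k + 1) - s k ∈ D (n + k) := fun k => (next k (S k)).choose_spec.2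
  have hs2 : ∀ k, y - f (s k) ∈ C (n + k) := fun k => (S k).2
  have hs0 : s 0 = 0 := rfl
  have hs3 : ∀ k l, k ≤ l → s l - s k ∈ D (n + k) := by
    intro k l hkl
    induction l, hkl using Nat.le_induction with
    | base => simp
    | succ l hkl ih =>
      have h1 : s (l + 1) - s l ∈ D (n + k) := hDanti (by omega : n + k ≤ n + l) (hs1 l)
      have : s (l + 1) - s k = (s (l + 1) - s l) + (s l - s k) := by abel
      rw [this]
      exact (D (n + k)).add_mem h1 ih
  have hcauchy : CauchySeq s := by
    rw [cauchySeq_iff]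
    intro V hV
    rw [uniformity_eq_comap_nhds_zero G] at hV
    obtain ⟨W, hW, hWV⟩ := hV
    obtain ⟨j, hj⟩ := hDsmall W hW
    refine ⟨j, fun k hk l hl => hWV ?_⟩
    show s l - s k ∈ W
    apply hj
    rcases le_total k l with hkl | hlk
    · exact hDanti (by omega : j ≤ n + k) (hs3 k l hkl)
    · have := hDanti (by omega : j ≤ n + l) (hs3 l k hlk)
      have h2 : s l - s k = -(s k - s l) := by abel
      rw [h2]
      exact (D j).neg_mem this
  obtain ⟨x, hx⟩ := cauchySeq_tendsto_of_complete hcauchy
  refine ⟨x, ?_, ?_⟩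
  · refine (hDcl n).mem_of_tendsto hx (Eventually.of_forall fun k => ?_)
    have := hs3 0 k (Nat.zero_le k)
    rw [hs0, sub_zero] at this
    exact this
  · have h1 : Tendsto (fun k => f (s k)) atTop (𝓝 (f x)) := (hf.tendsto x).comp hx
    have h2 : Tendsto (fun k => f (s k)) atTop (𝓝 y) := by
      have h3 : Tendsto (fun k => y - f (s k)) atTop (𝓝 0) := by
        rw [tendsto_def]
        intro W hW
        obtain ⟨j, hj⟩ := hCsmall W hW
        rw [mem_atTop_sets]
        exact ⟨j, fun k hk => hj (hCanti (by omega : j ≤ n + k) (hs2 k))⟩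
      have h4 : Tendsto (fun k => y - (y - f (s k))) atTop (𝓝 (y - 0)) := tendsto_const_nhds.sub h3
      simpa using h4
    exact tendsto_nhds_unique h1 h2

end Groth.Agent.Lib.helper25.OpenMapApprox
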