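import Mathlib
import Groth.Agent.Lib.Helper25.OpenMapApprox

/-!
# Closures of `I`-adic submodules in the completion of a topological module (helper25)

* `exists_sum_of_mem_span_smul`: elements of `span T • N` are `∑ g ∈ T, g • c g` with `c g ∈ N`.
* `ι : M →ₗ[R] Completion M`, `cl P` (closure of the image of a submodule `P` in the completion), `coe_cl`,
  `cl_mem_nhds`, `isOpen_cl`, `cl_mono`, `smul_cl_le : J • cl P ≤ cl (J • P)`, `mem_of_coe_mem_cl`.
* `cl_pow_smul_le`: for `I` finitely generated and `M'` open with the `I`-adic topology,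
  `cl (I^n • M') ≤ I^n • cl M'` (successive approximation).
-/

set_option autoImplicit false
universe u v
open Filter Topology

namespace Groth.Agent.Lib.helper25.AdicClosure

/-- elements of `span T • N` are combinations `∑ g ∈ T, g • c g` with `c g ∈ N` -/
lemma exists_sum_of_mem_span_smul {R : Type*} [CommRing R] {M : Type*} [AddCommGroup M] [Module R M]
    (T : Finset R) (N : Submodule R M) (x : M) (hx : x ∈ (Ideal.span (T : Set R)) • N) :
    ∃ c : R → M, (∀ g, c g ∈ N) ∧ x = ∑ g ∈ T, g • c g := by
  classical
  refine Submodule.smul_induction_on hx ?_ ?_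
  · intro r hr n hn
    obtain ⟨a, -, rfl⟩ := (Submodule.mem_span_finset (R := R)).1 hr
    refine ⟨fun g => a g • n, fun g => N.smul_mem _ hn, ?_⟩
    rw [Finset.sum_smul]
    refine Finset.sum_congr rfl (fun g _ => ?_)
    rw [smul_eq_mul, mul_comm, mul_smul]
  · rintro x y ⟨c₁, h₁, rfl⟩ ⟨c₂, h₂, rfl⟩
    refine ⟨fun g => c₁ g + c₂ g, fun g => N.add_mem (h₁ g) (h₂ g), ?_⟩
    rw [← Finset.sum_add_distrib]
    exact Finset.sum_congr rfl (fun g _ => (smul_add _ _ _).symm)

section

variable {R : Type u} [CommRing R] {M : Type v} [AddCommGroup M] [Module R M] [UniformSpace M]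
  [IsUniformAddGroup M] [UniformContinuousConstSMul R M]

/-- the canonical linear map to the completion -/
noncomputable def ι : M →ₗ[R] UniformSpace.Completion M where
  toFun := fun m => (m : UniformSpace.Completion M)
  map_add' := UniformSpace.Completion.coe_add
  map_smul' := fun c m => UniformSpace.Completion.coe_smul c m

/-- closure in the completion of the image of a submodule -/
noncomputable def cl (P : Submodule R M) : Submodule R (UniformSpace.Completion M) :=
  (P.map (ι (R := R))).topologicalClosure

lemma coe_cl (P : Submodule R M) : (cl P : Set (UniformSpace.Completion M)) =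
    closure (((↑) : M → UniformSpace.Completion M) '' (P : Set M)) := rfl

lemma coe_mem_cl {P : Submodule R M} {m : M} (hm : m ∈ P) : (m : UniformSpace.Completion M) ∈ cl P := by
  show (m : UniformSpace.Completion M) ∈ (cl P : Set _)
  rw [coe_cl]
  exact subset_closure ⟨m, hm, rfl⟩

lemma cl_mem_nhds (P : Submodule R M) (hP : (P : Set M) ∈ 𝓝 (0 : M)) :
    (cl P : Set (UniformSpace.Completion M)) ∈ 𝓝 (0 : UniformSpace.Completion M) := by
  have := (UniformSpace.Completion.isDenseInducing_coe (α := M)).closure_image_mem_nhds hP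
  rw [UniformSpace.Completion.coe_zero] at this
  rw [coe_cl]
  exact this

lemma cl_mono {P Q : Submodule R M} (h : P ≤ Q) : cl P ≤ cl Q := by
  intro x hx
  have hx' : x ∈ (cl P : Set _) := hx
  rw [coe_cl] at hx'
  show x ∈ (cl Q : Set _)
  rw [coe_cl]
  exact closure_mono (Set.image_mono h) hx'

lemma isOpen_cl (P : Submodule R M) (hP : (P : Set M) ∈ 𝓝 (0 : M)) :
    IsOpen (cl P : Set (UniformSpace.Completion M)) :=
  (cl P).toAddSubgroup.isOpen_of_mem_nhds (cl_mem_nhds P hP)

lemma smul_cl_le (J : Ideal R) (P : Submodule R M) : J • cl P ≤ cl (J • P) := by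
  rw [Submodule.smul_le]
  intro r hr x hx
  have hx' : x ∈ closure (((↑) : M → UniformSpace.Completion M) '' (P : Set M)) := by
    rw [← coe_cl]; exact hx
  show r • x ∈ (cl (J • P) : Set _)
  rw [coe_cl]
  refine map_mem_closure (continuous_const_smul r) hx' ?_
  rintro _ ⟨m, hm, rfl⟩
  exact ⟨r • m, Submodule.smul_mem_smul hr hm, UniformSpace.Completion.coe_smul r m⟩

/-- the preimage in `M` of the closure of an open submodule is that submodule -/
lemma mem_of_coe_mem_cl (P : Submodule R M) (hP : IsOpen (P : Set M)) {x : M}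
    (hx : (x : UniformSpace.Completion M) ∈ cl P) : x ∈ P := by
  have hx' : (x : UniformSpace.Completion M) ∈
      closure (((↑) : M → UniformSpace.Completion M) '' (P : Set M)) := by rw [← coe_cl]; exact hx
  have h1 : x ∈ closure (P : Set M) := by
    rw [(UniformSpace.Completion.isUniformInducing_coe M).isInducing.closure_eq_preimage_closure_image]
    exact hx'
  have h2 : IsClosed (P : Set M) := AddSubgroup.isClosed_of_isOpen P.toAddSubgroup hP
  rwa [h2.closure_eq] at h1

end

section Main

variable {R : Type u} [CommRing R] {M : Type v} [AddCommGroup M] [Module R M] [UniformSpace M]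
  [IsUniformAddGroup M] [UniformContinuousConstSMul R M]

lemma ι_apply (m : M) : ι (R := R) m = (m : UniformSpace.Completion M) := rfl

/-- **Key closure identity** (`⊇` part): for a finitely generated ideal `I` and an open submodule `M'` with the `I`-adic
topology, `closure (I^n M') ⊆ I^n • closure M'` in the completion. -/
theorem cl_pow_smul_le (I : Ideal R) (hI : I.FG) (M' : Submodule R M)
    (hopen : ∀ n : ℕ, IsOpen ((I ^ n • M' : Submodule R M) : Set M))
    (hbasis : ∀ U ∈ 𝓝 (0 : M), ∃ n : ℕ, ((I ^ n • M' : Submodule R M) : Set M) ⊆ U) (n : ℕ) :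
    cl (I ^ n • M') ≤ I ^ n • cl M' := by
  classical
  obtain ⟨T, hT⟩ := (hI.pow (n := n))
  let P : ℕ → Submodule R M := fun j => I ^ j • M'
  have hP0 : ∀ j, (P j : Set M) ∈ 𝓝 (0 : M) := fun j => (hopen j).mem_nhds (P j).zero_mem
  have hPanti : Antitone P := fun i j hij => Submodule.smul_mono_left (Ideal.pow_le_pow_right hij)
  let f : (T → UniformSpace.Completion M) →+ UniformSpace.Completion M :=
    { toFun := fun z => ∑ g : T, (g : R) • z g
      map_zero' := by simp
      map_add' := by intro a b; simp [smul_add, Finset.sum_add_distrib] }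
  have hf : Continuous f :=
    continuous_finsetSum _ (fun g _ => (continuous_const_smul (g : R)).comp (continuous_apply g))
  let D : ℕ → AddSubgroup (T → UniformSpace.Completion M) := fun j =>
    { carrier := {z | ∀ g, z g ∈ cl (P j)}
      zero_mem' := fun g => (cl (P j)).zero_mem
      add_mem' := fun ha hb g => (cl (P j)).add_mem (ha g) (hb g)
      neg_mem' := fun ha g => (cl (P j)).neg_mem (ha g) }
  let C : ℕ → AddSubgroup (UniformSpace.Completion M) := fun j => (cl (P (n + j))).toAddSubgroup
  have hDcl : ∀ j, IsClosed (D j : Set (T → UniformSpace.Completion M)) := by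
    intro j
    have : (D j : Set (T → UniformSpace.Completion M)) =
        ⋂ g : T, (fun z : T → UniformSpace.Completion M => z g) ⁻¹'
          (cl (P j) : Set (UniformSpace.Completion M)) := by
      ext z
      simp only [Set.mem_iInter, Set.mem_preimage]
      rfl
    rw [this]
    exact isClosed_iInter fun g =>
      (Submodule.isClosed_topologicalClosure _).preimage (continuous_apply g)
  have hDanti : Antitone D := fun i j hij z hz g => cl_mono (hPanti hij) (hz g)
  have hclsmall : ∀ W ∈ 𝓝 (0 : UniformSpace.Completion M),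
      ∃ j, (cl (P j) : Set (UniformSpace.Completion M)) ⊆ W := by
    intro W hW
    obtain ⟨W', ⟨hW'0, hW'cl⟩, hW'sub⟩ :=
      (closed_nhds_basis (0 : UniformSpace.Completion M)).mem_iff.mp hW
    have hpre : ((↑) : M → UniformSpace.Completion M) ⁻¹' W' ∈ 𝓝 (0 : M) := by
      apply (UniformSpace.Completion.continuous_coe M).continuousAt.preimage_mem_nhds
      rwa [UniformSpace.Completion.coe_zero]
    obtain ⟨j, hj⟩ := hbasis _ hpre
    refine ⟨j, subset_trans ?_ hW'sub⟩
    rw [coe_cl]
    apply closure_minimal _ hW'cl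
    rintro _ ⟨u, hu, rfl⟩
    exact hj hu
  have hDsmall : ∀ W ∈ 𝓝 (0 : T → UniformSpace.Completion M), ∃ j, (D j : Set _) ⊆ W := by
    intro W hW
    rw [nhds_pi, Filter.mem_pi] at hW
    obtain ⟨Is, hIs, t, ht, hsub⟩ := hW
    choose j hj using fun g => hclsmall (t g) (ht g)
    refine ⟨Finset.univ.sup j, fun z hz => hsub ?_⟩
    intro g _
    exact hj g (cl_mono (hPanti (Finset.le_sup (Finset.mem_univ g))) (hz g))
  have hCanti : Antitone C := fun i j hij => cl_mono (hPanti (by omega))
  have hCsmall : ∀ W ∈ 𝓝 (0 : UniformSpace.Completion M), ∃ j, (C j : Set _) ⊆ W := by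
    intro W hW
    obtain ⟨j, hj⟩ := hclsmall W hW
    exact ⟨j, subset_trans (cl_mono (hPanti (by omega))) hj⟩
  have hstep : ∀ j, ∀ r ∈ C j, ∃ d ∈ D j, r - f d ∈ C (j + 1) := by
    intro j r hr
    have hnb : (fun z : UniformSpace.Completion M => r - z) ⁻¹'
        (cl (P (n + (j + 1))) : Set (UniformSpace.Completion M)) ∈ 𝓝 r := by
      apply ContinuousAt.preimage_mem_nhds (by fun_prop)
      simpa using cl_mem_nhds _ (hP0 (n + (j + 1)))
    have hr' : r ∈ closure (((↑) : M → UniformSpace.Completion M) '' (P (n + j) : Set M)) := by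
      rw [← coe_cl]; exact hr
    obtain ⟨_, hz, ⟨m, hm, rfl⟩⟩ := mem_closure_iff_nhds.mp hr' _ hnb
    have hm' : m ∈ (Ideal.span (T : Set R)) • P j := by
      rw [hT]
      show m ∈ I ^ n • (I ^ j • M')
      rw [← mul_smul, ← pow_add]
      exact hm
    obtain ⟨c, hc, rfl⟩ := exists_sum_of_mem_span_smul T (P j) m hm'
    refine ⟨fun g => ((c g : M) : UniformSpace.Completion M), fun g => coe_mem_cl (hc g), ?_⟩
    have hfd : f (fun g : T => ((c g : M) : UniformSpace.Completion M)) =
        ((∑ g ∈ T, g • c g : M) : UniformSpace.Completion M) := by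
      show ∑ g : T, (g : R) • ((c g : M) : UniformSpace.Completion M) = _
      rw [Finset.sum_coe_sort T (fun g => g • ((c g : M) : UniformSpace.Completion M)),
        ← ι_apply (R := R), map_sum]
      refine Finset.sum_congr rfl (fun g _ => ?_)
      rw [map_smul, ι_apply]
    rw [hfd]
    exact hz
  intro y hy
  obtain ⟨x, hxD, hx⟩ := Groth.Agent.Lib.helper25.OpenMapApprox.subset_image_of_approx f hf D C hDcl hDanti
    hDsmall hCanti hCsmall hstep 0 y (show y ∈ cl (P (n + 0)) from by rw [add_zero]; exact hy)
  rw [← hx]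
  show ∑ g : T, (g : R) • x g ∈ I ^ n • cl M'
  refine Submodule.sum_mem _ (fun g _ => Submodule.smul_mem_smul ?_ ?_)
  · rw [← hT]
    exact Ideal.subset_span g.2
  · have h0 := hxD g
    have hP0' : P 0 = M' := by simp [P]
    rw [hP0'] at h0
    exact h0

end Main

end Groth.Agent.Lib.helper25.AdicClosure
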