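import Groth.Agent.Lib.Helper1.CompactBdd

/-!
# helper1's `CompactBdd`, for an arbitrary `HasDerivedCategory` instance (helper25)

Verbatim copy of the `main` section of helper1's `Groth/Agent/Lib/Helper1/CompactBdd.lean`, with the universe of
the morphisms of the derived category (`HasDerivedCategory.{w'}`) decoupled from that of the `Ext` groups
(`HasExt.{v}`), so that it applies to `DCoh.D Y` (`HasDerivedCategory.standard`).

* `bijective_homSum_single`: if `Hom(P, -)` commutes with `ι`-indexed coproducts and `ι`-indexed coproducts of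
  `P`-acyclic objects are `P`-acyclic, then `Hom(single_0 P, -)` commutes with coproducts of uniformly bounded
  below families in `D(𝒜)`.
-/

set_option autoImplicit false
set_option linter.unusedSectionVars false
universe w' w v u
open CategoryTheory CategoryTheory.Limits DerivedCategory

namespace Groth.Agent.Lib.Helper25.CompactBddU

open Groth.Agent.H1.SingleHom Groth.Agent.H1.KInjSig Groth.Agent.H1.HomSum
  Groth.Agent.H1.DCoprod Groth.Agent.Lib.Helper25.DProd Groth.Agent.H1.CompactBdd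
  Groth.Agent.H1

section main

variable {𝒜 : Type u} [Category.{v} 𝒜] [Abelian 𝒜] [HasDerivedCategory.{w'} 𝒜] [HasExt.{v} 𝒜]
  [EnoughInjectives 𝒜]
  (hKinj : ∀ K : CochainComplex 𝒜 ℤ, ∃ (I : CochainComplex 𝒜 ℤ) (f : K ⟶ I),
    I.IsKInjective ∧ QuasiIso f)
  {ι : Type w} [HasColimitsOfShape (Discrete ι) 𝒜] (P : 𝒜)
  (H0 : ∀ Y : ι → 𝒜, Function.Bijective (homSum P Y (Cofan.mk (∐ Y) (Sigma.ι Y))))
  (Hp : ∀ (Y : ι → 𝒜) (k : ℕ), 0 < k → (∀ i, Subsingleton (Abelian.Ext.{v} P (Y i) k)) →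
    Subsingleton (Abelian.Ext.{v} P (∐ Y) k))

section degreewise

variable (I : ι → CochainComplex 𝒜 ℤ) (n : ℤ)

include H0

lemma bijective_homSum_X :
    Function.Bijective (homSum P (fun i => (I i).X n)
      (Cofan.mk ((∐ I).X n) (fun i => (Sigma.ι I i).f n))) :=
  bijective_homSum_of_isColimit P (fun i => (I i).X n)
    (Cofan.mk (∐ fun i => (I i).X n) (Sigma.ι fun i => (I i).X n))
    (Cofan.mk ((∐ I).X n) (fun i => (Sigma.ι I i).f n))
    (coproductIsCoproduct (fun i => (I i).X n)) (isColimitCofanX I n)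
    (H0 (fun i => (I i).X n))

lemma exists_decomp (x : P ⟶ (∐ I).X n) :
    ∃ (S : Finset ι) (σ : ∀ i, P ⟶ (I i).X n), x = ∑ i ∈ S, σ i ≫ (Sigma.ι I i).f n :=
  (surjective_iff P (fun i => (I i).X n)
    (Cofan.mk ((∐ I).X n) (fun i => (Sigma.ι I i).f n))).1 (bijective_homSum_X P H0 I n).2 x

lemma eq_zero_of_sum (S : Finset ι) (σ : ∀ i, P ⟶ (I i).X n)
    (h : ∑ i ∈ S, σ i ≫ (Sigma.ι I i).f n = 0) : ∀ i ∈ S, σ i = 0 :=
  (injective_iff P (fun i => (I i).X n)
    (Cofan.mk ((∐ I).X n) (fun i => (Sigma.ι I i).f n))).1 (bijective_homSum_X P H0 I n).1 S σ h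

end degreewise

include Hp in
lemma subsingleton_ext_sigma_X (I : ι → CochainComplex 𝒜 ℤ) (hI : ∀ i n, Injective ((I i).X n))
    (n : ℤ) (k : ℕ) (hk : 0 < k) : Subsingleton (Abelian.Ext.{v} P ((∐ I).X n) k) := by
  have h1 : Subsingleton (Abelian.Ext.{v} P (∐ fun i => (I i).X n) k) := by
    apply Hp (fun i => (I i).X n) k hk
    intro i
    have := hI i n
    obtain ⟨k', rfl⟩ : ∃ k', k = k' + 1 := ⟨k - 1, by omega⟩
    exact subsingleton_of_forall_eq 0 fun x => Abelian.Ext.eq_zero_of_injective x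
  exact subsingleton_ext_of_iso
    ((coproductIsCoproduct (fun i => (I i).X n)).coconePointUniqueUpToIso
      (isColimitCofanX I n)) k h1

/-- zero extension of a family outside a finite set -/
noncomputable def zext {β : ι → Type*} [∀ i, Zero (β i)] (S : Finset ι) (σ : ∀ i, β i) : ∀ i, β i :=
  fun i => by classical exact if i ∈ S then σ i else 0

lemma zext_mem {β : ι → Type*} [∀ i, Zero (β i)] (S : Finset ι) (σ : ∀ i, β i) (i : ι)
    (hi : i ∈ S) : zext S σ i = σ i := by
  classical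
  unfold zext
  rw [if_pos hi]

lemma zext_not_mem {β : ι → Type*} [∀ i, Zero (β i)] (S : Finset ι) (σ : ∀ i, β i) (i : ι)
    (hi : i ∉ S) : zext S σ i = 0 := by
  classical
  unfold zext
  rw [if_neg hi]

lemma zext_comp {D : Type*} [Category D] [Preadditive D] {K : D} {X : ι → D} {Y : ι → D}
    (S : Finset ι) (f : ∀ i, K ⟶ X i) (g : ∀ i, X i ⟶ Y i) (i : ι) :
    zext S (fun i => f i ≫ g i) i = zext S f i ≫ g i := by
  by_cases hi : i ∈ S
  · rw [zext_mem S _ i hi, zext_mem S f i hi]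
  · rw [zext_not_mem S _ i hi, zext_not_mem S f i hi, zero_comp]

lemma sum_zext {D : Type*} [Category D] [Preadditive D] {K : D} {X : ι → D} {Y : D}
    (S T : Finset ι) (hST : S ⊆ T) (f : ∀ i, K ⟶ X i) (g : ∀ i, X i ⟶ Y) :
    ∑ i ∈ S, f i ≫ g i = ∑ i ∈ T, zext S f i ≫ g i := by
  rw [← Finset.sum_subset hST]
  · exact Finset.sum_congr rfl (fun i hi => by rw [zext_mem S f i hi])
  · intro i _ hi
    rw [zext_not_mem S f i hi, zero_comp]

include hKinj H0 Hp in
theorem bijective_homSum_Q (I : ι → CochainComplex 𝒜 ℤ) (a : ℤ)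
    (hIinj : ∀ i n, Injective ((I i).X n)) (hIa : ∀ i, (I i).IsStrictlyGE a) :
    Function.Bijective (homSum ((singleFunctor 𝒜 0).obj P) (fun i => Q.obj (I i))
      (Cofan.mk (Q.obj (∐ I)) (fun t => Q.map (Sigma.ι I t)))) := by
  classical
  have hIK : ∀ i, (I i).IsKInjective := fun i => by
    have := hIa i
    have := hIinj i
    exact CochainComplex.isKInjective_of_injective (I i) a
  have hKa : (∐ I).IsStrictlyGE a := isStrictlyGE_sigma I a hIa
  obtain ⟨E, φ, hφ, hEinj, hEa⟩ :=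
    CochainComplex.Plus.modelCategoryQuillen.exists_quasiIso_injective (∐ I) a
  have hEK : E.IsKInjective := CochainComplex.isKInjective_of_injective E a
  have hQφ : IsIso (Q.map φ) := by rw [isIso_Q_map_iff_quasiIso]; exact hφ
  have hKacyc : ∀ (m : ℤ) (k : ℕ), 0 < k → Subsingleton (Abelian.Ext.{v} P ((∐ I).X m) k) :=
    fun m k hk => subsingleton_ext_sigma_X P Hp I hIinj m k hk
  have hEacyc : ∀ (m : ℤ) (k : ℕ), 0 < k → Subsingleton (Abelian.Ext.{v} P (E.X m) k) := by
    intro m k hk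
    have := hEinj m
    obtain ⟨k', rfl⟩ : ∃ k', k = k' + 1 := ⟨k - 1, by omega⟩
    exact subsingleton_of_forall_eq 0 fun x => Abelian.Ext.eq_zero_of_injective x
  constructor
  · -- injectivity
    rw [injective_iff]
    intro S σ hσ i hi
    have hz : ∀ i, ∃ z : P ⟶ (I i).cycles 0, σ i = sig (I i) 0 z := fun i => by
      have := hIK i
      exact exists_sig_eq (I i) 0 (σ i)
    choose z hz using hz
    let Z : P ⟶ (∐ I).cycles 0 := ∑ i ∈ S, z i ≫ HomologicalComplex.cyclesMap (Sigma.ι I i) 0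
    have hZ : sig (∐ I) 0 Z = 0 := by
      rw [sig_sum, ← hσ]
      apply Finset.sum_congr rfl
      intro i _
      change _ = σ i ≫ Q.map (Sigma.ι I i)
      rw [hz i, sig_comp]
    have hZE : sig E 0 (Z ≫ HomologicalComplex.cyclesMap φ 0) = 0 := by
      rw [← sig_comp, hZ, zero_comp]
    obtain ⟨y, hy⟩ := exists_boundary_of_sig_eq_zero E (-1) 0 (by norm_num) _ hZE
    have hx : (Z ≫ (∐ I).iCycles 0) ≫ (∐ I).d 0 (0 + 1) = 0 := by simp
    have hxy : (Z ≫ (∐ I).iCycles 0) ≫ φ.f 0 = y ≫ E.d (-1) 0 := by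
      have := congrArg (fun t => t ≫ E.iCycles 0) hy
      simp only [Category.assoc, HomologicalComplex.cyclesMap_i,
        HomologicalComplex.toCycles_i] at this
      rw [Category.assoc]
      exact this
    obtain ⟨w, hw⟩ := LerayHom.exists_bound P φ a a hKacyc hEacyc (-1) 0 (by norm_num) _ hx y hxy
    obtain ⟨S', τ, hτ⟩ := exists_decomp P H0 I (-1) w
    -- compare in degree 0
    have hsum : ∑ j ∈ S ∪ S', (zext S (fun j => z j ≫ (I j).iCycles 0) j -
        zext S' (fun j => τ j ≫ (I j).d (-1) 0) j) ≫ (Sigma.ι I j).f 0 = 0 := by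
      simp only [Preadditive.sub_comp]
      rw [Finset.sum_sub_distrib, sub_eq_zero,
        ← sum_zext S (S ∪ S') Finset.subset_union_left
          (fun j => z j ≫ (I j).iCycles 0) (fun j => (Sigma.ι I j).f 0),
        ← sum_zext S' (S ∪ S') Finset.subset_union_right
          (fun j => τ j ≫ (I j).d (-1) 0) (fun j => (Sigma.ι I j).f 0)]
      have h1 : Z ≫ (∐ I).iCycles 0 = ∑ j ∈ S, (z j ≫ (I j).iCycles 0) ≫ (Sigma.ι I j).f 0 := by
        rw [Preadditive.sum_comp]
        apply Finset.sum_congr rfl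
        intro j _
        simp only [Category.assoc, HomologicalComplex.cyclesMap_i]
      have h2 : w ≫ (∐ I).d (-1) 0 =
          ∑ j ∈ S', (τ j ≫ (I j).d (-1) 0) ≫ (Sigma.ι I j).f 0 := by
        rw [hτ, Preadditive.sum_comp]
        apply Finset.sum_congr rfl
        intro j _
        simp only [Category.assoc, HomologicalComplex.Hom.comm]
      rw [← h1, ← h2, hw]
    have h3 := eq_zero_of_sum P H0 I 0 (S ∪ S') _ hsum i (Finset.mem_union_left _ hi)
    rw [sub_eq_zero, zext_mem S _ i hi, zext_comp] at h3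
    have h4 : z i = zext S' τ i ≫ (I i).toCycles (-1) 0 := by
      rw [← cancel_mono ((I i).iCycles 0), Category.assoc, HomologicalComplex.toCycles_i]
      exact h3
    rw [hz i, h4]
    exact sig_toCycles (I i) (-1) 0 (by norm_num) _
  · -- surjectivity
    rw [surjective_iff]
    intro τ
    change (singleFunctor 𝒜 0).obj P ⟶ Q.obj (∐ I) at τ
    obtain ⟨zE, hzE⟩ := exists_sig_eq E 0 (τ ≫ Q.map φ)
    obtain ⟨x, y, hx, hxy⟩ := LerayHom.exists_lift P φ a a hKacyc hEacyc (-1) 0 (by norm_num)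
      (zE ≫ E.iCycles 0) (by simp)
    let zK : P ⟶ (∐ I).cycles 0 := (∐ I).liftCycles x (0 + 1) (by simp) hx
    have h1 : sig (∐ I) 0 zK = τ := by
      rw [← cancel_mono (Q.map φ), sig_comp, hzE]
      have : zK ≫ HomologicalComplex.cyclesMap φ 0 = zE + y ≫ E.toCycles (-1) 0 := by
        rw [← cancel_mono (E.iCycles 0)]
        simp [zK, hxy]
      rw [this, sig_add, sig_toCycles E (-1) 0 (by norm_num), add_zero]
    obtain ⟨S, ξ, hξ⟩ := exists_decomp P H0 I 0 x
    have hcyc : ∀ i ∈ S, ξ i ≫ (I i).d 0 (0 + 1) = 0 := by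
      apply eq_zero_of_sum P H0 I (0 + 1) S (fun i => ξ i ≫ (I i).d 0 (0 + 1))
      rw [← hx, hξ, Preadditive.sum_comp]
      apply Finset.sum_congr rfl
      intro i _
      simp only [Category.assoc, HomologicalComplex.Hom.comm]
    have hcyc' : ∀ i, zext S ξ i ≫ (I i).d 0 (0 + 1) = 0 := by
      intro i
      by_cases hi : i ∈ S
      · rw [zext_mem _ _ _ hi]; exact hcyc i hi
      · rw [zext_not_mem _ _ _ hi, zero_comp]
    let ζ : ∀ i, P ⟶ (I i).cycles 0 := fun i =>
      (I i).liftCycles (zext S ξ i) (0 + 1) (by simp) (hcyc' i)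
    refine ⟨S, fun i => sig (I i) 0 (ζ i), ?_⟩
    have h2 : zK = ∑ i ∈ S, ζ i ≫ HomologicalComplex.cyclesMap (Sigma.ι I i) 0 := by
      rw [← cancel_mono ((∐ I).iCycles 0), Preadditive.sum_comp]
      simp only [Category.assoc, HomologicalComplex.cyclesMap_i]
      simp only [zK, ζ, HomologicalComplex.liftCycles_i, HomologicalComplex.liftCycles_i_assoc]
      rw [hξ]
      exact Finset.sum_congr rfl (fun i hi => by rw [zext_mem S ξ i hi])
    rw [← h1, h2, sig_sum]
    apply Finset.sum_congr rfl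
    intro i _
    exact (sig_comp _ _ _).symm

include hKinj H0 Hp in
/-- if `Hom(P, -)` commutes with `ι`-indexed coproducts and `ι`-indexed coproducts of `P`-acyclic
objects are `P`-acyclic, then `Hom(single_0 P, -)` commutes with coproducts of uniformly bounded
below families -/
theorem bijective_homSum_single (M : ι → DerivedCategory 𝒜) (a : ℤ) (hM : ∀ i, (M i).IsGE a)
    (c : Cofan M) (hc : IsColimit c) :
    Function.Bijective (homSum ((singleFunctor 𝒜 0).obj P) M c) := by
  classical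
  have hex : ∀ i, ∃ (I : CochainComplex 𝒜 ℤ), (∀ n, Injective (I.X n)) ∧ I.IsStrictlyGE a ∧
      Nonempty (Q.obj I ≅ M i) := by
    intro i
    have := hM i
    obtain ⟨L, hL, ⟨e⟩⟩ := exists_iso_Q_obj_of_isGE (M i) a
    obtain ⟨I, f, hf, hI, hIa⟩ :=
      CochainComplex.Plus.modelCategoryQuillen.exists_quasiIso_injective L a
    have : IsIso (Q.map f) := by rw [isIso_Q_map_iff_quasiIso]; exact hf
    exact ⟨I, hI, hIa, ⟨(asIso (Q.map f)).symm ≪≫ e.symm⟩⟩
  choose I hIinj hIa he using hex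
  obtain ⟨e⟩ : Nonempty (∀ i, Q.obj (I i) ≅ M i) := ⟨fun i => (he i).some⟩
  exact bijective_homSum_of_iso _ (fun i => Q.obj (I i)) M e
    (Cofan.mk (Q.obj (∐ I)) (fun t => Q.map (Sigma.ι I t))) (isColimitCofanQ hKinj I) c hc
    (bijective_homSum_Q hKinj P H0 Hp I a hIinj hIa)

end main

end Groth.Agent.Lib.Helper25.CompactBddU
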