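import Mathlib

/-!
# Abstract nonsense for "internal Hom commutes with restriction to an open" (helper25)

Setting: `adj : S ⊣ Rs` (think `j_! ⊣ j^*`), `adjG : Rs ⊣ G` (think `j^* ⊣ Rj_*`), `adjT : T ⊣ H` on `𝒳`
(think `- ⊗^L K ⊣ RHom(K, -)`), and the support hypothesis `h : ∀ N', IsIso (adj.counit.app (T.obj (S.obj N')))`.

* `bijective_map_of_isIso_counit`: `γ ↦ Rs γ` is bijective on `Hom(E, L)` when the counit at `E` is invertible.
* `map_eq_homEquiv`: `Rs γ = adj.homEquiv _ _ (ε_E ≫ γ)`.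
* `isIso_map_map_unit`: `Rs (H (η^G_L))` is an isomorphism.
* `adjRestrict`: if moreover `c : Rs ⋙ T' ≅ T ⋙ Rs` and the unit of `adj` is invertible, `T' ⊣ G ⋙ H ⋙ Rs`.
* `nonempty_iso_restrict`: for every adjunction `T' ⊣ H'`, `Rs (H L) ≅ H' (Rs L)`.
* `exists_iso_comp_counit`: `T (ε_N) = φ ≫ ε_{T N}` for an isomorphism `φ`.
* `IsLocAt`, `IsLocAt.bijective_of_square`: elementary localization at an endomorphism and its uniqueness.
-/

set_option autoImplicit false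
universe v₁ v₂ u₁ u₂
open CategoryTheory

namespace Groth.Agent.Lib.Helper25.RHomAbs

variable {𝒳 : Type u₁} [Category.{v₁} 𝒳] {𝒰 : Type u₂} [Category.{v₂} 𝒰]
variable {S : 𝒰 ⥤ 𝒳} {Rs : 𝒳 ⥤ 𝒰} (adj : S ⊣ Rs)

lemma map_eq_homEquiv (E L : 𝒳) (γ : E ⟶ L) :
    Rs.map γ = adj.homEquiv (Rs.obj E) L (adj.counit.app E ≫ γ) := by
  rw [Adjunction.homEquiv_unit, Functor.map_comp, ← Category.assoc, adj.right_triangle_components,
    Category.id_comp]

/-- `γ ↦ Rs γ` is bijective on `Hom(E, L)` when the counit at `E` is invertible -/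
lemma bijective_map_of_isIso_counit (E L : 𝒳) [IsIso (adj.counit.app E)] :
    Function.Bijective (fun γ : E ⟶ L => Rs.map γ) := by
  have h : (fun γ : E ⟶ L => Rs.map γ) =
      (adj.homEquiv (Rs.obj E) L) ∘ (fun γ : E ⟶ L => adj.counit.app E ≫ γ) := by
    funext γ
    exact map_eq_homEquiv adj E L γ
  rw [h]
  refine (adj.homEquiv (Rs.obj E) L).bijective.comp ?_
  constructor
  · intro γ γ' hγ
    exact (cancel_epi (adj.counit.app E)).1 hγ
  · intro δ
    exact ⟨inv (adj.counit.app E) ≫ δ, by simp⟩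

variable {G : 𝒰 ⥤ 𝒳} (adjG : Rs ⊣ G) {T H : 𝒳 ⥤ 𝒳} (adjT : T ⊣ H)

/-- the composite bijection `(N' ⟶ Rs (H L)) ≃ (T (S N') ⟶ L)` -/
noncomputable def Φ (N' : 𝒰) (L : 𝒳) : (N' ⟶ Rs.obj (H.obj L)) ≃ (T.obj (S.obj N') ⟶ L) :=
  (adj.homEquiv N' (H.obj L)).symm.trans (adjT.homEquiv (S.obj N') L).symm

lemma Φ_naturality (N' : 𝒰) {L L' : 𝒳} (g : L ⟶ L') (β : N' ⟶ Rs.obj (H.obj L)) :
    Φ adj adjT N' L' (β ≫ Rs.map (H.map g)) = Φ adj adjT N' L β ≫ g := by
  simp only [Φ, Equiv.trans_apply]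
  rw [Adjunction.homEquiv_naturality_right_symm, Adjunction.homEquiv_naturality_right_symm]

include adjG adjT in
/-- **`Rs (H (η_L))` is an isomorphism** (`η` the unit of `Rs ⊣ G`) as soon as the objects `T (S N')` are
"supported on the open", i.e. the counit of `S ⊣ Rs` is invertible on them. -/
theorem isIso_map_map_unit (h : ∀ N' : 𝒰, IsIso (adj.counit.app (T.obj (S.obj N')))) (L : 𝒳) :
    IsIso (Rs.map (H.map (adjG.unit.app L))) := by
  rw [isIso_iff_yoneda_map_bijective]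
  intro N'
  haveI := h N'
  -- the map is conjugate to `γ ↦ γ ≫ η_L`
  have h1 : (fun β : N' ⟶ Rs.obj (H.obj L) => β ≫ Rs.map (H.map (adjG.unit.app L))) =
      (Φ adj adjT N' _).symm ∘ (fun γ : T.obj (S.obj N') ⟶ L => γ ≫ adjG.unit.app L) ∘
        (Φ adj adjT N' L) := by
    funext β
    simp only [Function.comp_apply]
    rw [← Φ_naturality, Equiv.symm_apply_apply]
  change Function.Bijective (fun β : N' ⟶ Rs.obj (H.obj L) => β ≫ Rs.map (H.map (adjG.unit.app L)))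
  rw [h1]
  refine (Equiv.bijective _).comp (Function.Bijective.comp ?_ (Equiv.bijective _))
  -- `γ ↦ γ ≫ η_L` is `homEquiv ∘ (γ ↦ Rs γ)`
  have h2 : (fun γ : T.obj (S.obj N') ⟶ L => γ ≫ adjG.unit.app L) =
      (adjG.homEquiv _ _) ∘ (fun γ : T.obj (S.obj N') ⟶ L => Rs.map γ) := by
    funext γ
    simp only [Function.comp_apply]
    rw [Adjunction.homEquiv_unit]
    exact (adjG.unit.naturality γ)
  rw [h2]
  exact (Equiv.bijective _).comp (bijective_map_of_isIso_counit adj _ L)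

variable {T' : 𝒰 ⥤ 𝒰} (c : Rs ⋙ T' ≅ T ⋙ Rs)

/-- `S ⋙ T ⋙ Rs ≅ T'` -/
noncomputable def compIso [IsIso adj.unit] : S ⋙ T ⋙ Rs ≅ T' :=
  Functor.isoWhiskerLeft S c.symm ≪≫ (Functor.associator S Rs T').symm ≪≫
    Functor.isoWhiskerRight (asIso adj.unit).symm T' ≪≫ Functor.leftUnitor T'

/-- the restricted adjunction `T' ⊣ G ⋙ H ⋙ Rs` -/
noncomputable def adjRestrict [IsIso adj.unit] : T' ⊣ G ⋙ H ⋙ Rs :=
  ((adj.comp (adjT.comp adjG))).ofNatIsoLeft (compIso adj c)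

include adj adjG adjT c in
/-- **restriction of the internal Hom**: for every right adjoint `H'` of `T'`, `Rs (H L) ≅ H' (Rs L)` -/
theorem nonempty_iso_restrict [IsIso adj.unit]
    (h : ∀ N' : 𝒰, IsIso (adj.counit.app (T.obj (S.obj N')))) {H' : 𝒰 ⥤ 𝒰} (adj' : T' ⊣ H')
    (L : 𝒳) : Nonempty (Rs.obj (H.obj L) ≅ H'.obj (Rs.obj L)) := by
  haveI := isIso_map_map_unit adj adjG adjT h L
  let e : G ⋙ H ⋙ Rs ≅ H' := (adjRestrict adj adjG adjT c).rightAdjointUniq adj'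
  exact ⟨asIso (Rs.map (H.map (adjG.unit.app L))) ≪≫ e.app (Rs.obj L)⟩

include c in
/-- `T (ε_N) = φ ≫ ε_{T N}` for an isomorphism `φ` -/
theorem exists_iso_comp_counit [IsIso adj.unit]
    (h : ∀ N' : 𝒰, IsIso (adj.counit.app (T.obj (S.obj N')))) (N : 𝒳) :
    ∃ φ : T.obj (S.obj (Rs.obj N)) ≅ S.obj (Rs.obj (T.obj N)),
      T.map (adj.counit.app N) = φ.hom ≫ adj.counit.app (T.obj N) := by
  haveI := h (Rs.obj N)
  -- `Rs (ε_N)` is invertible
  haveI h1 : IsIso (Rs.map (adj.counit.app N)) := by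
    have ht := adj.right_triangle_components N
    haveI : IsIso (adj.unit.app (Rs.obj N)) := inferInstance
    have : Rs.map (adj.counit.app N) = inv (adj.unit.app (Rs.obj N)) := by
      rw [← cancel_epi (adj.unit.app (Rs.obj N)), ht, IsIso.hom_inv_id]
      rfl
    rw [this]
    infer_instance
  haveI h2 : IsIso (Rs.map (T.map (adj.counit.app N))) := by
    have hn := c.hom.naturality (adj.counit.app N)
    simp only [Functor.comp_map] at hn
    have : Rs.map (T.map (adj.counit.app N)) =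
        c.inv.app _ ≫ T'.map (Rs.map (adj.counit.app N)) ≫ c.hom.app _ := by
      rw [hn, ← Category.assoc, ← NatTrans.comp_app, Iso.inv_hom_id, NatTrans.id_app,
        Category.id_comp]
    rw [this]
    infer_instance
  refine ⟨(asIso (adj.counit.app (T.obj (S.obj (Rs.obj N))))).symm ≪≫
    asIso (S.map (Rs.map (T.map (adj.counit.app N)))), ?_⟩
  have hn := adj.counit.naturality (T.map (adj.counit.app N))
  simp only [Functor.comp_map, Functor.id_map, Functor.comp_obj, Functor.id_obj] at hn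
  simp only [Iso.trans_hom, Iso.symm_hom, asIso_inv, asIso_hom, Category.assoc]
  rw [hn, IsIso.inv_hom_id_assoc]

section Loc

variable {P Q P' Q' : Type*} [AddCommGroup P] [AddCommGroup Q] [AddCommGroup P'] [AddCommGroup Q']

/-- `ρ : P → Q` is a localization at the endomorphisms `fP`, `fQ` (elementary form) -/
structure IsLocAt (fP : P →+ P) (fQ : Q →+ Q) (ρ : P →+ Q) : Prop where
  comm : ∀ x, ρ (fP x) = fQ (ρ x)
  bij : Function.Bijective fQ
  ker : ∀ x, ρ x = 0 → ∃ n : ℕ, (fP^[n]) x = 0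
  surj : ∀ y, ∃ (n : ℕ) (x : P), ρ x = (fQ^[n]) y

lemma iterate_comm {A B : Type*} (fA : A → A) (fB : B → B) (g : A → B) (h : ∀ x, g (fA x) = fB (g x))
    (n : ℕ) (x : A) : g (fA^[n] x) = fB^[n] (g x) := by
  induction n generalizing x with
  | zero => rfl
  | succ n ih => rw [Function.iterate_succ_apply, Function.iterate_succ_apply, ih, h]

lemma iterate_map_zero (f : P →+ P) (n : ℕ) : (f^[n]) 0 = 0 := by
  induction n with
  | zero => rfl
  | succ n ih => rw [Function.iterate_succ_apply, map_zero, ih]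

/-- uniqueness of localizations -/
theorem IsLocAt.bijective_of_square {fP : P →+ P} {fQ : Q →+ Q} {ρ : P →+ Q}
    {fP' : P' →+ P'} {fQ' : Q' →+ Q'} {ρ' : P' →+ Q'}
    (h : IsLocAt fP fQ ρ) (h' : IsLocAt fP' fQ' ρ') (a : P →+ P') (b : Q →+ Q')
    (ha : Function.Bijective a) (hsq : ∀ x, b (ρ x) = ρ' (a x))
    (haf : ∀ x, a (fP x) = fP' (a x)) (hbf : ∀ y, b (fQ y) = fQ' (b y)) : Function.Bijective b := by
  constructor
  · rw [injective_iff_map_eq_zero]
    intro δ hδ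
    obtain ⟨n, γ, hγ⟩ := h.surj δ
    have h1 : ρ' (a γ) = 0 := by
      rw [← hsq, hγ, iterate_comm fQ fQ' b hbf, hδ, iterate_map_zero]
    obtain ⟨m, hm⟩ := h'.ker _ h1
    have h2 : a (fP^[m] γ) = 0 := by rw [iterate_comm fP fP' a haf, hm]
    have h3 : fP^[m] γ = 0 := by
      apply ha.1
      rw [h2, map_zero]
    have h4 : fQ^[m] (fQ^[n] δ) = 0 := by
      rw [← hγ, ← iterate_comm fP fQ ρ h.comm, h3, map_zero]
    have h5 : fQ^[m] (fQ^[n] δ) = fQ^[m] (fQ^[n] 0) := by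
      rw [h4, iterate_map_zero, iterate_map_zero]
    exact (h.bij.1.iterate n) ((h.bij.1.iterate m) h5)
  · intro δ'
    obtain ⟨n, γ', hγ'⟩ := h'.surj δ'
    obtain ⟨γ, rfl⟩ := ha.2 γ'
    obtain ⟨δ, hδ⟩ := (h.bij.2.iterate n) (ρ γ)
    refine ⟨δ, ?_⟩
    apply h'.bij.1.iterate n
    rw [← iterate_comm fQ fQ' b hbf, hδ, hsq, hγ']

/-- transport of localizations along bijections -/
theorem IsLocAt.of_bijective_square {fP : P →+ P} {fQ : Q →+ Q} {ρ : P →+ Q}
    {fP' : P' →+ P'} {fQ' : Q' →+ Q'} {ρ' : P' →+ Q'}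
    (h : IsLocAt fP fQ ρ) (a : P →+ P') (b : Q →+ Q')
    (ha : Function.Bijective a) (hb : Function.Bijective b) (hsq : ∀ x, b (ρ x) = ρ' (a x))
    (haf : ∀ x, a (fP x) = fP' (a x)) (hbf : ∀ y, b (fQ y) = fQ' (b y)) : IsLocAt fP' fQ' ρ' := by
  refine ⟨?_, ?_, ?_, ?_⟩
  · intro x'
    obtain ⟨x, rfl⟩ := ha.2 x'
    rw [← haf, ← hsq, h.comm, hbf, hsq]
  · constructor
    · intro y1 y2 hy
      obtain ⟨z1, rfl⟩ := hb.2 y1
      obtain ⟨z2, rfl⟩ := hb.2 y2
      rw [← hbf, ← hbf] at hy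
      rw [h.bij.1 (hb.1 hy)]
    · intro y
      obtain ⟨z, rfl⟩ := hb.2 y
      obtain ⟨w, rfl⟩ := h.bij.2 z
      exact ⟨b w, (hbf w).symm⟩
  · intro x' hx'
    obtain ⟨x, rfl⟩ := ha.2 x'
    have h1 : ρ x = 0 := by
      apply hb.1
      rw [hsq, hx', map_zero]
    obtain ⟨n, hn⟩ := h.ker x h1
    exact ⟨n, by rw [← iterate_comm fP fP' a haf, hn, map_zero]⟩
  · intro y'
    obtain ⟨y, rfl⟩ := hb.2 y'
    obtain ⟨n, x, hx⟩ := h.surj y
    exact ⟨n, a x, by rw [← hsq, hx, iterate_comm fQ fQ' b hbf]⟩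

end Loc

end Groth.Agent.Lib.Helper25.RHomAbs
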