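import Mathlib
import Groth.Agent.Lib.Helper25.LiftOpen
import Groth.Agent.Lib.Helper25.RHomAbs

/-!
# `Hom(M, L) ⟶ Hom(M|_{D(a)}, L|_{D(a)})` is a localization at `a` for `M` perfect, `L ∈ D_QCoh` (helper25)

`X` quasi-compact quasi-separated over `Spec A`, `a ∈ A`, `W = D(ā)`.

* `preHom ψ L`: precomposition with an endomorphism, as an additive map; `iterate_preHom_smul`.
* `isLocAt_restrict_of_kill`: the restriction map `Hom(M, L) ⟶ Hom(M|_W, L|_W)` is a localization at `a • 𝟙 M`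
  (in the elementary sense `RHomAbs.IsLocAt`) as soon as powers of `a` kill all maps from `M`, `M[1]`... to the
  cone of `L ⟶ Rj_* j^* L` (hypothesis `hkill`).
* `isLocAt_restrict`: `M` perfect, `L ∈ D_QCoh`.
-/

set_option autoImplicit false
universe u
open CategoryTheory CategoryTheory.Limits AlgebraicGeometry Opposite
attribute [local instance] HasDerivedCategory.standard

namespace Groth.Agent.Lib.Helper25.HomLocPerf

open Pretriangulated DerivedCategory TopologicalSpace Scheme.Modules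
open Groth.Agent.Lib.Helper25.PowKill Groth.Agent.Lib.Helper25.KLinRestrict
  Groth.Agent.Lib.Helper25.KLinUnit Groth.Agent.Lib.Helper25.HomVanMV Groth.Agent.Lib.Helper25.RHomAbs

section Pre

variable {C : Type*} [Category C] [Preadditive C]

/-- precomposition with an endomorphism -/
def preHom {M : C} (ψ : M ⟶ M) (L : C) : (M ⟶ L) →+ (M ⟶ L) := Preadditive.leftComp L ψ

@[simp] lemma preHom_apply {M : C} (ψ : M ⟶ M) (L : C) (γ : M ⟶ L) : preHom ψ L γ = ψ ≫ γ := rfl

variable {A : Type*} [CommRing A] [Linear A C]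

lemma iterate_preHom_smul {M : C} (a : A) (L : C) (n : ℕ) (γ : M ⟶ L) :
    (preHom (a • 𝟙 M) L)^[n] γ = (a ^ n) • γ := by
  induction n generalizing γ with
  | zero => simp
  | succ n ih =>
    rw [Function.iterate_succ_apply, ih, preHom_apply, Linear.smul_comp, Category.id_comp, smul_smul,
      pow_succ]

end Pre

variable (A : Type u) [CommRing A]

/-- the restriction map on Hom groups -/
noncomputable abbrev resHom {X : Scheme.{u}} (W : X.Opens) (M L : DCoh.D X) :
    (M ⟶ L) →+ ((DCoh.restrictD W.ι).obj M ⟶ (DCoh.restrictD W.ι).obj L) :=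
  (DCoh.restrictD W.ι).mapAddHom

/-- `a • 𝟙` restricts to an isomorphism on `D(ā)` -/
lemma isIso_restrict_smul (X : Scheme.{u}) [X.Over (Spec (CommRingCat.of A))] (a : A) (M : DCoh.D X) :
    IsIso ((DCoh.restrictD (X.basicOpen
      (show Γ(X, ⊤) from Coh.toGlobal (X ↘ Spec (CommRingCat.of A)) a)).ι).map (a • 𝟙 M)) := by
  let W : X.Opens := X.basicOpen (show Γ(X, ⊤) from Coh.toGlobal (X ↘ Spec (CommRingCat.of A)) a)
  letI : (W : Scheme.{u}).Over (Spec (CommRingCat.of A)) :=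
    ⟨W.ι ≫ (X ↘ Spec (CommRingCat.of A))⟩
  haveI : W.ι.IsOver (Spec (CommRingCat.of A)) := ⟨rfl⟩
  have h1 : (DCoh.restrictD W.ι).map (a • 𝟙 M) = a • 𝟙 _ := by
    rw [Functor.map_smul, CategoryTheory.Functor.map_id]
  change IsIso ((DCoh.restrictD W.ι).map (a • 𝟙 M))
  rw [h1]
  refine isIso_smul_id A a ?_ _
  exact isUnit_appTop_basicOpen _

/-- restriction along an open immersion preserves `D^{≥ n}` -/
lemma isGE_restrictD {Y Z : Scheme.{u}} (g : Z ⟶ Y) [IsOpenImmersion g] (K : DCoh.D Y) (n : ℤ)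
    (hK : K.IsGE n) : ((DCoh.restrictD g).obj K).IsGE n := by
  rw [DerivedCategory.isGE_iff]
  intro i hi
  obtain ⟨e⟩ := Groth.Agent.Lib.Helper25.DerBC.nonempty_homology_mapDerivedCategory_iso
    (restrictFunctor g) K i
  exact IsZero.of_iso (Functor.map_isZero _ (isZero_of_isGE K n i hi)) e

/-- `Rf_*` preserves `D^{≥ n}` -/
lemma isGE_Rpush {X S : Scheme.{u}} (f : X ⟶ S) [DCoh.HasRpush f] (K : DCoh.D X) (n : ℤ)
    (hK : K.IsGE n) : ((DCoh.Rpush f).obj K).IsGE n := by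
  haveI : HasInjectiveResolutions (ModSite.Mod X.sheaf) :=
    Groth.Agent.Lib.helper21.ModOpenBC.hasInjectiveResolutions_modules X
  haveI : SiteCmp.HasRpushD (ModSite.RMor.ofScheme f) := ‹DCoh.HasRpush f›
  exact @Groth.Agent.H1.PushLoc.isGE_rpush _ _ _ _ _ _ _ _ (ModSite.RMor.ofScheme f) _ K n hK

/-- **localization of Hom groups**, abstract form: `hkill` says that powers of `a` kill the maps from `M` to the
cone `C` of `L ⟶ Rj_* j^* L` and to `C[-1]`. -/
theorem isLocAt_restrict_of_kill (X : Scheme.{u}) [X.Over (Spec (CommRingCat.of A))] (a : A)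
    (M L : DCoh.D X)
    (hkill : ∀ (C : DCoh.D X), DCoh.IsQCohD C → Tors A a X (X ↘ Spec (CommRingCat.of A)) C →
      (∀ i : ℤ, L.IsGE i → C.IsGE (i - 1)) → ∀ α : M ⟶ C, ∃ n : ℕ, (a ^ n) • α = 0)
    (hL : DCoh.IsQCohD L) [QuasiCompact (X.basicOpen
      (show Γ(X, ⊤) from Coh.toGlobal (X ↘ Spec (CommRingCat.of A)) a)).ι] :
    IsLocAt (preHom (a • 𝟙 M) L)
      (preHom ((DCoh.restrictD (X.basicOpen
        (show Γ(X, ⊤) from Coh.toGlobal (X ↘ Spec (CommRingCat.of A)) a)).ι).map (a • 𝟙 M)) _)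
      (resHom (X.basicOpen
        (show Γ(X, ⊤) from Coh.toGlobal (X ↘ Spec (CommRingCat.of A)) a)) M L) := by
  let W : X.Opens := X.basicOpen (show Γ(X, ⊤) from Coh.toGlobal (X ↘ Spec (CommRingCat.of A)) a)
  have hiso : IsIso ((DCoh.restrictD W.ι).map (a • 𝟙 M)) := isIso_restrict_smul A X a M
  have hTorsIff : ∀ C : DCoh.D X, IsZero ((DCoh.restrictD W.ι).obj C) →
      Tors A a X (X ↘ Spec (CommRingCat.of A)) C := fun C hC => hC
  haveI : QuasiCompact W.ι := ‹_›
  change IsLocAt (preHom (a • 𝟙 M) L) (preHom ((DCoh.restrictD W.ι).map (a • 𝟙 M)) _) (resHom W M L)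
  haveI := Groth.Agent.Lib.Helper25.SchKInj.hasRpush W.ι
  obtain ⟨adj⟩ := Groth.Agent.Lib.Helper25.RGZ1.nonempty_adj W.ι
  let J := DCoh.restrictD W.ι
  let R := DCoh.Rpush W.ι
  let η : L ⟶ R.obj (J.obj L) := adj.unit.app L
  obtain ⟨C, q, w, hT⟩ := distinguished_cocone_triangle η
  have hRJ : DCoh.IsQCohD (R.obj (J.obj L)) :=
    Groth.Agent.Lib.Helper25.RpushQC.isQCohD_Rpush W.ι _
      (Groth.Agent.Lib.Helper25.RGZ4.isQCohD_restrictD W.ι L hL)
  have hCq : DCoh.IsQCohD C :=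
    Groth.Agent.H1.WSerreTri.cohIn_obj₂ (P := Groth.Agent.S1007.QC X) _ (rot_of_distTriang _ hT) hRJ
      (isQCohD_shift L hL 1)
  have hJη : IsIso (J.map η) := by
    haveI := Groth.Agent.Lib.Helper25.RGZ1.isIso_counit W.ι adj (J.obj L)
    have h1 : J.map η ≫ adj.counit.app (J.obj L) = 𝟙 _ := adj.left_triangle_components L
    haveI : IsIso (J.map η ≫ adj.counit.app (J.obj L)) := by rw [h1]; infer_instance
    exact IsIso.of_isIso_comp_right (J.map η) (adj.counit.app (J.obj L))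
  have hCU : IsZero (J.obj C) :=
    (Triangle.isZero₃_iff_isIso₁ _ (J.map_distinguished _ hT)).2 hJη
  have hCt : Tors A a X (X ↘ Spec (CommRingCat.of A)) C := hTorsIff C hCU
  -- bounds
  have hbound : ∀ i : ℤ, L.IsGE i → C.IsGE (i - 1) := by
    intro i hi
    have h1 : (R.obj (J.obj L)).IsGE i := isGE_Rpush W.ι _ i (isGE_restrictD W.ι L i hi)
    have h2 : (R.obj (J.obj L)).IsGE (i - 1) :=
      DerivedCategory.TStructure.t.isGE_of_ge _ (i - 1) i (by omega)
    have h3 : (L⟦(1 : ℤ)⟧).IsGE (i - 1) :=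
      DerivedCategory.TStructure.t.isGE_shift L i 1 (i - 1) (by omega)
    exact DerivedCategory.TStructure.t.isGE₂ _ (rot_of_distTriang _ hT) (i - 1) h2 h3
  have hbound' : ∀ i : ℤ, L.IsGE i → (C⟦(-1 : ℤ)⟧).IsGE (i - 1) := by
    intro i hi
    haveI := hbound i hi
    have h1 : (C⟦(-1 : ℤ)⟧).IsGE i :=
      DerivedCategory.TStructure.t.isGE_shift C (i - 1) (-1) i (by omega)
    exact DerivedCategory.TStructure.t.isGE_of_ge _ (i - 1) i (by omega)
  haveI : R.PreservesZeroMorphisms :=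
    haveI := Groth.Agent.Lib.Helper25.QCCRpush.additive_Rpush W.ι
    inferInstance
  refine ⟨?_, ?_, ?_, ?_⟩
  · intro γ
    exact J.map_comp _ _
  · constructor
    · intro δ δ' h
      exact (cancel_epi (J.map (a • 𝟙 M))).1 h
    · intro δ
      refine ⟨inv (J.map (a • 𝟙 M)) ≫ δ, ?_⟩
      change J.map (a • 𝟙 M) ≫ inv (J.map (a • 𝟙 M)) ≫ δ = δ
      rw [IsIso.hom_inv_id_assoc]
  · intro γ hγ
    have hγ' : J.map γ = 0 := hγ
    have h1 : γ ≫ η = 0 := by
      have : γ ≫ η = adj.homEquiv M (J.obj L) (J.map γ) := by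
        rw [Adjunction.homEquiv_unit]; exact (adj.unit.naturality γ)
      rw [this, hγ']
      exact Groth.Agent.Lib.Helper25.QCCRpush.homEquiv_zero adj _ _
    obtain ⟨γ', hγ''⟩ := Triangle.coyoneda_exact₂ _ (inv_rot_of_distTriang _ hT) γ h1
    obtain ⟨n, hn⟩ := hkill (C⟦(-1 : ℤ)⟧) (isQCohD_shift C hCq (-1)) (tors_shift _ C (-1) hCt)
      hbound' γ'
    refine ⟨n, ?_⟩
    rw [iterate_preHom_smul, hγ'']
    have e : (a ^ n) • (γ' ≫ (Triangle.mk η q w).invRotate.mor₁) =
        ((a ^ n) • γ') ≫ (Triangle.mk η q w).invRotate.mor₁ := (Linear.smul_comp _ _ _ _ _ _).symm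
    exact e.trans ((congrArg (· ≫ (Triangle.mk η q w).invRotate.mor₁) hn).trans zero_comp)
  · intro δ
    let δt : M ⟶ R.obj (J.obj L) := adj.homEquiv M (J.obj L) δ
    obtain ⟨n, hn⟩ := hkill C hCq hCt hbound (δt ≫ q)
    have h0 : ((a ^ n) • δt) ≫ q = 0 := by rw [Linear.smul_comp]; exact hn
    obtain ⟨γ, hγ⟩ := Triangle.coyoneda_exact₂ _ hT ((a ^ n) • δt) h0
    refine ⟨n, γ, ?_⟩
    change J.map γ = _
    apply (adj.homEquiv M (J.obj L)).injective
    have e1 : adj.homEquiv M (J.obj L) (J.map γ) = γ ≫ η := by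
      rw [Adjunction.homEquiv_unit]; exact (adj.unit.naturality γ).symm
    refine e1.trans (hγ.symm.trans ?_)
    -- iterate on the restricted side
    have e2 : ∀ (k : ℕ) (δ' : J.obj M ⟶ J.obj L),
        adj.homEquiv M (J.obj L) ((preHom (J.map (a • 𝟙 M)) (J.obj L))^[k] δ') =
          (a ^ k) • adj.homEquiv M (J.obj L) δ' := by
      intro k
      induction k with
      | zero => intro δ'; simp
      | succ k ih =>
        intro δ'
        rw [Function.iterate_succ_apply, ih, preHom_apply, Adjunction.homEquiv_naturality_left,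
          Linear.smul_comp, Category.id_comp, smul_smul, pow_succ]
    rw [e2]

/-- **`Hom(M, L) ⟶ Hom(M|_{D(a)}, L|_{D(a)})` is a localization at `a`** for `M` perfect and `L ∈ D_QCoh` on a
quasi-compact quasi-separated scheme over `Spec A`. -/
theorem isLocAt_restrict (X : Scheme.{u}) [X.Over (Spec (CommRingCat.of A))] [CompactSpace ↥X]
    [QuasiSeparatedSpace ↥X] (a : A) (M L : DCoh.D X) (hM : DCoh.IsPerfect M) (hL : DCoh.IsQCohD L)
    [QuasiCompact (X.basicOpen
      (show Γ(X, ⊤) from Coh.toGlobal (X ↘ Spec (CommRingCat.of A)) a)).ι] :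
    IsLocAt (preHom (a • 𝟙 M) L)
      (preHom ((DCoh.restrictD (X.basicOpen
        (show Γ(X, ⊤) from Coh.toGlobal (X ↘ Spec (CommRingCat.of A)) a)).ι).map (a • 𝟙 M)) _)
      (resHom (X.basicOpen
        (show Γ(X, ⊤) from Coh.toGlobal (X ↘ Spec (CommRingCat.of A)) a)) M L) :=
  isLocAt_restrict_of_kill A X a M L
    (fun C hCq hCt _ α => pow_smul_eq_zero' X hM hCq hCt α) hL

end Groth.Agent.Lib.Helper25.HomLocPerf
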