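import Mathlib
import Groth.Agent.S9047
import Groth.Agent.Lib.Helper25.CompactBddU
import Groth.Agent.Lib.Helper21.HomColimTop
import Groth.Agent.Lib.Helper27.FiltCohTop
import Groth.Agent.Lib.Helper25.QCCPerfect
import Groth.Agent.Lib.Helper25.HomLocPerf

/-!
# Perfect objects are compact with respect to uniformly bounded below coproducts in `D(O_X)` (helper25)

No quasi-coherence: the families are arbitrary families of objects of `D(O_Y)` in `D^{≥ n}` for one fixed `n`.

* `freeOnTerminalIso`: on a ringed site with terminal object `T`, `freeOn O T ≅ O` (Yoneda).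
* `bijective_homSum_freeOn`: ringed space `(X, O)`, `𝔅` a class of quasi-compact opens stable under `⊓` and a basis
  below its members, `U ∈ 𝔅`: `Hom(j_{U!} O_U[0], -)` commutes with coproducts of uniformly bounded below families
  (helper1's `CompactBdd`/`S9047` and helper27's covering data `FiltCohTop`, for any colimit cofan).
* `BFF Y P`: every map from `P` to a coproduct of a uniformly bounded below family is supported on finitely many
  summands (`FinFac.FF` for each class `D^{≥ n}`).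
* `bff_single_freeOn`, `bff_Sp` (`O_Y[-p]`, `Y` quasi-compact quasi-separated), `bff_shift`, `bff_extZeroD`,
  `bff_of_cover`, `bff_of_isPerfect` (perfect objects on a quasi-compact quasi-separated scheme).
-/

set_option autoImplicit false
universe u
open CategoryTheory CategoryTheory.Limits AlgebraicGeometry Opposite TopologicalSpace
attribute [local instance] HasDerivedCategory.standard

namespace Groth.Agent.Lib.Helper25.BddFF

section Site

variable {C : Type u} [SmallCategory C] {J : GrothendieckTopology C} (O : Sheaf J CommRingCat.{u})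

open Groth.Agent.Lib.helper21.HomColimTop Groth.Agent.Lib.Helper21.ModFree

/-- `Hom(freeOn O T, M) = M(T)`, naturally in `M` -/
noncomputable def freeOnCoyonedaIso (T : C) :
    coyoneda.obj (op (ModSite.freeOn O T)) ≅ US O ⋙ evAt T :=
  NatIso.ofComponents (fun M => Equiv.toIso (freeOnHomEquiv O T M))
    (fun {M N} φ => by
      ext f
      exact freeOnHomEquiv_comp O T f φ)

/-- the free module on a terminal object is the structure sheaf -/
noncomputable def freeOnTerminalIso {T : C} (hT : IsTerminal T) :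
    ModSite.freeOn O T ≅ ModSite.unit O :=
  (Coyoneda.fullyFaithful.preimageIso (unitCoyonedaIso O hT ≪≫ (freeOnCoyonedaIso O T).symm)).unop

end Site

section Top

variable {X : TopCat.{u}} (O : TopCat.Sheaf CommRingCat.{u} X) (𝔅 : Set (Opens X))
  (hcomp : ∀ W ∈ 𝔅, IsCompact (W : Set X))
  (hinf : ∀ W ∈ 𝔅, ∀ W' ∈ 𝔅, W ⊓ W' ∈ 𝔅)
  (hbasis : ∀ W ∈ 𝔅, ∀ (V : Opens X), V ≤ W → ∀ x ∈ V, ∃ W' ∈ 𝔅, x ∈ W' ∧ W' ≤ V)

/-- helper27's covering data: finite covering families by members of `𝔅` -/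
def Cov : ∀ (V : Opens X) (ι : Type u), (ι → Over V) → Prop := fun V ι Y =>
  Finite ι ∧ V ∈ 𝔅 ∧
    Sieve.ofArrows (fun i => (Y i).left) (fun i => (Y i).hom) ∈ Opens.grothendieckTopology X V ∧
    ∀ i, (Y i).left ∈ 𝔅

include hinf in
lemma cov_h1 : ∀ (U : Opens X) (ι : Type u) (Y : ι → Over U), Cov 𝔅 U ι Y → Finite ι ∧ U ∈ 𝔅 ∧
    Sieve.ofArrows (fun i => (Y i).left) (fun i => (Y i).hom) ∈ Opens.grothendieckTopology X U ∧
    ∀ (p : ℕ) (a : Fin (p + 1) → ι), (∏ᶜ fun k => Y (a k)).left ∈ 𝔅 := by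
  rintro V ι Y ⟨hfin, hV, hcov, hY⟩
  exact ⟨hfin, hV, hcov, fun n a => Groth.Agent.Lib.helper27.FiltCoh.prod_mem 𝔅 hinf Y hY n a⟩

include hcomp hbasis in
/-- (helper27, `FiltCohTop`) every covering sieve of a member of `𝔅` contains a finite covering family of members -/
lemma cov_h2 : ∀ U ∈ 𝔅, ∀ T ∈ Opens.grothendieckTopology X U,
    ∃ (ι : Type u) (Y : ι → Over U), Cov 𝔅 U ι Y ∧ ∀ i, T.arrows (Y i).hom := by
  intro V hV T hT
  have hx : ∀ x : (V : Set X), ∃ W' ∈ 𝔅, (x : X) ∈ W' ∧ ∃ h : W' ≤ V, T.arrows (homOfLE h) := by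
    rintro ⟨x, hxV⟩
    obtain ⟨V', f, hf, hxV'⟩ := hT x hxV
    obtain ⟨W', hW', hxW', hle⟩ := hbasis V hV V' (leOfHom f) x hxV'
    refine ⟨W', hW', hxW', hle.trans (leOfHom f), ?_⟩
    have : homOfLE (hle.trans (leOfHom f)) = homOfLE hle ≫ f := Subsingleton.elim _ _
    rw [this]
    exact T.downward_closed hf _
  choose W hW hxW hle hT' using hx
  obtain ⟨t, ht⟩ := (hcomp V hV).elim_finite_subcover
    (fun x : (V : Set X) => ((W x : Opens X) : Set X))
    (fun x => (W x).isOpen) (fun x hx => Set.mem_iUnion.2 ⟨⟨x, hx⟩, hxW ⟨x, hx⟩⟩)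
  refine ⟨{x // x ∈ t}, fun i => Over.mk (homOfLE (hle i.1)),
    ⟨inferInstance, hV, ?_, fun i => hW i.1⟩, fun i => hT' i.1⟩
  intro x hxV
  obtain ⟨i, hi⟩ := Set.mem_iUnion.1 (ht hxV)
  obtain ⟨hit, hxi⟩ := Set.mem_iUnion.1 hi
  exact ⟨W i, homOfLE (hle i), Sieve.ofArrows_mk _ _ (⟨i, hit⟩ : {x // x ∈ t}), hxi⟩

open Groth.Agent.H1.HomSum in
include hcomp hinf hbasis in
/-- `Hom(j_{U!} O_U[0], -)` commutes with coproducts of uniformly bounded below families, `U ∈ 𝔅` -/
theorem bijective_homSum_freeOn (U : Opens X) (hU : U ∈ 𝔅) {ι : Type u}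
    (M : ι → DerivedCategory (ModSite.Mod O)) (a : ℤ) (hM : ∀ i, (M i).IsGE a)
    (c : Cofan M) (hc : IsColimit c) :
    Function.Bijective
      (homSum ((DerivedCategory.singleFunctor (ModSite.Mod O) 0).obj (ModSite.freeOn O U)) M c) := by
  have hG := Groth.Agent.Lib.Helper21.ModGroth.isGrothendieckAbelian_mod (ModSite.ringSh O)
  exact Groth.Agent.Lib.Helper25.CompactBddU.bijective_homSum_single
    (fun K => by
      obtain ⟨I, f, hI, hf, -, -⟩ :=
        Groth.Agent.Lib.Helper25.KInjMain.exists_kInjective_resolution K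
      exact ⟨I, f, hI, hf⟩)
    (ModSite.freeOn O U)
    (fun Y => Groth.Agent.S9047.H0 O 𝔅 (Cov 𝔅) (cov_h1 𝔅 hinf) (cov_h2 𝔅 hcomp hbasis) U hU Y)
    (fun Y k _ hY => Groth.Agent.S9047.Hp O 𝔅 (Cov 𝔅) (cov_h1 𝔅 hinf) (cov_h2 𝔅 hcomp hbasis)
      U hU Y k hG hY) M a hM c hc

end Top

section Scheme

open Pretriangulated DerivedCategory Scheme.Modules
open Groth.Agent.Lib.Helper25.FinFac Groth.Agent.Lib.Helper25.QCCEv
  Groth.Agent.Lib.Helper25.HomVanAffine Groth.Agent.Lib.Helper25.HomVanMV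
  Groth.Agent.Lib.Helper25.QCCPerfect

/-- finite support of maps into coproducts of uniformly bounded below families of objects of `D(O_Y)` -/
def BFF (Y : Scheme.{u}) (P : DCoh.D Y) : Prop :=
  ∀ n : ℤ, FF.{u} (fun K : DCoh.D Y => K.IsGE n) P

variable {Y : Scheme.{u}}

lemma bff_of_iso {P P' : DCoh.D Y} (e : P ≅ P') (h : BFF Y P) : BFF Y P' :=
  fun n => ff_of_iso e (h n)

lemma bff_of_isZero {P : DCoh.D Y} (hP : IsZero P) : BFF Y P :=
  fun _ => ff_of_isZero hP

lemma bff_of_triangle (T : Triangle (DCoh.D Y)) (hT : T ∈ distTriang (DCoh.D Y))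
    (h₁ : BFF Y T.obj₁) (h₃ : BFF Y T.obj₃) : BFF Y T.obj₂ :=
  fun n => ff_of_triangle T hT (h₁ n) (h₃ n)

lemma bff_biprod {P P' : DCoh.D Y} (h : BFF Y P) (h' : BFF Y P') : BFF Y (P ⊞ P') :=
  fun n => ff_biprod (h n) (h' n)

/-- `BFF` is stable under shifts -/
lemma bff_shift {P : DCoh.D Y} (h : BFF Y P) (k : ℤ) : BFF Y (P⟦k⟧) := by
  intro n
  have adj : shiftFunctor (DCoh.D Y) k ⊣ shiftFunctor (DCoh.D Y) (-k) :=
    (shiftEquiv' (DCoh.D Y) k (-k) (by omega)).toAdjunction
  have hE : (shiftFunctor (DCoh.D Y) (-k)).IsEquivalence :=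
    inferInstanceAs (shiftEquiv' (DCoh.D Y) k (-k) (by omega)).inverse.IsEquivalence
  refine ff_of_adjunction adj (Q' := fun K : DCoh.D Y => K.IsGE (n + k)) (fun M hM => ?_)
    (fun ι => inferInstance) (h (n + k))
  haveI : M.IsGE n := hM
  exact TStructure.t.isGE_shift M n (-k) (n + k) (by omega)

/-- `j_{W!} O_W[0]` for a quasi-compact open `W` which is quasi-separated -/
theorem bff_single_freeOn (W : Y.Opens) (hW : IsCompact (W : Set Y))
    (hqs : IsQuasiSeparated (W : Set Y)) :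
    BFF Y ((DerivedCategory.singleFunctor Y.Modules 0).obj (ModSite.freeOn Y.sheaf W)) := by
  intro n
  apply ff_of_exists_sum
  intro ι M hM A g hc x
  let 𝔅 : Set Y.Opens := {W' | W' ≤ W ∧ IsCompact (W' : Set Y)}
  have hb := bijective_homSum_freeOn Y.sheaf 𝔅 (fun W' h => h.2)
    (fun W' h W'' h' => ⟨inf_le_left.trans h.1, hqs _ _ h.1 W'.2 h.2 h'.1 W''.2 h'.2⟩)
    (fun W' h V hV x hx => by
      obtain ⟨U', hU', hxU', hle⟩ := Opens.isBasis_iff_nbhd.1 Y.isBasis_affineOpens hx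
      exact ⟨U', ⟨hle.trans (hV.trans h.1), IsAffineOpen.isCompact hU'⟩, hxU', hle⟩)
    W ⟨le_rfl, hW⟩ M n hM (Cofan.mk A g) hc
  exact (Groth.Agent.H1.HomSum.surjective_iff _ M (Cofan.mk A g)).1 hb.2 x

/-- `O_Y[-p]` on a quasi-compact quasi-separated scheme -/
theorem bff_Sp [CompactSpace Y] [QuasiSeparatedSpace Y] (p : ℤ) : BFF Y (Sp Y p) := by
  have h0 : BFF Y (Sp Y 0) := by
    have h := bff_single_freeOn (Y := Y) ⊤ isCompact_univ isQuasiSeparated_univ
    exact bff_of_iso ((DerivedCategory.singleFunctor Y.Modules 0).mapIso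
      (freeOnTerminalIso Y.sheaf (Limits.isTerminalTop (α := Y.Opens)))) h
  have e : (Sp Y 0)⟦-p⟧ ≅ Sp Y p :=
    ((DerivedCategory.singleFunctors Y.Modules).shiftIso (-p) p 0 (by omega)).app _
  exact bff_of_iso e (bff_shift h0 (-p))

lemma bff_single_free [CompactSpace Y] [QuasiSeparatedSpace Y] (a : ℤ) (M : Y.Modules) (r : ℕ)
    (e : M ≅ FlatMod.freeMod Y r) : BFF Y ((singleFunctor Y.Modules a).obj M) := by
  intro n
  let G := singleFunctor Y.Modules a
  refine ff_of_jointly_epi (κ := Fin r) (fun _ => Sp Y a)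
    (fun j => G.map (Sigma.ι (fun _ : Fin r => Coh.structureModule Y) j) ≫ G.map e.inv) ?_
    (fun _ => bff_Sp a n)
  intro B φ ψ h
  have h1 : ∀ j : Fin r, G.map (Sigma.ι (fun _ : Fin r => Coh.structureModule Y) j) ≫
      G.map e.inv ≫ (φ - ψ) = 0 := fun j => by
    rw [Preadditive.comp_sub, Preadditive.comp_sub, ← Category.assoc, ← Category.assoc]
    exact sub_eq_zero.mpr (h j)
  have h2 : G.map e.inv ≫ (φ - ψ) = 0 := by
    have h3 : G.map (𝟙 (FlatMod.freeMod Y r)) ≫ G.map e.inv ≫ (φ - ψ) = 0 := by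
      rw [← sum_prj_ι (Coh.structureModule Y), Functor.map_sum, Preadditive.sum_comp]
      apply Finset.sum_eq_zero
      intro i _
      rw [Functor.map_comp, Category.assoc, h1 i, comp_zero]
    rwa [CategoryTheory.Functor.map_id, Category.id_comp] at h3
  have : IsIso (G.map e.inv) := inferInstance
  exact sub_eq_zero.mp ((cancel_epi (G.map e.inv)).1 (h2.trans comp_zero.symm))

theorem bff_of_nice [IsAffine Y] {P : DCoh.D Y} {c : ℤ}
    (h : Groth.Agent.Lib.Helper25.HomVanNice.Nice Y P c) : BFF Y P :=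
  Groth.Agent.Lib.Helper25.NiceInduction.of_nice (BFF Y) (fun e h => bff_of_iso e h)
    (fun _ hP => bff_of_isZero hP) (fun T hT h₁ h₃ => bff_of_triangle T hT h₁ h₃)
    bff_single_free h

/-- `j_!` preserves `BFF` -/
lemma bff_extZeroD (T : Y.Opens) [PreservesFiniteLimits (CxOX.extZero T.ι)] {P : DCoh.D T}
    (h : BFF T P) : BFF Y ((CxOX.extZeroD T.ι).obj P) := by
  intro n
  let adj : CxOX.extZeroD T.ι ⊣ DCoh.restrictD T.ι :=
    Groth.Agent.Lib.helper25.DerivedAdj.mapDerivedCategoryAdj (CxOX.extZeroAdj T.ι)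
  haveI : DCoh.HasRpush T.ι := Groth.Agent.Lib.Helper25.SchKInj.hasRpush _
  obtain ⟨adj'⟩ := Groth.Agent.Lib.Helper25.RGZ1.nonempty_adj T.ι
  refine ff_of_adjunction adj
    (fun M hM => Groth.Agent.Lib.Helper25.HomLocPerf.isGE_restrictD T.ι M n hM) (fun ι => ?_) (h n)
  have := adj'.leftAdjoint_preservesColimits
  infer_instance

/-- **Mayer–Vietoris step** -/
theorem bff_of_cover (U V : Y.Opens) (hUV : U ⊔ V = ⊤) (P : DCoh.D Y)
    (hU : BFF U ((DCoh.restrictD U.ι).obj P)) (hV : BFF V ((DCoh.restrictD V.ι).obj P))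
    (hW : BFF (U ⊓ V : Y.Opens) ((DCoh.restrictD (U ⊓ V).ι).obj P)) : BFF Y P := by
  haveI := Groth.Agent.Lib.Helper25.MVSupp.preservesFiniteLimits_extZero U
  haveI := Groth.Agent.Lib.Helper25.MVSupp.preservesFiniteLimits_extZero V
  haveI := Groth.Agent.Lib.Helper25.MVSupp.preservesFiniteLimits_extZero (U ⊓ V)
  obtain ⟨a, b, d, hT⟩ := Groth.Agent.Lib.Helper25.MVShriek.exists_shriek_mv_triangle hUV P
  have hT' := rot_of_distTriang _ hT
  refine bff_of_triangle _ hT' ?_ ?_
  · exact bff_biprod (bff_extZeroD U hU) (bff_extZeroD V hV)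
  · exact bff_shift (bff_extZeroD (U ⊓ V) hW) 1

/-- perfect objects on a quasi-compact quasi-separated scheme are compact with respect to coproducts of
uniformly bounded below families in `D(O_X)` -/
theorem bff_of_isPerfect (X : Scheme.{u}) [CompactSpace X] [QuasiSeparatedSpace X] (P : DCoh.D X)
    (hP : DCoh.IsPerfect P) : BFF X P :=
  Groth.Agent.Lib.Helper25.PerfectInduction.perfect_induction BFF
    (fun _ _ _ _ h => bff_of_nice h)
    (fun _ V W E hVW h1 h2 h3 => bff_of_cover V W hVW E h1 h2 h3) X P hP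

end Scheme

end Groth.Agent.Lib.Helper25.BddFF
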