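import Mathlib
import Groth.Prelude.Def_PerfAux
import Groth.Agent.Lib.Helper25.FinFac

/-!
# Relative compactness (`PerfAux.IsCompactObjRel`) and finite support (`FinFac.FF`) (helper25)
-/

set_option autoImplicit false
universe w v u
open CategoryTheory CategoryTheory.Limits

namespace Groth.Agent.Lib.Helper25.CompactRel

open Groth.Agent.Lib.Helper25.FinFac

variable {D : Type u} [Category.{v} D] [Preadditive D]

lemma homSum_of (K : D) {κ : Type w} [inst : DecidableEq κ] (X : κ → D) [HasCoproduct X] (k : κ)
    (x : K ⟶ X k) :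
    PerfAux.homSumToHomCoprod K X (DirectSum.of (fun i => K ⟶ X i) k x) = x ≫ Sigma.ι X k := by
  have : inst = (fun a b => Classical.propDecidable (a = b)) := Subsingleton.elim _ _
  subst this
  classical
  unfold PerfAux.homSumToHomCoprod
  rw [DirectSum.toAddMonoid_of]
  rfl

open Classical in
lemma homSum_eq_sum (K : D) {κ : Type w} (X : κ → D) [HasCoproduct X]
    (d : DirectSum κ (fun i => K ⟶ X i)) :
    PerfAux.homSumToHomCoprod K X d = ∑ k ∈ d.support, d k ≫ Sigma.ι X k := by
  conv_lhs => rw [← DirectSum.sum_support_of d]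
  rw [map_sum]
  refine Finset.sum_congr rfl (fun k _ => ?_)
  exact homSum_of K X k (d k)

open Classical in
lemma homSum_π (K : D) {κ : Type w} (X : κ → D) [HasCoproduct X]
    (d : DirectSum κ (fun i => K ⟶ X i)) (j : κ) :
    PerfAux.homSumToHomCoprod K X d ≫ Sigma.π X j = d j := by
  induction d using DirectSum.induction_on with
  | zero => simp
  | of k x =>
    rw [homSum_of, Category.assoc]
    by_cases h : k = j
    · subst h
      rw [Sigma.ι_π_eq_id, Category.comp_id, DirectSum.of_eq_same]
    · rw [Sigma.ι_π_of_ne X h, comp_zero, DirectSum.of_eq_of_ne _ _ _ (Ne.symm h)]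
  | add x y hx hy =>
    rw [map_add, Preadditive.add_comp, hx, hy]
    rfl

/-- relative compactness is the finite support property -/
theorem isCompactObjRel_iff_ff (Q : D → Prop) (K : D) :
    PerfAux.IsCompactObjRel.{w} Q K ↔ FF.{w} Q K := by
  classical
  constructor
  · intro h ι M hM A g hc x
    haveI : HasCoproduct M := ⟨⟨⟨_, hc⟩⟩⟩
    let e : ∐ M ≅ A := (coproductIsCoproduct M).coconePointUniqueUpToIso hc
    have he : ∀ i, Sigma.ι M i ≫ e.hom = g i := fun i =>
      (coproductIsCoproduct M).comp_coconePointUniqueUpToIso_hom hc ⟨i⟩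
    obtain ⟨d, hd⟩ := (h ι M hM).2 (x ≫ e.inv)
    refine ⟨d.support, ?_⟩
    have hx : x = ∑ k ∈ d.support, d k ≫ g k := by
      have h1 : x = (x ≫ e.inv) ≫ e.hom := by rw [Category.assoc, Iso.inv_hom_id, Category.comp_id]
      rw [h1, ← hd, homSum_eq_sum, Preadditive.sum_comp]
      refine Finset.sum_congr rfl (fun k _ => ?_)
      rw [Category.assoc, he]
    rw [hx]
    exact sum_comp_eS g hc _ _
  · intro h ι X _ hX
    constructor
    · rw [injective_iff_map_eq_zero]
      intro d hd
      ext j
      rw [← homSum_π K X d j, hd, zero_comp]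
      rfl
    · intro α
      obtain ⟨S, σ, hσ⟩ := h.exists_sum hX (Sigma.ι X) (coproductIsCoproduct X) α
      refine ⟨∑ k ∈ S, DirectSum.of (fun i => K ⟶ X i) k (σ k), ?_⟩
      rw [map_sum, hσ]
      refine Finset.sum_congr rfl (fun k _ => ?_)
      rw [homSum_of]

end Groth.Agent.Lib.Helper25.CompactRel
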