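import Mathlib
import Groth.Agent.Lib.Helper25.BrownSub

/-!
# Adjoint functor theorem for functors out of a compactly generated triangulated subcategory (helper25)

Setting of `BrownSub` on the source side (`Ψ : C' ≌ C`, `P ⊆ C` compactly generated by `G`, closed under
`w`-small coproducts) and a triangulated subcategory `R ⊆ D` with a small model `Φ : D' ≌ D` on the target side.

* `F'`, `κ`: the functor between the small models induced by `F : P ⥤ R`.
* `isLeftAdjoint_of_weak`: if `F` is additive, preserves `w`-small coproducts and is weakly exact (`Hom(F -, M)`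
  is exact in the middle on distinguished triangles), then `F` is a left adjoint.
-/

set_option autoImplicit false
universe w v₁ u₁ u₂ v₃ u₃ u₄
open CategoryTheory CategoryTheory.Limits Pretriangulated Opposite
open CategoryTheory.Pretriangulated.Opposite

namespace Groth.Agent.Lib.Helper25.BrownSub

open Groth.Agent.Lib.Helper25.FinFac Groth.Agent.Lib.helper27

variable {C : Type u₁} [Category.{v₁} C] [Preadditive C] [HasZeroObject C] [HasShift C ℤ]
  [∀ n : ℤ, (shiftFunctor C n).Additive] [Pretriangulated C]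
  {C' : Type u₂} [Category.{w} C'] [Preadditive C'] [HasZeroObject C'] [HasShift C' ℤ]
  [∀ n : ℤ, (shiftFunctor C' n).Additive] [Pretriangulated C']
  (Ψ : C' ⥤ C) [Ψ.CommShift ℤ] [Ψ.IsTriangulated] [Ψ.IsEquivalence]
  (P : ObjectProperty C) [P.IsTriangulated] [P.IsClosedUnderIsomorphisms]
  [∀ J : Type w, P.IsClosedUnderColimitsOfShape (Discrete J)] [HasCoproducts.{w} C']
  {D : Type u₃} [Category.{v₃} D] [Preadditive D] [HasZeroObject D] [HasShift D ℤ]
  [∀ n : ℤ, (shiftFunctor D n).Additive] [Pretriangulated D]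
  {D' : Type u₄} [Category.{w} D'] [Preadditive D'] [HasZeroObject D'] [HasShift D' ℤ]
  [∀ n : ℤ, (shiftFunctor D' n).Additive] [Pretriangulated D']
  (Φ : D' ⥤ D) [Φ.CommShift ℤ] [Φ.IsTriangulated] [Φ.IsEquivalence]
  (R : ObjectProperty D) [R.IsTriangulated] [R.IsClosedUnderIsomorphisms]
  (F : P.FullSubcategory ⥤ R.FullSubcategory) [F.Additive]
  [∀ J : Type w, PreservesColimitsOfShape (Discrete J) F]

/-- the functor between the small models -/
noncomputable def F' : (P' Ψ P).FullSubcategory ⥤ (P' Φ R).FullSubcategory :=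
  ε Ψ P ⋙ F ⋙ (ε Φ R).inv

/-- `F' ⋙ ε ≅ ε ⋙ F` -/
noncomputable def κ : F' Ψ P Φ R F ⋙ ε Φ R ≅ ε Ψ P ⋙ F :=
  Functor.associator (ε Ψ P) (F ⋙ (ε Φ R).inv) (ε Φ R) ≪≫ Functor.isoWhiskerLeft _ (Functor.associator _ _ _) ≪≫
    Functor.isoWhiskerLeft _ (Functor.isoWhiskerLeft _ (ε Φ R).asEquivalence.counitIso) ≪≫
    Functor.isoWhiskerLeft _ (Functor.rightUnitor _)

instance : (ε Φ R).inv.Additive :=
  haveI : (ε Φ R).asEquivalence.functor.Additive := inferInstanceAs (ε Φ R).Additive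
  inferInstanceAs (ε Φ R).asEquivalence.inverse.Additive

instance : (F' Ψ P Φ R F).Additive :=
  inferInstanceAs (ε Ψ P ⋙ F ⋙ (ε Φ R).inv).Additive

instance (J : Type w) : PreservesColimitsOfShape (Discrete J) (F' Ψ P Φ R F) :=
  inferInstanceAs (PreservesColimitsOfShape (Discrete J) (ε Ψ P ⋙ F ⋙ (ε Φ R).inv))

omit [∀ J : Type w, P.IsClosedUnderColimitsOfShape (Discrete J)] [HasCoproducts.{w} C']
  [∀ J : Type w, PreservesColimitsOfShape (Discrete J) F] [F.Additive] in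
/-- weak exactness passes to the functor between the small models -/
lemma hex'
    (hex : ∀ (T : Triangle P.FullSubcategory), T ∈ distTriang _ → ∀ (M : R.FullSubcategory)
      (x : F.obj T.obj₂ ⟶ M), F.map T.mor₁ ≫ x = 0 → ∃ z : F.obj T.obj₃ ⟶ M, x = F.map T.mor₂ ≫ z)
    (T' : Triangle (P' Ψ P).FullSubcategory) (hT' : T' ∈ distTriang _)
    (M' : (P' Φ R).FullSubcategory) (x : (F' Ψ P Φ R F).obj T'.obj₂ ⟶ M')
    (hx : (F' Ψ P Φ R F).map T'.mor₁ ≫ x = 0) :
    ∃ z : (F' Ψ P Φ R F).obj T'.obj₃ ⟶ M', x = (F' Ψ P Φ R F).map T'.mor₂ ≫ z := by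
  have hT := (ε Ψ P).map_distinguished T' hT'
  let k := κ Ψ P Φ R F
  obtain ⟨z, hz⟩ : ∃ z : F.obj ((ε Ψ P).obj T'.obj₃) ⟶ (ε Φ R).obj M',
      k.inv.app T'.obj₂ ≫ (ε Φ R).map x = F.map ((ε Ψ P).map T'.mor₂) ≫ z :=
    hex _ hT ((ε Φ R).obj M') (k.inv.app T'.obj₂ ≫ (ε Φ R).map x) (by
    have hn : F.map ((ε Ψ P).map T'.mor₁) ≫ k.inv.app T'.obj₂ =
      k.inv.app T'.obj₁ ≫ (ε Φ R).map ((F' Ψ P Φ R F).map T'.mor₁) := k.inv.naturality T'.mor₁
    change F.map ((ε Ψ P).map T'.mor₁) ≫ k.inv.app T'.obj₂ ≫ (ε Φ R).map x = 0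
    rw [reassoc_of% hn, ← Functor.map_comp, hx, Functor.map_zero, comp_zero])
  refine ⟨(ε Φ R).preimage (k.hom.app T'.obj₃ ≫ z), (ε Φ R).map_injective ?_⟩
  rw [Functor.map_comp, Functor.map_preimage]
  have hn : (ε Φ R).map ((F' Ψ P Φ R F).map T'.mor₂) ≫ k.hom.app T'.obj₃ =
    k.hom.app T'.obj₂ ≫ F.map ((ε Ψ P).map T'.mor₂) := k.hom.naturality T'.mor₂
  rw [reassoc_of% hn, ← hz, Iso.hom_inv_id_app_assoc]

include Ψ Φ in
/-- **adjoint functor theorem**: an additive, coproduct preserving, weakly exact functor out of a compactly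
generated triangulated subcategory (closed under coproducts) is a left adjoint -/
theorem isLeftAdjoint_of_weak (G : C) (hG : P G)
    (hgen : ∀ K : C, P K → (∀ (n : ℤ) (φ : G⟦n⟧ ⟶ K), φ = 0) → IsZero K)
    (hcpt : FF.{w} P G)
    (hex : ∀ (T : Triangle P.FullSubcategory), T ∈ distTriang _ → ∀ (M : R.FullSubcategory)
      (x : F.obj T.obj₂ ⟶ M), F.map T.mor₁ ≫ x = 0 → ∃ z : F.obj T.obj₃ ⟶ M, x = F.map T.mor₂ ≫ z) :
    F.IsLeftAdjoint := by
  have hF' : (F' Ψ P Φ R F).IsLeftAdjoint := by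
    apply Functor.isLeftAdjoint_of_rightAdjointObjIsDefined_eq_top
    ext M'
    simp only [Pi.top_apply, Prop.top_eq_true, iff_true]
    rw [Functor.rightAdjointObjIsDefined_iff]
    let H : ((P' Ψ P).FullSubcategory)ᵒᵖ ⥤ AddCommGrpCat.{w} :=
      (F' Ψ P Φ R F).op ⋙ preadditiveYoneda.obj M'
    have hH : H.IsHomological := ⟨fun T hT => by
      rw [ShortComplex.ab_exact_iff]
      intro (x₂ : (F' Ψ P Φ R F).obj T.obj₂.unop ⟶ M')
        (hx₂ : (F' Ψ P Φ R F).map T.mor₂.unop ≫ x₂ = 0)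
      obtain ⟨x₃, hx₃⟩ := hex' Ψ P Φ R F hex _ (unop_distinguished T hT) M' x₂ hx₂
      exact ⟨x₃, hx₃.symm⟩⟩
    have : ∀ κ : Type w, PreservesLimitsOfShape (Discrete κ) (F' Ψ P Φ R F).op := fun κ => by
      have : PreservesColimitsOfShape (Discrete κ)ᵒᵖ (F' Ψ P Φ R F) :=
        preservesColimitsOfShape_of_equiv (Discrete.opposite κ).symm (F' Ψ P Φ R F)
      exact preservesLimitsOfShape_op (Discrete κ) (F' Ψ P Φ R F)
    have : ∀ κ : Type w, PreservesLimitsOfShape (Discrete κ) H := fun κ => inferInstance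
    exact brown_sub Ψ P G hG hgen hcpt H
  have e : F ≅ (ε Ψ P).inv ⋙ F' Ψ P Φ R F ⋙ ε Φ R :=
    (Functor.leftUnitor _).symm ≪≫
      Functor.isoWhiskerRight (ε Ψ P).asEquivalence.counitIso.symm F ≪≫
      Functor.associator _ _ _ ≪≫ Functor.isoWhiskerLeft _ (κ Ψ P Φ R F).symm ≪≫
      Functor.isoWhiskerLeft _ (Iso.refl _)
  exact Functor.isLeftAdjoint_of_iso e.symm

end Groth.Agent.Lib.Helper25.BrownSub
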