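import Mathlib
import Groth.Agent.Lib.Helper25.ApproxCover
import Groth.Agent.Lib.Helper25.KosMain
import Groth.Agent.Lib.Helper25.HomVanQcqs

/-!
# Perfect generators of `D_QCoh` with supports (helper25)

Stacks 09IS, 0A9A (Bondal–Van den Bergh; Rouquier).

* `extZero_props`: extension by zero of a perfect object on `U` vanishing on `U ∩ O'`, `O' ∪ U = X`.
* `Gen O P`: `P` generates the objects of `D_QCoh(X)` vanishing on `O`.
* `koszul_gen_affine`, `koszul_gen`: Koszul objects generate the objects supported on their zero locus (from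
  `KosMain.Setting.iso_Rpush_iff`).
* `gen_step`: `X = U ∪ W`, `W` affine: a generator on `U` (lifted by `ApproxCover.exists_glued_lift`) plus a Koszul
  object on `W` generate.
* `gen_fin`, `gen_qcqs`.
-/

set_option autoImplicit false
universe u
open CategoryTheory CategoryTheory.Limits AlgebraicGeometry Opposite

attribute [local instance] HasDerivedCategory.standard

namespace Groth.Agent.Lib.Helper25.PerfGen

open Pretriangulated DerivedCategory TopologicalSpace Scheme.Modules ZeroObject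
open Groth.Agent.Lib.Helper25.HomVanQcqs Groth.Agent.Lib.helper25.DCohPerfect
  Groth.Agent.Lib.Helper25.ApproxCover Groth.Agent.Lib.Helper25.ApproxExtend
  Groth.Agent.Lib.Helper25.ThomasonAffine Groth.Agent.Lib.Helper25.VanLocus
  Groth.Agent.Lib.Helper25.MVSupp Groth.Agent.Lib.Helper25.SchKInj
  Groth.Agent.Lib.Helper25.KosObj Groth.Agent.Lib.Helper25.KosMain
  Groth.Agent.Lib.Helper25.QCCEv Groth.Agent.Lib.Helper25.QCCRpush

variable {X : Scheme.{u}}

/-- extension by zero of a perfect object on `U` vanishing on `U ∩ O'`, where `O' ∪ U = X` -/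
lemma extZero_props (U O' : X.Opens) (hcov : O' ⊔ U = ⊤) (P : DCoh.D (U : Scheme.{u}))
    (hP : DCoh.IsPerfect P) (hPO : IsZero ((DCoh.restrictD (U.ι ⁻¹ᵁ O').ι).obj P)) :
    haveI := preservesFiniteLimits_extZero U
    DCoh.IsPerfect ((CxOX.extZeroD U.ι).obj P) ∧
      IsZero ((DCoh.restrictD O'.ι).obj ((CxOX.extZeroD U.ι).obj P)) := by
  haveI := preservesFiniteLimits_extZero U
  let T : Set X := (O' : Set X)ᶜ
  have hT : IsClosed T := O'.isOpen.isClosed_compl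
  have hTU : T ⊆ (U : Set X) := by
    intro x hx
    have h1 : x ∈ O' ⊔ U := by rw [hcov]; trivial
    rcases h1 with h1 | h1
    · exact absurd h1 hx
    · exact h1
  let adj : CxOX.extZeroD U.ι ⊣ DCoh.restrictD U.ι :=
    Groth.Agent.Lib.helper25.DerivedAdj.mapDerivedCategoryAdj (CxOX.extZeroAdj U.ι)
  haveI hunit : IsIso (adj.unit.app P) :=
    Groth.Agent.Lib.Helper25.ExtZeroUnit.isIso_unit_app (CxOX.extZeroAdj U.ι) P
  have hV0 : IsZero ((DCoh.restrictD O'.ι).obj ((CxOX.extZeroD U.ι).obj P)) := by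
    haveI := hasRpush U.ι
    haveI := hasRpush (U.ι ∣_ O')
    have hF : ∀ i : ℤ, (fun x : (U : Scheme.{u}) => U.ι.base x) '' CohB1.support (DCoh.HD P i) ⊆ T := by
      rintro i _ ⟨x, hx, rfl⟩
      exact fun hxO => support_HD_restrictD _ P hPO i hx hxO
    obtain ⟨e⟩ := nonempty_extZeroD_iso_Rpush U T hT hTU P hF
    obtain ⟨e'⟩ := Groth.Agent.Lib.Helper25.SchKInj.nonempty_Rpush_restrict_iso U.ι O'
    have hV : IsZero ((DCoh.restrictD O'.ι).obj ((DCoh.Rpush U.ι).obj P)) :=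
      IsZero.of_iso (isZero_Rpush_of_isZero _ _ hPO) (e'.app P)
    exact IsZero.of_iso hV ((DCoh.restrictD O'.ι).mapIso e)
  refine ⟨?_, hV0⟩
  refine Groth.Agent.Lib.helper25.FlatAmpPerfect.isPerfect_of_restrict (fun x => ?_)
  have h1 : x ∈ O' ⊔ U := by rw [hcov]; trivial
  rcases h1 with h1 | h1
  · exact ⟨O', h1, isPerfect_of_isZero hV0⟩
  · exact ⟨U, h1, isPerfect_of_iso (asIso (adj.unit.app P)) hP⟩

/-- `P` generates the objects of `D_QCoh` vanishing on `O` -/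
def Gen (O : X.Opens) (P : DCoh.D X) : Prop :=
  ∀ E : DCoh.D X, DCoh.IsQCohD E → IsZero ((DCoh.restrictD O.ι).obj E) →
    (∀ (n : ℤ) (φ : P ⟶ E⟦n⟧), φ = 0) → IsZero E

/-- on an affine scheme, a Koszul object on functions cutting out the complement of a quasi-compact open `O₁`
generates the objects of `D_QCoh` vanishing on `O₁` -/
theorem koszul_gen_affine (V : Scheme.{u}) [IsAffine V] (O₁ : V.Opens)
    (hO₁ : IsCompact (O₁ : Set V)) :
    ∃ K : DCoh.D V, DCoh.IsPerfect K ∧ IsZero ((DCoh.restrictD O₁.ι).obj K) ∧ Gen O₁ K := by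
  classical
  letI : V.Over (Spec (CommRingCat.of ↑Γ(V, ⊤))) := ⟨V.toSpecΓ⟩
  have hg : ∀ a : Γ(V, ⊤), (show Γ(V, ⊤) from
      Coh.toGlobal (V ↘ Spec (CommRingCat.of ↑Γ(V, ⊤))) a) = a := by
    intro a
    show (V.toSpecΓ.appTop.hom) ((Scheme.ΓSpecIso _).inv.hom a) = a
    rw [Scheme.toSpecΓ_appTop]
    exact congr($((Scheme.ΓSpecIso _).inv_hom_id) a)
  obtain ⟨sT, hsT, hOs⟩ := isCompact_and_isOpen_iff_finite_and_eq_biUnion_basicOpen.mp
    ⟨hO₁, O₁.isOpen⟩
  let fs : List ↑Γ(V, ⊤) := hsT.toFinset.toList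
  have hfs : ∀ f, f ∈ fs ↔ f ∈ sT := fun f => by simp [fs]
  have hle : ∀ a ∈ fs, V.basicOpen
      (show Γ(V, ⊤) from Coh.toGlobal (V ↘ Spec (CommRingCat.of ↑Γ(V, ⊤))) a) ≤ O₁ := by
    intro f hf x hx
    rw [hg] at hx
    have : x ∈ (O₁ : Set V) := by
      rw [hOs]; exact Set.mem_biUnion ((hfs f).1 hf) hx
    exact this
  have hcov : ∀ x ∈ O₁, ∃ a ∈ fs, x ∈ V.basicOpen
      (show Γ(V, ⊤) from Coh.toGlobal (V ↘ Spec (CommRingCat.of ↑Γ(V, ⊤))) a) := by
    intro x hx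
    have hx' : x ∈ ⋃ i ∈ sT, (V.basicOpen i : Set V) := by
      rw [← hOs]; exact hx
    obtain ⟨f, hf, hxf⟩ := Set.mem_iUnion₂.1 hx'
    refine ⟨f, (hfs f).2 hf, ?_⟩
    rw [hg]
    exact hxf
  obtain ⟨K, tK, hKP⟩ := Groth.Agent.Lib.Helper25.ApproxAffine.exists_isKosP (A := ↑Γ(V, ⊤))
    (Sp V 0) fs
  have hK : IsKos ↑Γ(V, ⊤) V fs K := Groth.Agent.Lib.Helper25.KosPointed.isKos_of_isKosP _ K tK hKP
  have hK0 : IsZero ((DCoh.restrictD O₁.ι).obj K) :=
    Groth.Agent.Lib.Helper25.ApproxAffine.isZero_restrictD_of_isKos fs O₁ hcov K hK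
  refine ⟨K, isPerfect_of_isKos _ K hK, hK0, fun E hE hEO h => ?_⟩
  haveI := hasRpush O₁.ι
  obtain ⟨adj⟩ := Groth.Agent.Lib.Helper25.RGZ1.nonempty_adj O₁.ι
  have S : Setting fs O₁ adj K E := ⟨hO₁, hle, hcov, hK, hE⟩
  have h' : ∀ (n : ℤ) (φ : K⟦n⟧ ⟶ E), φ = 0 := fun n =>
    (hom_shift_zero_iff' K E n (-n) (by omega)).2 (h (-n))
  obtain ⟨M, -, ⟨e⟩⟩ := S.iso_Rpush_iff.2 h'
  haveI := Groth.Agent.Lib.Helper25.RGZ1.isIso_counit O₁.ι adj M
  have hM : IsZero M :=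
    IsZero.of_iso hEO ((asIso (adj.counit.app M)).symm ≪≫ (DCoh.restrictD O₁.ι).mapIso e.symm)
  haveI := additive_Rpush O₁.ι
  exact IsZero.of_iso (Functor.map_isZero _ hM) e

/-- `X = O' ∪ W` with `W` affine and `W ∩ O'` quasi-compact: the extension by zero of a Koszul object on `W` is a perfect
object vanishing on `O'` which generates the objects of `D_QCoh` vanishing on `O'` -/
theorem koszul_gen (W O' : X.Opens) (hW : IsAffineOpen W) (hcov : O' ⊔ W = ⊤)
    (hc : IsCompact ((W ⊓ O' : X.Opens) : Set X)) :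
    ∃ K : DCoh.D X, DCoh.IsPerfect K ∧ IsZero ((DCoh.restrictD O'.ι).obj K) ∧ Gen O' K := by
  haveI : IsAffine (W : Scheme.{u}) := hW
  let O₁ : (W : Scheme.{u}).Opens := W.ι ⁻¹ᵁ O'
  have hO₁ : IsCompact (O₁ : Set (W : Scheme.{u})) := by
    rw [W.ι.isOpenEmbedding.isEmbedding.isCompact_iff]
    have h1 : W.ι ''ᵁ O₁ = W ⊓ O' := by
      rw [Scheme.Hom.image_preimage_eq_opensRange_inf, Scheme.Opens.opensRange_ι]
    have h2 : (W.ι.base '' (O₁ : Set (W : Scheme.{u}))) = ((W ⊓ O' : X.Opens) : Set X) := by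
      rw [← h1]; rfl
    rw [h2]
    exact hc
  obtain ⟨K_W, hKp, hK0, hKg⟩ := koszul_gen_affine (W : Scheme.{u}) O₁ hO₁
  haveI := preservesFiniteLimits_extZero W
  obtain ⟨h1, h2⟩ := extZero_props W O' hcov K_W hKp hK0
  let adj : CxOX.extZeroD W.ι ⊣ DCoh.restrictD W.ι :=
    Groth.Agent.Lib.helper25.DerivedAdj.mapDerivedCategoryAdj (CxOX.extZeroAdj W.ι)
  refine ⟨(CxOX.extZeroD W.ι).obj K_W, h1, h2, fun E hE hEO h => ?_⟩
  have hEW : IsZero ((DCoh.restrictD W.ι).obj E) := by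
    refine hKg _ (Groth.Agent.Lib.Helper25.RGZ4.isQCohD_restrictD W.ι E hE)
      (isZero_restrictD_preimage E O' W hEO) (fun n ψ => ?_)
    let c := ((DCoh.restrictD W.ι).commShiftIso n).app E
    have h3 := h n ((adj.homEquiv _ _).symm (ψ ≫ c.inv))
    have h4 := congrArg (adj.homEquiv _ _) h3
    rw [Equiv.apply_symm_apply, homEquiv_zero adj] at h4
    rw [← cancel_mono c.inv, h4, zero_comp]
  exact isZero_of_cover E O' W hcov hEO hEW

/-- the zero object has quasi-coherent cohomology -/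
lemma isQCohD_zero : DCoh.IsQCohD (0 : DCoh.D X) :=
  Groth.Agent.Lib.Helper25.ApproxAffine.isQCohD_of_isPerfect (isPerfect_of_isZero (isZero_zero _))

/-- vanishing on two opens gives vanishing on their union -/
lemma isZero_restrictD_sup (E : DCoh.D X) (U O : X.Opens)
    (hU : IsZero ((DCoh.restrictD U.ι).obj E)) (hO : IsZero ((DCoh.restrictD O.ι).obj E)) :
    IsZero ((DCoh.restrictD (U ⊔ O).ι).obj E) := by
  refine isZero_restrictD_of_support _ E (fun i x hx hxUO => ?_)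
  rcases hxUO with h | h
  · exact support_HD_restrictD U E hU i hx h
  · exact support_HD_restrictD O E hO i hx h

/-- **the induction step for perfect generators** -/
theorem gen_step [QuasiSeparatedSpace ↥X] (U W : X.Opens) (hW : IsAffineOpen W)
    (hUc : IsCompact (U : Set X)) (hUWc : IsCompact ((U ⊓ W : X.Opens) : Set X)) (hcov : U ⊔ W = ⊤)
    (O : X.Opens) (hOW : IsCompact ((W ⊓ O : X.Opens) : Set X))
    (P_U : DCoh.D (U : Scheme.{u})) (hP : DCoh.IsPerfect P_U)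
    (hPO : IsZero ((DCoh.restrictD (U.ι ⁻¹ᵁ O).ι).obj P_U)) (hgen : Gen (U.ι ⁻¹ᵁ O) P_U) :
    ∃ G : DCoh.D X, DCoh.IsPerfect G ∧ IsZero ((DCoh.restrictD O.ι).obj G) ∧ Gen O G := by
  -- the lift of `P_U`
  obtain ⟨R, ρ, θ, hR, hRO, -⟩ := exists_glued_lift U W hW hUWc hcov O hOW (0 : DCoh.D X) isQCohD_zero
    P_U hP hPO 0
  -- the Koszul part
  have hcov' : (U ⊔ O) ⊔ W = ⊤ := by
    rw [sup_assoc, sup_comm O W, ← sup_assoc, hcov, top_sup_eq]
  have hc : IsCompact ((W ⊓ (U ⊔ O) : X.Opens) : Set X) := by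
    have h3 : ((W ⊓ (U ⊔ O) : X.Opens) : Set X) =
        ((U ⊓ W : X.Opens) : Set X) ∪ ((W ⊓ O : X.Opens) : Set X) := by
      ext x
      simp only [Opens.coe_inf, Opens.coe_sup, Set.mem_inter_iff, Set.mem_union, SetLike.mem_coe]
      tauto
    rw [h3]
    exact hUWc.union hOW
  obtain ⟨K, hK, hK0, hKg⟩ := koszul_gen W (U ⊔ O) hW hcov' hc
  have hKO : IsZero ((DCoh.restrictD O.ι).obj K) :=
    isZero_restrictD_of_le (le_sup_right : O ≤ U ⊔ O) K hK0
  have hKU : IsZero ((DCoh.restrictD U.ι).obj K) :=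
    isZero_restrictD_of_le (le_sup_left : U ≤ U ⊔ O) K hK0
  have hTb := binaryBiproductTriangle_distinguished R K
  haveI : CompactSpace ((U : X.Opens) : Scheme.{u}) := isCompact_iff_compactSpace.mp hUc
  haveI := hasRpush U.ι
  obtain ⟨adj⟩ := Groth.Agent.Lib.Helper25.RGZ1.nonempty_adj U.ι
  let J := DCoh.restrictD U.ι
  let Rp := DCoh.Rpush U.ι
  haveI := additive_Rpush U.ι
  -- the unit `E ⟶ Rj_*(E|_U)` is invertible on objects vanishing on `O` and right orthogonal to `K`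
  have unit_iso : ∀ E : DCoh.D X, DCoh.IsQCohD E → IsZero ((DCoh.restrictD O.ι).obj E) →
      (∀ (n : ℤ) (φ : K ⟶ E⟦n⟧), φ = 0) → IsIso (adj.unit.app E) := by
    intro E hE hEO hK'
    let η : E ⟶ Rp.obj (J.obj E) := adj.unit.app E
    obtain ⟨C, q, w, hT⟩ := distinguished_cocone_triangle η
    have hRJ : DCoh.IsQCohD (Rp.obj (J.obj E)) :=
      Groth.Agent.Lib.Helper25.RpushQC.isQCohD_Rpush U.ι _
        (Groth.Agent.Lib.Helper25.RGZ4.isQCohD_restrictD U.ι E hE)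
    have hCq : DCoh.IsQCohD C :=
      Groth.Agent.H1.WSerreTri.cohIn_obj₂ (P := Groth.Agent.S1007.QC X) _ (rot_of_distTriang _ hT) hRJ
        (Groth.Agent.Lib.Helper25.HomVanMV.isQCohD_shift E hE 1)
    have hJη : IsIso (J.map η) := by
      haveI := Groth.Agent.Lib.Helper25.RGZ1.isIso_counit U.ι adj (J.obj E)
      have h1 : J.map η ≫ adj.counit.app (J.obj E) = 𝟙 _ := adj.left_triangle_components E
      haveI : IsIso (J.map η ≫ adj.counit.app (J.obj E)) := by rw [h1]; infer_instance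
      exact IsIso.of_isIso_comp_right (J.map η) (adj.counit.app (J.obj E))
    have hCU : IsZero (J.obj C) :=
      (Triangle.isZero₃_iff_isIso₁ _ (J.map_distinguished _ hT)).2 hJη
    have hRJO : IsZero ((DCoh.restrictD O.ι).obj (Rp.obj (J.obj E))) :=
      isZero_restrictD_Rpush U O _ (isZero_restrictD_preimage E O U hEO)
    have hCO : IsZero ((DCoh.restrictD O.ι).obj C) :=
      Triangle.isZero₃_of_isZero₁₂ _ ((DCoh.restrictD O.ι).map_distinguished _ hT) hEO hRJO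
    have hKC : ∀ (n : ℤ) (φ : K ⟶ C⟦n⟧), φ = 0 := by
      intro n
      refine (hom_shift_zero_iff K C n).1 (fun φ => ?_)
      -- `Hom(K[-n], E[1]) = 0`
      have h1 : ∀ φ' : K⟦-n⟧ ⟶ E⟦(1 : ℤ)⟧, φ' = 0 := by
        refine (hom_shift_zero_iff K (E⟦(1 : ℤ)⟧) n).2 (fun φ' => ?_)
        let e : (E⟦(1 : ℤ)⟧)⟦n⟧ ≅ E⟦1 + n⟧ :=
          ((shiftFunctorAdd' (DCoh.D X) 1 n (1 + n) rfl).app E).symm
        have h2 := hK' (1 + n) (φ' ≫ e.hom)
        rw [← cancel_mono e.hom, h2, zero_comp]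
      obtain ⟨ψ, hψ⟩ : ∃ ψ : K⟦-n⟧ ⟶ Rp.obj (J.obj E), φ = ψ ≫ q :=
        Triangle.coyoneda_exact₃ _ hT φ (h1 _)
      have hψ0 : ψ = 0 :=
        hom_Rpush_eq_zero U adj _ (isZero_restrictD_shift U K hKU (-n)) _ ψ
      rw [hψ, hψ0, zero_comp]
    have hC : IsZero C := hKg C hCq (isZero_restrictD_sup C U O hCU hCO) hKC
    exact (Triangle.isZero₃_iff_isIso₁ _ hT).1 hC
  refine ⟨R ⊞ K, (isPerfect_two_out_of_three _ hTb).2.1 hR hK,
    Triangle.isZero₂_of_isZero₁₃ _ ((DCoh.restrictD O.ι).map_distinguished _ hTb) hRO hKO,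
    fun E hE hEO h => ?_⟩
  have hR' : ∀ (n : ℤ) (φ : R ⟶ E⟦n⟧), φ = 0 := fun n φ => by
    have h1 := h n ((biprod.fst : R ⊞ K ⟶ R) ≫ φ)
    have h2 : φ = (biprod.inl : R ⟶ R ⊞ K) ≫ (biprod.fst : R ⊞ K ⟶ R) ≫ φ := by simp
    rw [h2, h1, comp_zero]
  have hK' : ∀ (n : ℤ) (φ : K ⟶ E⟦n⟧), φ = 0 := fun n φ => by
    have h1 := h n ((biprod.snd : R ⊞ K ⟶ K) ≫ φ)
    have h2 : φ = (biprod.inr : K ⟶ R ⊞ K) ≫ (biprod.snd : R ⊞ K ⟶ K) ≫ φ := by simp
    rw [h2, h1, comp_zero]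
  -- `E|_U = 0`
  have hEU : IsZero (J.obj E) := by
    refine hgen _ (Groth.Agent.Lib.Helper25.RGZ4.isQCohD_restrictD U.ι E hE)
      (isZero_restrictD_preimage E O U hEO) (fun n ψ => ?_)
    let c := (J.commShiftIso n).app E
    haveI : IsIso (adj.unit.app (E⟦n⟧)) :=
      unit_iso (E⟦n⟧) (Groth.Agent.Lib.Helper25.HomVanMV.isQCohD_shift E hE n)
        (isZero_restrictD_shift O E hEO n) (fun m φ => by
          let e : (E⟦n⟧)⟦m⟧ ≅ E⟦n + m⟧ :=
            ((shiftFunctorAdd' (DCoh.D X) n m (n + m) rfl).app E).symm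
          have h2 := hK' (n + m) (φ ≫ e.hom)
          rw [← cancel_mono e.hom, h2, zero_comp])
    let ψ' : J.obj R ⟶ J.obj (E⟦n⟧) := θ.hom ≫ biprod.fst ≫ ψ ≫ c.inv
    have h1 := hR' n ((adj.homEquiv R (J.obj (E⟦n⟧))) ψ' ≫ inv (adj.unit.app (E⟦n⟧)))
    have h2 : (adj.homEquiv R (J.obj (E⟦n⟧))) ψ' = 0 := by
      rw [← cancel_mono (inv (adj.unit.app (E⟦n⟧))), h1, zero_comp]
    have h3 : ψ' = 0 := by
      apply (adj.homEquiv R (J.obj (E⟦n⟧))).injective
      rw [h2, homEquiv_zero adj]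
    have h4 : (biprod.fst : P_U ⊞ P_U⟦(1 : ℤ)⟧ ⟶ P_U) ≫ ψ = 0 := by
      have h5 : θ.hom ≫ ((biprod.fst : P_U ⊞ P_U⟦(1 : ℤ)⟧ ⟶ P_U) ≫ ψ) ≫ c.inv = 0 := by
        simpa [ψ'] using h3
      have h7 : ((biprod.fst : P_U ⊞ P_U⟦(1 : ℤ)⟧ ⟶ P_U) ≫ ψ) ≫ c.inv = 0 := by
        rw [← cancel_epi θ.hom, h5, comp_zero]
      rw [← cancel_mono c.inv, h7, zero_comp]
    have h6 : ψ = (biprod.inl : P_U ⟶ P_U ⊞ P_U⟦(1 : ℤ)⟧) ≫ biprod.fst ≫ ψ := by simp
    rw [h6, h4, comp_zero]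
  haveI : IsIso (adj.unit.app E) := unit_iso E hE hEO hK'
  exact IsZero.of_iso (Functor.map_isZero Rp hEU) (asIso (adj.unit.app E))

/-- perfect generators with supports, by induction on the number of affine opens in a cover -/
theorem gen_fin : ∀ (n : ℕ) (Y : Scheme.{u}) [QuasiSeparatedSpace Y] (V : Fin n → Y.Opens),
    (⨆ i, V i) = ⊤ → (∀ i, IsAffineOpen (V i)) → ∀ (O : Y.Opens), IsCompact (O : Set Y) →
    ∃ G : DCoh.D Y, DCoh.IsPerfect G ∧ IsZero ((DCoh.restrictD O.ι).obj G) ∧ Gen O G := by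
  intro n
  induction n with
  | zero =>
    intro Y _ V hcov _ O _
    haveI : IsEmpty Y := isEmpty_of_top_eq_bot (by rw [← hcov, iSup_of_empty])
    exact ⟨0, isPerfect_of_isZero (isZero_zero _), Functor.map_isZero _ (isZero_zero _),
      fun E _ _ _ => isZero_of_isEmpty E⟩
  | succ n ih =>
    intro Y _ V hcov haff O hO
    let U : Y.Opens := ⨆ i : Fin n, V i.castSucc
    let W : Y.Opens := V (Fin.last n)
    have hUW : U ⊔ W = ⊤ := by
      rw [← hcov]
      exact (Groth.Agent.Lib.helper27.SerreVan.iSup_fin_succ V).symm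
    haveI : QuasiSeparatedSpace (U : Scheme.{u}) :=
      QuasiSeparatedSpace.of_isOpenEmbedding U.ι.isOpenEmbedding
    have hUc : IsCompact (U : Set Y) := by
      have : (U : Set Y) = ⋃ i : Fin n, (V i.castSucc : Set Y) := by
        simp [U]
      rw [this]
      exact isCompact_iUnion fun i => (haff i.castSucc).isCompact
    have hc : IsCompact ((U ⊓ W : Y.Opens) : Set Y) :=
      hUc.inter_of_isOpen (haff _).isCompact U.isOpen W.isOpen
    have hOW : IsCompact ((W ⊓ O : Y.Opens) : Set Y) :=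
      (haff _).isCompact.inter_of_isOpen hO W.isOpen O.isOpen
    let O' : (U : Scheme.{u}).Opens := U.ι ⁻¹ᵁ O
    have hO' : IsCompact (O' : Set (U : Scheme.{u})) := by
      rw [U.ι.isOpenEmbedding.isEmbedding.isCompact_iff]
      have h1 : U.ι ''ᵁ O' = U ⊓ O := by
        rw [Scheme.Hom.image_preimage_eq_opensRange_inf, Scheme.Opens.opensRange_ι]
      have h2 : (U.ι.base '' (O' : Set (U : Scheme.{u}))) = ((U ⊓ O : Y.Opens) : Set Y) := by
        rw [← h1]; rfl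
      rw [h2]
      exact hUc.inter_of_isOpen hO U.isOpen O.isOpen
    obtain ⟨P_U, hP, hPO, hgen⟩ := ih (U : Scheme.{u}) (fun i => U.ι ⁻¹ᵁ V i.castSucc)
      (preimage_iSup_eq_top U _ le_rfl)
      (fun i => by
        refine (haff i.castSucc).preimage_of_isOpenImmersion U.ι ?_
        rw [Scheme.Opens.opensRange_ι]
        exact le_iSup (fun i : Fin n => V i.castSucc) i) O' hO'
    exact gen_step U W (haff _) hUc hc hUW O hOW P_U hP hPO hgen

/-- **perfect generators with supports** (Bondal–Van den Bergh, Rouquier): on a quasi-compact quasi-separated scheme,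
for every quasi-compact open `O` there is a perfect object vanishing on `O` which generates the objects of `D_QCoh`
vanishing on `O` -/
theorem gen_qcqs (X : Scheme.{u}) [CompactSpace ↥X] [QuasiSeparatedSpace ↥X] (O : X.Opens)
    (hO : IsCompact (O : Set X)) :
    ∃ G : DCoh.D X, DCoh.IsPerfect G ∧ IsZero ((DCoh.restrictD O.ι).obj G) ∧
      ∀ E : DCoh.D X, DCoh.IsQCohD E → IsZero ((DCoh.restrictD O.ι).obj E) →
        (IsZero E ↔ ∀ (n : ℤ) (φ : G⟦n⟧ ⟶ E), φ = 0) := by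
  classical
  obtain ⟨s, hs, hcov⟩ := (isCompact_iff_finite_and_eq_biUnion_affineOpens (X := X)
    (U := (⊤ : X.Opens))).mp isCompact_univ
  obtain ⟨t, e, he⟩ := hs.fin_embedding
  have h1 : (⨆ i ∈ s, (i : X.Opens)) = ⨆ k : Fin t, ((e k : X.affineOpens) : X.Opens) := by
    rw [← he, iSup_range]
  obtain ⟨G, hG, hGO, hgen⟩ := gen_fin t X (fun k => ((e k : X.affineOpens) : X.Opens))
    (by rw [← h1]; exact hcov.symm) (fun k => (e k).2) O hO
  refine ⟨G, hG, hGO, fun E hE hEO => ⟨fun hz n φ => hz.eq_of_tgt _ _, fun h => ?_⟩⟩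
  exact hgen E hE hEO (fun n φ => (hom_shift_zero_iff' G E (-n) n (by omega)).1 (h (-n)) φ)

end Groth.Agent.Lib.Helper25.PerfGen
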