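import Mathlib
import Groth.Agent.Lib.Helper25.QCCPerfect
import Groth.Agent.Lib.Helper25.PerfGen
import Groth.Agent.Lib.Helper25.LiftCover

/-!
# `D_QCoh(O_X)` is a triangulated subcategory of `D(O_X)` closed under small coproducts (helper25)

Instances `IsClosedUnderIsomorphisms`, `IsTriangulated`, `IsClosedUnderColimitsOfShape (Discrete J)` (`J : Type u`)
for `DCoh.IsQCohD`.
-/

set_option autoImplicit false
universe u
open CategoryTheory CategoryTheory.Limits AlgebraicGeometry Pretriangulated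
attribute [local instance] HasDerivedCategory.standard

namespace Groth.Agent.Lib.Helper25.DQCohTri

variable (X : Scheme.{u})

instance : (DCoh.IsQCohD (X := X)).IsClosedUnderIsomorphisms where
  of_iso e h := Groth.Agent.Lib.Helper25.LiftCover.isQCohD_of_iso e h

variable {X} in
lemma isQCohD_obj₂ (T : Triangle (DCoh.D X)) (hT : T ∈ distTriang _) (h₁ : DCoh.IsQCohD T.obj₁)
    (h₃ : DCoh.IsQCohD T.obj₃) : DCoh.IsQCohD T.obj₂ := by
  exact Groth.Agent.H1.WSerreTri.cohIn_obj₂ (P := Groth.Agent.S1007.QC X) _ hT h₁ h₃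

open ZeroObject in
instance : (DCoh.IsQCohD (X := X)).IsTriangulated where
  exists_zero := ⟨0, isZero_zero _, Groth.Agent.Lib.Helper25.PerfGen.isQCohD_zero⟩
  isStableUnderShiftBy n := ⟨fun K hK => Groth.Agent.Lib.Helper25.HomVanMV.isQCohD_shift K hK n⟩
  toIsTriangulatedClosed₂ := ObjectProperty.IsTriangulatedClosed₂.mk' (fun T hT h₁ h₃ =>
    isQCohD_obj₂ T hT h₁ h₃)

instance (J : Type u) : (DCoh.IsQCohD (X := X)).IsClosedUnderColimitsOfShape (Discrete J) where
  colimitsOfShape_le := by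
    rintro K ⟨h⟩
    let M : J → DCoh.D X := fun j => h.diag.obj ⟨j⟩
    let g : ∀ j, M j ⟶ K := fun j => h.ι.app ⟨j⟩
    have hc : IsColimit (Cofan.mk K g) :=
      Cofan.IsColimit.mk _
        (fun s => h.isColimit.desc (Cocone.mk s.pt (Discrete.natTrans fun ⟨j⟩ => s.inj j)))
        (fun s j => h.isColimit.fac (Cocone.mk s.pt (Discrete.natTrans fun ⟨j⟩ => s.inj j)) ⟨j⟩)
        (fun s m hm => h.isColimit.uniq (Cocone.mk s.pt (Discrete.natTrans fun ⟨j⟩ => s.inj j)) m
          (fun ⟨j⟩ => hm j))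
    exact Groth.Agent.Lib.Helper25.QCCPerfect.isQCohD_of_isColimit M (fun j => h.prop_diag_obj ⟨j⟩) K g hc

end Groth.Agent.Lib.Helper25.DQCohTri
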