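import Mathlib
import Groth.Agent.Lib.Helper25.BrownSub2
import Groth.Agent.Lib.Helper25.DEquiv
import Groth.Agent.Lib.Helper27.DerSmall
import Groth.Agent.Lib.Helper25.QCCPerfect
import Groth.Agent.Lib.Helper25.PerfGen
import Groth.Agent.Lib.Helper25.LiftCover
import Groth.Agent.Lib.Helper23.DCoprod5
import Groth.Agent.Lib.Helper25.DQCohTri

/-!
# The small model of `D(O_X)` and Brown representability for `D_QCoh(O_X)` (helper25)

* `Sm A`: a type synonym of a Grothendieck abelian category `A` carrying helper27's derived category with small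
  morphism types (`hasDerivedCategorySm`, high priority); `smEquiv : A ≌ Sm A`, `DS A = D(Sm A)`,
  `Ψ A : DS A ⥤ D(A)` (a triangulated equivalence, `DEquiv`), `hasCoproducts_DS`.
* `isLeftAdjoint_ι_qcoh` (S7239): on a quasi-compact quasi-separated scheme the inclusion `D_QCoh(O_X) ⥤ D(O_X)`
  has a right adjoint (Brown representability `BrownSub.isLeftAdjoint_ι` + perfect generator `PerfGen.gen_qcqs` +
  compactness `QCCPerfect.qff_of_isPerfect`).
-/

set_option autoImplicit false
universe u
open CategoryTheory CategoryTheory.Limits AlgebraicGeometry Pretriangulated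
attribute [local instance] HasDerivedCategory.standard

namespace Groth.Agent.Lib.Helper25.DQCohSmall

/-- a type synonym of an abelian category, which carries the derived category with small morphism types -/
def Sm (A : Type (u + 1)) : Type (u + 1) := A

section Sm

variable (A : Type (u + 1)) [Category.{u} A] [Abelian A] [IsGrothendieckAbelian.{u} A]

instance : Category.{u} (Sm A) := inferInstanceAs (Category.{u} A)
instance : Abelian (Sm A) := inferInstanceAs (Abelian A)
instance : IsGrothendieckAbelian.{u} (Sm A) := inferInstanceAs (IsGrothendieckAbelian.{u} A)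

noncomputable instance (priority := 10000) hasDerivedCategorySm : HasDerivedCategory.{u} (Sm A) :=
  Groth.Agent.Lib.helper27.DerSmall.hasDerivedCategorySmall (Sm A)

/-- the identity equivalence -/
def smEquiv : A ≌ Sm A := (CategoryTheory.Equivalence.refl : A ≌ A)

instance : (smEquiv A).functor.Additive := inferInstanceAs (𝟭 A).Additive

/-- the small model of the derived category -/
abbrev DS : Type (u + 1) := DerivedCategory (Sm A)

noncomputable example : Category.{u} (DS A) := inferInstance

/-- the comparison functor from the small model -/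
noncomputable abbrev Ψ : DS A ⥤ DerivedCategory A := (smEquiv A).inverse.mapDerivedCategory

noncomputable example : (Ψ A).CommShift ℤ := inferInstance
example : (Ψ A).IsTriangulated := inferInstance
example : (Ψ A).IsEquivalence := inferInstance

lemma exactCoprod (J : Type u) : HasExactColimitsOfShape (Discrete J) A := by
  haveI : HasFiniteBiproducts A := Abelian.hasFiniteBiproducts
  haveI : AB5OfSize.{u, u} A := inferInstance
  haveI : HasFilteredColimitsOfSize.{u, u} A := inferInstance
  haveI h4 : AB4OfSize.{u} A := AB4.of_AB5 A
  exact h4.ofShape J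

instance hasCoproducts_DS : HasCoproducts.{u} (DS A) := fun J => by
  haveI : HasCoproductsOfShape J (Sm A) := inferInstance
  haveI : HasExactColimitsOfShape (Discrete J) (Sm A) := exactCoprod (Sm A) J
  exact Groth.Agent.Lib.helper23.DCoprod.hasCoproductsOfShape

end Sm

section Scheme

variable (X : Scheme.{u})

instance : IsGrothendieckAbelian.{u} X.Modules :=
  Groth.Agent.Lib.Helper21.ModGroth.isGrothendieckAbelian_mod X.ringCatSheaf

/-- **S7239**: the inclusion `D_QCoh(O_X) ⥤ D(O_X)` has a right adjoint on a quasi-compact quasi-separated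
scheme -/
theorem isLeftAdjoint_ι_qcoh [CompactSpace X] [QuasiSeparatedSpace X] :
    (ObjectProperty.ι (DCoh.IsQCohD (X := X))).IsLeftAdjoint := by
  haveI : IsEmpty ((⊥ : X.Opens) : Scheme.{u}) := ⟨fun x => x.2⟩
  obtain ⟨G, hG, -, hgen⟩ := Groth.Agent.Lib.Helper25.PerfGen.gen_qcqs X ⊥ (by simp)
  exact Groth.Agent.Lib.Helper25.BrownSub.isLeftAdjoint_ι (Ψ X.Modules) DCoh.IsQCohD G
    (Groth.Agent.Lib.Helper25.ApproxAffine.isQCohD_of_isPerfect hG)
    (fun K hK h => (hgen K hK (Groth.Agent.Lib.Helper25.HomVanQcqs.isZero_of_isEmpty _)).2 h)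
    (Groth.Agent.Lib.Helper25.QCCPerfect.qff_of_isPerfect X G hG)

end Scheme

end Groth.Agent.Lib.Helper25.DQCohSmall
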