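import Mathlib
import Groth.Agent.Lib.Helper25.DQCohSmall
import Groth.Agent.Lib.Helper25.BrownSub3
import Groth.Agent.Lib.Helper25.CompactRel
import Groth.Agent.Lib.Helper25.ThomasonTG
import Groth.Agent.Lib.Helper25.ApproxExtend

/-!
# Compact objects of `D_QCoh(O_X)` are perfect (helper25)

* instances: `DCoh.IsPerfect` is a thick subcategory of `D(O_X)` (`PerfP`).
* `isCompact_iff_isPerfect` (S1003): on a quasi-compact quasi-separated scheme, `K ∈ D_QCoh` is compact relative to
  `D_QCoh` iff it is perfect.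
-/

set_option autoImplicit false
universe u
open CategoryTheory CategoryTheory.Limits AlgebraicGeometry Pretriangulated
attribute [local instance] HasDerivedCategory.standard

namespace Groth.Agent.Lib.Helper25.DQCohCompact

open Groth.Agent.Lib.Helper25.DQCohSmall

/-- perfect objects, as an object property -/
abbrev PerfP (X : Scheme.{u}) : ObjectProperty (DCoh.D X) := fun K => DCoh.IsPerfect K

variable (X : Scheme.{u})

instance : (PerfP X).IsClosedUnderIsomorphisms where
  of_iso e h := Groth.Agent.Lib.helper25.DCohPerfect.isPerfect_of_iso e h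

open ZeroObject in
instance : (PerfP X).IsTriangulated where
  exists_zero := ⟨0, isZero_zero _,
    Groth.Agent.Lib.Helper25.ApproxExtend.isPerfect_of_isZero (isZero_zero _)⟩
  isStableUnderShiftBy n := ⟨fun K hK => Groth.Agent.Lib.helper25.DCohPerfect.isPerfect_shift hK n⟩
  toIsTriangulatedClosed₂ := ObjectProperty.IsTriangulatedClosed₂.mk' (fun T hT h₁ h₃ =>
    (Groth.Agent.Lib.helper25.DCohPerfect.isPerfect_two_out_of_three T hT).2.1 h₁ h₃)

instance : (PerfP X).IsStableUnderRetracts where
  of_retract r h := Groth.Agent.Lib.Helper25.ThomasonTG.isPerfect_of_retract r.i r.r r.retract h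

/-- **S1003** -/
theorem isCompact_iff_isPerfect [CompactSpace X] [QuasiSeparatedSpace X] (K : DCoh.D X)
    (hK : DCoh.IsQCohD K) :
    PerfAux.IsCompactObjRel.{u} (fun L : DCoh.D X => DCoh.IsQCohD L) K ↔ DCoh.IsPerfect K := by
  rw [Groth.Agent.Lib.Helper25.CompactRel.isCompactObjRel_iff_ff]
  constructor
  · intro hff
    haveI : IsEmpty ((⊥ : X.Opens) : Scheme.{u}) := ⟨fun x => x.2⟩
    obtain ⟨G, hG, -, hgen⟩ := Groth.Agent.Lib.Helper25.PerfGen.gen_qcqs X ⊥ (by simp)
    exact Groth.Agent.Lib.Helper25.BrownSub.thick_of_ff (Ψ X.Modules) DCoh.IsQCohD G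
      (Groth.Agent.Lib.Helper25.ApproxAffine.isQCohD_of_isPerfect hG)
      (fun K hK h' => (hgen K hK (Groth.Agent.Lib.Helper25.HomVanQcqs.isZero_of_isEmpty _)).2 h')
      (Groth.Agent.Lib.Helper25.QCCPerfect.qff_of_isPerfect X G hG) (PerfP X) hG K hK hff
  · exact Groth.Agent.Lib.Helper25.QCCPerfect.qff_of_isPerfect X K

end Groth.Agent.Lib.Helper25.DQCohCompact
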