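import Mathlib
import Groth.Agent.Lib.Helper25.PerfGen
import Groth.Agent.Lib.Helper25.DQCohCompact
import Groth.Agent.Lib.Helper25.K0Regular
import Groth.Agent.Lib.Helper25.RpushAcyc
import Groth.Agent.Lib.Helper25.DCohHomology

/-!
# Boundedness of objects of `D_QCoh` detected by maps from perfect objects (helper25; S1020, S1021)

Stacks 0GEQ-type statements.  `l : Filter ℤ` is `atTop` or `atBot` (only invariance under translations is used in
the induction).

* `koszul_detect_affine`, `koszul_detect`: Koszul objects detect the vanishing of single cohomology sheaves of objects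
  of `D_QCoh` supported on their zero locus.
* `Bdd l E`: `H^i(E) = 0` eventually along `l`; `HomVan l P E`: `Hom(P[-i], E) = 0` eventually along `l`.
* `bdd_fin`: the induction on the number of affine opens.
-/

set_option autoImplicit false
universe u
open CategoryTheory CategoryTheory.Limits AlgebraicGeometry Opposite

attribute [local instance] HasDerivedCategory.standard

namespace Groth.Agent.Lib.Helper25.BddHomPerf

open Pretriangulated DerivedCategory TopologicalSpace Scheme.Modules ZeroObject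
open Groth.Agent.Lib.Helper25.HomVanQcqs Groth.Agent.Lib.helper25.DCohPerfect
  Groth.Agent.Lib.Helper25.ApproxCover Groth.Agent.Lib.Helper25.ApproxExtend
  Groth.Agent.Lib.Helper25.ThomasonAffine Groth.Agent.Lib.Helper25.VanLocus
  Groth.Agent.Lib.Helper25.MVSupp Groth.Agent.Lib.Helper25.SchKInj
  Groth.Agent.Lib.Helper25.KosObj Groth.Agent.Lib.Helper25.KosMain
  Groth.Agent.Lib.Helper25.QCCEv Groth.Agent.Lib.Helper25.QCCRpush
  Groth.Agent.Lib.Helper25.PerfGen

variable {X : Scheme.{u}}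

/-- on an affine scheme, a Koszul object on functions cutting out the complement of a quasi-compact open `O₁`
detects the vanishing of the cohomology sheaves of objects of `D_QCoh` vanishing on `O₁` -/
theorem koszul_detect_affine (V : Scheme.{u}) [IsAffine V] (O₁ : V.Opens)
    (hO₁ : IsCompact (O₁ : Set V)) :
    ∃ K : DCoh.D V, DCoh.IsPerfect K ∧ IsZero ((DCoh.restrictD O₁.ι).obj K) ∧
      ∀ C : DCoh.D V, DCoh.IsQCohD C → IsZero ((DCoh.restrictD O₁.ι).obj C) → ∀ n : ℤ,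
        (∀ φ : K ⟶ C⟦n⟧, φ = 0) → IsZero (DCoh.HD C n) := by
  classical
  letI : V.Over (Spec (CommRingCat.of ↑Γ(V, ⊤))) := ⟨V.toSpecΓ⟩
  have hg : ∀ a : Γ(V, ⊤), (show Γ(V, ⊤) from
      Coh.toGlobal (V ↘ Spec (CommRingCat.of ↑Γ(V, ⊤))) a) = a := by
    intro a
    show (V.toSpecΓ.appTop.hom) ((Scheme.ΓSpecIso _).inv.hom a) = a
    rw [Scheme.toSpecΓ_appTop]
    exact congr($((Scheme.ΓSpecIso _).inv_hom_id) a)
  obtain ⟨sT, hsT, hOs⟩ := isCompact_and_isOpen_iff_finite_and_eq_biUnion_basicOpen.mp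
    ⟨hO₁, O₁.isOpen⟩
  let fs : List ↑Γ(V, ⊤) := hsT.toFinset.toList
  have hfs : ∀ f, f ∈ fs ↔ f ∈ sT := fun f => by simp [fs]
  have hle : ∀ a ∈ fs, V.basicOpen
      (show Γ(V, ⊤) from Coh.toGlobal (V ↘ Spec (CommRingCat.of ↑Γ(V, ⊤))) a) ≤ O₁ := by
    intro f hf x hx
    rw [hg] at hx
    have : x ∈ (O₁ : Set V) := by
      rw [hOs]; exact Set.mem_biUnion ((hfs f).1 hf) hx
    exact this
  have hcov : ∀ x ∈ O₁, ∃ a ∈ fs, x ∈ V.basicOpen
      (show Γ(V, ⊤) from Coh.toGlobal (V ↘ Spec (CommRingCat.of ↑Γ(V, ⊤))) a) := by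
    intro x hx
    have hx' : x ∈ ⋃ i ∈ sT, (V.basicOpen i : Set V) := by
      rw [← hOs]; exact hx
    obtain ⟨f, hf, hxf⟩ := Set.mem_iUnion₂.1 hx'
    refine ⟨f, (hfs f).2 hf, ?_⟩
    rw [hg]
    exact hxf
  obtain ⟨K, tK, hKP⟩ := Groth.Agent.Lib.Helper25.ApproxAffine.exists_isKosP (A := ↑Γ(V, ⊤))
    (Sp V 0) fs
  have hK : IsKos ↑Γ(V, ⊤) V fs K := Groth.Agent.Lib.Helper25.KosPointed.isKos_of_isKosP _ K tK hKP
  have hK0 : IsZero ((DCoh.restrictD O₁.ι).obj K) :=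
    Groth.Agent.Lib.Helper25.ApproxAffine.isZero_restrictD_of_isKos fs O₁ hcov K hK
  refine ⟨K, isPerfect_of_isKos _ K hK, hK0, fun C hC hCO n h => ?_⟩
  exact isZero_HD_of_hom_eq_zero hC fs K hK
    (fun a ha => Groth.Agent.Lib.Helper25.MVSupp.isZero_restrictD_of_le (hle a ha) C hCO) n h

/-- `X = O' ∪ W` with `W` affine and `W ∩ O'` quasi-compact: the extension by zero of a Koszul object on `W` is a perfect
object vanishing on `O'` which detects the vanishing of the cohomology sheaves of objects of `D_QCoh` vanishing on `O'` -/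
theorem koszul_detect (W O' : X.Opens) (hW : IsAffineOpen W) (hcov : O' ⊔ W = ⊤)
    (hc : IsCompact ((W ⊓ O' : X.Opens) : Set X)) :
    ∃ K : DCoh.D X, DCoh.IsPerfect K ∧ IsZero ((DCoh.restrictD O'.ι).obj K) ∧
      ∀ C : DCoh.D X, DCoh.IsQCohD C → IsZero ((DCoh.restrictD O'.ι).obj C) → ∀ n : ℤ,
        (∀ φ : K ⟶ C⟦n⟧, φ = 0) → IsZero (DCoh.HD C n) := by
  haveI : IsAffine (W : Scheme.{u}) := hW
  let O₁ : (W : Scheme.{u}).Opens := W.ι ⁻¹ᵁ O'
  have hO₁ : IsCompact (O₁ : Set (W : Scheme.{u})) := by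
    rw [W.ι.isOpenEmbedding.isEmbedding.isCompact_iff]
    have h1 : W.ι ''ᵁ O₁ = W ⊓ O' := by
      rw [Scheme.Hom.image_preimage_eq_opensRange_inf, Scheme.Opens.opensRange_ι]
    have h2 : (W.ι.base '' (O₁ : Set (W : Scheme.{u}))) = ((W ⊓ O' : X.Opens) : Set X) := by
      rw [← h1]; rfl
    rw [h2]
    exact hc
  obtain ⟨K_W, hKp, hK0, hKd⟩ := koszul_detect_affine (W : Scheme.{u}) O₁ hO₁
  haveI := preservesFiniteLimits_extZero W
  obtain ⟨h1, h2⟩ := extZero_props W O' hcov K_W hKp hK0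
  let adj : CxOX.extZeroD W.ι ⊣ DCoh.restrictD W.ι :=
    Groth.Agent.Lib.helper25.DerivedAdj.mapDerivedCategoryAdj (CxOX.extZeroAdj W.ι)
  refine ⟨(CxOX.extZeroD W.ι).obj K_W, h1, h2, fun C hC hCO n h => ?_⟩
  have hCW : IsZero (DCoh.HD ((DCoh.restrictD W.ι).obj C) n) := by
    refine hKd _ (Groth.Agent.Lib.Helper25.RGZ4.isQCohD_restrictD W.ι C hC)
      (isZero_restrictD_preimage C O' W hCO) n (fun ψ => ?_)
    let c := ((DCoh.restrictD W.ι).commShiftIso n).app C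
    have h3 := h ((adj.homEquiv _ _).symm (ψ ≫ c.inv))
    have h4 := congrArg (adj.homEquiv _ _) h3
    rw [Equiv.apply_symm_apply, homEquiv_zero adj] at h4
    rw [← cancel_mono c.inv, h4, zero_comp]
  have hCO' : IsZero (DCoh.HD ((DCoh.restrictD O'.ι).obj C) n) :=
    Functor.map_isZero (DerivedCategory.homologyFunctor _ n) hCO
  obtain ⟨eW⟩ := Groth.Agent.Lib.helper25.DCohHomology.nonempty_HD_restrict_iso W.ι C n
  obtain ⟨eO⟩ := Groth.Agent.Lib.helper25.DCohHomology.nonempty_HD_restrict_iso O'.ι C n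
  refine Groth.Agent.Lib.helper25.DCohHomology.isZero_of_cover (DCoh.HD C n)
    (fun b : Bool => cond b O' W) (by rw [iSup_bool_eq]; exact hcov) (fun b => ?_)
  cases b
  · exact hCW.of_iso eW
  · exact hCO'.of_iso eO

/-- `H^i(E) = 0` eventually along `l` -/
def Bdd (l : Filter ℤ) {Y : Scheme.{u}} (E : DCoh.D Y) : Prop :=
  ∀ᶠ i in l, IsZero (DCoh.HD E i)

/-- `Hom(P[-i], E) = 0` eventually along `l` -/
def HomVan (l : Filter ℤ) {Y : Scheme.{u}} (P E : DCoh.D Y) : Prop :=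
  ∀ᶠ i in l, ∀ φ : P⟦-i⟧ ⟶ E, φ = 0

/-- vanishing of `H^i(T.obj₁)` from `H^{i-1}(T.obj₃)` and `H^i(T.obj₂)` -/
lemma isZero_HD_obj₁ {Y : Scheme.{u}} (T : Triangle (DCoh.D Y)) (hT : T ∈ distTriang _) (i j : ℤ)
    (hij : i + 1 = j) (h₃ : IsZero (DCoh.HD T.obj₃ i)) (h₂ : IsZero (DCoh.HD T.obj₂ j)) :
    IsZero (DCoh.HD T.obj₁ j) :=
  (DerivedCategory.HomologySequence.exact₁ T hT i j hij).isZero_of_both_zeros
    (h₃.eq_of_src _ _) (h₂.eq_of_tgt _ _)

/-- **the induction**: boundedness (along `l`) is detected by maps from perfect objects -/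
theorem bdd_fin (l : Filter ℤ) (hl : ∀ c : ℤ, Filter.Tendsto (fun i : ℤ => i + c) l l)
    (F2 : ∀ (Y : Scheme.{u}) [CompactSpace Y] [QuasiSeparatedSpace Y] (R C : DCoh.D Y),
      DCoh.IsPerfect R → DCoh.IsQCohD C → Bdd l C → HomVan l R C)
    (F3 : ∀ (Y : Scheme.{u}) [CompactSpace Y] [QuasiSeparatedSpace Y] (U : Y.Opens)
      [DCoh.HasRpush U.ι], IsCompact (U : Set Y) → ∀ M : DCoh.D (U : Scheme.{u}), DCoh.IsQCohD M →
      Bdd l M → Bdd l ((DCoh.Rpush U.ι).obj M)) :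
    ∀ (n : ℕ) (Y : Scheme.{u}) [QuasiSeparatedSpace Y] (V : Fin n → Y.Opens),
      (⨆ i, V i) = ⊤ → (∀ i, IsAffineOpen (V i)) → ∀ E : DCoh.D Y, DCoh.IsQCohD E →
      (∀ P : DCoh.D Y, DCoh.IsPerfect P → HomVan l P E) → Bdd l E := by
  intro n
  induction n with
  | zero =>
    intro Y _ V hcov _ E _ _
    haveI : IsEmpty Y := isEmpty_of_top_eq_bot (by rw [← hcov, iSup_of_empty])
    exact Filter.Eventually.of_forall (fun i =>
      Functor.map_isZero (DerivedCategory.homologyFunctor _ i) (isZero_of_isEmpty E))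
  | succ n ih =>
    intro Y _ V hcov haff E hE hyp
    let U : Y.Opens := ⨆ i : Fin n, V i.castSucc
    let W : Y.Opens := V (Fin.last n)
    have hUW : U ⊔ W = ⊤ := by
      rw [← hcov]
      exact (Groth.Agent.Lib.helper27.SerreVan.iSup_fin_succ V).symm
    haveI : QuasiSeparatedSpace (U : Scheme.{u}) :=
      QuasiSeparatedSpace.of_isOpenEmbedding U.ι.isOpenEmbedding
    have hUc : IsCompact (U : Set Y) := by
      have : (U : Set Y) = ⋃ i : Fin n, (V i.castSucc : Set Y) := by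
        simp [U]
      rw [this]
      exact isCompact_iUnion fun i => (haff i.castSucc).isCompact
    have hc : IsCompact ((U ⊓ W : Y.Opens) : Set Y) :=
      hUc.inter_of_isOpen (haff _).isCompact U.isOpen W.isOpen
    haveI : CompactSpace Y := by
      refine ⟨?_⟩
      have h1 : (Set.univ : Set Y) = (U : Set Y) ∪ (W : Set Y) := by
        have := congrArg (fun O : Y.Opens => (O : Set Y)) hUW
        simpa using this.symm
      rw [h1]
      exact hUc.union (haff _).isCompact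
    haveI : CompactSpace ((U : Y.Opens) : Scheme.{u}) := isCompact_iff_compactSpace.mp hUc
    haveI := hasRpush U.ι
    obtain ⟨adj⟩ := Groth.Agent.Lib.Helper25.RGZ1.nonempty_adj U.ι
    let J := DCoh.restrictD U.ι
    let Rp := DCoh.Rpush U.ι
    haveI := additive_Rpush U.ι
    -- the Koszul object
    obtain ⟨K, hK, hKU, hKd⟩ := koszul_detect W U (haff _) hUW (by rw [inf_comm]; exact hc)
    -- the cone of the unit
    let η : E ⟶ Rp.obj (J.obj E) := adj.unit.app E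
    obtain ⟨C, q, w, hT⟩ := distinguished_cocone_triangle η
    have hJE : DCoh.IsQCohD (J.obj E) := Groth.Agent.Lib.Helper25.RGZ4.isQCohD_restrictD U.ι E hE
    have hRJ : DCoh.IsQCohD (Rp.obj (J.obj E)) :=
      Groth.Agent.Lib.Helper25.RpushQC.isQCohD_Rpush U.ι _ hJE
    have hCq : DCoh.IsQCohD C :=
      Groth.Agent.H1.WSerreTri.cohIn_obj₂ (P := Groth.Agent.S1007.QC Y) _ (rot_of_distTriang _ hT) hRJ
        (Groth.Agent.Lib.Helper25.HomVanMV.isQCohD_shift E hE 1)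
    have hJη : IsIso (J.map η) := by
      haveI := Groth.Agent.Lib.Helper25.RGZ1.isIso_counit U.ι adj (J.obj E)
      have h1 : J.map η ≫ adj.counit.app (J.obj E) = 𝟙 _ := adj.left_triangle_components E
      haveI : IsIso (J.map η ≫ adj.counit.app (J.obj E)) := by rw [h1]; infer_instance
      exact IsIso.of_isIso_comp_right (J.map η) (adj.counit.app (J.obj E))
    have hCU : IsZero (J.obj C) :=
      (Triangle.isZero₃_iff_isIso₁ _ (J.map_distinguished _ hT)).2 hJη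
    -- `C` is bounded
    have hCb : Bdd l C := by
      have h1 := hyp K hK
      have h2 := (hl 1).eventually h1
      filter_upwards [h2] with i hi
      refine hKd C hCq hCU i ?_
      refine (hom_shift_zero_iff K C i).1 (fun φ => ?_)
      have h1 : ∀ φ' : K⟦-i⟧ ⟶ E⟦(1 : ℤ)⟧, φ' = 0 := by
        refine (hom_shift_zero_iff K (E⟦(1 : ℤ)⟧) i).2 (fun φ' => ?_)
        let e : (E⟦(1 : ℤ)⟧)⟦i⟧ ≅ E⟦i + 1⟧ :=
          ((shiftFunctorAdd' (DCoh.D Y) 1 i (i + 1) (by omega)).app E).symm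
        have h2 := (hom_shift_zero_iff K E (i + 1)).1 hi (φ' ≫ e.hom)
        rw [← cancel_mono e.hom, h2, zero_comp]
      obtain ⟨ψ, hψ⟩ : ∃ ψ : K⟦-i⟧ ⟶ Rp.obj (J.obj E), φ = ψ ≫ q :=
        Triangle.coyoneda_exact₃ _ hT φ (h1 _)
      have hψ0 : ψ = 0 :=
        hom_Rpush_eq_zero U adj _ (isZero_restrictD_shift U K hKU (-i)) _ ψ
      rw [hψ, hψ0, zero_comp]
    -- the hypothesis on `U`
    have hypU : ∀ P : DCoh.D (U : Scheme.{u}), DCoh.IsPerfect P → HomVan l P (J.obj E) := by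
      intro P_U hP
      haveI : IsEmpty ((U.ι ⁻¹ᵁ (⊥ : Y.Opens) : (U : Scheme.{u}).Opens) : Scheme.{u}) :=
        ⟨fun x => x.2⟩
      obtain ⟨R, ρ, θ, hR, -, -⟩ := exists_glued_lift U W (haff _) hc hUW ⊥ (by simp)
        (0 : DCoh.D Y) isQCohD_zero P_U hP (isZero_of_isEmpty _) 0
      have h1 := hyp R hR
      have h2 := F2 Y R C hR hCq hCb
      filter_upwards [h1, h2] with i hi1 hi2
      intro ψ
      have h3 : ∀ χ : R⟦-i⟧ ⟶ Rp.obj (J.obj E), χ = 0 := by
        intro χ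
        obtain ⟨χ', hχ'⟩ := Triangle.coyoneda_exact₂ _ hT χ (hi2 _)
        have hχ0 : χ' = 0 := hi1 χ'
        rw [hχ', hχ0]
        exact zero_comp
      let c := (J.commShiftIso (-i)).app R
      let ψ' : J.obj (R⟦-i⟧) ⟶ J.obj E := c.hom ≫ (θ.hom ≫ biprod.fst)⟦-i⟧' ≫ ψ
      have h4 : ψ' = 0 := by
        apply (adj.homEquiv _ _).injective
        rw [homEquiv_zero adj]
        exact h3 _
      have h5 : (θ.hom ≫ (biprod.fst : P_U ⊞ P_U⟦(1 : ℤ)⟧ ⟶ P_U))⟦-i⟧' ≫ ψ = 0 := by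
        have := congrArg (fun t => c.inv ≫ t) h4
        simpa [ψ'] using this
      have h6 : ψ = ((biprod.inl : P_U ⟶ P_U ⊞ P_U⟦(1 : ℤ)⟧) ≫ θ.inv)⟦-i⟧' ≫
          (θ.hom ≫ (biprod.fst : P_U ⊞ P_U⟦(1 : ℤ)⟧ ⟶ P_U))⟦-i⟧' ≫ ψ := by
        rw [← Functor.map_comp_assoc]
        simp
      rw [h6, h5, comp_zero]
    -- induction hypothesis
    have hEU : Bdd l (J.obj E) := ih (U : Scheme.{u}) (fun i => U.ι ⁻¹ᵁ V i.castSucc)
      (preimage_iSup_eq_top U _ le_rfl)
      (fun i => by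
        refine (haff i.castSucc).preimage_of_isOpenImmersion U.ι ?_
        rw [Scheme.Opens.opensRange_ι]
        exact le_iSup (fun i : Fin n => V i.castSucc) i) (J.obj E) hJE hypU
    have hRb : Bdd l (Rp.obj (J.obj E)) := F3 Y U hUc _ hJE hEU
    have h2 := (hl (-1)).eventually hCb
    filter_upwards [hRb, h2] with i hi1 hi2
    exact isZero_HD_obj₁ _ hT (i + -1) i (by omega) hi2 hi1

section Thick

variable (l : Filter ℤ) (hl : ∀ c : ℤ, Filter.Tendsto (fun i : ℤ => i + c) l l) (E : DCoh.D X)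

/-- the class of objects `P` with `Hom(P[-i], E) = 0` eventually -/
def QP (l : Filter ℤ) (_ : ∀ c : ℤ, Filter.Tendsto (fun i : ℤ => i + c) l l) (E : DCoh.D X) :
    ObjectProperty (DCoh.D X) := fun P => HomVan l P E

instance : (QP l hl E).IsClosedUnderIsomorphisms where
  of_iso {P P'} e h := by
    change HomVan l P' E
    have h' : HomVan l P E := h
    filter_upwards [h'] with i hi
    intro φ
    have h1 := hi (e.hom⟦-i⟧' ≫ φ)
    rw [← cancel_epi (e.hom⟦-i⟧'), h1, comp_zero]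

instance : (QP l hl E).IsStableUnderRetracts where
  of_retract {P' P} r h := by
    change HomVan l P' E
    have h' : HomVan l P E := h
    filter_upwards [h'] with i hi
    intro φ
    have h1 := hi (r.r⟦-i⟧' ≫ φ)
    have h2 : φ = r.i⟦-i⟧' ≫ r.r⟦-i⟧' ≫ φ := by
      rw [← Functor.map_comp_assoc, r.retract, CategoryTheory.Functor.map_id, Category.id_comp]
    rw [h2, h1, comp_zero]

instance : (QP l hl E).IsTriangulated where
  exists_zero := ⟨0, isZero_zero _, Filter.Eventually.of_forall (fun i φ =>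
    (Functor.map_isZero (shiftFunctor (DCoh.D X) (-i)) (isZero_zero _)).eq_of_src _ _)⟩
  isStableUnderShiftBy n := ⟨fun P hP => by
    change HomVan l (P⟦n⟧) E
    have h' : HomVan l P E := hP
    have h2 := (hl (-n)).eventually h'
    filter_upwards [h2] with i hi
    intro φ
    let e : (P⟦n⟧)⟦-i⟧ ≅ P⟦-(i + -n)⟧ :=
      ((shiftFunctorAdd' (DCoh.D X) n (-i) (-(i + -n)) (by omega)).app P).symm
    have h1 := hi (e.inv ≫ φ)
    rw [← cancel_epi e.inv, h1, comp_zero]⟩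
  toIsTriangulatedClosed₂ := ObjectProperty.IsTriangulatedClosed₂.mk' (fun T hT h₁ h₃ => by
    change HomVan l T.obj₂ E
    have h₁' : HomVan l T.obj₁ E := h₁
    have h₃' : HomVan l T.obj₃ E := h₃
    filter_upwards [h₁', h₃'] with i hi1 hi3
    intro φ
    have hT' := Triangle.shift_distinguished T hT (-i)
    obtain ⟨g, hg⟩ := Triangle.yoneda_exact₂ _ hT' φ (hi1 _)
    have hg0 : g = 0 := hi3 g
    rw [hg, hg0]
    exact comp_zero)

end Thick

/-- translation invariance of `atTop` -/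
lemma hl_atTop (c : ℤ) : Filter.Tendsto (fun i : ℤ => i + c) Filter.atTop Filter.atTop :=
  Filter.tendsto_atTop_add_const_right _ c Filter.tendsto_id

/-- translation invariance of `atBot` -/
lemma hl_atBot (c : ℤ) : Filter.Tendsto (fun i : ℤ => i + c) Filter.atBot Filter.atBot :=
  Filter.tendsto_atBot_add_const_right _ c Filter.tendsto_id

lemma bdd_atTop_iff {Y : Scheme.{u}} (E : DCoh.D Y) : Bdd Filter.atTop E ↔ ∃ b : ℤ, E.IsLE b := by
  unfold Bdd
  rw [Filter.eventually_atTop]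
  constructor
  · rintro ⟨N, hN⟩
    exact ⟨N - 1, (DerivedCategory.isLE_iff _ _).2 (fun i hi => hN i (by omega))⟩
  · rintro ⟨b, hb⟩
    exact ⟨b + 1, fun i hi => (DerivedCategory.isLE_iff _ _).1 hb i (by omega)⟩

lemma bdd_atBot_iff {Y : Scheme.{u}} (E : DCoh.D Y) : Bdd Filter.atBot E ↔ ∃ a : ℤ, E.IsGE a := by
  unfold Bdd
  rw [Filter.eventually_atBot]
  constructor
  · rintro ⟨N, hN⟩
    exact ⟨N + 1, (DerivedCategory.isGE_iff _ _).2 (fun i hi => hN i (by omega))⟩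
  · rintro ⟨a, ha⟩
    exact ⟨a - 1, fun i hi => (DerivedCategory.isGE_iff _ _).1 ha i (by omega)⟩

lemma F2_atTop (Y : Scheme.{u}) [CompactSpace Y] [QuasiSeparatedSpace Y] (R C : DCoh.D Y)
    (hR : DCoh.IsPerfect R) (hC : DCoh.IsQCohD C) (hb : Bdd Filter.atTop C) :
    HomVan Filter.atTop R C := by
  obtain ⟨b, hb⟩ := (bdd_atTop_iff C).1 hb
  obtain ⟨c, hc⟩ := exists_van Y R hR
  unfold HomVan
  rw [Filter.eventually_atTop]
  refine ⟨b - c, fun i hi => (hom_shift_zero_iff R C i).2 (fun ψ => ?_)⟩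
  refine hc (C⟦i⟧) (Groth.Agent.Lib.Helper25.HomVanMV.isQCohD_shift C hC i) ?_ ψ
  haveI : (TStructure.t : Triangulated.TStructure (DCoh.D Y)).IsLE C b := hb
  haveI : (TStructure.t : Triangulated.TStructure (DCoh.D Y)).IsLE (C⟦i⟧) (b - i) :=
    (TStructure.t : Triangulated.TStructure (DCoh.D Y)).isLE_shift C b i (b - i) (by omega)
  exact (TStructure.t : Triangulated.TStructure (DCoh.D Y)).isLE_of_le (C⟦i⟧) (b - i) c (by omega)

lemma F2_atBot (Y : Scheme.{u}) [CompactSpace Y] [QuasiSeparatedSpace Y] (R C : DCoh.D Y)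
    (hR : DCoh.IsPerfect R) (_ : DCoh.IsQCohD C) (hb : Bdd Filter.atBot C) :
    HomVan Filter.atBot R C := by
  obtain ⟨a, ha⟩ := (bdd_atBot_iff C).1 hb
  obtain ⟨-, b, -, hRb⟩ := Groth.Agent.Lib.Helper25.K0Regular.exists_bounds_of_isPerfect R hR
  unfold HomVan
  rw [Filter.eventually_atBot]
  refine ⟨a - b - 1, fun i hi => (hom_shift_zero_iff R C i).2 (fun ψ => ?_)⟩
  haveI : (TStructure.t : Triangulated.TStructure (DCoh.D Y)).IsGE C a := ha
  haveI : (TStructure.t : Triangulated.TStructure (DCoh.D Y)).IsLE R b := hRb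
  haveI : (TStructure.t : Triangulated.TStructure (DCoh.D Y)).IsGE (C⟦i⟧) (a - i) :=
    (TStructure.t : Triangulated.TStructure (DCoh.D Y)).isGE_shift C a i (a - i) (by omega)
  exact (TStructure.t : Triangulated.TStructure (DCoh.D Y)).zero ψ b (a - i) (by omega)

lemma F3_atTop (Y : Scheme.{u}) [CompactSpace Y] [QuasiSeparatedSpace Y] (U : Y.Opens)
    [DCoh.HasRpush U.ι] (hU : IsCompact (U : Set Y)) (M : DCoh.D (U : Scheme.{u}))
    (hM : DCoh.IsQCohD M) (hb : Bdd Filter.atTop M) : Bdd Filter.atTop ((DCoh.Rpush U.ι).obj M) := by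
  haveI : CompactSpace ((U : Y.Opens) : Scheme.{u}) := isCompact_iff_compactSpace.mp hU
  obtain ⟨b, hb⟩ := (bdd_atTop_iff M).1 hb
  obtain ⟨N, hN⟩ := Groth.Agent.Lib.Helper25.RpushAcyc.uniform_bound' U.ι
  unfold Bdd
  rw [Filter.eventually_atTop]
  exact ⟨N + b, fun i hi => hN M hM b hb i hi⟩

lemma F3_atBot (Y : Scheme.{u}) [CompactSpace Y] [QuasiSeparatedSpace Y] (U : Y.Opens)
    [DCoh.HasRpush U.ι] (_ : IsCompact (U : Set Y)) (M : DCoh.D (U : Scheme.{u}))
    (_ : DCoh.IsQCohD M) (hb : Bdd Filter.atBot M) : Bdd Filter.atBot ((DCoh.Rpush U.ι).obj M) := by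
  obtain ⟨a, ha⟩ := (bdd_atBot_iff M).1 hb
  haveI : HasInjectiveResolutions (ModSite.Mod (U : Scheme.{u}).sheaf) :=
    Groth.Agent.Lib.helper21.ModOpenBC.hasInjectiveResolutions_modules (U : Scheme.{u})
  haveI : SiteCmp.HasRpushD (ModSite.RMor.ofScheme U.ι) := ‹DCoh.HasRpush U.ι›
  exact (bdd_atBot_iff _).2 ⟨a, @Groth.Agent.H1.PushLoc.isGE_rpush _ _ _ _ _ _ _ _
    (ModSite.RMor.ofScheme U.ι) _ M a ha⟩

/-- the common core of S1020 and S1021 -/
theorem bdd_of_generator (l : Filter ℤ) (hl : ∀ c : ℤ, Filter.Tendsto (fun i : ℤ => i + c) l l)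
    (F2 : ∀ (Y : Scheme.{u}) [CompactSpace Y] [QuasiSeparatedSpace Y] (R C : DCoh.D Y),
      DCoh.IsPerfect R → DCoh.IsQCohD C → Bdd l C → HomVan l R C)
    (F3 : ∀ (Y : Scheme.{u}) [CompactSpace Y] [QuasiSeparatedSpace Y] (U : Y.Opens)
      [DCoh.HasRpush U.ι], IsCompact (U : Set Y) → ∀ M : DCoh.D (U : Scheme.{u}), DCoh.IsQCohD M →
      Bdd l M → Bdd l ((DCoh.Rpush U.ι).obj M))
    (X : Scheme.{u}) [CompactSpace ↥X] [QuasiSeparatedSpace ↥X]
    (G : DCoh.D X) (hG : DCoh.IsPerfect G)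
    (hgen : ∀ E : DCoh.D X, DCoh.IsQCohD E → (∀ (n : ℤ) (φ : G⟦n⟧ ⟶ E), φ = 0) → IsZero E)
    (E : DCoh.D X) (hE : DCoh.IsQCohD E) (h : HomVan l G E) : Bdd l E := by
  classical
  have hall : ∀ P : DCoh.D X, DCoh.IsPerfect P → HomVan l P E := fun P hP =>
    Groth.Agent.Lib.Helper25.BrownSub.thick_of_ff (Groth.Agent.Lib.Helper25.DQCohSmall.Ψ X.Modules)
      DCoh.IsQCohD G (Groth.Agent.Lib.Helper25.ApproxAffine.isQCohD_of_isPerfect hG) hgen
      (Groth.Agent.Lib.Helper25.QCCPerfect.qff_of_isPerfect X G hG) (QP l hl E) h P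
      (Groth.Agent.Lib.Helper25.ApproxAffine.isQCohD_of_isPerfect hP)
      (Groth.Agent.Lib.Helper25.QCCPerfect.qff_of_isPerfect X P hP)
  obtain ⟨s, hs, hcov⟩ := (isCompact_iff_finite_and_eq_biUnion_affineOpens (X := X)
    (U := (⊤ : X.Opens))).mp isCompact_univ
  obtain ⟨t, e, he⟩ := hs.fin_embedding
  have h1 : (⨆ i ∈ s, (i : X.Opens)) = ⨆ k : Fin t, ((e k : X.affineOpens) : X.Opens) := by
    rw [← he, iSup_range]
  exact bdd_fin l hl F2 F3 t X (fun k => ((e k : X.affineOpens) : X.Opens))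
    (by rw [← h1]; exact hcov.symm) (fun k => (e k).2) E hE hall

/-- **S1021** -/
theorem isLE_iff_homVan (X : Scheme.{u}) [CompactSpace ↥X] [QuasiSeparatedSpace ↥X]
    (G : DCoh.D X) (hG : DCoh.IsPerfect G)
    (hgen : ∀ E : DCoh.D X, DCoh.IsQCohD E → (∀ (n : ℤ) (φ : G⟦n⟧ ⟶ E), φ = 0) → IsZero E)
    (E : DCoh.D X) (hE : DCoh.IsQCohD E) :
    (∃ b : ℤ, E.IsLE b) ↔ ∃ N : ℤ, ∀ i : ℤ, N ≤ i → ∀ φ : G⟦-i⟧ ⟶ E, φ = 0 := by
  constructor
  · intro hb
    have := F2_atTop X G E hG hE ((bdd_atTop_iff E).2 hb)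
    unfold HomVan at this
    rw [Filter.eventually_atTop] at this
    exact this
  · intro h
    have h' : HomVan Filter.atTop G E := by
      unfold HomVan
      rw [Filter.eventually_atTop]
      exact h
    exact (bdd_atTop_iff E).1 (bdd_of_generator Filter.atTop hl_atTop F2_atTop
      (fun Y _ _ U _ hU M hM hb => F3_atTop Y U hU M hM hb) X G hG hgen E hE h')

/-- **S1020** -/
theorem isGE_iff_homVan (X : Scheme.{u}) [CompactSpace ↥X] [QuasiSeparatedSpace ↥X]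
    (G : DCoh.D X) (hG : DCoh.IsPerfect G)
    (hgen : ∀ E : DCoh.D X, DCoh.IsQCohD E → (∀ (n : ℤ) (φ : G⟦n⟧ ⟶ E), φ = 0) → IsZero E)
    (E : DCoh.D X) (hE : DCoh.IsQCohD E) :
    (∃ a : ℤ, E.IsGE a) ↔ ∃ N : ℤ, ∀ i : ℤ, i ≤ N → ∀ φ : G⟦-i⟧ ⟶ E, φ = 0 := by
  constructor
  · intro hb
    have := F2_atBot X G E hG hE ((bdd_atBot_iff E).2 hb)
    unfold HomVan at this
    rw [Filter.eventually_atBot] at this
    exact this
  · intro h
    have h' : HomVan Filter.atBot G E := by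
      unfold HomVan
      rw [Filter.eventually_atBot]
      exact h
    exact (bdd_atBot_iff E).1 (bdd_of_generator Filter.atBot hl_atBot F2_atBot
      (fun Y _ _ U _ hU M hM hb => F3_atBot Y U hU M hM hb) X G hG hgen E hE h')

end Groth.Agent.Lib.Helper25.BddHomPerf
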