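import Groth.Agent.Lib.Helper25.RGammaDetect
import Groth.Agent.Lib.Helper25.QCCEv
import Groth.Agent.Lib.Helper25.DProd
import Groth.Agent.Lib.Helper25.DCohRestrict

/-!
# Cohomology sheaves of an object of `D(O_Y)` are detected by maps from `O_W[-n]`, `W` in a basis (helper25)

`isZero_HD_of_basis`: if `B` is a basis of opens of `Y` and every morphism `O_W[-n] ⟶ C|_W` in `D(O_W)`, `W ∈ B`,
is zero, then `H^n(C) = 0` (K-injective representative; cycles are locally boundaries).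
`isZero_of_basis`: if this holds for all `n` then `C = 0`.
-/

set_option autoImplicit false
universe u
open CategoryTheory CategoryTheory.Limits AlgebraicGeometry Opposite TopologicalSpace

attribute [local instance] HasDerivedCategory.standard

namespace Groth.Agent.Lib.Helper25.DetectBasis

open Groth.Agent.Lib.Helper25.RGammaDetect Groth.Agent.Lib.Helper25.SchKInj
  Groth.Agent.Lib.Helper25.QCCEv Groth.Agent.Lib.helper25.DCohRestrict DerivedCategory
  Scheme.Modules

variable {Y : Scheme.{u}}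

theorem isZero_HD_of_basis (B : Set Y.Opens) (hB : Opens.IsBasis B) (C : DCoh.D Y) (n : ℤ)
    (h : ∀ W ∈ B, ∀ σ : Sp (W : Scheme.{u}) n ⟶ (DCoh.restrictD W.ι).obj C, σ = 0) :
    IsZero (DCoh.HD C n) := by
  obtain ⟨I, a, hI, ha⟩ := hKinj Y (Q.objPreimage C)
  haveI : IsIso (Q.map a) := by rw [isIso_Q_map_iff_quasiIso]; exact ha
  let e : C ≅ Q.obj I := (Q.objObjPreimageIso C).symm ≪≫ asIso (Q.map a)
  refine IsZero.of_iso ?_ ((DerivedCategory.homologyFunctor _ n).mapIso e ≪≫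
    (homologyFunctorFactors Y.Modules n).app I)
  change IsZero (I.homology n)
  apply isZero_homology_of_local
  intro y V hyV s hs
  obtain ⟨W', hWB, hyW, hWV⟩ := Opens.isBasis_iff_nbhd.mp hB hyV
  obtain ⟨W, rfl⟩ : ∃ W : Y.Opens, W = W' := ⟨W', rfl⟩
  have hWW : W.ι ''ᵁ (⊤ : (W : Scheme.{u}).Opens) = W := by simp
  have hW'V : W.ι ''ᵁ (⊤ : (W : Scheme.{u}).Opens) ≤ V := by rw [hWW]; exact hWV
  have hyW' : y ∈ W.ι ''ᵁ (⊤ : (W : Scheme.{u}).Opens) := by rw [hWW]; exact hyW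
  let IW : CochainComplex (W : Scheme.{u}).Modules ℤ := (resCx W.ι).obj I
  haveI : IW.IsKInjective := isKInjective_restrict W I hI
  -- the cycle `s|_W` as a morphism `O_W ⟶ I^n|_W`
  obtain ⟨φ, hφ⟩ := (bijective_eval_one (IW.X n)).2 ((I.X n).presheaf.map (homOfLE hW'V).op s)
  have hφd : φ ≫ IW.d n (n + 1) = 0 := by
    apply (bijective_eval_one (IW.X (n + 1))).1
    change (IW.d n (n + 1)).val.app (op ⊤)
        (φ.val.app (op ⊤) (1 : (W : Scheme.{u}).ringCatSheaf.obj.obj (op ⊤))) =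
      (0 : Coh.structureModule (W : Scheme.{u}) ⟶ IW.X (n + 1)).val.app (op ⊤)
        (1 : (W : Scheme.{u}).ringCatSheaf.obj.obj (op ⊤))
    have hφ' : φ.val.app (op ⊤) (1 : (W : Scheme.{u}).ringCatSheaf.obj.obj (op ⊤)) =
      (I.X n).presheaf.map (homOfLE hW'V).op s := hφ
    rw [hφ']
    have hnat := ((Scheme.Modules.toPresheaf Y).map (I.d n (n + 1))).naturality (homOfLE hW'V).op
    have h2 := ConcreteCategory.congr_hom hnat s
    refine h2.trans ?_
    change (ConcreteCategory.hom ((I.X (n + 1)).presheaf.map (homOfLE hW'V).op))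
      ((Scheme.Modules.Hom.app (I.d n (n + 1)) V).hom s) = _
    rw [hs, map_zero]
    rfl
  -- the chain map `O_W[-n] ⟶ I|_W`
  let σ₀ : (HomologicalComplex.single (W : Scheme.{u}).Modules (ComplexShape.up ℤ) n).obj
      (Coh.structureModule (W : Scheme.{u})) ⟶ IW :=
    HomologicalComplex.mkHomFromSingle φ (fun k hk => by
      obtain rfl : n + 1 = k := hk
      exact hφd)
  -- it vanishes in the derived category
  let iC : (DCoh.restrictD W.ι).obj C ≅ Q.obj IW := (DCoh.restrictD W.ι).mapIso e ≪≫ resDQIso W.ι I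
  let iS : Sp (W : Scheme.{u}) n ≅ Q.obj ((HomologicalComplex.single (W : Scheme.{u}).Modules
      (ComplexShape.up ℤ) n).obj (Coh.structureModule (W : Scheme.{u}))) :=
    (singleFunctorIsoCompQ (W : Scheme.{u}).Modules n).app _
  have hQ : Q.map σ₀ = 0 := by
    have h0 := h W hWB (iS.hom ≫ Q.map σ₀ ≫ iC.inv)
    have h1 : Q.map σ₀ = iS.inv ≫ (iS.hom ≫ Q.map σ₀ ≫ iC.inv) ≫ iC.hom := by simp
    rw [h1, h0, zero_comp, comp_zero]
  obtain ⟨hh⟩ := Groth.Agent.Lib.Helper25.DProd.homotopy_of_Q_map_eq σ₀ 0 (by rw [hQ, Q.map_zero])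
  have hcomm := hh.comm n
  have hd : dNext n hh.hom = 0 := by
    rw [dNext_eq hh.hom (show (ComplexShape.up ℤ).Rel n (n + 1) from rfl)]
    rw [HomologicalComplex.single_obj_d, zero_comp]
  have hp : prevD n hh.hom = hh.hom n (n - 1) ≫ IW.d (n - 1) n :=
    prevD_eq hh.hom (show (ComplexShape.up ℤ).Rel (n - 1) n by simp)
  rw [hd, hp, HomologicalComplex.zero_f, zero_add, add_zero] at hcomm
  rw [HomologicalComplex.mkHomFromSingle_f] at hcomm
  -- the section `t`
  let τ : Coh.structureModule (W : Scheme.{u}) ⟶ IW.X (n - 1) :=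
    (HomologicalComplex.singleObjXSelf (ComplexShape.up ℤ) n
      (Coh.structureModule (W : Scheme.{u}))).inv ≫ hh.hom n (n - 1)
  have hτ : φ = τ ≫ IW.d (n - 1) n := by
    rw [Category.assoc, ← hcomm, Iso.inv_hom_id_assoc]
  refine ⟨W.ι ''ᵁ (⊤ : (W : Scheme.{u}).Opens), hW'V, hyW',
    τ.val.app (op ⊤) (1 : (W : Scheme.{u}).ringCatSheaf.obj.obj (op ⊤)), ?_⟩
  have h3 := congrArg (fun ψ : Coh.structureModule (W : Scheme.{u}) ⟶ IW.X n =>
    ψ.val.app (op ⊤) (1 : (W : Scheme.{u}).ringCatSheaf.obj.obj (op ⊤))) hτ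
  exact h3.symm.trans hφ

/-- an object of `D(O_Y)` receiving no nonzero maps from the `O_W[-n]`, `W` in a basis, is zero -/
theorem isZero_of_basis (B : Set Y.Opens) (hB : Opens.IsBasis B) (C : DCoh.D Y)
    (h : ∀ W ∈ B, ∀ (n : ℤ) (σ : Sp (W : Scheme.{u}) n ⟶ (DCoh.restrictD W.ι).obj C), σ = 0) :
    IsZero C :=
  isZero_of_homology C (fun n => isZero_HD_of_basis B hB C n (fun W hW σ => h W hW n σ))

end Groth.Agent.Lib.Helper25.DetectBasis
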