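import Mathlib
import Groth.Agent.Lib.Helper25.BddFF
import Groth.Agent.Lib.Helper25.QCCRpush
import Groth.Agent.Lib.Helper25.DetectBasis

/-!
# `Rf_*` commutes with direct sums of uniformly bounded below families in `D(O_X)` (helper25)

`f : X ⟶ S` quasi-compact quasi-separated, `K i ∈ D^{≥ n}(O_X)` arbitrary (no quasi-coherence).

* `bijective_comp_theta`: for `V ⊆ S` affine open and `N` perfect on `V`, composition with
  `θ : ∐ Rf_* K_i ⟶ Rf_* ∐ K_i` is bijective on `Hom(j_{V!} N, -)` (`QCCAbstract` + `BddFF.bff_of_isPerfect`).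
* `isIso_theta`, `isIso_sigmaDesc_Rpush` (S11116): the cone of `θ` has no maps from `j_{V!} O_V[-n]`, `V` affine,
  hence vanishes (`DetectBasis.isZero_of_basis`).
-/
set_option autoImplicit false
universe u
open CategoryTheory CategoryTheory.Limits AlgebraicGeometry Opposite
attribute [local instance] HasDerivedCategory.standard

namespace Groth.Agent.Lib.Helper25.BddRpush

open Pretriangulated DerivedCategory TopologicalSpace Scheme.Modules
open Groth.Agent.Lib.Helper25.FinFac Groth.Agent.Lib.Helper25.QCCEv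
  Groth.Agent.Lib.Helper25.QCCPerfect Groth.Agent.Lib.Helper25.HomVanMV
  Groth.Agent.Lib.helper25.DCohRestrict Groth.Agent.Lib.Helper25.BddFF
  Groth.Agent.Lib.Helper25.QCCRpush

variable {X S : Scheme.{u}} (f : X ⟶ S) [QuasiCompact f] [QuasiSeparated f] [DCoh.HasRpush f]
  {ι : Type u} (K : ι → DCoh.D X) (n : ℤ) (hK : ∀ i, (K i).IsGE n)
  {A : DCoh.D X} (g : ∀ i, K i ⟶ A) (hc : IsColimit (Cofan.mk A g))
  {B : DCoh.D S} (g' : ∀ i, (DCoh.Rpush f).obj (K i) ⟶ B) (hc' : IsColimit (Cofan.mk B g'))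
  (θ : B ⟶ (DCoh.Rpush f).obj A) (hθ : ∀ i, g' i ≫ θ = (DCoh.Rpush f).map (g i))

include hK hc hc' hθ in
/-- composition with the comparison map is bijective on `Hom(j_{V!} N, -)`, `N` perfect on an affine open `V` -/
theorem bijective_comp_theta (V : S.Opens) (hV : IsAffineOpen V)
    [PreservesFiniteLimits (CxOX.extZero V.ι)] (N : DCoh.D V) (hN : DCoh.IsPerfect N) :
    Function.Bijective (fun y : (CxOX.extZeroD V.ι).obj N ⟶ B => y ≫ θ) := by
  haveI : IsAffine (V : Scheme.{u}) := hV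
  haveI := additive_Rpush f
  haveI : DCoh.HasRpush (f ∣_ V) := Groth.Agent.Lib.Helper25.SchKInj.hasRpush _
  haveI : DCoh.HasLpull (f ∣_ V) := Groth.Agent.Lib.Helper25.LpullAdapted.hasLpull _
  haveI : CompactSpace ((f ⁻¹ᵁ V : X.Opens) : Scheme.{u}) :=
    QuasiCompact.compactSpace_of_compactSpace (f ∣_ V)
  haveI : QuasiSeparatedSpace ((f ⁻¹ᵁ V : X.Opens) : Scheme.{u}) :=
    quasiSeparatedSpace_of_quasiSeparated (f ∣_ V)
  haveI := Groth.Agent.Lib.Helper25.MVSupp.preservesFiniteLimits_extZero (f ⁻¹ᵁ V)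
  obtain ⟨e⟩ := Groth.Agent.Lib.Helper25.SchKInj.nonempty_Rpush_restrict_iso f V
  let adjV : CxOX.extZeroD V.ι ⊣ DCoh.restrictD V.ι :=
    Groth.Agent.Lib.helper25.DerivedAdj.mapDerivedCategoryAdj (CxOX.extZeroAdj V.ι)
  let adjU : CxOX.extZeroD (f ⁻¹ᵁ V).ι ⊣ DCoh.restrictD (f ⁻¹ᵁ V).ι :=
    Groth.Agent.Lib.helper25.DerivedAdj.mapDerivedCategoryAdj (CxOX.extZeroAdj (f ⁻¹ᵁ V).ι)
  let adjf' : DCoh.Lpull (f ∣_ V) ⊣ DCoh.Rpush (f ∣_ V) :=
    Groth.Agent.Lib.Helper25.LpullRpushAdj.adj (f ∣_ V)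
  let adj2 : DCoh.Lpull (f ∣_ V) ⋙ CxOX.extZeroD (f ⁻¹ᵁ V).ι ⊣
      DCoh.restrictD (f ⁻¹ᵁ V).ι ⋙ DCoh.Rpush (f ∣_ V) := adjf'.comp adjU
  let adj1 : DCoh.Lpull (f ∣_ V) ⋙ CxOX.extZeroD (f ⁻¹ᵁ V).ι ⊣
      DCoh.Rpush f ⋙ DCoh.restrictD V.ι := adj2.ofNatIsoRight e.symm
  refine Groth.Agent.Lib.Helper25.QCCAbstract.bijective_comp_theta (DCoh.Rpush f) g hc g' hc' θ hθ
    adjV adj1 (QX := fun M : DCoh.D X => M.IsGE n) (QS := fun M : DCoh.D S => M.IsGE n)
    (fun M hM => Groth.Agent.Lib.Helper25.HomLocPerf.isGE_Rpush f M n hM) hK N ?_ ?_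
  · exact bff_extZeroD V (bff_of_isPerfect V N hN) n
  · exact bff_extZeroD (f ⁻¹ᵁ V) (bff_of_isPerfect _ _
      (Groth.Agent.Lib.Helper25.LpullPerfect.isPerfect_Lpull (f ∣_ V) N hN)) n

include hK hc hc' hθ in
/-- the comparison map `∐ Rf_* K_i ⟶ Rf_* ∐ K_i` is an isomorphism -/
theorem isIso_theta : IsIso θ := by
  obtain ⟨C, c, d, hT⟩ := distinguished_cocone_triangle θ
  have hC0 : IsZero C := by
    refine Groth.Agent.Lib.Helper25.DetectBasis.isZero_of_basis S.affineOpens S.isBasis_affineOpens C ?_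
    intro V hV m ψ
    haveI := Groth.Agent.Lib.Helper25.MVSupp.preservesFiniteLimits_extZero V
    let adjV : CxOX.extZeroD V.ι ⊣ DCoh.restrictD V.ι :=
      Groth.Agent.Lib.helper25.DerivedAdj.mapDerivedCategoryAdj (CxOX.extZeroAdj V.ι)
    let G := (CxOX.extZeroD V.ι).obj (Sp V m)
    suffices hφ : ∀ φ : G ⟶ C, φ = 0 by
      have h2 := congrArg (adjV.homEquiv _ _) (hφ ((adjV.homEquiv _ _).symm ψ))
      rw [Equiv.apply_symm_apply] at h2
      rw [h2]
      exact homEquiv_zero adjV _ _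
    intro φ
    have hb0 := bijective_comp_theta f K n hK g hc g' hc' θ hθ V hV (Sp V m) (isPerfect_Sp V m)
    have hb1 := bijective_comp_theta f K n hK g hc g' hc' θ hθ V hV ((Sp V m)⟦(-1 : ℤ)⟧)
      (Groth.Agent.Lib.helper25.DCohPerfect.isPerfect_shift (isPerfect_Sp V m) (-1))
    have h1 : φ ≫ d = 0 := by
      let adjS : shiftFunctor (DCoh.D S) (-1 : ℤ) ⊣ shiftFunctor (DCoh.D S) (1 : ℤ) :=
        (shiftEquiv' (DCoh.D S) (-1 : ℤ) 1 (by omega)).toAdjunction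
      let y' : G⟦(-1 : ℤ)⟧ ⟶ B := (adjS.homEquiv G B).symm (φ ≫ d)
      have hy' : y' ≫ θ = 0 := by
        have h3 := adjS.homEquiv_naturality_right_symm (φ ≫ d) θ
        have h4 : (φ ≫ d) ≫ (shiftFunctor (DCoh.D S) (1 : ℤ)).map θ = 0 := by
          rw [Category.assoc]
          have h6 : d ≫ (shiftFunctor (DCoh.D S) (1 : ℤ)).map θ = 0 :=
            comp_distTriang_mor_zero₃₁ _ hT
          rw [h6, comp_zero]
        rw [← h3, h4]
        exact homEquiv_symm_zero adjS _ _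
      let eG : (CxOX.extZeroD V.ι).obj ((Sp V m)⟦(-1 : ℤ)⟧) ≅ G⟦(-1 : ℤ)⟧ :=
        ((CxOX.extZeroD V.ι).commShiftIso (-1 : ℤ)).app (Sp V m)
      have h0 : eG.hom ≫ y' = 0 := hb1.1 (by
        change (eG.hom ≫ y') ≫ θ = 0 ≫ θ
        rw [Category.assoc, hy', comp_zero, zero_comp])
      have hy0 : y' = 0 := by
        rw [← cancel_epi eG.hom, h0, comp_zero]
      have h5 := congrArg (adjS.homEquiv G B) hy0
      rw [Equiv.apply_symm_apply] at h5
      rw [h5]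
      exact homEquiv_zero adjS _ _
    obtain ⟨z, hz⟩ := Triangle.coyoneda_exact₃ _ hT φ h1
    obtain ⟨y, hy⟩ := hb0.2 z
    have h12 : θ ≫ c = 0 := comp_distTriang_mor_zero₁₂ _ hT
    have hz' : φ = z ≫ c := hz
    have hy' : y ≫ θ = z := hy
    exact hz'.trans ((congrArg (fun w => w ≫ c) hy'.symm).trans ((Category.assoc y θ c).trans
      ((congrArg (fun w => y ≫ w) h12).trans comp_zero)))
  exact (Triangle.isZero₃_iff_isIso₁ _ hT).1 hC0

/-- **S11116**: `Rf_*` commutes with direct sums of uniformly bounded below families -/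
theorem isIso_sigmaDesc_Rpush {X S : Scheme.{u}} (f : X ⟶ S) [QuasiCompact f] [QuasiSeparated f]
    [DCoh.HasRpush f] {ι : Type u} (K : ι → DCoh.D X) (n : ℤ) (hK : ∀ i, (K i).IsGE n)
    [HasCoproduct K] [HasCoproduct (fun i => (DCoh.Rpush f).obj (K i))] :
    IsIso (Sigma.desc (fun i => (DCoh.Rpush f).map (Sigma.ι K i))) :=
  isIso_theta f K n hK (Sigma.ι K) (coproductIsCoproduct K)
    (Sigma.ι (fun i => (DCoh.Rpush f).obj (K i))) (coproductIsCoproduct _) _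
    (fun i => Sigma.ι_desc _ i)

end Groth.Agent.Lib.Helper25.BddRpush
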