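import Mathlib
import Groth.Agent.Lib.Helper13.KFlat14
import Groth.Agent.Lib.Helper25.LTensorComp

/-!
# The symmetry of the tensor product of complexes, naturally (helper25)

* `braidCx T β K L : Tot T(K, L) ≅ Tot T(L, K)` for a symmetric bifunctor, `braidCx_naturality`.
* `braidNat G : (- ⊗ G) ≅ (G ⊗ -)` on complexes of modules on a scheme.
-/

set_option autoImplicit false
universe u
open CategoryTheory CategoryTheory.Limits HomologicalComplex

namespace Groth.Agent.Lib.Helper25.BraidCx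

open Groth.Agent.Lib.helper13.KFlat

section General

variable {A : Type*} [Category A] [Abelian A] (T : A ⥤ A ⥤ A) [T.Additive]
  [∀ X₁, (T.obj X₁).Additive]
  [∀ K L : CochainComplex A ℤ, HasMapBifunctor K L T (ComplexShape.up ℤ)] (β : T ≅ T.flip)

/-- the symmetry of total complexes -/
noncomputable def braidCx (K L : CochainComplex A ℤ) :
    mapBifunctor K L T (ComplexShape.up ℤ) ≅ mapBifunctor L K T (ComplexShape.up ℤ) :=
  mapBifunctorNatIso K L (ComplexShape.up ℤ) β ≪≫ mapBifunctorFlipIso L K T (ComplexShape.up ℤ)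

lemma braidCx_naturality {K K' L L' : CochainComplex A ℤ} (φ₁ : K ⟶ K') (φ₂ : L ⟶ L') :
    mapBifunctorMap φ₁ φ₂ T (ComplexShape.up ℤ) ≫ (braidCx T β K' L').hom =
      (braidCx T β K L).hom ≫ mapBifunctorMap φ₂ φ₁ T (ComplexShape.up ℤ) := by
  unfold braidCx
  simp only [Iso.trans_hom]
  have h1 := mapBifunctorNatTrans_naturality (F := T) (F' := T.flip) β.hom (ComplexShape.up ℤ) φ₁ φ₂
  have h2 := mapBifunctorFlipIso_hom_naturality (φ₁ := φ₂) (φ₂ := φ₁) (F := T)
    (c := ComplexShape.up ℤ)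
  change mapBifunctorMap φ₁ φ₂ T (ComplexShape.up ℤ) ≫
      mapBifunctorNatTrans K' L' β.hom (ComplexShape.up ℤ) ≫ _ =
    (mapBifunctorNatTrans K L β.hom (ComplexShape.up ℤ) ≫ _) ≫ _
  rw [← Category.assoc, h1, Category.assoc, h2, Category.assoc]

end General

open AlgebraicGeometry Groth.Agent.Lib.Helper25.LTensorComp

variable {X : Scheme.{u}}

/-- `P ⊗ G ≅ G ⊗ P`, naturally in `P` -/
noncomputable def braidNat (G : CochainComplex X.Modules ℤ) :
    tR G ≅ (DCoh.tensorCx (X := X)).obj G :=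
  NatIso.ofComponents
    (fun P => braidCx (DCoh.tensorBi (X := X)) (tensorBiBraiding X.sheaf) P G)
    (fun {P P'} g => braidCx_naturality (DCoh.tensorBi (X := X)) (tensorBiBraiding X.sheaf) g (𝟙 G))

end Groth.Agent.Lib.Helper25.BraidCx
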