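import Mathlib
import Groth.Agent.Lib.Helper25.QCCEv
import Groth.Agent.Lib.Helper8.PullbackUnit2
import Groth.Agent.Lib.Helper8.FlatBC

/-!
# Flat base change on affine schemes: preliminaries (helper25)

* `homologyNatIso F n : F.mapDerivedCategory ⋙ H^n ≅ H^n ⋙ F` for an exact functor `F`.
* `IsUniv N s`: the section `s ∈ Γ(N, ⊤)` represents `Γ(⊤, -)` on `O`-modules; `isUniv_one`, `IsUniv.of_iso`,
  `IsUniv.isIso_of_map`, `IsUniv.pull` (`ρ m` is universal for `h^* M` if `m` is for `M`).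
* `ρt h M : Γ(M, ⊤) →+ Γ(h^* M, ⊤)` and `ρt_naturality`.
-/

set_option autoImplicit false
universe w₁ w₂ v₁ v₂ u₁ u₂ u
open CategoryTheory AlgebraicGeometry Opposite

namespace Groth.Agent.Lib.Helper25.FBCBase

section homology

open DerivedCategory

variable {C₁ : Type u₁} [Category.{v₁} C₁] [Abelian C₁] [HasDerivedCategory.{w₁} C₁]
  {C₂ : Type u₂} [Category.{v₂} C₂] [Abelian C₂] [HasDerivedCategory.{w₂} C₂]
  (F : C₁ ⥤ C₂) [F.Additive] [Limits.PreservesFiniteLimits F] [Limits.PreservesFiniteColimits F]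

/-- an exact functor commutes with the homology of complexes, naturally -/
noncomputable def homologyIsoCx (n : ℤ) :
    F.mapHomologicalComplex (ComplexShape.up ℤ) ⋙ HomologicalComplex.homologyFunctor C₂ _ n ≅
      HomologicalComplex.homologyFunctor C₁ _ n ⋙ F :=
  NatIso.ofComponents (fun K => (K.sc n).mapHomologyIso F)
    (fun f => ShortComplex.mapHomologyIso_hom_naturality
      ((HomologicalComplex.shortComplexFunctor C₁ (ComplexShape.up ℤ) n).map f) F)

/-- an exact functor commutes with the homology functors of the derived categories -/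
noncomputable def homologyNatIso (n : ℤ) :
    F.mapDerivedCategory ⋙ DerivedCategory.homologyFunctor C₂ n ≅
      DerivedCategory.homologyFunctor C₁ n ⋙ F :=
  letI : Localization.Lifting Q (HomologicalComplex.quasiIso C₁ (ComplexShape.up ℤ))
      (F.mapHomologicalComplex (ComplexShape.up ℤ) ⋙ Q ⋙ DerivedCategory.homologyFunctor C₂ n)
      (F.mapDerivedCategory ⋙ DerivedCategory.homologyFunctor C₂ n) :=
    ⟨(Functor.associator _ _ _).symm ≪≫
      Functor.isoWhiskerRight F.mapDerivedCategoryFactors _ ≪≫ Functor.associator _ _ _⟩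
  letI : Localization.Lifting Q (HomologicalComplex.quasiIso C₁ (ComplexShape.up ℤ))
      ((Q ⋙ DerivedCategory.homologyFunctor C₁ n) ⋙ F)
      (DerivedCategory.homologyFunctor C₁ n ⋙ F) :=
    ⟨(Functor.associator _ _ _).symm⟩
  Localization.liftNatIso Q (HomologicalComplex.quasiIso C₁ (ComplexShape.up ℤ))
    (F.mapHomologicalComplex (ComplexShape.up ℤ) ⋙ Q ⋙ DerivedCategory.homologyFunctor C₂ n)
    ((Q ⋙ DerivedCategory.homologyFunctor C₁ n) ⋙ F) _ _
    (Functor.isoWhiskerLeft _ (homologyFunctorFactors C₂ n) ≪≫ homologyIsoCx F n ≪≫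
      Functor.isoWhiskerRight (homologyFunctorFactors C₁ n).symm F)

end homology

section univ

variable {Z : Scheme.{u}}

/-- `s ∈ Γ(N, ⊤)` represents the global sections functor -/
def IsUniv (N : Z.Modules) (s : N.val.obj (op ⊤)) : Prop :=
  ∀ A : Z.Modules, Function.Bijective (fun φ : N ⟶ A => φ.val.app (op ⊤) s)

lemma isUniv_one : IsUniv (Coh.structureModule Z) (1 : Z.ringCatSheaf.obj.obj (op ⊤)) :=
  fun A => Groth.Agent.Lib.Helper25.QCCEv.bijective_eval_one A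

lemma IsUniv.of_iso {N N' : Z.Modules} {s : N.val.obj (op ⊤)} (h : IsUniv N s) (e : N ≅ N') :
    IsUniv N' (e.hom.val.app (op ⊤) s) := by
  intro A
  have h1 : Function.Bijective (fun φ' : N' ⟶ A => e.hom ≫ φ') :=
    ⟨fun a b hab => (cancel_epi e.hom).1 hab, fun φ => ⟨e.inv ≫ φ, by simp⟩⟩
  exact (h A).comp h1

lemma IsUniv.isIso_of_map {N N' : Z.Modules} {s : N.val.obj (op ⊤)} {s' : N'.val.obj (op ⊤)}
    (h : IsUniv N s) (h' : IsUniv N' s') (a : N ⟶ N') (ha : a.val.app (op ⊤) s = s') : IsIso a := by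
  obtain ⟨b, hb⟩ := (h' N).2 s
  have hb' : b.val.app (op ⊤) s' = s := hb
  refine ⟨b, ?_, ?_⟩
  · apply (h N).1
    show (a ≫ b).val.app (op ⊤) s = (𝟙 N : N ⟶ N).val.app (op ⊤) s
    have e1 : (a ≫ b).val.app (op ⊤) s = b.val.app (op ⊤) (a.val.app (op ⊤) s) := rfl
    rw [e1, ha, hb']
    rfl
  · apply (h' N').1
    show (b ≫ a).val.app (op ⊤) s' = (𝟙 N' : N' ⟶ N').val.app (op ⊤) s'
    have e1 : (b ≫ a).val.app (op ⊤) s' = a.val.app (op ⊤) (b.val.app (op ⊤) s') := rfl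
    rw [e1, hb', ha]
    rfl

end univ

section rho

open Scheme.Modules Groth.Agent.Lib.helper8.PullbackUnit

variable {Y' Y : Scheme.{u}} (h : Y' ⟶ Y)

/-- the pullback of global sections -/
noncomputable def ρt (M : Y.Modules) : Γ(M, ⊤) →+ Γ((pullback h).obj M, ⊤) :=
  ρ h (le_top : (⊤ : Y'.Opens) ≤ h ⁻¹ᵁ ⊤) M

lemma ρt_naturality {M M' : Y.Modules} (φ : M ⟶ M') (m : Γ(M, ⊤)) :
    (((pullback h).map φ).app ⊤).hom (ρt h M m) = ρt h M' ((φ.app ⊤).hom m) := by
  have h1 := app_ρ h (le_top : (⊤ : Y'.Opens) ≤ h ⁻¹ᵁ ⊤) (A := M) (B := (pullback h).obj M')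
    (φ ≫ (pullbackPushforwardAdjunction h).unit.app M') m
  have h2 : ((pullbackPushforwardAdjunction h).homEquiv M ((pullback h).obj M')).symm
      (φ ≫ (pullbackPushforwardAdjunction h).unit.app M') = (pullback h).map φ := by
    rw [Equiv.symm_apply_eq, Adjunction.homEquiv_unit]
    exact ((pullbackPushforwardAdjunction h).unit.naturality φ)
  rw [h2] at h1
  exact h1

/-- `ρ m` is universal for `h^* M` if `m` is universal for `M` -/
lemma IsUniv.pull {M : Y.Modules} {m : M.val.obj (op ⊤)} (hm : IsUniv M m) :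
    IsUniv ((pullback h).obj M) (ρt h M m) := by
  intro A'
  let adj := pullbackPushforwardAdjunction h
  have hres : Function.Bijective (fun t : Γ(A', h ⁻¹ᵁ ⊤) =>
      (A'.presheaf.map (homOfLE (le_top : (⊤ : Y'.Opens) ≤ h ⁻¹ᵁ ⊤)).op).hom t) := by
    have e1 : A'.presheaf.map (homOfLE (le_top : (⊤ : Y'.Opens) ≤ h ⁻¹ᵁ ⊤)).op ≫
        A'.presheaf.map (homOfLE (le_top : h ⁻¹ᵁ ⊤ ≤ (⊤ : Y'.Opens))).op = 𝟙 _ := by
      rw [← Functor.map_comp, ← A'.presheaf.map_id]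
      rfl
    have e2 : A'.presheaf.map (homOfLE (le_top : h ⁻¹ᵁ ⊤ ≤ (⊤ : Y'.Opens))).op ≫
        A'.presheaf.map (homOfLE (le_top : (⊤ : Y'.Opens) ≤ h ⁻¹ᵁ ⊤)).op = 𝟙 _ := by
      rw [← Functor.map_comp, ← A'.presheaf.map_id]
      rfl
    refine ⟨fun a b hab => ?_, fun t => ⟨(A'.presheaf.map (homOfLE (le_top : h ⁻¹ᵁ ⊤ ≤ (⊤ : Y'.Opens))).op).hom t, ?_⟩⟩
    · have h5 := congrArg (fun z => (A'.presheaf.map (homOfLE (le_top : h ⁻¹ᵁ ⊤ ≤ (⊤ : Y'.Opens))).op).hom z) hab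
      have h6 : ∀ z, (A'.presheaf.map (homOfLE (le_top : h ⁻¹ᵁ ⊤ ≤ (⊤ : Y'.Opens))).op).hom
          ((A'.presheaf.map (homOfLE (le_top : (⊤ : Y'.Opens) ≤ h ⁻¹ᵁ ⊤)).op).hom z) = z :=
        fun z => congr($(e1).hom z)
      simp only [h6] at h5
      exact h5
    · exact congr($(e2).hom t)
  have h3 : (fun φ' : (pullback h).obj M ⟶ A' => φ'.val.app (op ⊤) (ρt h M m)) =
      (fun t : Γ(A', h ⁻¹ᵁ ⊤) =>
        (A'.presheaf.map (homOfLE (le_top : (⊤ : Y'.Opens) ≤ h ⁻¹ᵁ ⊤)).op).hom t) ∘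
      (fun v : M ⟶ (pushforward h).obj A' => v.val.app (op ⊤) m) ∘ (adj.homEquiv M A') := by
    funext φ'
    have h4 := app_ρ h (le_top : (⊤ : Y'.Opens) ≤ h ⁻¹ᵁ ⊤) (A := M) (B := A')
      (adj.homEquiv M A' φ') m
    rw [Equiv.symm_apply_apply] at h4
    exact h4
  rw [h3]
  exact hres.comp ((hm ((pushforward h).obj A')).comp (adj.homEquiv M A').bijective)

end rho

end Groth.Agent.Lib.Helper25.FBCBase
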