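import Mathlib
import Groth.Agent.Lib.Helper25.RelPC
import Groth.Agent.Lib.Helper25.FBCBase1
import Groth.Agent.Lib.Helper11.PullUnit2

/-!
# helper25: direct image along a closed immersion and restriction to opens (functorial base change)

* `pushRestrictNatIso f V : f_* ⋙ (-)|_V ≅ (-)|_{f⁻¹V} ⋙ (f|_V)_*` (any morphism `f`).
* `pushRestrictDIso i W`: the same on derived categories, for a closed immersion `i`.
* `pushD i`: the derived direct image along a closed immersion (`i_*` is exact); `pushDQIso`, `homologyPushDIso`.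
-/

set_option autoImplicit false
universe w₁ w₂ w₂' w₃ v₁ v₂ v₂' v₃ u₁ u₂ u₂' u₃ u
open CategoryTheory CategoryTheory.Limits AlgebraicGeometry Opposite
open Scheme.Modules

attribute [local instance] HasDerivedCategory.standard

namespace Groth.Agent.Lib.Helper25.ClPush

open Groth.Agent.Lib.helper11.PullUnit

variable {X S : Scheme.{u}}

/-- `(f_* M)|_V ≅ (f|_V)_* (M|_{f⁻¹V})`, naturally in `M` -/
noncomputable def pushRestrictNatIso (f : X ⟶ S) (V : S.Opens) :
    pushforward f ⋙ restrictFunctor V.ι ≅ restrictFunctor (f ⁻¹ᵁ V).ι ⋙ pushforward (f ∣_ V) :=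
  NatIso.ofComponents (fun M => restrictPushforwardIso f V M) (by
    intro M M' φ
    dsimp only [restrictPushforwardIso, Functor.comp_obj, Functor.comp_map, Iso.trans_hom, asIso_hom,
      Functor.mapIso_hom, Iso.app_hom]
    have h1 := (restrictAdjunction (f ⁻¹ᵁ V).ι).unit.naturality φ
    have h2 := (pushRho f V).hom.naturality ((restrictFunctor (f ⁻¹ᵁ V).ι).map φ)
    have h3 := (restrictAdjunction V.ι).counit.naturality
      ((pushforward (f ∣_ V)).map ((restrictFunctor (f ⁻¹ᵁ V).ι).map φ))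
    simp only [Functor.id_map, Functor.comp_map, Functor.id_obj, Functor.comp_obj] at h1 h2 h3
    have e1 : (restrictFunctor V.ι).map ((pushforward f).map φ) ≫
        (restrictFunctor V.ι).map ((pushforward f).map ((restrictAdjunction (f ⁻¹ᵁ V).ι).unit.app M')) =
        (restrictFunctor V.ι).map ((pushforward f).map ((restrictAdjunction (f ⁻¹ᵁ V).ι).unit.app M)) ≫
          (restrictFunctor V.ι).map ((pushforward f).map
            ((pushforward (f ⁻¹ᵁ V).ι).map ((restrictFunctor (f ⁻¹ᵁ V).ι).map φ))) := by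
      rw [← Functor.map_comp, ← Functor.map_comp, h1, Functor.map_comp, Functor.map_comp]
    have e2 : (restrictFunctor V.ι).map ((pushforward f).map
          ((pushforward (f ⁻¹ᵁ V).ι).map ((restrictFunctor (f ⁻¹ᵁ V).ι).map φ))) ≫
        (restrictFunctor V.ι).map ((pushRho f V).hom.app ((restrictFunctor (f ⁻¹ᵁ V).ι).obj M')) =
        (restrictFunctor V.ι).map ((pushRho f V).hom.app ((restrictFunctor (f ⁻¹ᵁ V).ι).obj M)) ≫
          (restrictFunctor V.ι).map ((pushforward V.ι).map
            ((pushforward (f ∣_ V)).map ((restrictFunctor (f ⁻¹ᵁ V).ι).map φ))) := by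
      rw [← Functor.map_comp, h2, Functor.map_comp]
    simp only [Category.assoc]
    rw [reassoc_of% e1, reassoc_of% e2, h3])


section general

open DerivedCategory

variable {C₁ : Type u₁} [Category.{v₁} C₁] [Abelian C₁] [HasDerivedCategory.{w₁} C₁]
  {C₂ : Type u₂} [Category.{v₂} C₂] [Abelian C₂] [HasDerivedCategory.{w₂} C₂]
  {C₂' : Type u₂'} [Category.{v₂'} C₂'] [Abelian C₂'] [HasDerivedCategory.{w₂'} C₂']
  {C₃ : Type u₃} [Category.{v₃} C₃] [Abelian C₃] [HasDerivedCategory.{w₃} C₃]
  (F : C₁ ⥤ C₂) (G : C₂ ⥤ C₃) (F' : C₁ ⥤ C₂') (G' : C₂' ⥤ C₃)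
  [F.Additive] [PreservesFiniteLimits F] [PreservesFiniteColimits F]
  [G.Additive] [PreservesFiniteLimits G] [PreservesFiniteColimits G]
  [F'.Additive] [PreservesFiniteLimits F'] [PreservesFiniteColimits F']
  [G'.Additive] [PreservesFiniteLimits G'] [PreservesFiniteColimits G']

/-- `Q ⋙ (DF ⋙ DG) ≅ (F_* ⋙ G_*) ⋙ Q` -/
noncomputable def compFactors :
    Q ⋙ (F.mapDerivedCategory ⋙ G.mapDerivedCategory) ≅
      (F.mapHomologicalComplex (ComplexShape.up ℤ) ⋙ G.mapHomologicalComplex (ComplexShape.up ℤ)) ⋙ Q :=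
  (Functor.associator _ _ _).symm ≪≫ Functor.isoWhiskerRight F.mapDerivedCategoryFactors _ ≪≫
    Functor.associator _ _ _ ≪≫ Functor.isoWhiskerLeft _ G.mapDerivedCategoryFactors ≪≫
    (Functor.associator _ _ _).symm

/-- an isomorphism between composites of exact functors induces an isomorphism between the composites of the
induced functors on derived categories -/
noncomputable def mapDerivedCategoryCompIso (e : F ⋙ G ≅ F' ⋙ G') :
    F.mapDerivedCategory ⋙ G.mapDerivedCategory ≅ F'.mapDerivedCategory ⋙ G'.mapDerivedCategory :=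
  letI : Localization.Lifting Q (HomologicalComplex.quasiIso C₁ (ComplexShape.up ℤ))
      ((F.mapHomologicalComplex (ComplexShape.up ℤ) ⋙ G.mapHomologicalComplex (ComplexShape.up ℤ)) ⋙ Q)
      (F.mapDerivedCategory ⋙ G.mapDerivedCategory) := ⟨compFactors F G⟩
  letI : Localization.Lifting Q (HomologicalComplex.quasiIso C₁ (ComplexShape.up ℤ))
      ((F'.mapHomologicalComplex (ComplexShape.up ℤ) ⋙ G'.mapHomologicalComplex (ComplexShape.up ℤ)) ⋙ Q)
      (F'.mapDerivedCategory ⋙ G'.mapDerivedCategory) := ⟨compFactors F' G'⟩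
  Localization.liftNatIso Q (HomologicalComplex.quasiIso C₁ (ComplexShape.up ℤ))
    ((F.mapHomologicalComplex (ComplexShape.up ℤ) ⋙ G.mapHomologicalComplex (ComplexShape.up ℤ)) ⋙ Q)
    ((F'.mapHomologicalComplex (ComplexShape.up ℤ) ⋙ G'.mapHomologicalComplex (ComplexShape.up ℤ)) ⋙ Q) _ _
    (Functor.isoWhiskerRight (Functor.mapHomologicalComplexCompIso (Iso.refl (F ⋙ G)) (ComplexShape.up ℤ) ≪≫
      NatIso.mapHomologicalComplex e (ComplexShape.up ℤ) ≪≫
      (Functor.mapHomologicalComplexCompIso (Iso.refl (F' ⋙ G')) (ComplexShape.up ℤ)).symm) Q)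

end general

section closed

variable {Z X : Scheme.{u}} (i : Z ⟶ X) [IsClosedImmersion i]

attribute [local instance] Groth.Agent.Lib.Helper25.RelPC.preservesFiniteLimits_push
  Groth.Agent.Lib.Helper25.RelPC.preservesFiniteColimits_push

/-- derived direct image along a closed immersion -/
noncomputable abbrev pushD : DCoh.D Z ⥤ DCoh.D X := (pushforward i).mapDerivedCategory

/-- base change to opens for the derived direct image along a closed immersion -/
noncomputable def pushRestrictDIso (W : X.Opens) :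
    pushD i ⋙ DCoh.restrictD W.ι ≅ DCoh.restrictD (i ⁻¹ᵁ W).ι ⋙ pushD (i ∣_ W) :=
  mapDerivedCategoryCompIso _ _ _ _ (pushRestrictNatIso i W)

/-- `H^n (i_* E) ≅ i_* H^n(E)` -/
noncomputable def homologyPushDIso (E : DCoh.D Z) (n : ℤ) :
    DCoh.HD ((pushD i).obj E) n ≅ (pushforward i).obj (DCoh.HD E n) :=
  (Groth.Agent.Lib.Helper25.FBCBase.homologyNatIso (pushforward i) n).app E

end closed

end Groth.Agent.Lib.Helper25.ClPush
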