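import Mathlib
import Groth.Agent.Lib.Helper25.ClPush1
import Groth.Agent.Lib.Helper25.NiceInduction
import Groth.Agent.Lib.Helper25.PerfectTor
import Groth.Agent.Lib.Helper25.TildePerfect
import Groth.Agent.Lib.Helper25.HomVanQcqs

/-!
# helper25: direct image of pseudo-coherent objects along a closed immersion with `i_* O_Z` pseudo-coherent

* `isPseudoCoherentD_biprod`, `isPseudoCoherentD_sigma_fin`: finite direct sums of `m`-pseudo-coherent objects.
* `exists_open_preimage_le`: neighbourhoods in `Z` contain traces of neighbourhoods in `X`.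
* `hO_restrict`: the hypothesis "`i_* O_Z` pseudo-coherent" restricts to opens of `X`.
* `pc_pushD_of_nice`, `pc_pushD_of_strictlyPerfect`, `pc_pushD_of_pc` (direction `⇒` of S1102).
-/

set_option autoImplicit false
universe u
open CategoryTheory CategoryTheory.Limits AlgebraicGeometry Opposite
open Scheme.Modules

attribute [local instance] HasDerivedCategory.standard

namespace Groth.Agent.Lib.Helper25.ClPush

open Groth.Agent.Lib.helper25.DCohRestrict Groth.Agent.Lib.helper25.DCohPerfect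
  Groth.Agent.Lib.helper25.DCohPC Groth.Agent.Lib.helper25.DCohPC2 Groth.Agent.Lib.helper25.DCohPC3
  Groth.Agent.Lib.helper25.DCohPC4 Groth.Agent.Lib.Helper25.HomVanNice

section sums

variable {X : Scheme.{u}}

lemma isPseudoCoherentD_biprod {m : ℤ} {A B : DCoh.D X} (hA : DCoh.IsPseudoCoherentD m A)
    (hB : DCoh.IsPseudoCoherentD m B) : DCoh.IsPseudoCoherentD m (A ⊞ B) :=
  (isPseudoCoherentD_triangle m _ (Pretriangulated.binaryBiproductTriangle_distinguished A B)).2.1 hA hB

lemma isPseudoCoherentD_of_isZero {m : ℤ} {A : DCoh.D X} (hA : IsZero A) : DCoh.IsPseudoCoherentD m A :=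
  isPseudoCoherentD_of_pcData_global
    (pcData_of_isZero_homology (fun i _ => (DerivedCategory.homologyFunctor _ i).map_isZero hA))

lemma isPseudoCoherentD_sigma_fin {m : ℤ} : ∀ (r : ℕ) (B : Fin r → DCoh.D X),
    (∀ j, DCoh.IsPseudoCoherentD m (B j)) → DCoh.IsPseudoCoherentD m (∐ B)
  | 0, B, _ => by
    refine isPseudoCoherentD_of_isZero ?_
    rw [IsZero.iff_id_eq_zero]
    exact Sigma.hom_ext _ _ (fun j => j.elim0)
  | r + 1, B, h => by
    have ih := isPseudoCoherentD_sigma_fin r (fun j => B j.succ) (fun j => h j.succ)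
    let c₁ : Cofan (fun j : Fin r => B j.succ) := Cofan.mk _ (Sigma.ι (fun j : Fin r => B j.succ))
    have hc₁ : IsColimit c₁ := coproductIsCoproduct _
    let c₂ : BinaryCofan (B 0) c₁.pt := BinaryCofan.mk coprod.inl coprod.inr
    have hc₂ : IsColimit c₂ := coprodIsCoprod _ _
    have hc := extendCofanIsColimit B hc₁ hc₂
    have e : ∐ B ≅ B 0 ⨿ ∐ (fun j : Fin r => B j.succ) :=
      (coproductIsCoproduct B).coconePointUniqueUpToIso hc
    exact isPseudoCoherentD_of_iso (e ≪≫ (biprod.isoCoprod _ _).symm).symm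
      (isPseudoCoherentD_biprod (h 0) ih)

end sums


section closed

variable {Z X : Scheme.{u}} (i : Z ⟶ X) [IsClosedImmersion i]

attribute [local instance] Groth.Agent.Lib.Helper25.RelPC.preservesFiniteLimits_push
  Groth.Agent.Lib.Helper25.RelPC.preservesFiniteColimits_push

/-- the hypothesis on `i`: `i_* O_Z` is pseudo-coherent -/
def HO : Prop := ∀ m : ℤ, DCoh.IsPseudoCoherentD m (DCoh.inD X ((pushforward i).obj (Coh.structureModule Z)))

lemma exists_open_preimage_le (V₀ : Z.Opens) (z : Z) (hz : z ∈ V₀) :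
    ∃ W : X.Opens, i z ∈ W ∧ i ⁻¹ᵁ W ≤ V₀ := by
  have hemb : Topology.IsEmbedding i.base := i.isClosedEmbedding.isEmbedding
  obtain ⟨t, ht, hV⟩ := hemb.isInducing.isOpen_iff.1 V₀.2
  refine ⟨⟨t, ht⟩, ?_, ?_⟩
  · have : z ∈ i.base ⁻¹' t := by rw [hV]; exact hz
    exact this
  · intro y hy
    have : y ∈ i.base ⁻¹' t := hy
    rw [hV] at this
    exact this

/-- `(inD M)|_W ≅ inD (M|_W)` -/
noncomputable def restrictInDIso (W : X.Opens) (M : X.Modules) :
    (DCoh.restrictD W.ι).obj (DCoh.inD X M) ≅ DCoh.inD W ((restrictFunctor W.ι).obj M) :=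
  ((restrictFunctor W.ι).mapDerivedCategorySingleFunctor 0).app M

omit [IsClosedImmersion i] in
variable {i} in
lemma hO_restrict (hO : HO i) (W : X.Opens) : HO (i ∣_ W) := by
  intro m
  have h1 := Groth.Agent.Lib.helper25.PerfectTor.isPseudoCoherentD_restrictD (hO m) W
  refine isPseudoCoherentD_of_iso (restrictInDIso W _ ≪≫
    (DerivedCategory.singleFunctor _ 0).mapIso ((pushRestrictNatIso i W).app _ ≪≫
      (pushforward (i ∣_ W)).mapIso (restrictUnitIso (i ⁻¹ᵁ W).ι))) h1

variable {i} in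
lemma pc_inD_push_free (hO : HO i) (r : ℕ) (m : ℤ) :
    DCoh.IsPseudoCoherentD m (DCoh.inD X ((pushforward i).obj (FlatMod.freeMod Z r))) := by
  have e1 : (pushforward i).obj (∐ fun _ : Fin r => Coh.structureModule Z) ≅
      ∐ fun _ : Fin r => (pushforward i).obj (Coh.structureModule Z) :=
    PreservesCoproduct.iso (pushforward i) _
  have e2 : DCoh.inD X (∐ fun _ : Fin r => (pushforward i).obj (Coh.structureModule Z)) ≅
      ∐ fun _ : Fin r => DCoh.inD X ((pushforward i).obj (Coh.structureModule Z)) :=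
    PreservesCoproduct.iso (DerivedCategory.singleFunctor X.Modules 0) _
  exact isPseudoCoherentD_of_iso ((DerivedCategory.singleFunctor X.Modules 0).mapIso e1 ≪≫ e2).symm
    (isPseudoCoherentD_sigma_fin r _ (fun _ => hO m))

variable {i} in
/-- the direct image of a bounded complex of free modules of finite rank is pseudo-coherent -/
theorem pc_pushD_of_nice (hO : HO i) {A : DCoh.D Z} {c : ℤ} (hA : Nice Z A c) (m : ℤ) :
    DCoh.IsPseudoCoherentD m ((pushD i).obj A) := by
  revert m
  refine Groth.Agent.Lib.Helper25.NiceInduction.of_nice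
    (fun A => ∀ m : ℤ, DCoh.IsPseudoCoherentD m ((pushD i).obj A)) ?_ ?_ ?_ ?_ hA
  · intro P P' e h m
    exact isPseudoCoherentD_of_iso ((pushD i).mapIso e) (h m)
  · intro P hP m
    exact isPseudoCoherentD_of_isZero ((pushD i).map_isZero hP)
  · intro T hT h1 h3 m
    exact (isPseudoCoherentD_triangle m _ ((pushD i).map_distinguished T hT)).2.1 (h1 m) (h3 m)
  · intro a M r e m
    have e1 : (pushD i).obj ((DerivedCategory.singleFunctor Z.Modules a).obj M) ≅
        (DerivedCategory.singleFunctor X.Modules a).obj ((pushforward i).obj (FlatMod.freeMod Z r)) :=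
      ((pushforward i).mapDerivedCategorySingleFunctor a).app M ≪≫
        (DerivedCategory.singleFunctor X.Modules a).mapIso ((pushforward i).mapIso e)
    have e2 : (DerivedCategory.singleFunctor X.Modules a).obj ((pushforward i).obj (FlatMod.freeMod Z r)) ≅
        (DCoh.inD X ((pushforward i).obj (FlatMod.freeMod Z r)))⟦-a⟧ :=
      (((DerivedCategory.singleFunctors X.Modules).shiftIso (-a) a 0 (by omega)).app _).symm
    exact isPseudoCoherentD_of_iso (e1 ≪≫ e2).symm
      (isPseudoCoherentD_shift (pc_inD_push_free hO r (m + -a)) (-a) m rfl)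

variable {i} in
/-- near points outside the image, the direct image vanishes -/
lemma pc_pushD_restrict_of_disjoint (A : DCoh.D Z) (W : X.Opens) (hW : ∀ z : Z, i z ∉ W) (m : ℤ) :
    DCoh.IsPseudoCoherentD m ((DCoh.restrictD W.ι).obj ((pushD i).obj A)) := by
  have : IsEmpty ↥((i ⁻¹ᵁ W : Z.Opens) : Scheme.{u}) := ⟨fun z => hW z.1 z.2⟩
  have hz : IsZero ((DCoh.restrictD (i ⁻¹ᵁ W).ι).obj A) :=
    Groth.Agent.Lib.Helper25.HomVanQcqs.isZero_of_isEmpty _
  exact isPseudoCoherentD_of_iso ((pushRestrictDIso i W).app A).symm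
    (isPseudoCoherentD_of_isZero ((pushD (i ∣_ W)).map_isZero hz))

variable {i} in
/-- pseudo-coherence of a direct image may be checked on the traces of opens of `X` meeting `Z` -/
theorem pc_pushD_of_local (E : DCoh.D Z) (m : ℤ)
    (h : ∀ z : Z, ∃ W : X.Opens, i z ∈ W ∧
      DCoh.IsPseudoCoherentD m ((pushD (i ∣_ W)).obj ((DCoh.restrictD (i ⁻¹ᵁ W).ι).obj E))) :
    DCoh.IsPseudoCoherentD m ((pushD i).obj E) := by
  refine isPseudoCoherentD_of_restrict (fun x => ?_)
  by_cases hx : x ∈ Set.range i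
  · obtain ⟨z, rfl⟩ := hx
    obtain ⟨W, hzW, hW⟩ := h z
    exact ⟨W, hzW, isPseudoCoherentD_of_iso ((pushRestrictDIso i W).app E).symm hW⟩
  · let W : X.Opens := ⟨(Set.range i)ᶜ, i.isClosedEmbedding.isClosed_range.isOpen_compl⟩
    exact ⟨W, hx, pc_pushD_restrict_of_disjoint E W (fun z hz => hz ⟨z, rfl⟩) m⟩

variable {i} in
/-- the direct image of a strictly perfect complex is pseudo-coherent -/
theorem pc_pushD_of_strictlyPerfect (hO : HO i) {P : CochainComplex Z.Modules ℤ}
    (hP : DCoh.IsStrictlyPerfect P) (m : ℤ) :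
    DCoh.IsPseudoCoherentD m ((pushD i).obj (DerivedCategory.Q.obj P)) := by
  refine pc_pushD_of_local _ m (fun z => ?_)
  have hperf : DCoh.IsPerfect (DerivedCategory.Q.obj P) :=
    Groth.Agent.Lib.Helper25.TildePerfect.isPerfect_Q_of_isStrictlyPerfect P hP
  obtain ⟨U, c, hzU, -, hnice⟩ := exists_nice_nhd (DerivedCategory.Q.obj P) hperf z
  obtain ⟨W, hzW, hWU⟩ := exists_open_preimage_le i U z hzU
  refine ⟨W, hzW, pc_pushD_of_nice (hO_restrict hO W) (c := c) ?_ m⟩
  refine nice_of_range_subset (i ⁻¹ᵁ W).ι U.ι ?_ _ hnice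
  rw [Scheme.Opens.range_ι, Scheme.Opens.range_ι]
  exact hWU

variable {i} in
/-- **direction `⇒`**: the direct image of an `m`-pseudo-coherent object is `m`-pseudo-coherent -/
theorem pc_pushD_of_pc (hO : HO i) (E : DCoh.D Z) (m : ℤ) (hE : DCoh.IsPseudoCoherentD m E) :
    DCoh.IsPseudoCoherentD m ((pushD i).obj E) := by
  refine pc_pushD_of_local _ m (fun z => ?_)
  obtain ⟨V₀, hzV₀, hd⟩ := exists_pcData hE z
  obtain ⟨W, hzW, hWV⟩ := exists_open_preimage_le i V₀ z hzV₀
  refine ⟨W, hzW, ?_⟩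
  obtain ⟨P, α, hP, h1, h2⟩ := pcData_of_le E hWV hd
  obtain ⟨C, β, γ, hT⟩ := Pretriangulated.distinguished_cocone_triangle α
  have hT' := (pushD (i ∣_ W)).map_distinguished _ hT
  refine (isPseudoCoherentD_triangle m _ hT').2.1 (pc_pushD_of_strictlyPerfect (hO_restrict hO W) hP m) ?_
  refine isPseudoCoherentD_of_pcData_global (pcData_of_isZero_homology (fun j hj => ?_))
  refine IsZero.of_iso ((pushforward (i ∣_ W)).map_isZero ?_) (homologyPushDIso (i ∣_ W) C j)
  exact (Groth.Agent.Lib.helper25.IsoAbove.isoAbove_iff_cone _ hT m).1 ⟨h1, h2⟩ j hj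

end closed

end Groth.Agent.Lib.Helper25.ClPush
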