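import Mathlib
import Groth.Agent.Lib.Helper25.ClPush2
import Groth.Agent.Lib.Helper25.FLFCycles
import Groth.Agent.S0890
import Groth.Agent.S0933

/-!
# helper25: pseudo-coherence descends along a closed immersion with `i_* O_Z` pseudo-coherent (direction `⇐` of S1102)

* `exists_flf_epi_top`: a `b`-pseudo-coherent object with `H^j = 0` for `j > b` admits, locally, an epimorphism from a
  finite locally free module onto `H^b`.
* `epi_adjoint`: for a closed immersion, the adjoint of an epimorphism `L ⟶ i_* N` is an epimorphism `i^* L ⟶ N`.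
* `exists_local_lift_top`, `exists_local_pcData_top`: local lifting of `L ⟶ H^b(K)` to `L[-b] ⟶ K`.
* `pc_of_pc_pushD`: direction `⇐`.
-/

set_option autoImplicit false
universe u
open CategoryTheory CategoryTheory.Limits AlgebraicGeometry Opposite
open Scheme.Modules

attribute [local instance] HasDerivedCategory.standard

namespace Groth.Agent.Lib.Helper25.ClPush

open Groth.Agent.Lib.helper25.DCohRestrict Groth.Agent.Lib.helper25.DCohPerfect
  Groth.Agent.Lib.helper25.DCohPC Groth.Agent.Lib.helper25.DCohPC2 Groth.Agent.Lib.helper25.DCohPC3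
  Groth.Agent.Lib.helper25.DCohPC4 Groth.Agent.Lib.Helper25.HomVanNice

/-- top cohomology of a pseudo-coherent object is locally a quotient of a finite locally free module -/
lemma exists_flf_epi_top {Y : Scheme.{u}} (b : ℤ) (K : DCoh.D Y) (hK : DCoh.IsPseudoCoherentD b K)
    (hz : ∀ j : ℤ, b < j → IsZero (DCoh.HD K j)) (y : Y) :
    ∃ (U : Y.Opens) (L : (U : Scheme.{u}).Modules) (ψ : L ⟶ DCoh.HD ((DCoh.restrictD U.ι).obj K) b),
      y ∈ U ∧ FlatMod.IsFinLocFree L ∧ Epi ψ := by
  obtain ⟨V, hyV, P, α, hP, h1, h2⟩ := exists_pcData hK y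
  have hzP := Groth.Agent.S0890.isZero_homology_of_pcData b b le_rfl K V hz α h1
  have hcyc := Groth.Agent.Lib.helper25.FLFCycles.isFinLocFree_cycles hP b hzP b le_rfl
  refine ⟨V, P.cycles b, P.homologyπ b ≫ ((DerivedCategory.homologyFunctorFactors _ b).app P).inv ≫
    (DerivedCategory.homologyFunctor _ b).map α, hyV, hcyc, ?_⟩
  have := h2
  infer_instance

section closed

variable {Z X : Scheme.{u}} (i : Z ⟶ X) [IsClosedImmersion i]

/-- the adjoint of an epimorphism `L ⟶ i_* N` is an epimorphism -/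
lemma epi_adjoint (L : X.Modules) (N : Z.Modules) (ψ : L ⟶ (pushforward i).obj N) [Epi ψ] :
    Epi (((pullbackPushforwardAdjunction i).homEquiv L N).symm ψ) := by
  set adj := pullbackPushforwardAdjunction i
  set ψ' := (adj.homEquiv L N).symm ψ with hψ'
  have h : ψ = adj.unit.app L ≫ (pushforward i).map ψ' := by
    have := adj.homEquiv_unit (f := ψ')
    rw [← this, hψ', Equiv.apply_symm_apply]
  have : Epi (adj.unit.app L ≫ (pushforward i).map ψ') := h ▸ inferInstance
  have : Epi ((pushforward i).map ψ') := epi_of_epi (adj.unit.app L) _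
  have := Groth.Agent.Lib.helper21.ClosedFF.faithful_pushforward i
  exact (pushforward i).epi_of_epi_map inferInstance

end closed

section lift

variable {Y : Scheme.{u}}

lemma isStrictlyPerfect_single (L : Y.Modules) (hL : FlatMod.IsFinLocFree L) (b : ℤ) :
    DCoh.IsStrictlyPerfect ((HomologicalComplex.single Y.Modules (ComplexShape.up ℤ) b).obj L) := by
  refine ⟨⟨b, b, fun j hj => ?_⟩, fun j => ?_⟩
  · exact HomologicalComplex.isZero_single_obj_X _ _ _ _ (by omega)
  · by_cases hj : j = b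
    · subst hj
      exact Groth.Agent.Lib.helper16.FLF.isFinLocFree_of_iso
        (HomologicalComplex.singleObjXSelf (ComplexShape.up ℤ) j L).symm hL
    · exact Groth.Agent.Lib.helper25.FLFKernel.isFinLocFree_of_isZero (HomologicalComplex.isZero_single_obj_X _ _ _ _ hj)

/-- local lifting of an epimorphism `L ⟶ H^b(G)` (`H^j(G) = 0` for `j > b`, `L` finite locally free) to a chain map
`L[-b] ⟶ G` which is an epimorphism on `H^b` -/
theorem exists_local_lift_top (G : CochainComplex Y.Modules ℤ) (b : ℤ)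
    (hz : ∀ j : ℤ, b < j → IsZero (G.homology j)) (L : Y.Modules) (hL : FlatMod.IsFinLocFree L)
    (ψ : L ⟶ G.homology b) [Epi ψ] (y : Y) :
    ∃ (U : Y.Opens) (β : (resCx U.ι).obj ((HomologicalComplex.single Y.Modules (ComplexShape.up ℤ) b).obj L) ⟶
        (resCx U.ι).obj G), y ∈ U ∧ Epi (HomologicalComplex.homologyMap β b) := by
  haveI : G.IsLE b := by
    rw [CochainComplex.isLE_iff]
    intro j hj
    rw [HomologicalComplex.exactAt_iff_isZero_homology]
    exact hz j hj
  let T := G.truncLE b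
  let ι : T ⟶ G := G.ιTruncLE b
  let S := T.truncGE b
  let π : T ⟶ S := T.πTruncGE b
  haveI : S.IsStrictlyLE b := by
    rw [CochainComplex.isStrictlyLE_iff]
    intro j hj
    exact (CochainComplex.isZero_of_isStrictlyLE T b j hj).of_iso (T.truncGEXIso b j hj)
  obtain ⟨A, ⟨eS⟩⟩ := S.exists_iso_single b
  haveI hπb : QuasiIsoAt π b := T.quasiIsoAt_πTruncGE b b le_rfl
  haveI hιb : QuasiIsoAt ι b := inferInstance
  let e : G.homology b ≅ A :=
    (asIso (HomologicalComplex.homologyMap ι b)).symm ≪≫ asIso (HomologicalComplex.homologyMap π b) ≪≫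
      (HomologicalComplex.homologyFunctor _ _ b).mapIso eS ≪≫
      HomologicalComplex.singleObjHomologySelfIso (ComplexShape.up ℤ) b A
  let α : (HomologicalComplex.single Y.Modules (ComplexShape.up ℤ) b).obj L ⟶ S :=
    (HomologicalComplex.single Y.Modules (ComplexShape.up ℤ) b).map (ψ ≫ e.hom) ≫ eS.inv
  obtain ⟨U, β₀, hyU, ⟨hβ₀⟩⟩ := Groth.Agent.S0933.result α π (isStrictlyPerfect_single L hL b) b
    (fun j hj => HomologicalComplex.isZero_single_obj_X _ _ _ _ (by omega))
    (fun j hj => by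
      haveI : QuasiIsoAt π j := T.quasiIsoAt_πTruncGE b j hj.le
      exact (quasiIsoAt_iff_isIso_homologyMap π j).1 inferInstance)
    (by
      haveI := (quasiIsoAt_iff_isIso_homologyMap π b).1 hπb
      infer_instance) y
  refine ⟨U, β₀ ≫ (resCx U.ι).map ι, hyU, ?_⟩
  haveI := Groth.Agent.Lib.Helper25.MVMod.preservesFiniteColimits_restrict U.ι
  -- `H^b` of the restriction of `α` is an epimorphism
  have hφ : Epi (HomologicalComplex.homologyMap
      ((HomologicalComplex.single Y.Modules (ComplexShape.up ℤ) b).map (ψ ≫ e.hom)) b) := by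
    have h := HomologicalComplex.singleObjHomologySelfIso_hom_naturality (ComplexShape.up ℤ) b (ψ ≫ e.hom)
    have h' : HomologicalComplex.homologyMap
        ((HomologicalComplex.single Y.Modules (ComplexShape.up ℤ) b).map (ψ ≫ e.hom)) b =
        (HomologicalComplex.singleObjHomologySelfIso (ComplexShape.up ℤ) b L).hom ≫ (ψ ≫ e.hom) ≫
          (HomologicalComplex.singleObjHomologySelfIso (ComplexShape.up ℤ) b A).inv := by
      rw [← Category.assoc, ← h, Category.assoc, Iso.hom_inv_id, Category.comp_id]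
    rw [h']
    infer_instance
  have hα : Epi (HomologicalComplex.homologyMap ((resCx U.ι).map α) b) := by
    have h1 : Epi (HomologicalComplex.homologyMap ((resCx U.ι).map
        ((HomologicalComplex.single Y.Modules (ComplexShape.up ℤ) b).map (ψ ≫ e.hom))) b) := by
      have := (Groth.Agent.Lib.helper25.IsoAbove.epi_map_iff_of_natIso
        (Groth.Agent.Lib.Helper25.FBCBase.homologyIsoCx (restrictFunctor U.ι) b)
        ((HomologicalComplex.single Y.Modules (ComplexShape.up ℤ) b).map (ψ ≫ e.hom))).2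
      refine this ?_
      change Epi ((restrictFunctor U.ι).map (HomologicalComplex.homologyMap _ b))
      infer_instance
    have h2 : IsIso (HomologicalComplex.homologyMap ((resCx U.ι).map eS.inv) b) := by
      have : IsIso ((resCx U.ι).map eS.inv) := inferInstance
      infer_instance
    change Epi (HomologicalComplex.homologyMap ((resCx U.ι).map
      ((HomologicalComplex.single Y.Modules (ComplexShape.up ℤ) b).map (ψ ≫ e.hom) ≫ eS.inv)) b)
    rw [Functor.map_comp, HomologicalComplex.homologyMap_comp]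
    infer_instance
  have hπ' : IsIso (HomologicalComplex.homologyMap ((resCx U.ι).map π) b) := by
    have : QuasiIsoAt ((resCx U.ι).map π) b := inferInstance
    exact (quasiIsoAt_iff_isIso_homologyMap _ b).1 this
  have hι' : IsIso (HomologicalComplex.homologyMap ((resCx U.ι).map ι) b) := by
    have : QuasiIsoAt ((resCx U.ι).map ι) b := inferInstance
    exact (quasiIsoAt_iff_isIso_homologyMap _ b).1 this
  have hβ₀ : Epi (HomologicalComplex.homologyMap β₀ b) := by
    have h := hβ₀.homologyMap_eq b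
    rw [HomologicalComplex.homologyMap_comp] at h
    have : Epi (HomologicalComplex.homologyMap β₀ b ≫
        HomologicalComplex.homologyMap ((resCx U.ι).map π) b) := h ▸ hα
    have h3 : HomologicalComplex.homologyMap β₀ b =
        (HomologicalComplex.homologyMap β₀ b ≫ HomologicalComplex.homologyMap ((resCx U.ι).map π) b) ≫
          inv (HomologicalComplex.homologyMap ((resCx U.ι).map π) b) := by
      rw [Category.assoc, IsIso.hom_inv_id, Category.comp_id]
    rw [h3]
    infer_instance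
  rw [HomologicalComplex.homologyMap_comp]
  infer_instance

/-- derived-category form: if `H^j(K) = 0` for `j > b` and `H^b(K)` is a quotient of a finite locally free module,
then `K` admits local presentation data in degree `b` -/
theorem exists_local_pcData_top (K : DCoh.D Y) (b : ℤ) (hz : ∀ j : ℤ, b < j → IsZero (DCoh.HD K j))
    (L : Y.Modules) (hL : FlatMod.IsFinLocFree L) (ψ : L ⟶ DCoh.HD K b) [Epi ψ] (y : Y) :
    ∃ U : Y.Opens, y ∈ U ∧ PCData b ((DCoh.restrictD U.ι).obj K) := by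
  obtain ⟨G, ⟨a⟩⟩ := exists_rep K
  let eH : ∀ j : ℤ, DCoh.HD K j ≅ G.homology j := fun j =>
    (DerivedCategory.homologyFunctor _ j).mapIso a.symm ≪≫ (DerivedCategory.homologyFunctorFactors _ j).app G
  have hz' : ∀ j : ℤ, b < j → IsZero (G.homology j) := fun j hj => (hz j hj).of_iso (eH j).symm
  obtain ⟨U, β, hyU, hβ⟩ := exists_local_lift_top G b hz' L hL (ψ ≫ (eH b).hom) y
  have := Groth.Agent.Lib.Helper25.MVMod.preservesFiniteColimits_restrict U.ι
  refine ⟨U, hyU, (resCx U.ι).obj ((HomologicalComplex.single Y.Modules (ComplexShape.up ℤ) b).obj L),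
    DerivedCategory.Q.map β ≫ (resDQIso U.ι G).inv ≫ (DCoh.restrictD U.ι).map a.hom,
    isStrictlyPerfect_res U.ι (isStrictlyPerfect_single L hL b), ?_⟩
  have h1 : Groth.Agent.Lib.helper25.IsoAbove.IsoAbove b (DerivedCategory.Q.map β) := by
    rw [Groth.Agent.Lib.helper25.IsoAbove.isoAbove_Q_map_iff]
    refine ⟨fun j hj => ?_, hβ⟩
    refine Groth.Agent.Lib.helper25.DCohSingle.isIso_of_isZero _ ?_ ?_
    · refine ShortComplex.isZero_homology_of_isZero_X₂ _ ?_
      exact (restrictFunctor U.ι).map_isZero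
        (HomologicalComplex.isZero_single_obj_X _ _ _ _ (by omega))
    · exact ((restrictFunctor U.ι).map_isZero (hz' j hj)).of_iso
        ((Groth.Agent.Lib.Helper25.FBCBase.homologyIsoCx (restrictFunctor U.ι) j).app G)
  exact (h1.comp_iso ((resDQIso U.ι G).inv ≫ (DCoh.restrictD U.ι).map a.hom))

end lift

section closed2

attribute [local instance] Groth.Agent.Lib.Helper25.RelPC.preservesFiniteLimits_push
  Groth.Agent.Lib.Helper25.RelPC.preservesFiniteColimits_push

/-- flexible local criterion for pseudo-coherence -/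
lemma isPseudoCoherentD_of_openImmersions {X : Scheme.{u}} {m : ℤ} {K : DCoh.D X}
    (h : ∀ x : X, ∃ (U : Scheme.{u}) (j : U ⟶ X) (_ : IsOpenImmersion j), x ∈ Set.range j ∧
      DCoh.IsPseudoCoherentD m ((DCoh.restrictD j).obj K)) : DCoh.IsPseudoCoherentD m K := by
  refine isPseudoCoherentD_of_local (fun x => ?_)
  obtain ⟨U, j, hj, ⟨u, rfl⟩, hU⟩ := h x
  obtain ⟨W, huW, dW⟩ := exists_pcData hU u
  obtain ⟨c⟩ := nonempty_restrictD_comp_iso W.ι j K
  exact ⟨_, W.ι ≫ j, inferInstance, ⟨⟨u, huW⟩, rfl⟩, dW.of_iso c.symm⟩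

theorem pc_of_pc_pushD_aux : ∀ (n : ℕ) {Z X : Scheme.{u}} (i : Z ⟶ X) [IsClosedImmersion i], HO i →
    ∀ (E : DCoh.D Z) (m : ℤ), DCoh.IsPseudoCoherentD m ((pushD i).obj E) →
      (∀ j : ℤ, m + n ≤ j → IsZero (DCoh.HD E j)) → DCoh.IsPseudoCoherentD m E := by
  intro n
  induction n with
  | zero =>
    intro Z X i _ hO E m _ hz
    exact isPseudoCoherentD_of_pcData_global
      (pcData_of_isZero_homology (fun j hj => hz j (by simpa using hj)))
  | succ n ih =>
    intro Z X i _ hO E m hpc hz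
    refine isPseudoCoherentD_of_openImmersions (fun z => ?_)
    obtain ⟨b, hb⟩ : ∃ b : ℤ, b = m + (n : ℤ) := ⟨_, rfl⟩
    have hzE : ∀ j : ℤ, b < j → IsZero (DCoh.HD E j) := fun j hj => hz j (by push_cast; omega)
    have hpcb : DCoh.IsPseudoCoherentD b ((pushD i).obj E) := isPseudoCoherentD_mono hpc (by omega)
    have hzX : ∀ j : ℤ, b < j → IsZero (DCoh.HD ((pushD i).obj E) j) := fun j hj =>
      IsZero.of_iso ((pushforward i).map_isZero (hzE j hj)) (homologyPushDIso i E j)
    obtain ⟨W₁, L, ψ, hxW₁, hL, hψ⟩ := exists_flf_epi_top b _ hpcb hzX (i z)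
    let e₁ : DCoh.HD ((DCoh.restrictD W₁.ι).obj ((pushD i).obj E)) b ≅
        (pushforward (i ∣_ W₁)).obj (DCoh.HD ((DCoh.restrictD (i ⁻¹ᵁ W₁).ι).obj E) b) :=
      (DerivedCategory.homologyFunctor _ b).mapIso ((pushRestrictDIso i W₁).app E) ≪≫
        homologyPushDIso (i ∣_ W₁) _ b
    have : Epi (ψ ≫ e₁.hom) := epi_comp _ _
    have hψZ := epi_adjoint (i ∣_ W₁) L _ (ψ ≫ e₁.hom)
    have hzE₁ : ∀ j : ℤ, b < j → IsZero (DCoh.HD ((DCoh.restrictD (i ⁻¹ᵁ W₁).ι).obj E) j) := by
      intro j hj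
      obtain ⟨c⟩ := Groth.Agent.Lib.helper25.DCohHomology.nonempty_HD_restrict_iso (i ⁻¹ᵁ W₁).ι E j
      exact ((restrictFunctor (i ⁻¹ᵁ W₁).ι).map_isZero (hzE j hj)).of_iso c.symm
    obtain ⟨U, hzU, hd⟩ := exists_local_pcData_top ((DCoh.restrictD (i ⁻¹ᵁ W₁).ι).obj E) b hzE₁ _
      (Groth.Agent.Lib.helper16.FLF.isFinLocFree_pullback (i ∣_ W₁) hL)
      (((pullbackPushforwardAdjunction (i ∣_ W₁)).homEquiv L _).symm (ψ ≫ e₁.hom))
      (⟨z, hxW₁⟩ : ↥(i ⁻¹ᵁ W₁))
    obtain ⟨W, hzW, hWU⟩ := exists_open_preimage_le (i ∣_ W₁) U ⟨z, hxW₁⟩ hzU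
    obtain ⟨P₂, α₂, hP₂, h1, h2⟩ := pcData_of_le ((DCoh.restrictD (i ⁻¹ᵁ W₁).ι).obj E) hWU hd
    obtain ⟨C, β, γ, hT⟩ := Pretriangulated.distinguished_cocone_triangle α₂
    have hzC : ∀ j : ℤ, b ≤ j → IsZero (DCoh.HD C j) :=
      (Groth.Agent.Lib.helper25.IsoAbove.isoAbove_iff_cone _ hT b).1 ⟨h1, h2⟩
    have hO₂ : HO ((i ∣_ W₁) ∣_ W) := hO_restrict (hO_restrict hO W₁) W
    have hT' := (pushD ((i ∣_ W₁) ∣_ W)).map_distinguished _ hT
    have hpc₂ : DCoh.IsPseudoCoherentD m ((pushD ((i ∣_ W₁) ∣_ W)).obj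
        ((DCoh.restrictD ((i ∣_ W₁) ⁻¹ᵁ W).ι).obj ((DCoh.restrictD (i ⁻¹ᵁ W₁).ι).obj E))) :=
      isPseudoCoherentD_of_iso ((pushRestrictDIso (i ∣_ W₁) W).app _)
        (Groth.Agent.Lib.helper25.PerfectTor.isPseudoCoherentD_restrictD
          (isPseudoCoherentD_of_iso ((pushRestrictDIso i W₁).app E)
            (Groth.Agent.Lib.helper25.PerfectTor.isPseudoCoherentD_restrictD hpc W₁)) W)
    have hpcC' : DCoh.IsPseudoCoherentD m ((pushD ((i ∣_ W₁) ∣_ W)).obj C) :=
      (isPseudoCoherentD_triangle m _ hT').1 (pc_pushD_of_strictlyPerfect hO₂ hP₂ (m + 1)) hpc₂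
    have hpcC : DCoh.IsPseudoCoherentD m C :=
      ih ((i ∣_ W₁) ∣_ W) hO₂ C m hpcC' (fun j hj => hzC j (by omega))
    have hpcE₂ : DCoh.IsPseudoCoherentD m
        ((DCoh.restrictD ((i ∣_ W₁) ⁻¹ᵁ W).ι).obj ((DCoh.restrictD (i ⁻¹ᵁ W₁).ι).obj E)) :=
      (isPseudoCoherentD_triangle m _ hT).2.1
        (Groth.Agent.Lib.helper25.PerfectTor.isPseudoCoherentD_of_isPerfect
          (Groth.Agent.Lib.Helper25.TildePerfect.isPerfect_Q_of_isStrictlyPerfect P₂ hP₂) m) hpcC
    obtain ⟨c⟩ := nonempty_restrictD_comp_iso ((i ∣_ W₁) ⁻¹ᵁ W).ι (i ⁻¹ᵁ W₁).ι E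
    exact ⟨_, ((i ∣_ W₁) ⁻¹ᵁ W).ι ≫ (i ⁻¹ᵁ W₁).ι, inferInstance, ⟨⟨⟨z, hxW₁⟩, hzW⟩, rfl⟩,
      isPseudoCoherentD_of_iso c.symm hpcE₂⟩

/-- **direction `⇐`**: if `i_* E` is `m`-pseudo-coherent, so is `E` -/
theorem pc_of_pc_pushD {Z X : Scheme.{u}} (i : Z ⟶ X) [IsClosedImmersion i] (hO : HO i) (E : DCoh.D Z) (m : ℤ)
    (hpc : DCoh.IsPseudoCoherentD m ((pushD i).obj E)) : DCoh.IsPseudoCoherentD m E := by
  refine isPseudoCoherentD_of_openImmersions (fun z => ?_)
  obtain ⟨W, hzW, P, α, hP, h1, h2⟩ := exists_pcData hpc (i z)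
  obtain ⟨⟨a, b', hab⟩, -⟩ := hP
  have hzero : ∀ j : ℤ, max b' m < j → IsZero (DCoh.HD ((DCoh.restrictD (i ⁻¹ᵁ W).ι).obj E) j) := by
    intro j hj
    apply Groth.Agent.Lib.Helper25.RelPC.isZero_of_isZero_push (i ∣_ W)
    have := h1 j (by omega)
    refine IsZero.of_iso ?_ ((homologyPushDIso (i ∣_ W) _ j).symm ≪≫
      (DerivedCategory.homologyFunctor _ j).mapIso ((pushRestrictDIso i W).app E).symm ≪≫
      (asIso ((DerivedCategory.homologyFunctor _ j).map α)).symm ≪≫
      (DerivedCategory.homologyFunctorFactors _ j).app P)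
    exact ShortComplex.isZero_homology_of_isZero_X₂ _ (hab j (Or.inr (by omega)))
  have hpcW : DCoh.IsPseudoCoherentD m ((pushD (i ∣_ W)).obj ((DCoh.restrictD (i ⁻¹ᵁ W).ι).obj E)) :=
    isPseudoCoherentD_of_iso ((pushRestrictDIso i W).app E)
      (Groth.Agent.Lib.helper25.PerfectTor.isPseudoCoherentD_restrictD hpc W)
  have := pc_of_pc_pushD_aux (max b' m + 1 - m).toNat (i ∣_ W) (hO_restrict hO W) _ m hpcW
    (fun j hj => hzero j (by omega))
  exact ⟨_, (i ⁻¹ᵁ W).ι, inferInstance, ⟨⟨z, hzW⟩, rfl⟩, this⟩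

end closed2

end Groth.Agent.Lib.Helper25.ClPush
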