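import Mathlib
import Groth.Agent.Lib.Helper25.ClPush3
import Groth.Agent.Lib.Helper13.PushPerf2
import Groth.Agent.Lib.Helper3.PCFin
import Groth.Agent.Lib.Helper3.PCHom1

/-!
# helper25: change of charts for pseudo-coherence relative to a morphism

* `hO_spec_of_pcHom`: for a surjection `θ : P' → P` making `P` a pseudo-coherent `P'`-module, the closed immersion
  `Spec θ` has pseudo-coherent direct image of the structure sheaf.
* `pcHom_of_section`: a ring map `θ : P' → P` with a pseudo-coherent section `ι : P → P'` (`θ ∘ ι = id`) makes `P` a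
  pseudo-coherent `P'`-module; `pcHom_eval`: evaluation `P[y_1..y_k] → P`.
* `chartMap U φ`, `pc_chart_comp_iff`: pseudo-coherence of the direct image along `U → Spec P` is unchanged by
  precomposing the chart with such a surjection.
-/

set_option autoImplicit false
universe u
open CategoryTheory CategoryTheory.Limits AlgebraicGeometry Opposite
open Scheme.Modules

attribute [local instance] HasDerivedCategory.standard

namespace Groth.Agent.Lib.Helper25.ClPush

open Groth.Agent.Lib.helper25.DCohPC3 Groth.Agent.Lib.helper23.DRingPC Groth.Agent.Lib.helper3.PCHomLoc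
  Groth.Agent.Lib.helper3.PerfHomLoc Groth.Agent.Lib.helper23.PCohCore

section ring

variable {P' P : Type u} [CommRing P'] [CommRing P] (θ : P' →+* P)

/-- `(Spec θ)_* O ≅ (P as a P'-module)~` -/
noncomputable def pushSpecUnitIso :
    (pushforward (Spec.map (CommRingCat.ofHom θ))).obj (Coh.structureModule (Spec (CommRingCat.of P))) ≅
      (tilde.functor (CommRingCat.of P')).obj (Sf θ) :=
  (Groth.Agent.Lib.Helper25.TildePush.tildePushIso (CommRingCat.ofHom θ)).app (ModuleCat.of P P)

theorem hO_spec_of_pcHom (hpc : PCHom θ) : HO (Spec.map (CommRingCat.ofHom θ)) := by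
  intro m
  haveI := Groth.Agent.S9498.preservesFiniteLimits_tilde (CommRingCat.of P')
  haveI := Groth.Agent.S9498.preservesFiniteColimits_tilde (CommRingCat.of P')
  have e : DCoh.inD _ ((pushforward (Spec.map (CommRingCat.ofHom θ))).obj
        (Coh.structureModule (Spec (CommRingCat.of P)))) ≅
      (DCoh.tildeD (CommRingCat.of P')).obj
        ((DerivedCategory.singleFunctor (ModuleCat.{u} P') 0).obj (Sf θ)) :=
    (DerivedCategory.singleFunctor _ 0).mapIso (pushSpecUnitIso θ) ≪≫
      (((tilde.functor (CommRingCat.of P')).mapDerivedCategorySingleFunctor 0).app (Sf θ)).symm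
  exact isPseudoCoherentD_of_iso e.symm
    (Groth.Agent.Lib.helper13.PushPerf.isPseudoCoherentD_tildeD_of_isPseudoCoherent _ _ m
      ((isPseudoCoherent_iff_npc _ m _).2 (hpc m)))

/-- a ring map with a pseudo-coherent section makes its target a pseudo-coherent module over its source -/
theorem pcHom_of_section (ι : P →+* P') (hι : PCH ι) (h : θ.comp ι = RingHom.id P) : PCHom θ := by
  have hsurj : Function.Surjective θ := fun p => ⟨ι p, by
    have := congrArg (fun f : P →+* P => f p) h
    simpa using this⟩
  have h1 : PCH θ := pch_cancel ι θ hι (by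
    rw [h]
    exact pch_ringEquiv (RingEquiv.refl P))
  letI := θ.toAlgebra
  haveI : Module.Finite P' P := Module.Finite.of_surjective (Algebra.linearMap P' P) hsurj
  exact Groth.Agent.Lib.helper3.PCFin.pch_iff_pcHom_of_finite.1 h1

lemma pch_C (k : ℕ) : PCH (MvPolynomial.C : P →+* MvPolynomial (Fin k) P) :=
  ⟨k, RingHom.id _, rfl, Function.surjective_id, pcMod_of_ringEquiv (RingEquiv.refl _)⟩

/-- evaluation of polynomials at a point makes the base ring pseudo-coherent over the polynomial ring -/
theorem pcHom_eval {k : ℕ} (a : Fin k → P) :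
    PCHom (MvPolynomial.eval₂Hom (RingHom.id P) a : MvPolynomial (Fin k) P →+* P) := by
  refine pcHom_of_section _ MvPolynomial.C (pch_C k) ?_
  ext p
  simp

/-- ring isomorphisms -/
theorem pcHom_ringEquiv (e : P' ≃+* P) : PCHom e.toRingHom := pcMod_of_ringEquiv e

end ring

section chart

variable {X : Scheme.{u}} (U : X.Opens)

attribute [local instance] Groth.Agent.Lib.Helper25.RelPC.preservesFiniteLimits_push
  Groth.Agent.Lib.Helper25.RelPC.preservesFiniteColimits_push

/-- the morphism `U ⟶ Spec P` attached to a ring map `P → Γ(X, U)` (for polynomial rings: `DerSch.chartImm`) -/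
noncomputable def chartMap {P : Type u} [CommRing P] (φ : P →+* Γ(X, U)) :
    (U : Scheme.{u}) ⟶ Spec (CommRingCat.of P) :=
  U.toSpecΓ ≫ Spec.map (CommRingCat.ofHom φ)

lemma chartImm_eq_chartMap {R : Type u} [CommRing R] {n : ℕ} (φ : MvPolynomial (Fin n) R →+* Γ(X, U)) :
    DerSch.chartImm U φ = chartMap U φ := rfl

lemma chartMap_comp {P P' : Type u} [CommRing P] [CommRing P'] (φ : P →+* Γ(X, U)) (θ : P' →+* P) :
    chartMap U (φ.comp θ) = chartMap U φ ≫ Spec.map (CommRingCat.ofHom θ) := by
  unfold chartMap
  rw [Category.assoc, ← Spec.map_comp]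
  rfl

/-- pushing forward along a composite, on complexes -/
noncomputable def pushCxCompIso {A B C : Scheme.{u}} (f : A ⟶ B) (g : B ⟶ C)
    (K : CochainComplex A.Modules ℤ) :
    (DerSch.pushCx g).obj ((DerSch.pushCx f).obj K) ≅ (DerSch.pushCx (f ≫ g)).obj K :=
  (Functor.mapHomologicalComplexCompIso (pushforwardComp f g) (ComplexShape.up ℤ)).app K

lemma pushCx_congr {A B : Scheme.{u}} {f g : A ⟶ B} (h : f = g) (K : CochainComplex A.Modules ℤ) :
    Nonempty ((DerSch.pushCx f).obj K ≅ (DerSch.pushCx g).obj K) := by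
  subst h
  exact ⟨Iso.refl _⟩

/-- **change of chart**: precomposing the chart with a surjection `θ : P' → P` making `P` a pseudo-coherent
`P'`-module does not change pseudo-coherence of the direct image -/
theorem pc_chart_comp_iff {P P' : Type u} [CommRing P] [CommRing P'] (φ : P →+* Γ(X, U)) (θ : P' →+* P)
    (hθ : Function.Surjective θ) (hpc : PCHom θ) (K : CochainComplex (U : Scheme.{u}).Modules ℤ) (m : ℤ) :
    DCoh.IsPseudoCoherentD m (DCoh.toD (Spec (CommRingCat.of P)) ((DerSch.pushCx (chartMap U φ)).obj K)) ↔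
      DCoh.IsPseudoCoherentD m
        (DCoh.toD (Spec (CommRingCat.of P')) ((DerSch.pushCx (chartMap U (φ.comp θ))).obj K)) := by
  haveI : IsClosedImmersion (Spec.map (CommRingCat.ofHom θ)) :=
    IsClosedImmersion.spec_of_surjective (CommRingCat.ofHom θ) hθ
  have hO := hO_spec_of_pcHom θ hpc
  obtain ⟨e₁⟩ := pushCx_congr (chartMap_comp U φ θ) K
  have e : DCoh.toD (Spec (CommRingCat.of P')) ((DerSch.pushCx (chartMap U (φ.comp θ))).obj K) ≅
      (pushD (Spec.map (CommRingCat.ofHom θ))).obj
        (DCoh.toD (Spec (CommRingCat.of P)) ((DerSch.pushCx (chartMap U φ)).obj K)) :=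
    DerivedCategory.Q.mapIso (e₁ ≪≫ (pushCxCompIso _ _ K).symm) ≪≫
      ((pushforward (Spec.map (CommRingCat.ofHom θ))).mapDerivedCategoryFactors.app _).symm
  constructor
  · intro h
    exact isPseudoCoherentD_of_iso e.symm (pc_pushD_of_pc hO _ m h)
  · intro h
    exact pc_of_pc_pushD _ hO _ m (isPseudoCoherentD_of_iso e h)

end chart

end Groth.Agent.Lib.Helper25.ClPush
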