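import Mathlib
import Groth.Agent.Lib.Helper25.ClPush4

/-!
# helper25: base change of direct images along open immersions, for general commutative squares

For a commutative square `k ≫ c = c' ≫ o` with `k`, `o` open immersions such that `c⁻¹(range o) ⊆ range k`:

* `openBaseChangeIso : c_* ⋙ o^* ≅ k^* ⋙ c'_*` on modules,
* `openBaseChangeCxIso` on complexes.
-/

set_option autoImplicit false
universe u
open CategoryTheory CategoryTheory.Limits AlgebraicGeometry Opposite
open Scheme.Modules

attribute [local instance] HasDerivedCategory.standard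

namespace Groth.Agent.Lib.Helper25.OpenBC

open Groth.Agent.Lib.helper11.PullUnit Groth.Agent.Lib.helper11.IsoLocus

variable {U₀ U₁ A A₁ : Scheme.{u}} (c : U₀ ⟶ A) (c' : U₁ ⟶ A₁) (k : U₁ ⟶ U₀) (o : A₁ ⟶ A)
  [IsOpenImmersion k] [IsOpenImmersion o]

/-- `k_* ⋙ c_* ≅ c'_* ⋙ o_*` -/
noncomputable def pushRho' (hcomm : k ≫ c = c' ≫ o) :
    pushforward k ⋙ pushforward c ≅ pushforward c' ⋙ pushforward o :=
  pushforwardComp _ _ ≪≫ pushforwardCongr hcomm ≪≫ (pushforwardComp _ _).symm

theorem isIso_restrict_push_unit' (hrange : c ⁻¹ᵁ o.opensRange ≤ k.opensRange) (M : U₀.Modules) :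
    IsIso ((restrictFunctor o).map ((pushforward c).map ((restrictAdjunction k).unit.app M))) := by
  rw [Hom.isIso_iff_isIso_app]
  intro W
  rw [restrictFunctor_map_app, pushforward_map_app, restrictAdjunction_unit_app_app]
  refine isIso_map_of_thin' _ _ (homOfLE ?_)
  rw [Scheme.Hom.image_preimage_eq_opensRange_inf]
  refine le_inf (le_trans ?_ hrange) le_rfl
  intro x hx
  obtain ⟨w, -, hw⟩ := hx
  exact ⟨w, hw⟩

/-- base change of direct images along open immersions: `(c_* M)|_{A₁} ≅ c'_* (M|_{U₁})`, naturally in `M` -/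
noncomputable def openBaseChangeIso (hcomm : k ≫ c = c' ≫ o)
    (hrange : c ⁻¹ᵁ o.opensRange ≤ k.opensRange) :
    pushforward c ⋙ restrictFunctor o ≅ restrictFunctor k ⋙ pushforward c' :=
  NatIso.ofComponents (fun M =>
    have := isIso_restrict_push_unit' c k o hrange M
    asIso ((restrictFunctor o).map ((pushforward c).map ((restrictAdjunction k).unit.app M))) ≪≫
      (restrictFunctor o).mapIso ((pushRho' c c' k o hcomm).app _) ≪≫
      asIso ((restrictAdjunction o).counit.app _)) (by
    intro M M' φ
    dsimp only [Functor.comp_obj, Functor.comp_map, Iso.trans_hom, asIso_hom,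
      Functor.mapIso_hom, Iso.app_hom]
    have h1 := (restrictAdjunction k).unit.naturality φ
    have h2 := (pushRho' c c' k o hcomm).hom.naturality ((restrictFunctor k).map φ)
    have h3 := (restrictAdjunction o).counit.naturality
      ((pushforward c').map ((restrictFunctor k).map φ))
    simp only [Functor.id_map, Functor.comp_map, Functor.id_obj, Functor.comp_obj] at h1 h2 h3
    have e1 : (restrictFunctor o).map ((pushforward c).map φ) ≫
        (restrictFunctor o).map ((pushforward c).map ((restrictAdjunction k).unit.app M')) =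
        (restrictFunctor o).map ((pushforward c).map ((restrictAdjunction k).unit.app M)) ≫
          (restrictFunctor o).map ((pushforward c).map
            ((pushforward k).map ((restrictFunctor k).map φ))) := by
      rw [← Functor.map_comp, ← Functor.map_comp, h1, Functor.map_comp, Functor.map_comp]
    have e2 : (restrictFunctor o).map ((pushforward c).map
          ((pushforward k).map ((restrictFunctor k).map φ))) ≫
        (restrictFunctor o).map ((pushRho' c c' k o hcomm).hom.app ((restrictFunctor k).obj M')) =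
        (restrictFunctor o).map ((pushRho' c c' k o hcomm).hom.app ((restrictFunctor k).obj M)) ≫
          (restrictFunctor o).map ((pushforward o).map
            ((pushforward c').map ((restrictFunctor k).map φ))) := by
      rw [← Functor.map_comp, h2, Functor.map_comp]
    simp only [Category.assoc]
    rw [reassoc_of% e1, reassoc_of% e2, h3])

open Groth.Agent.Lib.helper25.DCohRestrict Groth.Agent.Lib.helper25.DCohPC3
  Groth.Agent.Lib.helper25.DCohPC Groth.Agent.Lib.helper25.DCohPC2 Groth.Agent.Lib.helper25.DCohPerfect in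
/-- pseudo-coherence restricts along open immersions -/
lemma isPseudoCoherentD_restrictD_of_isOpenImmersion {Z X : Scheme.{u}} (j : Z ⟶ X) [IsOpenImmersion j]
    {m : ℤ} {K : DCoh.D X} (h : DCoh.IsPseudoCoherentD m K) :
    DCoh.IsPseudoCoherentD m ((DCoh.restrictD j).obj K) := by
  refine isPseudoCoherentD_of_local (fun y => ?_)
  obtain ⟨V₂, hy₂, hpc⟩ := exists_pcData h (j y)
  let W : Z.Opens := j ⁻¹ᵁ V₂
  let g : (W : Scheme.{u}) ⟶ (V₂ : Scheme.{u}) := j ∣_ V₂
  have hg : g ≫ V₂.ι = W.ι ≫ j := morphismRestrict_ι j V₂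
  have h1 := PCData.restrict g hpc
  obtain ⟨c⟩ := nonempty_restrictD_comp_iso g V₂.ι K
  obtain ⟨d⟩ := nonempty_restrictD_congr_iso hg K
  obtain ⟨c'⟩ := nonempty_restrictD_comp_iso W.ι j K
  exact ⟨W, W.ι, inferInstance, ⟨⟨y, hy₂⟩, rfl⟩, h1.of_iso (c.symm ≪≫ d ≪≫ c')⟩

open Groth.Agent.Lib.helper25.DCohRestrict Groth.Agent.Lib.helper25.DCohPC3 in
/-- pseudo-coherence of direct images passes to the restricted square -/
theorem pc_of_openBaseChange (hcomm : k ≫ c = c' ≫ o) (hrange : c ⁻¹ᵁ o.opensRange ≤ k.opensRange)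
    {X : Scheme.{u}} (j : U₀ ⟶ X) (j' : U₁ ⟶ X) [IsOpenImmersion j] [IsOpenImmersion j'] (hj : k ≫ j = j')
    (G : CochainComplex X.Modules ℤ) (m : ℤ)
    (h : DCoh.IsPseudoCoherentD m (DCoh.toD A ((DerSch.pushCx c).obj ((resCx j).obj G)))) :
    DCoh.IsPseudoCoherentD m (DCoh.toD A₁ ((DerSch.pushCx c').obj ((resCx j').obj G))) := by
  have h1 := isPseudoCoherentD_restrictD_of_isOpenImmersion o h
  let e1 : (resCx o).obj ((DerSch.pushCx c).obj ((resCx j).obj G)) ≅
      (DerSch.pushCx c').obj ((resCx k).obj ((resCx j).obj G)) :=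
    ((Functor.mapHomologicalComplexCompIso (Iso.refl (pushforward c ⋙ restrictFunctor o))
        (ComplexShape.up ℤ)) ≪≫
      NatIso.mapHomologicalComplex (openBaseChangeIso c c' k o hcomm hrange) (ComplexShape.up ℤ) ≪≫
      (Functor.mapHomologicalComplexCompIso (Iso.refl (restrictFunctor k ⋙ pushforward c'))
        (ComplexShape.up ℤ)).symm).app ((resCx j).obj G)
  let e2 : (resCx k).obj ((resCx j).obj G) ≅ (resCx j').obj G :=
    (resCxCompIso k j G).symm ≪≫ resCxCongrIso hj G
  exact isPseudoCoherentD_of_iso (resDQIso o _ ≪≫ DerivedCategory.Q.mapIso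
    (e1 ≪≫ (DerSch.pushCx c').mapIso e2)) h1

end Groth.Agent.Lib.Helper25.OpenBC
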