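import Mathlib
import Groth.Agent.Lib.Helper25.OpenBC

/-!
# helper25: localizing charts

* `pc_restrict_iff_openBaseChange`: for a commutative square `k ≫ c = c' ≫ o` of schemes with `k`, `o` open immersions and
  `c⁻¹(range o) ⊆ range k`, the restriction along `o` of the direct image along `c` is pseudo-coherent iff the direct image
  along `c'` of the restriction is.
* `pc_chart_restrict_iff`, `pc_chart_localize`: the same for the chart morphisms `chartMap U φ : U ⟶ Spec P`.
-/

set_option autoImplicit false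
universe u
open CategoryTheory CategoryTheory.Limits AlgebraicGeometry Opposite
open Scheme.Modules

attribute [local instance] HasDerivedCategory.standard

namespace Groth.Agent.Lib.Helper25.ClPush

open Groth.Agent.Lib.Helper25.OpenBC
open Groth.Agent.Lib.helper25.DCohRestrict Groth.Agent.Lib.helper25.DCohPC3

section square

variable {U₀ U₁ A A₁ : Scheme.{u}} (c : U₀ ⟶ A) (c' : U₁ ⟶ A₁) (k : U₁ ⟶ U₀) (o : A₁ ⟶ A)
  [IsOpenImmersion k] [IsOpenImmersion o]

/-- the open base change isomorphism at the level of derived categories -/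
theorem nonempty_restrictD_push_iso (hcomm : k ≫ c = c' ≫ o) (hrange : c ⁻¹ᵁ o.opensRange ≤ k.opensRange)
    {X : Scheme.{u}} (j : U₀ ⟶ X) (j' : U₁ ⟶ X) [IsOpenImmersion j] [IsOpenImmersion j'] (hj : k ≫ j = j')
    (G : CochainComplex X.Modules ℤ) :
    Nonempty ((DCoh.restrictD o).obj (DCoh.toD A ((DerSch.pushCx c).obj ((resCx j).obj G))) ≅
      DCoh.toD A₁ ((DerSch.pushCx c').obj ((resCx j').obj G))) := by
  let e1 : (resCx o).obj ((DerSch.pushCx c).obj ((resCx j).obj G)) ≅
      (DerSch.pushCx c').obj ((resCx k).obj ((resCx j).obj G)) :=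
    ((Functor.mapHomologicalComplexCompIso (Iso.refl (pushforward c ⋙ restrictFunctor o))
        (ComplexShape.up ℤ)) ≪≫
      NatIso.mapHomologicalComplex (openBaseChangeIso c c' k o hcomm hrange) (ComplexShape.up ℤ) ≪≫
      (Functor.mapHomologicalComplexCompIso (Iso.refl (restrictFunctor k ⋙ pushforward c'))
        (ComplexShape.up ℤ)).symm).app ((resCx j).obj G)
  let e2 : (resCx k).obj ((resCx j).obj G) ≅ (resCx j').obj G :=
    (resCxCompIso k j G).symm ≪≫ resCxCongrIso hj G
  exact ⟨resDQIso o _ ≪≫ DerivedCategory.Q.mapIso (e1 ≪≫ (DerSch.pushCx c').mapIso e2)⟩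

theorem pc_restrict_iff_openBaseChange (hcomm : k ≫ c = c' ≫ o)
    (hrange : c ⁻¹ᵁ o.opensRange ≤ k.opensRange)
    {X : Scheme.{u}} (j : U₀ ⟶ X) (j' : U₁ ⟶ X) [IsOpenImmersion j] [IsOpenImmersion j'] (hj : k ≫ j = j')
    (G : CochainComplex X.Modules ℤ) (m : ℤ) :
    DCoh.IsPseudoCoherentD m
        ((DCoh.restrictD o).obj (DCoh.toD A ((DerSch.pushCx c).obj ((resCx j).obj G)))) ↔
      DCoh.IsPseudoCoherentD m (DCoh.toD A₁ ((DerSch.pushCx c').obj ((resCx j').obj G))) := by
  obtain ⟨e⟩ := nonempty_restrictD_push_iso c c' k o hcomm hrange j j' hj G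
  exact ⟨fun h => isPseudoCoherentD_of_iso e h, fun h => isPseudoCoherentD_of_iso e.symm h⟩

end square

section chart

variable {X : Scheme.{u}} {U U' : X.Opens} (hle : U' ≤ U)
  {P P₁ : Type u} [CommRing P] [CommRing P₁]
  (φ : P →+* Γ(X, U)) (φ₁ : P₁ →+* Γ(X, U')) (lam : P →+* P₁)

lemma chartMap_square (hcomp : φ₁.comp lam = (X.presheaf.map (homOfLE hle).op).hom.comp φ) :
    X.homOfLE hle ≫ chartMap U φ = chartMap U' φ₁ ≫ Spec.map (CommRingCat.ofHom lam) := by
  unfold chartMap
  rw [Category.assoc, ← Spec.map_comp, ← Scheme.Opens.toSpecΓ_SpecMap_presheaf_map_assoc U' U hle,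
    ← Spec.map_comp]
  congr 2
  ext x
  exact (DFunLike.congr_fun hcomp x).symm

/-- restriction of the direct image along a chart to an open of the affine space, as a direct image along
the localized chart -/
theorem pc_chart_restrict_iff (hcomp : φ₁.comp lam = (X.presheaf.map (homOfLE hle).op).hom.comp φ)
    [IsOpenImmersion (Spec.map (CommRingCat.ofHom lam))]
    (hrange : chartMap U φ ⁻¹ᵁ (Spec.map (CommRingCat.ofHom lam)).opensRange ≤ (X.homOfLE hle).opensRange)
    (G : CochainComplex X.Modules ℤ) (m : ℤ) :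
    DCoh.IsPseudoCoherentD m
        ((DCoh.restrictD (Spec.map (CommRingCat.ofHom lam))).obj
          (DCoh.toD (Spec (CommRingCat.of P)) ((DerSch.pushCx (chartMap U φ)).obj ((resCx U.ι).obj G)))) ↔
      DCoh.IsPseudoCoherentD m
        (DCoh.toD (Spec (CommRingCat.of P₁)) ((DerSch.pushCx (chartMap U' φ₁)).obj ((resCx U'.ι).obj G))) :=
  pc_restrict_iff_openBaseChange (chartMap U φ) (chartMap U' φ₁) (X.homOfLE hle)
    (Spec.map (CommRingCat.ofHom lam)) (chartMap_square hle φ φ₁ lam hcomp) hrange U.ι U'.ι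
    (X.homOfLE_ι hle) G m

theorem pc_chart_localize (hcomp : φ₁.comp lam = (X.presheaf.map (homOfLE hle).op).hom.comp φ)
    [IsOpenImmersion (Spec.map (CommRingCat.ofHom lam))]
    (hrange : chartMap U φ ⁻¹ᵁ (Spec.map (CommRingCat.ofHom lam)).opensRange ≤ (X.homOfLE hle).opensRange)
    (G : CochainComplex X.Modules ℤ) (m : ℤ)
    (h : DCoh.IsPseudoCoherentD m
      (DCoh.toD (Spec (CommRingCat.of P)) ((DerSch.pushCx (chartMap U φ)).obj ((resCx U.ι).obj G)))) :
    DCoh.IsPseudoCoherentD m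
      (DCoh.toD (Spec (CommRingCat.of P₁)) ((DerSch.pushCx (chartMap U' φ₁)).obj ((resCx U'.ι).obj G))) :=
  (pc_chart_restrict_iff hle φ φ₁ lam hcomp hrange G m).1
    (isPseudoCoherentD_restrictD_of_isOpenImmersion _ h)

end chart

end Groth.Agent.Lib.Helper25.ClPush
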