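import Mathlib
import Groth.Agent.Lib.Helper25.ClPush5

/-!
# helper25: charts for relative pseudo-coherence: localization of the source and change of the base

* `awayChart hU φ h : P_h → Γ(X, D(φ h))`, `pc_awayChart_iff`: the restriction to `D(h) ⊆ Spec P` of the direct image along
  the chart `φ` is the direct image along the localized chart.
* `exists_chart_of_pch`: a generalized chart through a pseudo-coherent algebra can be replaced by an honest chart.
* `exists_chartPC_basicOpen` (shrink the source to a basic open), `exists_chartPC_of_basicOpen_base` (enlarge the base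
  from a basic open).
-/

set_option autoImplicit false
universe u
open CategoryTheory CategoryTheory.Limits AlgebraicGeometry Opposite
open Scheme.Modules

attribute [local instance] HasDerivedCategory.standard

namespace Groth.Agent.Lib.Helper25.ClPush

open Groth.Agent.Lib.Helper25.OpenBC
open Groth.Agent.Lib.helper25.DCohRestrict Groth.Agent.Lib.helper25.DCohPC3
open Groth.Agent.Lib.helper3.PCHomLoc Groth.Agent.Lib.helper23.DRingPC

section away

variable {X : Scheme.{u}} {U : X.Opens} (hU : IsAffineOpen U) {P : Type u} [CommRing P]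
  (φ : P →+* Γ(X, U)) (h : P)

/-- the localized chart `P_h → Γ(X, D(φ h))` -/
noncomputable def awayChart : Localization.Away h →+* Γ(X, X.basicOpen (φ h)) :=
  haveI := hU.isLocalization_basicOpen (φ h)
  IsLocalization.Away.map (Localization.Away h) Γ(X, X.basicOpen (φ h)) φ h

lemma awayChart_comp :
    (awayChart hU φ h).comp (algebraMap P (Localization.Away h)) =
      (X.presheaf.map (homOfLE (X.basicOpen_le (φ h))).op).hom.comp φ := by
  haveI := hU.isLocalization_basicOpen (φ h)
  unfold awayChart IsLocalization.Away.map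
  exact IsLocalization.map_comp (M := Submonoid.powers h) (T := Submonoid.powers (φ h))
    (Q := Γ(X, X.basicOpen (φ h))) _

lemma awayChart_surjective (hφ : Function.Surjective φ) : Function.Surjective (awayChart hU φ h) := by
  haveI := hU.isLocalization_basicOpen (φ h)
  refine (IsLocalization.Away.map_surjective_iff (S := Localization.Away h)
    (Q := Γ(X, X.basicOpen (φ h))) φ h).2 (fun a => ?_)
  obtain ⟨b, rfl⟩ := hφ a
  exact ⟨b, 0, by simp⟩

lemma chartMap_preimage_basicOpen :
    chartMap U φ ⁻¹ᵁ PrimeSpectrum.basicOpen h = U.ι ⁻¹ᵁ X.basicOpen (φ h) := by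
  unfold chartMap
  rw [Scheme.Hom.comp_preimage]
  erw [SpecMap_preimage_basicOpen]
  exact Scheme.Opens.toSpecΓ_preimage_basicOpen U (φ h)

theorem pc_awayChart_iff (G : CochainComplex X.Modules ℤ) (m : ℤ) :
    DCoh.IsPseudoCoherentD m
        ((DCoh.restrictD (Spec.map (CommRingCat.ofHom (algebraMap P (Localization.Away h))))).obj
          (DCoh.toD (Spec (CommRingCat.of P)) ((DerSch.pushCx (chartMap U φ)).obj ((resCx U.ι).obj G)))) ↔
      DCoh.IsPseudoCoherentD m
        (DCoh.toD (Spec (CommRingCat.of (Localization.Away h)))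
          ((DerSch.pushCx (chartMap (X.basicOpen (φ h)) (awayChart hU φ h))).obj
            ((resCx (X.basicOpen (φ h)).ι).obj G))) := by
  refine pc_chart_restrict_iff (X.basicOpen_le (φ h)) φ (awayChart hU φ h)
    (algebraMap P (Localization.Away h)) (awayChart_comp hU φ h) ?_ G m
  rw [Scheme.opensRange_homOfLE]
  have := Scheme.Hom.opensRange_localizationAway (R := CommRingCat.of P) h
  erw [this]
  rw [chartMap_preimage_basicOpen]

end away

section charts

/-- a "generalized chart" through a pseudo-coherent `R`-algebra `P` may be replaced by an honest chart -/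
theorem exists_chart_of_pch {R P : Type u} [CommRing R] [CommRing P] (ι : R →+* P) (hι : PCH ι)
    {X : Scheme.{u}} (U : X.Opens) (φ : P →+* Γ(X, U)) :
    ∃ (n : ℕ) (θ : MvPolynomial (Fin n) R →+* P), θ.comp MvPolynomial.C = ι ∧ Function.Surjective θ ∧
      ∀ (K : CochainComplex (U : Scheme.{u}).Modules ℤ) (m : ℤ),
        DCoh.IsPseudoCoherentD m (DCoh.toD (Spec (CommRingCat.of P)) ((DerSch.pushCx (chartMap U φ)).obj K)) ↔
          DCoh.IsPseudoCoherentD m (DCoh.toD (Spec (CommRingCat.of (MvPolynomial (Fin n) R)))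
            ((DerSch.pushCx (chartMap U (φ.comp θ))).obj K)) := by
  obtain ⟨n, θ, h1, h2, h3⟩ := hι
  exact ⟨n, θ, h1, h2, fun K m => pc_chart_comp_iff U φ θ h2 h3 K m⟩

variable {X S : Scheme.{u}} (f : X ⟶ S)

/-- **shrinking the source**: a chart on `(U, V)` induces a chart on `(D(g), V)` -/
theorem exists_chartPC_basicOpen (V : S.Opens) (U : X.Opens) (hU : IsAffineOpen U)
    (hUV : U ≤ f ⁻¹ᵁ V) (m : ℤ) (E : DCoh.D X) {n : ℕ} (φ : MvPolynomial (Fin n) Γ(S, V) →+* Γ(X, U))
    (hφ : DerSch.IsChart f U V hUV φ) (hE : DerSch.ChartPC m E U V φ) (g : Γ(X, U))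
    (h' : X.basicOpen g ≤ f ⁻¹ᵁ V) :
    ∃ (k : ℕ) (ψ : MvPolynomial (Fin k) Γ(S, V) →+* Γ(X, X.basicOpen g)),
      DerSch.IsChart f (X.basicOpen g) V h' ψ ∧ DerSch.ChartPC m E (X.basicOpen g) V ψ := by
  obtain ⟨hh, rfl⟩ := hφ.1 g
  let ι : Γ(S, V) →+* Localization.Away hh :=
    (algebraMap (MvPolynomial (Fin n) Γ(S, V)) (Localization.Away hh)).comp MvPolynomial.C
  have hι : PCH ι := pch_comp _ _ (pch_C n) (pch_away hh)
  obtain ⟨k, θ, hθC, hθs, hiff⟩ := exists_chart_of_pch ι hι (X.basicOpen (φ hh)) (awayChart hU φ hh)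
  refine ⟨k, (awayChart hU φ hh).comp θ, ⟨(awayChart_surjective hU φ hh hφ.1).comp hθs, ?_⟩, ?_⟩
  · rw [RingHom.comp_assoc, hθC]
    show (awayChart hU φ hh).comp ((algebraMap _ _).comp MvPolynomial.C) = _
    rw [← RingHom.comp_assoc, awayChart_comp, RingHom.comp_assoc, hφ.2, ← CommRingCat.hom_comp,
      Scheme.Hom.appLE_map]
  · intro G hG
    exact (hiff _ m).1 ((pc_awayChart_iff hU φ hh G m).1
      (isPseudoCoherentD_restrictD_of_isOpenImmersion _ (hE G hG)))

/-- **enlarging the base**: a chart over `D(r) ⊆ V` induces a chart over `V` -/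
theorem exists_chartPC_of_basicOpen_base (V : S.Opens) (hV : IsAffineOpen V) (r : Γ(S, V)) (U : X.Opens)
    (hUr : U ≤ f ⁻¹ᵁ S.basicOpen r) (hUV : U ≤ f ⁻¹ᵁ V) (m : ℤ) (E : DCoh.D X) {n : ℕ}
    (φ : MvPolynomial (Fin n) Γ(S, S.basicOpen r) →+* Γ(X, U))
    (hφ : DerSch.IsChart f U (S.basicOpen r) hUr φ) (hE : DerSch.ChartPC m E U (S.basicOpen r) φ) :
    ∃ (k : ℕ) (ψ : MvPolynomial (Fin k) Γ(S, V) →+* Γ(X, U)),
      DerSch.IsChart f U V hUV ψ ∧ DerSch.ChartPC m E U V ψ := by
  haveI := hV.isLocalization_basicOpen r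
  let ι : Γ(S, V) →+* MvPolynomial (Fin n) Γ(S, S.basicOpen r) :=
    MvPolynomial.C.comp (algebraMap Γ(S, V) Γ(S, S.basicOpen r))
  have hι : PCH ι := pch_comp _ _ (pch_away r) (pch_C n)
  obtain ⟨k, θ, hθC, hθs, hiff⟩ := exists_chart_of_pch ι hι U φ
  refine ⟨k, φ.comp θ, ⟨hφ.1.comp hθs, ?_⟩, ?_⟩
  · rw [RingHom.comp_assoc, hθC]
    show φ.comp (MvPolynomial.C.comp _) = _
    rw [← RingHom.comp_assoc, hφ.2]
    show (f.appLE (S.basicOpen r) U hUr).hom.comp (S.presheaf.map (homOfLE (S.basicOpen_le r)).op).hom = _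
    rw [← CommRingCat.hom_comp, Scheme.Hom.map_appLE]
  · intro G hG
    exact (hiff _ m).1 (hE G hG)

end charts

end Groth.Agent.Lib.Helper25.ClPush
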