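import Mathlib
import Groth.Agent.Lib.Helper25.ClPush6

/-!
# helper25: charts for relative pseudo-coherence: independence of the chart and gluing on the source

* `chartPC_of_chartPC`: independence of the chart.
* `chartPC_of_cover`: if every point of the affine open `U` has a basic open neighbourhood `D(g)` with a chart over `V` along
  which `E` is `m`-pseudo-coherent, then so is `E` along every chart of `(U, V)`.
-/

set_option autoImplicit false
universe u
open CategoryTheory CategoryTheory.Limits AlgebraicGeometry Opposite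
open Scheme.Modules

attribute [local instance] HasDerivedCategory.standard

namespace Groth.Agent.Lib.Helper25.ClPush

open Groth.Agent.Lib.Helper25.OpenBC
open Groth.Agent.Lib.helper25.DCohRestrict Groth.Agent.Lib.helper25.DCohPC3
open Groth.Agent.Lib.helper3.PCHomLoc Groth.Agent.Lib.helper23.DRingPC

attribute [local instance] Groth.Agent.Lib.Helper25.RelPC.preservesFiniteLimits_push
  Groth.Agent.Lib.Helper25.RelPC.preservesFiniteColimits_push

variable {X S : Scheme.{u}} (f : X ⟶ S)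

/-- independence of the chart (statement S7207 as a library lemma) -/
theorem chartPC_of_chartPC (U : X.Opens) (V : S.Opens) (h : U ≤ f ⁻¹ᵁ V) (m : ℤ) (E : DCoh.D X)
    {n : ℕ} (φ : MvPolynomial (Fin n) Γ(S, V) →+* Γ(X, U)) (hφ : DerSch.IsChart f U V h φ)
    (hE : DerSch.ChartPC m E U V φ)
    {k : ℕ} (ψ : MvPolynomial (Fin k) Γ(S, V) →+* Γ(X, U)) (hψ : DerSch.IsChart f U V h ψ) :
    DerSch.ChartPC m E U V ψ := by
  classical
  intro G hG
  have h0 := hE G hG
  obtain ⟨hφs, hφC⟩ := hφ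
  obtain ⟨hψs, hψC⟩ := hψ
  choose a ha using fun j : Fin k => hφs (ψ (MvPolynomial.X j))
  choose b hb using fun i : Fin n => hψs (φ (MvPolynomial.X i))
  let θ₁ : MvPolynomial (Fin k) (MvPolynomial (Fin n) Γ(S, V)) →+* MvPolynomial (Fin n) Γ(S, V) :=
    MvPolynomial.eval₂Hom (RingHom.id _) a
  let θ₂ : MvPolynomial (Fin n) (MvPolynomial (Fin k) Γ(S, V)) →+* MvPolynomial (Fin k) Γ(S, V) :=
    MvPolynomial.eval₂Hom (RingHom.id _) b
  let σ : MvPolynomial (Fin k) (MvPolynomial (Fin n) Γ(S, V)) ≃+*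
      MvPolynomial (Fin n) (MvPolynomial (Fin k) Γ(S, V)) :=
    (MvPolynomial.commAlgEquiv Γ(S, V) (Fin k) (Fin n)).toRingEquiv
  have hθ₁s : Function.Surjective θ₁ := fun p => ⟨MvPolynomial.C p, by simp [θ₁]⟩
  have hθ₂s : Function.Surjective θ₂ := fun p => ⟨MvPolynomial.C p, by simp [θ₂]⟩
  have key : (ψ.comp θ₂).comp σ.toRingHom = φ.comp θ₁ := by
    refine MvPolynomial.ringHom_ext (fun p => ?_) (fun j => ?_)
    · have : (((ψ.comp θ₂).comp σ.toRingHom).comp MvPolynomial.C) = ((φ.comp θ₁).comp MvPolynomial.C) := by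
        refine MvPolynomial.ringHom_ext (fun r => ?_) (fun i => ?_)
        · have h1 := congrArg (fun f : Γ(S, V) →+* Γ(X, U) => f r) hφC
          have h2 := congrArg (fun f : Γ(S, V) →+* Γ(X, U) => f r) hψC
          simp only [RingHom.comp_apply] at h1 h2
          simp [θ₁, θ₂, σ, h1, h2]
        · simp [θ₁, θ₂, σ, hb]
      exact congrArg (fun f : MvPolynomial (Fin n) Γ(S, V) →+* Γ(X, U) => f p) this
    · simp [θ₁, θ₂, σ, ha]
  have h1 := (pc_chart_comp_iff U φ θ₁ hθ₁s (pcHom_eval a) ((DCoh.restrictCx U).obj G) m).1 h0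
  rw [← key] at h1
  have h2 := (pc_chart_comp_iff U (ψ.comp θ₂) σ.toRingHom σ.surjective
    (pcHom_ringEquiv σ) ((DCoh.restrictCx U).obj G) m).2 h1
  exact (pc_chart_comp_iff U ψ θ₂ hθ₂s (pcHom_eval b) ((DCoh.restrictCx U).obj G) m).2 h2

/-- the localized chart composed with a presentation is a chart -/
lemma isChart_awayChart_comp (V : S.Opens) (U : X.Opens) (hU : IsAffineOpen U)
    (hUV : U ≤ f ⁻¹ᵁ V) {n : ℕ} (φ : MvPolynomial (Fin n) Γ(S, V) →+* Γ(X, U))
    (hφ : DerSch.IsChart f U V hUV φ) (hh : MvPolynomial (Fin n) Γ(S, V))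
    (h' : X.basicOpen (φ hh) ≤ f ⁻¹ᵁ V) {k : ℕ}
    (θ : MvPolynomial (Fin k) Γ(S, V) →+* Localization.Away hh)
    (hθC : θ.comp MvPolynomial.C =
      (algebraMap (MvPolynomial (Fin n) Γ(S, V)) (Localization.Away hh)).comp MvPolynomial.C)
    (hθs : Function.Surjective θ) :
    DerSch.IsChart f (X.basicOpen (φ hh)) V h' ((awayChart hU φ hh).comp θ) := by
  refine ⟨(awayChart_surjective hU φ hh hφ.1).comp hθs, ?_⟩
  rw [RingHom.comp_assoc, hθC, ← RingHom.comp_assoc, awayChart_comp, RingHom.comp_assoc, hφ.2,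
    ← CommRingCat.hom_comp, Scheme.Hom.appLE_map]

/-- **gluing on the source**: if every point of the affine open `U` has a basic open neighbourhood `D(g)` carrying a chart over
`V` along which `E` is `m`-pseudo-coherent, then `E` is `m`-pseudo-coherent along every chart of `(U, V)` -/
theorem chartPC_of_cover (U : X.Opens) (hU : IsAffineOpen U) (V : S.Opens)
    (hUV : U ≤ f ⁻¹ᵁ V) (m : ℤ) (E : DCoh.D X)
    {n : ℕ} (φ₀ : MvPolynomial (Fin n) Γ(S, V) →+* Γ(X, U)) (hφ₀ : DerSch.IsChart f U V hUV φ₀)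
    (hcov : ∀ x : X, x ∈ U → ∃ g : Γ(X, U), x ∈ X.basicOpen g ∧
      ∃ (k : ℕ) (ψ : MvPolynomial (Fin k) Γ(S, V) →+* Γ(X, X.basicOpen g)),
        DerSch.IsChart f (X.basicOpen g) V ((X.basicOpen_le g).trans hUV) ψ ∧
          DerSch.ChartPC m E (X.basicOpen g) V ψ) :
    DerSch.ChartPC m E U V φ₀ := by
  intro G hG
  haveI : IsClosedImmersion (chartMap U φ₀) :=
    Groth.Agent.Lib.Helper25.RelPC.isClosedImmersion_chartImm U hU φ₀ hφ₀.1
  show DCoh.IsPseudoCoherentD m (DCoh.toD _ ((DerSch.pushCx (chartMap U φ₀)).obj ((resCx U.ι).obj G)))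
  refine isPseudoCoherentD_of_openImmersions (fun x => ?_)
  by_cases hx : x ∈ Set.range (chartMap U φ₀)
  · obtain ⟨u, rfl⟩ := hx
    obtain ⟨g, hug, k, ψ, hψ, hψpc⟩ := hcov u.1 u.2
    obtain ⟨hh, rfl⟩ := hφ₀.1 g
    refine ⟨Spec (CommRingCat.of (Localization.Away hh)),
      Spec.map (CommRingCat.ofHom (algebraMap _ (Localization.Away hh))), inferInstance, ?_, ?_⟩
    · have h1 : u ∈ chartMap U φ₀ ⁻¹ᵁ PrimeSpectrum.basicOpen hh := by
        rw [chartMap_preimage_basicOpen]
        exact hug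
      have h2 := Scheme.Hom.opensRange_localizationAway
        (R := CommRingCat.of (MvPolynomial (Fin n) Γ(S, V))) hh
      have h3 : chartMap U φ₀ u ∈ (Spec.map (CommRingCat.ofHom (algebraMap
          (MvPolynomial (Fin n) Γ(S, V)) (Localization.Away hh)))).opensRange := by
        erw [h2]
        exact h1
      exact h3
    · refine (pc_awayChart_iff hU φ₀ hh G m).2 ?_
      let ι : Γ(S, V) →+* Localization.Away hh :=
        (algebraMap (MvPolynomial (Fin n) Γ(S, V)) (Localization.Away hh)).comp MvPolynomial.C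
      have hι : PCH ι := pch_comp _ _ (pch_C n) (pch_away hh)
      obtain ⟨k', θ, hθC, hθs, hiff⟩ :=
        exists_chart_of_pch ι hι (X.basicOpen (φ₀ hh)) (awayChart hU φ₀ hh)
      refine (hiff _ m).2 ?_
      have hchart := isChart_awayChart_comp f V U hU hUV φ₀ hφ₀ hh
        ((X.basicOpen_le _).trans hUV) θ hθC hθs
      exact chartPC_of_chartPC f _ V _ m E ψ hψ hψpc _ hchart G hG
  · let W : (Spec (CommRingCat.of (MvPolynomial (Fin n) Γ(S, V)))).Opens :=
      ⟨(Set.range (chartMap U φ₀))ᶜ, (chartMap U φ₀).isClosedEmbedding.isClosed_range.isOpen_compl⟩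
    refine ⟨W, W.ι, inferInstance, ?_, ?_⟩
    · rw [Scheme.Opens.range_ι]
      exact hx
    · have e : (pushD (chartMap U φ₀)).obj (DCoh.toD _ ((resCx U.ι).obj G)) ≅
          DCoh.toD _ ((DerSch.pushCx (chartMap U φ₀)).obj ((resCx U.ι).obj G)) :=
        (pushforward (chartMap U φ₀)).mapDerivedCategoryFactors.app _
      exact isPseudoCoherentD_of_iso ((DCoh.restrictD W.ι).mapIso e)
        (pc_pushD_restrict_of_disjoint (DCoh.toD _ ((resCx U.ι).obj G)) W (fun z hz => hz ⟨z, rfl⟩) m)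

end Groth.Agent.Lib.Helper25.ClPush
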