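import Mathlib
import Groth.Agent.Lib.Helper25.ClPush7

/-!
# helper25: charts for relative pseudo-coherence: shrinking the base to a basic open

* `exists_chartPC_over_basicOpen`: a chart over `V` of an open `U` lying over `D(r) ⊆ V` induces a chart over `D(r)`.
* `exists_chartPC_of_isPseudoCoherentRel`: relative pseudo-coherence gives charts on every pair of affine opens.
-/

set_option autoImplicit false
universe u
open CategoryTheory CategoryTheory.Limits AlgebraicGeometry Opposite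
open Scheme.Modules

attribute [local instance] HasDerivedCategory.standard

namespace Groth.Agent.Lib.Helper25.ClPush

open Groth.Agent.Lib.Helper25.OpenBC
open Groth.Agent.Lib.helper25.DCohRestrict Groth.Agent.Lib.helper25.DCohPC3
open Groth.Agent.Lib.helper3.PCHomLoc Groth.Agent.Lib.helper23.DRingPC

variable {X S : Scheme.{u}} (f : X ⟶ S)

attribute [local instance] MvPolynomial.algebraMvPolynomial in
lemma isOpenImmersion_spec_map_mvPolynomial {R R' : Type u} [CommRing R] [CommRing R'] [Algebra R R'] (r : R)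
    [IsLocalization.Away r R'] (n : ℕ) :
    IsOpenImmersion (Spec.map (CommRingCat.ofHom
      (MvPolynomial.map (σ := Fin n) (algebraMap R R')))) := by
  haveI : IsLocalization.Away (MvPolynomial.C (σ := Fin n) r) (MvPolynomial (Fin n) R') := by
    have := MvPolynomial.isLocalization (σ := Fin n) (Submonoid.powers r) R'
    rw [Submonoid.map_powers] at this
    exact this
  have := IsOpenImmersion.of_isLocalization (R := MvPolynomial (Fin n) R) (S := MvPolynomial (Fin n) R')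
    (MvPolynomial.C (σ := Fin n) r)
  rwa [MvPolynomial.algebraMap_def] at this

/-- **shrinking the base**: a chart over `V` of an open `U` lying over `D(r) ⊆ V` induces a chart over `D(r)` -/
theorem exists_chartPC_over_basicOpen (V : S.Opens) (hV : IsAffineOpen V) (r : Γ(S, V)) (U : X.Opens)
    (hUV : U ≤ f ⁻¹ᵁ V) (hUr : U ≤ f ⁻¹ᵁ S.basicOpen r) (m : ℤ) (E : DCoh.D X) {n : ℕ}
    (φ : MvPolynomial (Fin n) Γ(S, V) →+* Γ(X, U))
    (hφ : DerSch.IsChart f U V hUV φ) (hE : DerSch.ChartPC m E U V φ) :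
    ∃ (ψ : MvPolynomial (Fin n) Γ(S, S.basicOpen r) →+* Γ(X, U)),
      DerSch.IsChart f U (S.basicOpen r) hUr ψ ∧ DerSch.ChartPC m E U (S.basicOpen r) ψ := by
  haveI := hV.isLocalization_basicOpen r
  let ψ : MvPolynomial (Fin n) Γ(S, S.basicOpen r) →+* Γ(X, U) :=
    MvPolynomial.eval₂Hom (f.appLE (S.basicOpen r) U hUr).hom (fun i => φ (MvPolynomial.X i))
  let lam : MvPolynomial (Fin n) Γ(S, V) →+* MvPolynomial (Fin n) Γ(S, S.basicOpen r) :=
    MvPolynomial.map (algebraMap Γ(S, V) Γ(S, S.basicOpen r))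
  have hcomp : ψ.comp lam = φ := by
    refine MvPolynomial.ringHom_ext (fun a => ?_) (fun i => ?_)
    · have h1 := DFunLike.congr_fun hφ.2 a
      simp only [RingHom.comp_apply] at h1
      have h2 : (f.appLE (S.basicOpen r) U hUr).hom (algebraMap Γ(S, V) Γ(S, S.basicOpen r) a) =
          (f.appLE V U hUV).hom a := by
        show ((S.presheaf.map (homOfLE (S.basicOpen_le r)).op ≫ f.appLE (S.basicOpen r) U hUr)).hom a = _
        rw [Scheme.Hom.map_appLE]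
      simp [ψ, lam, h1, h2]
    · simp [ψ, lam]
  haveI : IsOpenImmersion (Spec.map (CommRingCat.ofHom lam)) :=
    isOpenImmersion_spec_map_mvPolynomial r n
  refine ⟨ψ, ⟨?_, ?_⟩, ?_⟩
  · intro y
    obtain ⟨p, rfl⟩ := hφ.1 y
    exact ⟨lam p, DFunLike.congr_fun hcomp p⟩
  · ext a
    simp [ψ]
  · intro G hG
    refine pc_chart_localize (le_refl U) φ ψ lam ?_ ?_ G m (hE G hG)
    · have hid : (X.presheaf.map (homOfLE (le_refl U)).op).hom = RingHom.id _ := by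
        have : (homOfLE (le_refl U)).op = 𝟙 (op U) := rfl
        rw [this, X.presheaf.map_id]
        rfl
      rw [hcomp, hid, RingHom.id_comp]
    · intro x _
      rw [Scheme.opensRange_homOfLE]
      exact x.2

/-- the chart form of relative pseudo-coherence holds on every pair of affine opens -/
theorem exists_chartPC_of_isPseudoCoherentRel [LocallyOfFiniteType f] (m : ℤ) (E : DCoh.D X)
    (hE : DerSch.IsPseudoCoherentRel f m E) (U : X.Opens) (hU : IsAffineOpen U) (V : S.Opens)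
    (hV : IsAffineOpen V) (h : U ≤ f ⁻¹ᵁ V) :
    ∃ (n : ℕ) (φ : MvPolynomial (Fin n) Γ(S, V) →+* Γ(X, U)),
      DerSch.IsChart f U V h φ ∧ DerSch.ChartPC m E U V φ := by
  obtain ⟨-, 𝒱, h𝒱, H⟩ := hE
  have hft : (f.appLE V U h).hom.FiniteType := LocallyOfFiniteType.finiteType_appLE f hV hU h
  letI := (f.appLE V U h).hom.toAlgebra
  have hft' : Algebra.FiniteType Γ(S, V) Γ(X, U) := hft
  obtain ⟨n, φa, hφa⟩ := Algebra.FiniteType.iff_quotient_mvPolynomial''.1 hft'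
  have hφ₀ : DerSch.IsChart f U V h φa.toRingHom := by
    refine ⟨hφa, ?_⟩
    ext r
    simp only [RingHom.comp_apply]
    rw [← MvPolynomial.algebraMap_eq]
    exact φa.commutes r
  refine ⟨n, φa.toRingHom, hφ₀, chartPC_of_cover f U hU V h m E _ hφ₀ (fun x hx => ?_)⟩
  -- a member `V₀` of the cover of `S` containing `f x`
  have hfx : f x ∈ (⨆ V₀ ∈ 𝒱, (V₀ : S.Opens)) := by
    rw [h𝒱]
    trivial
  obtain ⟨V₀, hfx'⟩ := TopologicalSpace.Opens.mem_iSup.1 hfx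
  obtain ⟨hV₀, hfxV₀⟩ := TopologicalSpace.Opens.mem_iSup.1 hfx'
  obtain ⟨𝒰, h𝒰, HU⟩ := H V₀ hV₀
  have hx₀ : x ∈ (⨆ U₀ ∈ 𝒰, (U₀ : X.Opens)) := by
    rw [h𝒰]
    exact hfxV₀
  obtain ⟨U₀, hx₀'⟩ := TopologicalSpace.Opens.mem_iSup.1 hx₀
  obtain ⟨hU₀, hxU₀⟩ := TopologicalSpace.Opens.mem_iSup.1 hx₀'
  have h₀ : (U₀ : X.Opens) ≤ f ⁻¹ᵁ (V₀ : S.Opens) := by
    rw [← h𝒰]
    exact le_iSup₂ (f := fun (U₀ : X.affineOpens) (_ : U₀ ∈ 𝒰) => (U₀ : X.Opens)) U₀ hU₀
  obtain ⟨n₁, φ₁, hφ₁, hpc₁⟩ := HU U₀ hU₀ h₀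
  -- basic opens
  obtain ⟨r, r₀, hrr₀, hfxr⟩ := exists_basicOpen_le_affine_inter hV V₀.2 (f x) ⟨h hx, hfxV₀⟩
  obtain ⟨g', g₀', hgg₀', hxg'⟩ := exists_basicOpen_le_affine_inter hU U₀.2 x ⟨hx, hxU₀⟩
  let g : Γ(X, U) := g' * (f.appLE V U h).hom r
  let g₀ : Γ(X, (U₀ : X.Opens)) := g₀' * (f.appLE (V₀ : S.Opens) (U₀ : X.Opens) h₀).hom r₀
  have hg : X.basicOpen g = X.basicOpen g' ⊓ f ⁻¹ᵁ S.basicOpen r := by
    show X.basicOpen (g' * _) = _
    rw [Scheme.basicOpen_mul]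
    erw [Scheme.basicOpen_appLE]
    rw [← inf_assoc, inf_eq_left.2 (X.basicOpen_le g')]
  have hg₀ : X.basicOpen g₀ = X.basicOpen g₀' ⊓ f ⁻¹ᵁ S.basicOpen r₀ := by
    show X.basicOpen (g₀' * _) = _
    rw [Scheme.basicOpen_mul]
    erw [Scheme.basicOpen_appLE]
    rw [← inf_assoc, inf_eq_left.2 (X.basicOpen_le g₀')]
  have hgg₀ : X.basicOpen g = X.basicOpen g₀ := by rw [hg, hg₀, hgg₀', hrr₀]
  have hxg : x ∈ X.basicOpen g := by
    rw [hg]
    exact ⟨hxg', hfxr⟩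
  have hgr : X.basicOpen g ≤ f ⁻¹ᵁ S.basicOpen r := by
    rw [hg]
    exact inf_le_right
  have hg₀r₀ : X.basicOpen g₀ ≤ f ⁻¹ᵁ S.basicOpen r₀ := by
    rw [hg₀]
    exact inf_le_right
  refine ⟨g, hxg, ?_⟩
  -- chain of charts
  obtain ⟨k₂, φ₂, hφ₂, hpc₂⟩ := exists_chartPC_basicOpen f (V₀ : S.Opens) (U₀ : X.Opens) U₀.2 h₀ m E φ₁ hφ₁ hpc₁
    g₀ ((X.basicOpen_le g₀).trans h₀)
  obtain ⟨φ₃, hφ₃, hpc₃⟩ := exists_chartPC_over_basicOpen f (V₀ : S.Opens) V₀.2 r₀ (X.basicOpen g₀)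
    ((X.basicOpen_le g₀).trans h₀) hg₀r₀ m E φ₂ hφ₂ hpc₂
  have key : ∀ (D : X.Opens) (W : S.Opens), D = X.basicOpen g₀ → W = S.basicOpen r₀ →
      ∃ (hDW : D ≤ f ⁻¹ᵁ W) (k : ℕ) (ψ : MvPolynomial (Fin k) Γ(S, W) →+* Γ(X, D)),
        DerSch.IsChart f D W hDW ψ ∧ DerSch.ChartPC m E D W ψ := by
    rintro D W rfl rfl
    exact ⟨hg₀r₀, k₂, φ₃, hφ₃, hpc₃⟩
  obtain ⟨hDW, k₄, φ₄, hφ₄, hpc₄⟩ := key (X.basicOpen g) (S.basicOpen r) hgg₀ hrr₀
  exact exists_chartPC_of_basicOpen_base f V hV r (X.basicOpen g) hDW ((X.basicOpen_le g).trans h) m E φ₄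
    hφ₄ hpc₄

end Groth.Agent.Lib.Helper25.ClPush
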