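import Groth.Agent.Lib.Helper25.RHomQCoh2

/-!
# `RHom(K, L) ∈ D^{≥ a - b}` for `K ∈ D^{≤ b}`, `L ∈ D^{≥ a}` (helper25)

* `isLE_restrictD`: restriction to opens preserves `D^{≤ n}`.
* `isGE_RHom`: `K` K-flat with `Q K ∈ D^{≤ b}`, `H` right adjoint to `- ⊗^L K`, `L ∈ D^{≥ a}` ⟹ `H L ∈ D^{≥ a - b}`
  (maps `O_W[-j] ⟶ (H L)|_W` correspond to maps `(K|_W)[-j] ⟶ L|_W`, which vanish for `j < a - b`).
-/

set_option autoImplicit false
universe u
open CategoryTheory CategoryTheory.Limits AlgebraicGeometry Opposite TopologicalSpace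
attribute [local instance] HasDerivedCategory.standard

namespace Groth.Agent.Lib.Helper25.RHomBdd

open Pretriangulated DerivedCategory Scheme.Modules
open Groth.Agent.Lib.Helper25.HomLocPerf Groth.Agent.Lib.Helper25.QCCEv
  Groth.Agent.Lib.Helper25.RHomRestrict Groth.Agent.Lib.Helper25.LTensorRestrict
  Groth.Agent.Lib.helper25.DCohRestrict Groth.Agent.Lib.Helper25.TensorSp
  Groth.Agent.Lib.Helper25.DetectBasis

attribute [local instance] Groth.Agent.Lib.Helper25.LTensorRestrict.hasLTensorCx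

variable {X : Scheme.{u}}

/-- restriction along an open immersion preserves `D^{≤ n}` -/
lemma isLE_restrictD {Y Z : Scheme.{u}} (g : Z ⟶ Y) [IsOpenImmersion g] (K : DCoh.D Y) (n : ℤ)
    (hK : K.IsLE n) : ((DCoh.restrictD g).obj K).IsLE n := by
  rw [DerivedCategory.isLE_iff]
  intro i hi
  obtain ⟨e⟩ := Groth.Agent.Lib.Helper25.DerBC.nonempty_homology_mapDerivedCategory_iso
    (restrictFunctor g) K i
  exact IsZero.of_iso (Functor.map_isZero _ (isZero_of_isLE K n i hi)) e

lemma isBasis_univ : Opens.IsBasis (Set.univ : Set X.Opens) := by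
  rw [Opens.isBasis_iff_nbhd]
  intro U x hx
  exact ⟨U, Set.mem_univ _, hx, le_rfl⟩

/-- **boundedness of `RHom`** -/
theorem isGE_RHom (K : CochainComplex X.Modules ℤ) (hK : DCoh.IsKFlat K) (b : ℤ)
    [(DerivedCategory.Q.obj K).IsLE b] {H : DCoh.D X ⥤ DCoh.D X} (adjT : DCoh.LTensorCx K ⊣ H)
    (L : DCoh.D X) (a : ℤ) [L.IsGE a] : (H.obj L).IsGE (a - b) := by
  rw [DerivedCategory.isGE_iff]
  intro j hj
  apply isZero_HD_of_basis Set.univ isBasis_univ (H.obj L) j
  intro W _ σ
  obtain ⟨H', adj', hL'⟩ := exists_restrict_opens W K hK adjT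
  obtain ⟨i⟩ := hL' L
  let K' := (resCx W.ι).obj K
  have hK' : DCoh.IsKFlat K' := isKFlat_res W.ι K hK
  let T' := DCoh.LTensorCx K'
  haveI : T'.Additive := by
    haveI : T'.IsLeftAdjoint := adj'.isLeftAdjoint
    haveI := preservesBinaryBiproducts_of_preservesBinaryCoproducts T'
    exact Functor.additive_of_preservesBinaryBiproducts T'
  haveI : H'.Additive := adj'.right_adjoint_additive
  -- the adjoint map vanishes
  let τ : T'.obj (Sp (W : Scheme.{u}) j) ⟶ (DCoh.restrictD W.ι).obj L :=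
    (adj'.homEquiv _ _).symm (σ ≫ i.hom)
  have hτ : τ = 0 := by
    haveI h0 : ((DCoh.restrictD W.ι).obj (DerivedCategory.Q.obj K)).IsLE b :=
      isLE_restrictD W.ι _ b inferInstance
    haveI h1 : (DerivedCategory.Q.obj K').IsLE b :=
      DerivedCategory.TStructure.t.isLE_of_iso (resDQIso W.ι K) b
    haveI h2 : ((DerivedCategory.Q.obj K')⟦-j⟧).IsLE (b + j) :=
      DerivedCategory.TStructure.t.isLE_shift _ b (-j) (b + j) (by omega)
    haveI h3 : (T'.obj (Sp (W : Scheme.{u}) j)).IsLE (b + j) :=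
      DerivedCategory.TStructure.t.isLE_of_iso (LTensorSpIso K' hK' j).symm (b + j)
    haveI h4 : ((DCoh.restrictD W.ι).obj L).IsGE a := isGE_restrictD W.ι L a inferInstance
    exact DerivedCategory.TStructure.t.zero_of_isLE_of_isGE τ (b + j) a (by omega) h3 h4
  have hσ : σ ≫ i.hom = 0 := by
    have h5 := congrArg (adj'.homEquiv _ _) hτ
    rw [Equiv.apply_symm_apply] at h5
    rw [h5]
    exact Groth.Agent.Lib.Helper25.QCCRpush.homEquiv_zero adj' _ _
  rw [← cancel_mono i.hom, hσ, zero_comp]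

end Groth.Agent.Lib.Helper25.RHomBdd
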