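import Groth.Agent.Lib.Helper25.TildePC
import Groth.Agent.Lib.Helper25.LTensorCoh
import Groth.Agent.Lib.Helper25.RHomBdd
import Groth.Agent.Lib.Helper23.DRingPC3
import Groth.Agent.Lib.Helper16.QCohPullback2

/-!
# On a locally Noetherian scheme, `D^-_Coh` consists of pseudo-coherent objects (helper25)

* `isCoh_restrict`: restriction of coherent modules along open immersions.
* `isCohD_restrictD`.
* `exists_tildeD_iso_of_isCohD`: on `Spec A`, `A` Noetherian, an object of `D_Coh` is `M~` with `M` having finite cohomology.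
* `isPseudoCoherentD_of_isCohD`: `E ∈ D^-_Coh(O_X)`, `X` locally Noetherian ⟹ `E` is `m`-pseudo-coherent for all `m`.
-/

set_option autoImplicit false
universe u
open CategoryTheory CategoryTheory.Limits AlgebraicGeometry Opposite TopologicalSpace
attribute [local instance] HasDerivedCategory.standard

namespace Groth.Agent.Lib.Helper25.CohPCNoeth

open Pretriangulated DerivedCategory Scheme.Modules
open Groth.Agent.Lib.Helper25.LTensorCoh Groth.Agent.Lib.helper25.DCohPC
  Groth.Agent.Lib.helper25.DCohPerfect Groth.Agent.Lib.Helper25.RHomBdd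
  Groth.Agent.Lib.helper23.DRingPC Groth.Agent.Lib.helper23.PCohCore

variable {X : Scheme.{u}}

/-- restriction of coherent modules along open immersions -/
theorem isCoh_restrict {U : Scheme.{u}} (j : U ⟶ X) [IsOpenImmersion j] {F : X.Modules}
    (hF : Coh.IsCoh F) : Coh.IsCoh ((restrictFunctor j).obj F) := by
  have hq : F.IsQuasicoherent := hF.1
  refine ⟨inferInstance, ?_⟩
  have h1 := Groth.Agent.Lib.helper16.QCohPullback2.isFiniteType_pullback j F hF.2
  exact Groth.Agent.Lib.helper7.CohKer.isFiniteType_of_epi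
    ((restrictFunctorIsoPullback j).inv.app F) h1

/-- restriction to opens preserves `D_Coh` -/
theorem isCohD_restrictD {U : Scheme.{u}} (j : U ⟶ X) [IsOpenImmersion j] (E : DCoh.D X)
    (hE : DCoh.IsCohD E) : DCoh.IsCohD ((DCoh.restrictD j).obj E) := by
  intro i
  obtain ⟨e⟩ := Groth.Agent.Lib.Helper25.DerBC.nonempty_homology_mapDerivedCategory_iso
    (restrictFunctor j) E i
  exact isCoh_of_iso e.symm (isCoh_restrict j (hE i))

section Affine

variable (A : Type u) [CommRing A] [IsNoetherianRing A]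

instance : PreservesFiniteLimits (tilde.functor (CommRingCat.of A)) :=
  Groth.Agent.S9498.preservesFiniteLimits_tilde _

omit [IsNoetherianRing A] in
/-- on an affine scheme, objects of `D_Coh` come from complexes of modules with finite cohomology -/
theorem exists_tildeD_iso_of_isCohD (E : DCoh.D (Spec (CommRingCat.of A))) (hE : DCoh.IsCohD E) :
    ∃ (M : Dual.D A), Nonempty ((DCoh.tildeD (CommRingCat.of A)).obj M ≅ E) ∧
      (∀ i : ℤ, Module.Finite A (Dual.HD A M i)) ∧
      (∀ i : ℤ, IsZero (DCoh.HD E i) → IsZero ((homologyFunctor (ModuleCat.{u} A) i).obj M)) := by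
  have hEq : DCoh.IsQCohD E := fun i => (hE i).1
  obtain ⟨M, ⟨e⟩⟩ := ((Groth.Agent.S0997.main (CommRingCat.of A)).2.2 E).1 hEq
  have eH : ∀ i : ℤ, tilde ((homologyFunctor (ModuleCat.{u} A) i).obj M) ≅ DCoh.HD E i := fun i =>
    ((Groth.Agent.Lib.helper23.HomNat.homologyNatIso (tilde.functor (CommRingCat.of A)) i).app M).symm ≪≫
      (homologyFunctor _ i).mapIso e
  refine ⟨M, ⟨e⟩, fun i => ?_, fun i hi => ?_⟩
  · exact finite_of_isCoh_tilde (CommRingCat.of A) _ (isCoh_of_iso (eH i).symm (hE i))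
  · exact isZero_of_isZero_tilde (CommRingCat.of A) _ (IsZero.of_iso hi (eH i))

/-- on a Noetherian affine scheme, `D^-_Coh` consists of pseudo-coherent objects -/
theorem isPseudoCoherentD_of_isCohD_affine (E : DCoh.D (Spec (CommRingCat.of A))) (b : ℤ) [E.IsLE b]
    (hE : DCoh.IsCohD E) (m : ℤ) : DCoh.IsPseudoCoherentD m E := by
  obtain ⟨M, ⟨e⟩, hfin, hz⟩ := exists_tildeD_iso_of_isCohD A E hE
  have hb : ∀ i : ℤ, b < i → Subsingleton (Dual.HD A M i) := fun i hi =>
    ModuleCat.subsingleton_of_isZero (hz i (isZero_of_isLE E b i hi))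
  have hnpc : ∀ m : ℤ, NPC (FF A) m M :=
    (forall_npc_iff_of_cohRing (cohRing_of_noetherian A) M b hb).2 (fun i => by
      haveI := hfin i
      exact Module.finitePresentation_of_finite A _)
  have hpc : DRing.IsPseudoCoherent A m M := (isPseudoCoherent_iff_npc A m M).2 (hnpc m)
  exact Groth.Agent.Lib.helper25.DCohPC3.isPseudoCoherentD_of_iso e
    (Groth.Agent.Lib.Helper25.TildePC.isPseudoCoherentD_tildeD_of_isPseudoCoherent A M m hpc)

end Affine

/-- **on a locally Noetherian scheme, `D^-_Coh` consists of pseudo-coherent objects** -/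
theorem isPseudoCoherentD_of_isCohD [IsLocallyNoetherian X] (E : DCoh.D X) (b : ℤ) [E.IsLE b]
    (hE : DCoh.IsCohD E) (m : ℤ) : DCoh.IsPseudoCoherentD m E := by
  apply Groth.Agent.Lib.helper25.DCohPC3.isPseudoCoherentD_of_local
  intro x
  obtain ⟨V, hV, hxV, -⟩ := exists_isAffineOpen_mem_and_subset (show x ∈ (⊤ : X.Opens) from trivial)
  haveI : IsNoetherianRing Γ(X, V) := IsLocallyNoetherian.component_noetherian ⟨V, hV⟩
  let j : Spec (CommRingCat.of Γ(X, V)) ⟶ X := hV.fromSpec
  haveI : IsOpenImmersion j := inferInstanceAs (IsOpenImmersion hV.fromSpec)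
  haveI : ((DCoh.restrictD j).obj E).IsLE b := isLE_restrictD j E b inferInstance
  have hpcE' := isPseudoCoherentD_of_isCohD_affine Γ(X, V) ((DCoh.restrictD j).obj E) b
    (isCohD_restrictD j E hE) m
  obtain ⟨x', hx'⟩ : ∃ x', j x' = x := by
    have : x ∈ Set.range hV.fromSpec := by rw [hV.range_fromSpec]; exact hxV
    exact this
  obtain ⟨V', hx'V', hpc'⟩ := exists_pcData hpcE' x'
  refine ⟨V', V'.ι ≫ j, inferInstance, ⟨⟨x', hx'V'⟩, ?_⟩, ?_⟩
  · rw [Scheme.Hom.comp_apply]
    exact hx'
  · obtain ⟨c⟩ := nonempty_restrictD_comp_iso V'.ι j E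
    exact hpc'.of_iso c.symm

end Groth.Agent.Lib.Helper25.CohPCNoeth
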