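import Mathlib
import Groth.Agent.Lib.Helper25.FinFac

/-!
# From bounded-below compactness to compactness, under a vanishing hypothesis (helper25)

`C` triangulated with a t-structure `t`, `K : C`, `n : ℤ` such that
* `Hom(K, L) = 0` for every `L ∈ C^{≤ n-1}`,
* `K` has finite support (`FinFac.FF`) on coproducts of families in `C^{≥ n}`, and these coproducts exist.

Then `K` has finite support on all coproducts (`ff_of_vanishing`).  The argument (the cone of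
`∐ M i ⟶ ∐ τ_{≥ n} M i` lies in `C^{≤ n-2}`, by orthogonality) follows helper1's `CompactCd.bijective_homSum_of_cd`,
which treats `K = P[0]`.
-/

set_option autoImplicit false
universe w v u
open CategoryTheory CategoryTheory.Limits Pretriangulated Triangulated

namespace Groth.Agent.Lib.Helper25.CompactVan

open Groth.Agent.Lib.Helper25.FinFac

variable {C : Type u} [Category.{v} C] [Preadditive C] [HasZeroObject C] [HasShift C ℤ]
  [∀ n : ℤ, (shiftFunctor C n).Additive] [Pretriangulated C] [IsTriangulated C] (t : TStructure C)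

theorem ff_of_vanishing (K : C) (n : ℤ)
    (hV : ∀ L : C, t.IsLE L (n - 1) → ∀ x : K ⟶ L, x = 0)
    (hB : FF.{w} (fun M => t.IsGE M n) K)
    (hcop : ∀ (ι : Type w) (Y : ι → C), (∀ i, t.IsGE (Y i) n) → HasCoproduct Y) :
    FF.{w} (fun _ => True) K := by
  classical
  intro ι M _ A g hc x
  let Y : ι → C := fun i => (t.truncGE n).obj (M i)
  have hY : ∀ i, t.IsGE (Y i) n := fun i => inferInstanceAs (t.IsGE ((t.truncGE n).obj (M i)) n)
  haveI : HasCoproduct Y := hcop ι Y hY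
  let π : ∀ i, M i ⟶ Y i := fun i => (t.truncGEπ n).app (M i)
  let Pm : A ⟶ ∐ Y := Cofan.IsColimit.desc hc (fun i => π i ≫ Sigma.ι Y i)
  have hPm : ∀ i, g i ≫ Pm = π i ≫ Sigma.ι Y i := fun i => Cofan.IsColimit.fac hc _ i
  obtain ⟨G, β, γ, hT⟩ := distinguished_cocone_triangle Pm
  have hI1 : ∀ (W : C), t.IsGE W (n - 1) → ∀ g' : ∐ Y ⟶ W, Pm ≫ g' = 0 → g' = 0 := by
    intro W hW g' hg
    apply Sigma.hom_ext
    intro i
    rw [comp_zero]
    have h1 : π i ≫ (Sigma.ι Y i ≫ g') = 0 := by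
      rw [← Category.assoc, ← hPm, Category.assoc, hg, comp_zero]
    obtain ⟨g'', hg''⟩ := Triangle.yoneda_exact₃ _ (t.triangleLTGE_distinguished n (M i))
      (Sigma.ι Y i ≫ g') h1
    have hA : t.IsLE (((t.truncLT n).obj (M i))⟦(1 : ℤ)⟧) (n - 2) :=
      t.isLE_shift _ (n - 1) 1 (n - 2) (by omega)
    have h2 : g'' = 0 := t.zero_of_isLE_of_isGE g'' (n - 2) (n - 1) (by omega) hA hW
    rw [h2] at hg''
    exact hg''.trans comp_zero
  have hS1 : ∀ (Z : C), t.IsGE Z (n - 1) → ∀ g' : A⟦(1 : ℤ)⟧ ⟶ Z,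
      ∃ g'' : (∐ Y)⟦(1 : ℤ)⟧ ⟶ Z, g' = Pm⟦(1 : ℤ)⟧' ≫ g'' := by
    intro Z hZ g'
    let εZ : (Z⟦(-1 : ℤ)⟧)⟦(1 : ℤ)⟧ ≅ Z :=
      (shiftFunctorCompIsoId C (-1 : ℤ) 1 (by norm_num)).app Z
    have hZ' : t.IsGE (Z⟦(-1 : ℤ)⟧) n := t.isGE_shift Z (n - 1) (-1) n (by omega)
    obtain ⟨h, hh⟩ := (shiftFunctor C (1 : ℤ)).map_surjective (g' ≫ εZ.inv)
    let h' : ∐ Y ⟶ Z⟦(-1 : ℤ)⟧ := Sigma.desc (fun i => t.descTruncGE (g i ≫ h) n)
    have hh' : Pm ≫ h' = h := by
      refine Cofan.IsColimit.hom_ext hc _ _ (fun i => ?_)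
      change g i ≫ Pm ≫ h' = g i ≫ h
      rw [← Category.assoc, hPm, Category.assoc, Sigma.ι_desc, t.π_descTruncGE]
    refine ⟨h'⟦(1 : ℤ)⟧' ≫ εZ.hom, ?_⟩
    rw [← Category.assoc, ← Functor.map_comp, hh', hh, Category.assoc, Iso.inv_hom_id,
      Category.comp_id]
  have hG : t.IsLE G (n - 2) := by
    rw [t.isLE_iff_orthogonal (n - 2) (n - 1) (by omega)]
    intro Z g' hZ
    have h1 : β ≫ g' = 0 := hI1 Z hZ (β ≫ g') (by
      rw [← Category.assoc]
      have := comp_distTriang_mor_zero₁₂ _ hT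
      exact (congrArg (fun f => f ≫ g') this).trans zero_comp)
    obtain ⟨g'', hg''⟩ := Triangle.yoneda_exact₃ _ hT g' h1
    obtain ⟨g''', hg'''⟩ := hS1 Z hZ g''
    have h3 := comp_distTriang_mor_zero₃₁ _ hT
    rw [hg'', hg''']
    exact (Category.assoc _ _ _).symm.trans ((congrArg (fun f => f ≫ g''') h3).trans zero_comp)
  have hstar : ∀ x : K ⟶ A, x ≫ Pm = 0 → x = 0 := by
    intro x hx
    have hT' := inv_rot_of_distTriang _ hT
    obtain ⟨x', hx'⟩ := Triangle.coyoneda_exact₂ _ hT' x hx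
    have hG' : t.IsLE (G⟦(-1 : ℤ)⟧) (n - 1) := t.isLE_shift G (n - 2) (-1) (n - 1) (by omega)
    have h2 : x' = 0 := hV _ hG' x'
    rw [hx', h2]
    exact zero_comp
  obtain ⟨S, hS⟩ := hB ι Y hY (∐ Y) (Sigma.ι Y) (coproductIsCoproduct Y) (x ≫ Pm)
  refine ⟨S, ?_⟩
  have hcomm : Pm ≫ eS (Sigma.ι Y) (coproductIsCoproduct Y) S = eS g hc S ≫ Pm := by
    refine Cofan.IsColimit.hom_ext hc _ _ (fun i => ?_)
    change g i ≫ Pm ≫ _ = g i ≫ eS g hc S ≫ Pm
    rw [← Category.assoc, hPm, Category.assoc, inj_eS, ← Category.assoc (g i), inj_eS]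
    by_cases hi : i ∈ S
    · rw [if_pos hi, if_pos hi, hPm]
    · rw [if_neg hi, if_neg hi, comp_zero, zero_comp]
  have h0 : (x ≫ eS g hc S - x) ≫ Pm = 0 := by
    rw [Preadditive.sub_comp, Category.assoc, ← hcomm, ← Category.assoc, hS, sub_self]
  exact sub_eq_zero.1 (hstar _ h0)

end Groth.Agent.Lib.Helper25.CompactVan
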