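import Mathlib
import Groth.Agent.Lib.Helper25.FinFac

/-!
# A right adjoint preserves coproducts when the left adjoint preserves enough compact objects (helper25)

`F ⊣ G` between preadditive categories, the source `C` of `F` pretriangulated.  If a class `PP` of objects of `C` detects
zero objects, and `P`, `F P` are compact (`FinFac.FF`) for `P ∈ PP`, then `G` preserves coproducts
(`preservesColimitsOfShape_of_ff`).  No coproducts of size larger than `w` are needed (contrast helper27's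
`CompactAdj.rightAdjoint_preservesCoproducts_iff`).
-/

set_option autoImplicit false
universe w
open CategoryTheory CategoryTheory.Limits Pretriangulated

namespace Groth.Agent.Lib.Helper25.CoprodAdj

open Groth.Agent.Lib.Helper25.FinFac

section Inj

variable {D : Type*} [Category D] [Preadditive D] {C' : Type*} [Category C'] [Preadditive C']
  (H : D ⥤ C') [H.Additive] {J : Type w} {M : J → D} {A : D} (g : ∀ j, M j ⟶ A)
  (hc : IsColimit (Cofan.mk A g)) {S : C'} (s : ∀ j, H.obj (M j) ⟶ S)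
  (hs : IsColimit (Cofan.mk S s)) (θ : S ⟶ H.obj A) (hθ : ∀ j, s j ≫ θ = H.map (g j))

include hc hs hθ in
/-- injectivity of `Hom(P, θ)` for `P` compact -/
lemma eq_zero_of_comp_theta {P : C'} (hP : FF.{w} (fun _ => True) P) (x : P ⟶ S) (hx : x ≫ θ = 0) :
    x = 0 := by
  classical
  obtain ⟨T, σ, hσ⟩ := hP.exists_sum (fun _ => trivial) s hs x
  rw [hσ]
  refine Finset.sum_eq_zero (fun i hi => ?_)
  have h1 : x ≫ θ ≫ H.map (proj g hc i) = σ i := by
    rw [hσ, Preadditive.sum_comp, Finset.sum_eq_single i]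
    · rw [Category.assoc, ← Category.assoc (s i), hθ, ← H.map_comp, inj_proj_self, H.map_id,
        Category.comp_id]
    · intro j _ hji
      rw [Category.assoc, ← Category.assoc (s j), hθ, ← H.map_comp, inj_proj_of_ne g hc hji,
        H.map_zero, comp_zero]
    · intro h
      exact absurd hi h
  rw [← h1, ← Category.assoc, hx, zero_comp, zero_comp]

end Inj

section Main

variable {C : Type*} [Category C] [Preadditive C] [HasZeroObject C] [HasShift C ℤ]
  [∀ n : ℤ, (shiftFunctor C n).Additive] [Pretriangulated C]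
  {D : Type*} [Category D] [Preadditive D]
  (F : C ⥤ D) (G : D ⥤ C) (adj : F ⊣ G) [G.Additive]
  (PP : C → Prop)
  (hgen : ∀ Z : C, (∀ P : C, PP P → ∀ φ : P ⟶ Z, φ = 0) → IsZero Z)
  (hP : ∀ P, PP P → FF.{w} (fun _ => True) P) (hFP : ∀ P, PP P → FF.{w} (fun _ => True) (F.obj P))

include adj in
/-- surjectivity of `Hom(P, θ)` when `F P` is compact -/
lemma exists_comp_theta {J : Type w} {M : J → D} {A : D} (g : ∀ j, M j ⟶ A)
    (hc : IsColimit (Cofan.mk A g)) {S : C} (s : ∀ j, G.obj (M j) ⟶ S)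
    (θ : S ⟶ G.obj A) (hθ : ∀ j, s j ≫ θ = G.map (g j))
    {P : C} (hFP : FF.{w} (fun _ => True) (F.obj P)) (y : P ⟶ G.obj A) :
    ∃ x : P ⟶ S, x ≫ θ = y := by
  classical
  obtain ⟨T, τ, hτ⟩ := hFP.exists_sum (fun _ => trivial) g hc ((adj.homEquiv P A).symm y)
  refine ⟨∑ j ∈ T, adj.homEquiv P (M j) (τ j) ≫ s j, ?_⟩
  rw [Preadditive.sum_comp]
  have h2 : y = adj.homEquiv P A (∑ j ∈ T, τ j ≫ g j) := by
    rw [← hτ, Equiv.apply_symm_apply]
  rw [h2, adj.homEquiv_unit, Functor.map_sum, Preadditive.comp_sum]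
  refine Finset.sum_congr rfl (fun j _ => ?_)
  rw [Category.assoc, hθ, adj.homEquiv_unit, Category.assoc, ← G.map_comp]

include adj hgen hP hFP in
/-- the comparison map `∐ G(M_j) ⟶ G(∐ M_j)` is an isomorphism -/
theorem isIso_theta {J : Type w} {M : J → D} {A : D} (g : ∀ j, M j ⟶ A)
    (hc : IsColimit (Cofan.mk A g)) {S : C} (s : ∀ j, G.obj (M j) ⟶ S)
    (hs : IsColimit (Cofan.mk S s)) (θ : S ⟶ G.obj A) (hθ : ∀ j, s j ≫ θ = G.map (g j)) :
    IsIso θ := by
  obtain ⟨Z, π, δ, hT⟩ := distinguished_cocone_triangle θ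
  refine (Triangle.isZero₃_iff_isIso₁ _ hT).1 (hgen Z (fun P hPP0 φ => ?_))
  -- `φ ≫ δ = 0`
  have hs' : IsColimit (Cofan.mk (S⟦(1 : ℤ)⟧) (fun j => (s j)⟦(1 : ℤ)⟧')) :=
    isColimitCofanMkObjOfIsColimit (shiftFunctor C (1 : ℤ)) _ _ hs
  have h1 : φ ≫ δ = 0 := by
    refine eq_zero_of_comp_theta (G ⋙ shiftFunctor C (1 : ℤ)) g hc (fun j => (s j)⟦(1 : ℤ)⟧') hs'
      (θ⟦(1 : ℤ)⟧') (fun j => ?_) (hP P hPP0) (φ ≫ δ) ?_
    · change (s j)⟦(1 : ℤ)⟧' ≫ θ⟦(1 : ℤ)⟧' = (G.map (g j))⟦(1 : ℤ)⟧'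
      rw [← Functor.map_comp, hθ]
    · rw [Category.assoc]
      have h3 : δ ≫ θ⟦(1 : ℤ)⟧' = 0 := comp_distTriang_mor_zero₃₁ _ hT
      rw [h3, comp_zero]
  have h4 : ∃ ψ : P ⟶ G.obj A, φ = ψ ≫ π := Triangle.coyoneda_exact₃ _ hT φ h1
  obtain ⟨ψ, hψ⟩ := h4
  obtain ⟨x, hx⟩ := exists_comp_theta F G adj g hc s θ hθ (hFP P hPP0) ψ
  have h2 : θ ≫ π = 0 := comp_distTriang_mor_zero₁₂ _ hT
  rw [hψ, ← hx, Category.assoc, h2, comp_zero]

include adj hgen hP hFP in
/-- `G` preserves coproducts of shape `J` -/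
theorem preservesColimitsOfShape_of_ff (J : Type w) [HasCoproductsOfShape J C]
    [HasCoproductsOfShape J D] : PreservesColimitsOfShape (Discrete J) G where
  preservesColimit {K} := by
    suffices h : ∀ (M : J → D), PreservesColimit (Discrete.functor M) G by
      haveI := h (K.obj ∘ Discrete.mk)
      exact preservesColimit_of_iso_diagram G (Discrete.natIsoFunctor (F := K)).symm
    intro M
    let θ : (∐ fun j => G.obj (M j)) ⟶ G.obj (∐ M) := Sigma.desc (fun j => G.map (Sigma.ι M j))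
    have hθ : ∀ j, Sigma.ι (fun j => G.obj (M j)) j ≫ θ = G.map (Sigma.ι M j) :=
      fun j => Sigma.ι_desc _ j
    haveI : IsIso θ := isIso_theta F G adj PP hgen hP hFP (Sigma.ι M) (coproductIsCoproduct M)
      (Sigma.ι (fun j => G.obj (M j))) (coproductIsCoproduct _) θ hθ
    refine preservesColimit_of_preserves_colimit_cocone (coproductIsCoproduct M)
      ((isColimitMapCoconeCofanMkEquiv G _ _).symm ?_)
    refine Cofan.IsColimit.mk _ (fun t => inv θ ≫ Sigma.desc t.inj) (fun t j => ?_)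
      (fun t m hm => ?_)
    · change G.map (Sigma.ι M j) ≫ inv θ ≫ Sigma.desc t.inj = t.inj j
      rw [← hθ j, Category.assoc, IsIso.hom_inv_id_assoc, Sigma.ι_desc]
    · rw [IsIso.eq_inv_comp]
      refine Sigma.hom_ext _ _ (fun j => ?_)
      rw [← Category.assoc, hθ j, Sigma.ι_desc]
      exact hm j

end Main

end Groth.Agent.Lib.Helper25.CoprodAdj
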