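import Mathlib

/-!
# Coreflections commute with right adjoints whose left adjoint preserves the coreflective subcategories

`isIso_comparison`: for fully faithful `ιX : AX ⥤ DX`, `ιY : AY ⥤ DY` with right adjoints `RX`, `RY`, an adjunction
`L ⊣ R` (`L : DY ⥤ DX`) such that `L` maps `AY` into (the essential image of) `AX`, the canonical comparison
`R(ιX RX K) ⟶ RY (R K)` is an isomorphism (Yoneda).
-/

set_option autoImplicit false
universe v₁ v₂ v₃ v₄ u₁ u₂ u₃ u₄
open CategoryTheory

namespace Groth.Agent.Lib.Helper25.CoreflComm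

variable {AX : Type u₁} {DX : Type u₂} {AY : Type u₃} {DY : Type u₄}
  [Category.{v₁} AX] [Category.{v₂} DX] [Category.{v₃} AY] [Category.{v₄} DY]
  (ιX : AX ⥤ DX) [ιX.Full] [ιX.Faithful] (ιY : AY ⥤ DY) [ιY.Full] [ιY.Faithful]
  {RX : DX ⥤ AX} (adjX : ιX ⊣ RX) {RY : DY ⥤ AY} (adjY : ιY ⊣ RY)
  {L : DY ⥤ DX} {R : DX ⥤ DY} (adj : L ⊣ R)

include adjX in
omit [ιX.Faithful] in
/-- composition with the counit of a coreflection is bijective on maps from the subcategory -/
lemma bijective_comp_counit (N : AX) (K : DX) :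
    Function.Bijective (fun w : ιX.obj N ⟶ ιX.obj (RX.obj K) => w ≫ adjX.counit.app K) := by
  constructor
  · intro w w' hw
    obtain ⟨t, rfl⟩ := ιX.map_surjective w
    obtain ⟨t', rfl⟩ := ιX.map_surjective w'
    have h : (adjX.homEquiv N K).symm t = (adjX.homEquiv N K).symm t' := by
      rw [Adjunction.homEquiv_counit, Adjunction.homEquiv_counit]
      exact hw
    rw [(adjX.homEquiv N K).symm.injective h]
  · intro k
    refine ⟨ιX.map (adjX.homEquiv N K k), ?_⟩
    change ιX.map (adjX.homEquiv N K k) ≫ adjX.counit.app K = k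
    have := adjX.homEquiv_counit (g := adjX.homEquiv N K k)
    rw [Equiv.symm_apply_apply] at this
    exact this.symm

include adjX adj in
omit [ιX.Faithful] in
lemma bijective_comp_map_counit (Z : DY) (N : AX) (e : ιX.obj N ≅ L.obj Z) (K : DX) :
    Function.Bijective (fun v : Z ⟶ R.obj (ιX.obj (RX.obj K)) =>
      v ≫ R.map (adjX.counit.app K)) := by
  have h := bijective_comp_counit ιX adjX N K
  constructor
  · intro v v' hv
    apply (adj.homEquiv _ _).symm.injective
    rw [← cancel_epi e.hom]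
    apply h.1
    change (e.hom ≫ (adj.homEquiv _ _).symm v) ≫ adjX.counit.app K =
      (e.hom ≫ (adj.homEquiv _ _).symm v') ≫ adjX.counit.app K
    rw [Category.assoc, Category.assoc, ← Adjunction.homEquiv_naturality_right_symm,
      ← Adjunction.homEquiv_naturality_right_symm]
    exact congrArg (fun t => e.hom ≫ (adj.homEquiv _ _).symm t) hv
  · intro k
    obtain ⟨w, hw⟩ := h.2 (e.hom ≫ (adj.homEquiv _ _).symm k)
    refine ⟨adj.homEquiv _ _ (e.inv ≫ w), ?_⟩
    change adj.homEquiv _ _ (e.inv ≫ w) ≫ R.map (adjX.counit.app K) = k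
    rw [← Adjunction.homEquiv_naturality_right, Category.assoc]
    have hw' : w ≫ adjX.counit.app K = e.hom ≫ (adj.homEquiv _ _).symm k := hw
    rw [hw', Iso.inv_hom_id_assoc, Equiv.apply_symm_apply]

include adjX adj in
omit [ιX.Faithful] in
/-- **coreflections commute with a right adjoint whose left adjoint preserves the subcategories** -/
theorem isIso_comparison
    (hL : ∀ M : AY, ∃ N : AX, Nonempty (ιX.obj N ≅ L.obj (ιY.obj M)))
    (K : DX) (T : AY) (eT : ιY.obj T ≅ R.obj (ιX.obj (RX.obj K))) :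
    IsIso (adjY.homEquiv T (R.obj K) (eT.hom ≫ R.map (adjX.counit.app K))) := by
  rw [isIso_iff_yoneda_map_bijective]
  intro M
  obtain ⟨N, ⟨e⟩⟩ := hL M
  have h := bijective_comp_map_counit ιX adjX adj (ιY.obj M) N e K
  have hfun : ∀ g : M ⟶ T, g ≫ adjY.homEquiv T (R.obj K) (eT.hom ≫ R.map (adjX.counit.app K)) =
      adjY.homEquiv M (R.obj K) ((ιY.map g ≫ eT.hom) ≫ R.map (adjX.counit.app K)) := by
    intro g
    rw [Category.assoc, Adjunction.homEquiv_naturality_left]
  constructor
  · intro g g' hg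
    change g ≫ _ = g' ≫ _ at hg
    rw [hfun, hfun] at hg
    have h1 := h.1 ((adjY.homEquiv M (R.obj K)).injective hg)
    rw [cancel_mono] at h1
    exact ιY.map_injective h1
  · intro k
    obtain ⟨v, hv⟩ := h.2 ((adjY.homEquiv M (R.obj K)).symm k)
    obtain ⟨g, hg⟩ := ιY.map_surjective (v ≫ eT.inv)
    refine ⟨g, ?_⟩
    change g ≫ _ = k
    have hv' : v ≫ R.map (adjX.counit.app K) = (adjY.homEquiv M (R.obj K)).symm k := hv
    rw [hfun, hg, Category.assoc, Category.assoc, Iso.inv_hom_id_assoc, hv', Equiv.apply_symm_apply]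

end Groth.Agent.Lib.Helper25.CoreflComm
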