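import Mathlib

/-!
# Full faithfulness of `D⁺(A') ⥤ D⁺(A)` for an exact fully faithful `ι : A' ⥤ A` with enough `A`-injectives

If every object of `A'` embeds into an object whose image under `ι` is injective, then `A'` has enough injectives,
`ι` preserves injectives, every bounded below object of `D(A')` is represented by a bounded below complex `J` of
injectives with `ι J` again such a complex (`exists_injective_model`), and `ι.mapDerivedCategory` is bijective on
`Hom(X, Y)` for `Y` bounded below (`map_bijective`).  Also: `preimageHomotopy` (fully faithful additive functors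
reflect homotopies), `exists_Q_map_eq` / `nonempty_homotopy_of_Q_map_eq` (morphisms to a K-injective complex in `D`).
-/

set_option autoImplicit false
universe w w' v v' u u'
open CategoryTheory CategoryTheory.Limits

namespace Groth.Agent.Lib.helper25.DPlusFF

section Basic

variable {A' : Type u'} [Category.{v'} A'] [Abelian A'] {A : Type u} [Category.{v} A] [Abelian A]
  (ι : A' ⥤ A) [ι.Additive] [PreservesFiniteLimits ι] [ι.Full] [ι.Faithful]

/-- a fully faithful left exact functor reflects injective objects -/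
lemma injective_of_injective_obj (Y : A') (hY : Injective (ι.obj Y)) : Injective Y := by
  refine ⟨fun {X Z} g f hf => ?_⟩
  have : Mono (ι.map f) := inferInstance
  refine ⟨ι.preimage (Injective.factorThru (ι.map g) (ι.map f)), ι.map_injective ?_⟩
  rw [ι.map_comp, ι.map_preimage, Injective.comp_factorThru]

variable (hinj : ∀ X' : A', ∃ (Y' : A') (i : X' ⟶ Y'), Mono i ∧ Injective (ι.obj Y'))
include hinj

lemma enoughInjectives : EnoughInjectives A' := by
  refine ⟨fun X => ?_⟩
  obtain ⟨Y, i, hi, hY⟩ := hinj X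
  exact ⟨⟨Y, injective_of_injective_obj ι Y hY, i, hi⟩⟩

lemma injective_obj_of_injective (I : A') [Injective I] : Injective (ι.obj I) := by
  obtain ⟨Y, i, hi, hY⟩ := hinj I
  let r : Retract (ι.obj I) (ι.obj Y) :=
    { i := ι.map i
      r := ι.map (Injective.factorThru (𝟙 I) i)
      retract := by rw [← ι.map_comp, Injective.comp_factorThru, ι.map_id] }
  exact r.injective

end Basic


section Homotopy

variable {A' : Type u'} [Category.{v'} A'] [Preadditive A'] {A : Type u} [Category.{v} A] [Preadditive A]
  (ι : A' ⥤ A) [ι.Additive] [ι.Full] [ι.Faithful]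

/-- a fully faithful additive functor reflects homotopies -/
noncomputable def preimageHomotopy {c : ComplexShape ℤ} {K L : HomologicalComplex A' c} (f g : K ⟶ L)
    (H : Homotopy ((ι.mapHomologicalComplex c).map f) ((ι.mapHomologicalComplex c).map g)) :
    Homotopy f g :=
  let hh : ∀ i j, K.X i ⟶ L.X j := fun i j =>
    ι.preimage (show ι.obj (K.X i) ⟶ ι.obj (L.X j) from H.hom i j)
  have hhs : ∀ i j, ι.map (hh i j) = (show ι.obj (K.X i) ⟶ ι.obj (L.X j) from H.hom i j) :=
    fun i j => ι.map_preimage _
  { hom := hh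
    zero := fun i j hij => ι.map_injective (by
      rw [hhs]
      exact (H.zero i j hij).trans (ι.map_zero _ _).symm)
    comm := fun i => ι.map_injective (by
      have h := H.comm i
      simp only [dNext, prevD, AddMonoidHom.mk'_apply] at h ⊢
      rw [ι.map_add, ι.map_add, ι.map_comp, ι.map_comp, hhs, hhs]
      exact h) }

end Homotopy

section Core

variable {A' : Type u'} [Category.{v'} A'] [Abelian A'] [HasDerivedCategory.{w'} A']
  {A : Type u} [Category.{v} A] [Abelian A] [HasDerivedCategory.{w} A]
  (ι : A' ⥤ A) [ι.Additive] [PreservesFiniteLimits ι] [PreservesFiniteColimits ι] [ι.Full] [ι.Faithful]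

open DerivedCategory

lemma exists_Q_map_eq {C : Type*} [Category C] [Abelian C] [HasDerivedCategory C]
    (I J : CochainComplex C ℤ) [J.IsKInjective] (f : Q.obj I ⟶ Q.obj J) :
    ∃ φ : I ⟶ J, Q.map φ = f := by
  obtain ⟨h, hh⟩ := (CochainComplex.IsKInjective.Qh_map_bijective
      ((HomotopyCategory.quotient _ _).obj I) J).2 f
  obtain ⟨φ, rfl⟩ := (HomotopyCategory.quotient _ _).map_surjective h
  exact ⟨φ, hh⟩

lemma nonempty_homotopy_of_Q_map_eq {C : Type*} [Category C] [Abelian C] [HasDerivedCategory C]
    (I J : CochainComplex C ℤ) [J.IsKInjective] (φ ψ : I ⟶ J) (h : Q.map φ = Q.map ψ) :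
    Nonempty (Homotopy φ ψ) := by
  have hq : (HomotopyCategory.quotient _ _).map φ = (HomotopyCategory.quotient _ _).map ψ :=
    (CochainComplex.IsKInjective.Qh_map_bijective _ J).1 h
  exact ⟨HomotopyCategory.homotopyOfEq _ _ hq⟩

lemma Q_map_eq_of_homotopy {C : Type*} [Category C] [Abelian C] [HasDerivedCategory C]
    {I J : CochainComplex C ℤ} (φ ψ : I ⟶ J) (H : Homotopy φ ψ) : Q.map φ = Q.map ψ := by
  have hq := HomotopyCategory.eq_of_homotopy φ ψ H
  exact congrArg (fun g => Qh.map g) hq

/-- the core statement: full faithfulness on `Hom(Q I, Q J)` when `J` and `ι J` are K-injective -/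
lemma map_bijective_core (I J : CochainComplex A' ℤ) [J.IsKInjective]
    [CochainComplex.IsKInjective ((ι.mapHomologicalComplex (ComplexShape.up ℤ)).obj J)] :
    Function.Bijective (fun f : Q.obj I ⟶ Q.obj J => ι.mapDerivedCategory.map f) := by
  constructor
  · intro f g hfg
    obtain ⟨φ, rfl⟩ := exists_Q_map_eq I J f
    obtain ⟨ψ, rfl⟩ := exists_Q_map_eq I J g
    dsimp only at hfg
    have h1 := ι.mapDerivedCategoryFactors_hom_naturality φ
    have h2 := ι.mapDerivedCategoryFactors_hom_naturality ψ
    rw [hfg, h2] at h1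
    have h3 : Q.map ((ι.mapHomologicalComplex (ComplexShape.up ℤ)).map ψ) =
        Q.map ((ι.mapHomologicalComplex (ComplexShape.up ℤ)).map φ) :=
      (cancel_epi (ι.mapDerivedCategoryFactors.hom.app I)).1 h1
    obtain ⟨H⟩ := nonempty_homotopy_of_Q_map_eq _ _ _ _ h3
    exact (Q_map_eq_of_homotopy _ _ (preimageHomotopy ι ψ φ H)).symm
  · intro g
    obtain ⟨ψ, hψ⟩ := exists_Q_map_eq _ _
      (ι.mapDerivedCategoryFactors.inv.app I ≫ g ≫ ι.mapDerivedCategoryFactors.hom.app J)
    obtain ⟨φ, rfl⟩ := (ι.mapHomologicalComplex (ComplexShape.up ℤ)).map_surjective ψ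
    refine ⟨Q.map φ, ?_⟩
    dsimp only
    have h1 := ι.mapDerivedCategoryFactors_hom_naturality φ
    rw [hψ, Iso.hom_inv_id_app_assoc] at h1
    exact (cancel_mono (ι.mapDerivedCategoryFactors.hom.app J)).1 h1

end Core


section Main

variable {A' : Type u'} [Category.{v'} A'] [Abelian A'] [HasDerivedCategory.{w'} A']
  {A : Type u} [Category.{v} A] [Abelian A] [HasDerivedCategory.{w} A]
  (ι : A' ⥤ A) [ι.Additive] [PreservesFiniteLimits ι] [PreservesFiniteColimits ι] [ι.Full] [ι.Faithful]

open DerivedCategory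

omit [HasDerivedCategory.{w'} A'] [HasDerivedCategory.{w} A] [PreservesFiniteLimits ι]
  [PreservesFiniteColimits ι] [ι.Full] [ι.Faithful] [ι.Additive] in
lemma bijective_of_iso {C D : Type*} [Category C] [Category D] (F : C ⥤ D) {X X' Y Y' : C}
    (α : X ≅ X') (β : Y ≅ Y')
    (h : Function.Bijective (fun f : X' ⟶ Y' => F.map f)) :
    Function.Bijective (fun f : X ⟶ Y => F.map f) := by
  have : (fun f : X ⟶ Y => F.map f) =
      (Iso.homCongr (F.mapIso α) (F.mapIso β)).symm ∘ (fun f : X' ⟶ Y' => F.map f) ∘
        (Iso.homCongr α β) := by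
    funext f
    simp [Iso.homCongr]
  rw [this]
  exact (Equiv.bijective _).comp (h.comp (Equiv.bijective _))

variable (hinj : ∀ X' : A', ∃ (Y' : A') (i : X' ⟶ Y'), Mono i ∧ Injective (ι.obj Y'))
include hinj

/-- every bounded below object of `D(A')` is represented by a bounded below complex `J` of injectives, with
`ι J` a bounded below complex of injectives too -/
lemma exists_injective_model (Y : DerivedCategory A') (b : ℤ) [Y.IsGE b] :
    ∃ (J : CochainComplex A' ℤ), J.IsStrictlyGE b ∧ (∀ n, Injective (J.X n)) ∧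
      (∀ n, Injective (ι.obj (J.X n))) ∧ Nonempty (Y ≅ Q.obj J) := by
  haveI := enoughInjectives ι hinj
  obtain ⟨K, hK, ⟨e⟩⟩ := exists_iso_Q_obj_of_isGE Y b
  obtain ⟨J, i, hi, hJ, hJ'⟩ := CochainComplex.Plus.modelCategoryQuillen.exists_quasiIso_injective K b
  exact ⟨J, hJ', hJ, fun n => injective_obj_of_injective ι hinj (J.X n),
    ⟨e ≪≫ asIso (Q.map i)⟩⟩

theorem map_bijective (X Y : DerivedCategory A') (b : ℤ) [Y.IsGE b] :
    Function.Bijective (fun f : X ⟶ Y => ι.mapDerivedCategory.map f) := by
  obtain ⟨J, hJ1, hJ2, hJ3, ⟨β⟩⟩ := exists_injective_model ι hinj Y b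
  let α : X ≅ Q.obj (Q.objPreimage X) := (Q.objObjPreimageIso X).symm
  haveI : J.IsKInjective := CochainComplex.isKInjective_of_injective J b
  haveI : CochainComplex.IsStrictlyGE ((ι.mapHomologicalComplex (ComplexShape.up ℤ)).obj J) b := by
    rw [CochainComplex.isStrictlyGE_iff]
    intro i hi
    exact ι.map_isZero (J.isZero_of_isStrictlyGE b i hi)
  haveI : ∀ n, Injective (((ι.mapHomologicalComplex (ComplexShape.up ℤ)).obj J).X n) := hJ3
  haveI : CochainComplex.IsKInjective ((ι.mapHomologicalComplex (ComplexShape.up ℤ)).obj J) :=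
    CochainComplex.isKInjective_of_injective _ b
  exact bijective_of_iso ι.mapDerivedCategory α β (map_bijective_core ι _ J)

end Main

end Groth.Agent.Lib.helper25.DPlusFF
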