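import Mathlib

/-!
# Resolutions by injective objects of a class of objects

Let `P` be a class of objects of an abelian category `A`, containing the zero objects, closed under cokernels and
binary biproducts, such that every object of `P` embeds into an injective object of `A` lying in `P`.  Then every
`ℕ`-indexed cochain complex `X` (vanishing in degrees `0`, `1`) whose cohomology objects lie in `P` admits a
quasi-isomorphism `X ⟶ L` to a complex of injective objects lying in `P` (`exists_resolution`).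

The construction is by stages `St n` (degrees `n`, `n + 1`): `Lⁿ⁺² = J ⊞ J₂` where `J` is an injective hull in `P` of
`coker (Hⁿ⁺¹(X) ⟶ coker dⁿ)` and `J₂` one of `Hⁿ⁺²(X)`.
-/

set_option autoImplicit false
universe v u
open CategoryTheory CategoryTheory.Limits

namespace Groth.Agent.Lib.helper25.PRes

variable {A : Type u} [Category.{v} A] [Abelian A]

/-- extension of a morphism to an injective object along a not necessarily monic map killing the same kernel -/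
lemma exists_extension {M N J : A} [Injective J] (f : M ⟶ N) (g : M ⟶ J) (h : kernel.ι f ≫ g = 0) :
    ∃ g' : N ⟶ J, f ≫ g' = g := by
  let gbar : Abelian.coimage f ⟶ J := cokernel.desc (kernel.ι f) g h
  refine ⟨Injective.factorThru gbar (Abelian.factorThruCoimage f), ?_⟩
  calc f ≫ Injective.factorThru gbar (Abelian.factorThruCoimage f)
      = (Abelian.coimage.π f ≫ Abelian.factorThruCoimage f) ≫
          Injective.factorThru gbar (Abelian.factorThruCoimage f) := by rw [Abelian.coimage.fac]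
    _ = Abelian.coimage.π f ≫ gbar := by rw [Category.assoc, Injective.comp_factorThru]
    _ = g := cokernel.π_desc _ _ _

variable (P : ObjectProperty A)
  (hPcoker : ∀ {M N : A} (f : M ⟶ N), P M → P N → P (cokernel f))
  (hPbiprod : ∀ M N : A, P M → P N → P (M ⊞ N))
  (hPinj : ∀ M : A, P M → ∃ (J : A) (i : M ⟶ J), P J ∧ Injective J ∧ Mono i)
  (X : CochainComplex A ℕ) (hX : ∀ n, P (X.homology n))

/-- stage `n` of the construction: the objects in degrees `n`, `n+1` -/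
structure St (n : ℕ) where
  Lp : A
  Lc : A
  d : Lp ⟶ Lc
  fp : X.X n ⟶ Lp
  fc : X.X (n + 1) ⟶ Lc
  comm : fp ≫ d = X.d n (n + 1) ≫ fc
  hp : P Lp
  hc : P Lc
  ip : Injective Lp
  ic : Injective Lc
  mono : ∀ ⦃T : A⦄ (x : T ⟶ X.X (n + 1)) (y : T ⟶ Lp), x ≫ X.d (n + 1) (n + 1 + 1) = 0 →
    x ≫ fc = y ≫ d → ∃ (T' : A) (π : T' ⟶ T) (_ : Epi π) (x' : T' ⟶ X.X n),
      π ≫ x = x' ≫ X.d n (n + 1)

namespace St

variable {P X} {n : ℕ} (s : St P X n)

/-- the cokernel of the differential -/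
noncomputable abbrev C : A := cokernel s.d

lemma toCycles_comp : X.toCycles n (n + 1) ≫ X.iCycles (n + 1) ≫ s.fc ≫ cokernel.π s.d = 0 := by
  rw [X.toCycles_i_assoc, ← Category.assoc, ← s.comm, Category.assoc, cokernel.condition, comp_zero]

/-- the map from the homology of `X` to the cokernel -/
noncomputable def h : X.homology (n + 1) ⟶ s.C :=
  (X.homologyIsCokernel n (n + 1) (by simp)).desc
    (CokernelCofork.ofπ (X.iCycles (n + 1) ≫ s.fc ≫ cokernel.π s.d) s.toCycles_comp)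

lemma π_h : X.homologyπ (n + 1) ≫ s.h = X.iCycles (n + 1) ≫ s.fc ≫ cokernel.π s.d :=
  (X.homologyIsCokernel n (n + 1) (by simp)).fac _ WalkingParallelPair.one

/-- the quotient of the cokernel by the homology -/
noncomputable abbrev Qo : A := cokernel s.h

lemma d_comp : X.d n (n + 1) ≫ s.fc ≫ cokernel.π s.d ≫ cokernel.π s.h = 0 := by
  rw [← Category.assoc, ← s.comm, Category.assoc, cokernel.condition_assoc, zero_comp, comp_zero]

/-- the induced map from opcycles -/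
noncomputable def q : X.opcycles (n + 1) ⟶ s.Qo :=
  X.descOpcycles (s.fc ≫ cokernel.π s.d ≫ cokernel.π s.h) n (by simp) s.d_comp

lemma p_q : X.pOpcycles (n + 1) ≫ s.q = s.fc ≫ cokernel.π s.d ≫ cokernel.π s.h :=
  X.p_descOpcycles _ _ _ _

lemma homologyι_q : X.homologyι (n + 1) ≫ s.q = 0 := by
  rw [← cancel_epi (X.homologyπ (n + 1)), X.homology_π_ι_assoc, s.p_q, comp_zero]
  have := s.π_h
  rw [← Category.assoc, ← Category.assoc, Category.assoc (X.iCycles (n + 1)), ← this, Category.assoc,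
    cokernel.condition, comp_zero]

lemma kernel_q : kernel.ι (X.fromOpcycles (n + 1) (n + 1 + 1)) ≫ s.q = 0 := by
  have hk := X.homologyIsKernel (n + 1) (n + 1 + 1) (by simp)
  obtain ⟨l, hl⟩ := KernelFork.IsLimit.lift' hk (kernel.ι (X.fromOpcycles (n + 1) (n + 1 + 1)))
    (kernel.condition _)
  have hl' : l ≫ X.homologyι (n + 1) = kernel.ι (X.fromOpcycles (n + 1) (n + 1 + 1)) := hl
  rw [← hl', Category.assoc, s.homologyι_q, comp_zero]

end St


/-- the data produced by one step of the construction -/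
structure Step {n : ℕ} (s : St P X n) where
  Lc' : A
  d' : s.Lc ⟶ Lc'
  fc' : X.X (n + 1 + 1) ⟶ Lc'
  comm' : s.fc ≫ d' = X.d (n + 1) (n + 1 + 1) ≫ fc'
  hc' : P Lc'
  ic' : Injective Lc'
  mono' : ∀ ⦃T : A⦄ (x : T ⟶ X.X (n + 1 + 1)) (y : T ⟶ s.Lc),
    x ≫ X.d (n + 1 + 1) (n + 1 + 1 + 1) = 0 →
    x ≫ fc' = y ≫ d' → ∃ (T' : A) (π : T' ⟶ T) (_ : Epi π) (x' : T' ⟶ X.X (n + 1)),
      π ≫ x = x' ≫ X.d (n + 1) (n + 1 + 1)
  d_sq : s.d ≫ d' = 0
  epi : ∀ ⦃T : A⦄ (y₂ : T ⟶ s.Lc), y₂ ≫ d' = 0 → ∃ (T' : A) (π : T' ⟶ T) (_ : Epi π)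
      (x₂ : T' ⟶ X.X (n + 1)) (_ : x₂ ≫ X.d (n + 1) (n + 1 + 1) = 0) (y₁ : T' ⟶ s.Lp),
      π ≫ y₂ = x₂ ≫ s.fc + y₁ ≫ s.d

include hPcoker hPbiprod hPinj hX in
lemma exists_step {n : ℕ} (s : St P X n) : Nonempty (Step P X s) := by
  have hQ : P s.Qo := hPcoker s.h (hX (n + 1)) (hPcoker s.d s.hp s.hc)
  obtain ⟨J, j, hJ, iJ, mj⟩ := hPinj s.Qo hQ
  obtain ⟨J₂, j₂, hJ₂, iJ₂, mj₂⟩ := hPinj (X.homology (n + 1 + 1)) (hX (n + 1 + 1))
  obtain ⟨u, hu⟩ := exists_extension (X.fromOpcycles (n + 1) (n + 1 + 1)) (s.q ≫ j) (by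
    rw [← Category.assoc, s.kernel_q, zero_comp])
  let w : X.X (n + 1 + 1) ⟶ J₂ := Injective.factorThru (X.homologyπ (n + 1 + 1) ≫ j₂) (X.iCycles (n + 1 + 1))
  have hw : X.iCycles (n + 1 + 1) ≫ w = X.homologyπ (n + 1 + 1) ≫ j₂ := Injective.comp_factorThru _ _
  have hdw : X.d (n + 1) (n + 1 + 1) ≫ w = 0 := by
    rw [← X.toCycles_i (n + 1) (n + 1 + 1), Category.assoc, hw, X.toCycles_comp_homologyπ_assoc, zero_comp]
  have hdu : X.d (n + 1) (n + 1 + 1) ≫ u = s.fc ≫ cokernel.π s.d ≫ cokernel.π s.h ≫ j := by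
    rw [← X.p_fromOpcycles (n + 1) (n + 1 + 1), Category.assoc, hu, ← Category.assoc, s.p_q]
    simp only [Category.assoc]
  have mjinl : Mono (j ≫ (biprod.inl : J ⟶ J ⊞ J₂)) := mono_comp _ _
  refine ⟨{
    Lc' := J ⊞ J₂
    d' := cokernel.π s.d ≫ cokernel.π s.h ≫ j ≫ biprod.inl
    fc' := biprod.lift u w
    comm' := ?_
    hc' := hPbiprod _ _ hJ hJ₂
    ic' := inferInstance
    mono' := ?_
    d_sq := by rw [cokernel.condition_assoc, zero_comp]
    epi := ?_ }⟩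
  · apply biprod.hom_ext
    · simp only [Category.assoc, biprod.inl_fst, Category.comp_id, biprod.lift_fst]
      exact hdu.symm
    · simp only [Category.assoc, biprod.inl_snd, comp_zero, biprod.lift_snd]
      exact hdw.symm
  · intro T x y hx hxy
    have h2 := congrArg (fun z => z ≫ (biprod.snd : J ⊞ J₂ ⟶ J₂)) hxy
    simp only [Category.assoc, biprod.lift_snd, biprod.inl_snd, comp_zero] at h2
    have h3 : X.liftCycles x (n + 1 + 1 + 1) (by simp) hx ≫ X.homologyπ (n + 1 + 1) = 0 := by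
      rw [← cancel_mono j₂, zero_comp, Category.assoc, ← hw, X.liftCycles_i_assoc]
      exact h2
    exact (X.liftCycles_comp_homologyπ_eq_zero_iff_up_to_refinements (n + 1) (n + 1 + 1) (n + 1 + 1 + 1)
      (by simp) (by simp) x hx).1 h3
  · intro T y₂ hy₂
    have h1 : (y₂ ≫ cokernel.π s.d) ≫ cokernel.π s.h = 0 := by
      rw [← cancel_mono (j ≫ (biprod.inl : J ⟶ J ⊞ J₂)), zero_comp]
      simpa only [Category.assoc] using hy₂
    obtain ⟨T₁, π₁, hπ₁, z, hz⟩ :=
      (ShortComplex.exact_cokernel s.h).exact_up_to_refinements (y₂ ≫ cokernel.π s.d) h1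
    dsimp at hz
    obtain ⟨T₂, π₂, hπ₂, x, hx, hxz⟩ :=
      X.eq_liftCycles_homologyπ_up_to_refinements z (n + 1 + 1) (by simp)
    have h4 : (π₂ ≫ π₁ ≫ y₂ - x ≫ s.fc) ≫ cokernel.π s.d = 0 := by
      rw [Preadditive.sub_comp, Category.assoc, Category.assoc, hz, ← Category.assoc π₂, hxz, Category.assoc,
        s.π_h, X.liftCycles_i_assoc, Category.assoc, sub_self]
    obtain ⟨T₃, π₃, hπ₃, y₁, hy₁⟩ :=
      (ShortComplex.exact_cokernel s.d).exact_up_to_refinements _ h4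
    dsimp at hy₁
    refine ⟨T₃, π₃ ≫ π₂ ≫ π₁, epi_comp _ _, π₃ ≫ x, by rw [Category.assoc, hx, comp_zero], y₁, ?_⟩
    rw [← hy₁, Preadditive.comp_sub]
    simp only [Category.assoc]
    abel


section Seq

variable (hP0 : ∀ M : A, IsZero M → P M) (h0 : IsZero (X.X 0)) (h1 : IsZero (X.X 1))

/-- the next stage -/
noncomputable def next {n : ℕ} (s : St P X n) (t : Step P X s) : St P X (n + 1) where
  Lp := s.Lc
  Lc := t.Lc'
  d := t.d'
  fp := s.fc
  fc := t.fc'
  comm := t.comm'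
  hp := s.hc
  hc := t.hc'
  ip := s.ic
  ic := t.ic'
  mono := t.mono'

open ZeroObject in
/-- the base stage -/
noncomputable def base : St P X 0 where
  Lp := 0
  Lc := 0
  d := 0
  fp := 0
  fc := 0
  comm := by rw [zero_comp, comp_zero]
  hp := hP0 _ (isZero_zero A)
  hc := hP0 _ (isZero_zero A)
  ip := inferInstance
  ic := inferInstance
  mono := fun T x y _ _ => ⟨T, 𝟙 T, inferInstance, 0, h1.eq_of_tgt _ _⟩

/-- the sequence of stages -/
noncomputable def S : ∀ n : ℕ, St P X n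
  | 0 => base P X hP0 h1
  | n + 1 => next P X (S n) (exists_step P hPcoker hPbiprod hPinj X hX (S n)).some

/-- the chosen step at stage `n` -/
noncomputable def Tstep (n : ℕ) : Step P X (S P hPcoker hPbiprod hPinj X hX hP0 h1 n) :=
  (exists_step P hPcoker hPbiprod hPinj X hX (S P hPcoker hPbiprod hPinj X hX hP0 h1 n)).some

noncomputable def Lobj (n : ℕ) : A := (S P hPcoker hPbiprod hPinj X hX hP0 h1 n).Lp

noncomputable def Ld (n : ℕ) : Lobj P hPcoker hPbiprod hPinj X hX hP0 h1 n ⟶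
    Lobj P hPcoker hPbiprod hPinj X hX hP0 h1 (n + 1) :=
  (S P hPcoker hPbiprod hPinj X hX hP0 h1 n).d

noncomputable def Lf (n : ℕ) : X.X n ⟶ Lobj P hPcoker hPbiprod hPinj X hX hP0 h1 n :=
  (S P hPcoker hPbiprod hPinj X hX hP0 h1 n).fp

lemma Ld_sq (n : ℕ) : Ld P hPcoker hPbiprod hPinj X hX hP0 h1 n ≫
    Ld P hPcoker hPbiprod hPinj X hX hP0 h1 (n + 1) = 0 :=
  (Tstep P hPcoker hPbiprod hPinj X hX hP0 h1 n).d_sq

lemma Lf_comm (n : ℕ) : Lf P hPcoker hPbiprod hPinj X hX hP0 h1 n ≫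
    Ld P hPcoker hPbiprod hPinj X hX hP0 h1 n =
      X.d n (n + 1) ≫ Lf P hPcoker hPbiprod hPinj X hX hP0 h1 (n + 1) :=
  (S P hPcoker hPbiprod hPinj X hX hP0 h1 n).comm

lemma Lobj_P (n : ℕ) : P (Lobj P hPcoker hPbiprod hPinj X hX hP0 h1 n) :=
  (S P hPcoker hPbiprod hPinj X hX hP0 h1 n).hp

lemma Lobj_inj (n : ℕ) : Injective (Lobj P hPcoker hPbiprod hPinj X hX hP0 h1 n) :=
  (S P hPcoker hPbiprod hPinj X hX hP0 h1 n).ip

lemma Lobj_zero : IsZero (Lobj P hPcoker hPbiprod hPinj X hX hP0 h1 0) := isZero_zero A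

lemma Lobj_one : IsZero (Lobj P hPcoker hPbiprod hPinj X hX hP0 h1 1) := isZero_zero A

lemma L_mono (n : ℕ) ⦃T : A⦄ (x : T ⟶ X.X (n + 1))
    (y : T ⟶ Lobj P hPcoker hPbiprod hPinj X hX hP0 h1 n) (hx : x ≫ X.d (n + 1) (n + 1 + 1) = 0)
    (hxy : x ≫ Lf P hPcoker hPbiprod hPinj X hX hP0 h1 (n + 1) =
      y ≫ Ld P hPcoker hPbiprod hPinj X hX hP0 h1 n) :
    ∃ (T' : A) (π : T' ⟶ T) (_ : Epi π) (x' : T' ⟶ X.X n), π ≫ x = x' ≫ X.d n (n + 1) :=
  (S P hPcoker hPbiprod hPinj X hX hP0 h1 n).mono x y hx hxy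

lemma L_epi (n : ℕ) ⦃T : A⦄ (y₂ : T ⟶ Lobj P hPcoker hPbiprod hPinj X hX hP0 h1 (n + 1))
    (hy₂ : y₂ ≫ Ld P hPcoker hPbiprod hPinj X hX hP0 h1 (n + 1) = 0) :
    ∃ (T' : A) (π : T' ⟶ T) (_ : Epi π)
      (x₂ : T' ⟶ X.X (n + 1)) (_ : x₂ ≫ X.d (n + 1) (n + 1 + 1) = 0)
      (y₁ : T' ⟶ Lobj P hPcoker hPbiprod hPinj X hX hP0 h1 n),
      π ≫ y₂ = x₂ ≫ Lf P hPcoker hPbiprod hPinj X hX hP0 h1 (n + 1) +
        y₁ ≫ Ld P hPcoker hPbiprod hPinj X hX hP0 h1 n :=
  (Tstep P hPcoker hPbiprod hPinj X hX hP0 h1 n).epi y₂ hy₂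

end Seq


section Main

lemma exactAt_of_isZero' {ι : Type*} {c : ComplexShape ι} (M : HomologicalComplex A c) (n : ι)
    (h : IsZero (M.X n)) : M.ExactAt n := by
  rw [HomologicalComplex.exactAt_iff]
  exact ShortComplex.exact_of_isZero_X₂ _ h

include hPcoker hPbiprod hPinj hX in
/-- **Resolutions by injective objects of a class `P`** closed under cokernels and finite sums, in which every
object of the class embeds into an injective object of the class: a complex with cohomology in `P` is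
quasi-isomorphic to a complex of injective objects of `P`. -/
theorem exists_resolution (hP0 : ∀ M : A, IsZero M → P M) (h0 : IsZero (X.X 0)) (h1 : IsZero (X.X 1)) :
    ∃ (L : CochainComplex A ℕ) (f : X ⟶ L), IsZero (L.X 0) ∧ IsZero (L.X 1) ∧ (∀ n, P (L.X n)) ∧
      (∀ n, Injective (L.X n)) ∧ QuasiIso f := by
  let L : CochainComplex A ℕ := CochainComplex.of (Lobj P hPcoker hPbiprod hPinj X hX hP0 h1)
    (Ld P hPcoker hPbiprod hPinj X hX hP0 h1) (Ld_sq P hPcoker hPbiprod hPinj X hX hP0 h1)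
  have hLd : ∀ k, L.d k (k + 1) = Ld P hPcoker hPbiprod hPinj X hX hP0 h1 k := fun k =>
    CochainComplex.of_d _ _ k
  let f : X ⟶ L :=
    { f := fun k => Lf P hPcoker hPbiprod hPinj X hX hP0 h1 k
      comm' := fun i j hij => by
        obtain rfl : i + 1 = j := hij
        rw [hLd]
        exact Lf_comm P hPcoker hPbiprod hPinj X hX hP0 h1 i }
  have hf : ∀ k, f.f k = Lf P hPcoker hPbiprod hPinj X hX hP0 h1 k := fun k => rfl
  refine ⟨L, f, Lobj_zero P hPcoker hPbiprod hPinj X hX hP0 h1,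
    Lobj_one P hPcoker hPbiprod hPinj X hX hP0 h1, Lobj_P P hPcoker hPbiprod hPinj X hX hP0 h1,
    Lobj_inj P hPcoker hPbiprod hPinj X hX hP0 h1, ?_⟩
  rw [quasiIso_iff]
  intro n
  match n with
  | 0 =>
    rw [quasiIsoAt_iff_exactAt f 0 (exactAt_of_isZero' X 0 h0)]
    exact exactAt_of_isZero' L 0 (Lobj_zero P hPcoker hPbiprod hPinj X hX hP0 h1)
  | 1 =>
    rw [quasiIsoAt_iff_exactAt f 1 (exactAt_of_isZero' X 1 h1)]
    exact exactAt_of_isZero' L 1 (Lobj_one P hPcoker hPbiprod hPinj X hX hP0 h1)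
  | k + 1 + 1 =>
    rw [quasiIsoAt_iff_isIso_homologyMap]
    have hm : Mono (HomologicalComplex.homologyMap f (k + 1 + 1)) := by
      rw [HomologicalComplex.mono_homologyMap_iff_up_to_refinements f (k + 1) (k + 1 + 1)
        (k + 1 + 1 + 1) (by simp) (by simp)]
      intro T x₂ hx₂ y₁ hy₁
      rw [hLd, hf] at hy₁
      exact L_mono P hPcoker hPbiprod hPinj X hX hP0 h1 (k + 1) x₂ y₁ hx₂ hy₁
    have he : Epi (HomologicalComplex.homologyMap f (k + 1 + 1)) := by
      rw [HomologicalComplex.epi_homologyMap_iff_up_to_refinements f (k + 1) (k + 1 + 1)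
        (k + 1 + 1 + 1) (by simp) (by simp)]
      intro T y₂ hy₂
      rw [hLd] at hy₂
      obtain ⟨T', π, hπ, x₂, hx₂, y₁, h⟩ := L_epi P hPcoker hPbiprod hPinj X hX hP0 h1 (k + 1) y₂ hy₂
      refine ⟨T', π, hπ, x₂, hx₂, y₁, ?_⟩
      rw [hLd, hf]
      exact h
    exact isIso_of_mono_of_epi _

end Main

end Groth.Agent.Lib.helper25.PRes
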