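import Mathlib
import Groth.Agent.Lib.Helper25.PRes
import Groth.Agent.Lib.Helper25.DPlusFF
import Groth.Agent.Lib.Helper25.ExtendFunctor

/-!
# Essential surjectivity of `D⁺(A') ⥤ D⁺_{A'}(A)`

For an exact fully faithful functor `ι : A' ⥤ A` of abelian categories such that every object of `A'` embeds into an
object whose image under `ι` is injective: a bounded below complex of `A` with cohomology in the essential image of `ι`
is quasi-isomorphic to `ι I` for a bounded below complex `I` of `A'` with `ι (Iⁿ)` injective (`exists_complex`), hence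
every such object of `D(A)` is in the essential image of `ι.mapDerivedCategory` (`essSurj_isGE`).  Uses `PRes`.
Also: `exists_lift_complex` (a complex with terms in the essential image of a fully faithful functor lifts).
-/

set_option autoImplicit false
universe w w' v v' u u'
open CategoryTheory CategoryTheory.Limits ZeroObject

namespace Groth.Agent.Lib.helper25.DPlusES

section Lift

variable {A' : Type u'} [Category.{v'} A'] [Preadditive A'] {A : Type u} [Category.{v} A] [Preadditive A]
  (ι : A' ⥤ A) [ι.Additive] [ι.Full] [ι.Faithful]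

/-- a complex whose terms lie in the essential image of a fully faithful additive functor comes from a complex -/
lemma exists_lift_complex {J : Type*} {c : ComplexShape J} (K : HomologicalComplex A c)
    (hK : ∀ n, ι.essImage (K.X n)) :
    ∃ K' : HomologicalComplex A' c, Nonempty ((ι.mapHomologicalComplex c).obj K' ≅ K) := by
  choose X' hX' using fun n => hK n
  let e : ∀ n, ι.obj (X' n) ≅ K.X n := fun n => (hX' n).some
  let K' : HomologicalComplex A' c :=
    { X := X'
      d := fun i j => ι.preimage ((e i).hom ≫ K.d i j ≫ (e j).inv)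
      shape := fun i j hij => ι.map_injective (by
        rw [ι.map_preimage, K.shape i j hij, zero_comp, comp_zero, ι.map_zero])
      d_comp_d' := fun i j k _ _ => ι.map_injective (by
        rw [ι.map_comp, ι.map_preimage, ι.map_preimage, ι.map_zero]
        simp) }
  refine ⟨K', ⟨HomologicalComplex.Hom.isoOfComponents e (fun i j _ => ?_)⟩⟩
  show (e i).hom ≫ K.d i j = ι.map (ι.preimage ((e i).hom ≫ K.d i j ≫ (e j).inv)) ≫ (e j).hom
  rw [ι.map_preimage]
  simp

end Lift

section EssImage

variable {A' : Type u'} [Category.{v'} A'] [Abelian A'] {A : Type u} [Category.{v} A] [Abelian A]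
  (ι : A' ⥤ A) [ι.Additive] [PreservesFiniteLimits ι] [PreservesFiniteColimits ι] [ι.Full] [ι.Faithful]

omit [ι.Additive] [PreservesFiniteLimits ι] [PreservesFiniteColimits ι] [ι.Full] [ι.Faithful] in
lemma essImage_of_isZero (M : A) (hM : IsZero M) [ι.PreservesZeroMorphisms] : ι.essImage M :=
  ⟨0, ⟨(ι.map_isZero (isZero_zero A')).iso hM⟩⟩

lemma essImage_cokernel {M N : A} (f : M ⟶ N) (hM : ι.essImage M) (hN : ι.essImage N) :
    ι.essImage (cokernel f) := by
  obtain ⟨M', ⟨eM⟩⟩ := hM
  obtain ⟨N', ⟨eN⟩⟩ := hN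
  let f' : M' ⟶ N' := ι.preimage (eM.hom ≫ f ≫ eN.inv)
  have hf' : ι.map f' = eM.hom ≫ f ≫ eN.inv := ι.map_preimage _
  refine ⟨cokernel f', ⟨PreservesCokernel.iso ι f' ≪≫ cokernel.mapIso (ι.map f') f eM eN ?_⟩⟩
  rw [hf']
  simp

lemma essImage_biprod (M N : A) (hM : ι.essImage M) (hN : ι.essImage N) : ι.essImage (M ⊞ N) := by
  obtain ⟨M', ⟨eM⟩⟩ := hM
  obtain ⟨N', ⟨eN⟩⟩ := hN
  haveI : PreservesBinaryBiproducts ι := preservesBinaryBiproducts_of_preservesBiproducts ι
  exact ⟨M' ⊞ N', ⟨ι.mapBiprod M' N' ≪≫ biprod.mapIso eM eN⟩⟩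

lemma essImage_injective_hull
    (hinj : ∀ X' : A', ∃ (Y' : A') (i : X' ⟶ Y'), Mono i ∧ Injective (ι.obj Y'))
    (M : A) (hM : ι.essImage M) :
    ∃ (J : A) (i : M ⟶ J), ι.essImage J ∧ Injective J ∧ Mono i := by
  obtain ⟨M', ⟨eM⟩⟩ := hM
  obtain ⟨Y', i, hi, hY'⟩ := hinj M'
  have : Mono (ι.map i) := inferInstance
  exact ⟨ι.obj Y', eM.inv ≫ ι.map i, ι.obj_mem_essImage Y', hY', mono_comp _ _⟩

end EssImage


section Chain

open Groth.Agent.Lib.helper25.ExtendFunctor

variable {A' : Type u'} [Category.{v'} A'] [Abelian A'] {A : Type u} [Category.{v} A] [Abelian A]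
  (ι : A' ⥤ A) [ι.Additive] [PreservesFiniteLimits ι] [PreservesFiniteColimits ι] [ι.Full] [ι.Faithful]
  (hinj : ∀ X' : A', ∃ (Y' : A') (i : X' ⟶ Y'), Mono i ∧ Injective (ι.obj Y'))

include hinj in
/-- chain level statement: a bounded below complex of `A` with cohomology in the essential image of `ι` is
quasi-isomorphic to the image of a bounded below complex of `A'` whose terms become injective in `A`. -/
theorem exists_complex (K : CochainComplex A ℤ) (a : ℤ) [K.IsStrictlyGE a]
    (hK : ∀ i, ι.essImage (K.homology i)) :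
    ∃ (I : CochainComplex A' ℤ), I.IsStrictlyGE a ∧ (∀ n, Injective (ι.obj (I.X n))) ∧
      ∃ φ : K ⟶ (ι.mapHomologicalComplex (ComplexShape.up ℤ)).obj I, QuasiIso φ := by
  let e := ComplexShape.embeddingUpIntGE (a - 2)
  haveI : K.IsStrictlyGE (a - 2) := K.isStrictlyGE_of_ge (a - 2) a (by omega)
  let X : CochainComplex A ℕ := K.restriction e
  have h0 : IsZero (X.X 0) := K.isZero_of_isStrictlyGE a _ (by simp [e])
  have h1 : IsZero (X.X 1) := K.isZero_of_isStrictlyGE a _ (by simp [e]; omega)
  have hX : ∀ n, ι.essImage (X.homology n) := by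
    intro n
    have e1 : (X.extend e).homology (e.f n) ≅ X.homology n := X.extendHomologyIso e rfl
    have e2 : K.homology (e.f n) ≅ (X.extend e).homology (e.f n) :=
      (HomologicalComplex.homologyFunctor A _ (e.f n)).mapIso (asIso (toExtendRestriction e K))
    exact (ι.essImage).prop_of_iso (e2 ≪≫ e1) (hK _)
  obtain ⟨L, f, hL0, hL1, hLP, hLi, hf⟩ := PRes.exists_resolution ι.essImage
    (fun f hM hN => essImage_cokernel ι f hM hN) (essImage_biprod ι)
    (essImage_injective_hull ι hinj) X hX (fun M hM => essImage_of_isZero ι M hM) h0 h1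
  have hlift : e.HasLift f := by
    intro j hj i' hij'
    exact (K.isZero_X_of_isStrictlySupported e i' (hj.notMem hij')).eq_of_src _ _
  let φ : K ⟶ L.extend e := e.liftExtend f hlift
  have hφ : QuasiIso φ := by
    dsimp only [φ]
    rw [liftExtend_eq]
    infer_instance
  have hLZ : ∀ n, ι.essImage ((L.extend e).X n) ∧ Injective ((L.extend e).X n) := by
    intro n
    by_cases hn : ∃ k, e.f k = n
    · obtain ⟨k, rfl⟩ := hn
      exact ⟨(ι.essImage).prop_of_iso (L.extendXIso e rfl).symm (hLP k),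
        Injective.of_iso (L.extendXIso e rfl).symm (hLi k)⟩
    · have hz : IsZero ((L.extend e).X n) := L.isZero_extend_X e n (by simpa using hn)
      exact ⟨essImage_of_isZero ι _ hz, hz.injective⟩
  have hLge : ∀ n, n < a → IsZero ((L.extend e).X n) := by
    intro n hn
    by_cases hn' : ∃ k, e.f k = n
    · obtain ⟨k, rfl⟩ := hn'
      have hk : k = 0 ∨ k = 1 := by
        simp [e] at hn
        omega
      rcases hk with rfl | rfl
      · exact IsZero.of_iso hL0 (L.extendXIso e rfl)
      · exact IsZero.of_iso hL1 (L.extendXIso e rfl)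
    · exact L.isZero_extend_X e n (by simpa using hn')
  obtain ⟨I, ⟨eI⟩⟩ := exists_lift_complex ι (L.extend e) (fun n => (hLZ n).1)
  have eIX : ∀ n, ι.obj (I.X n) ≅ (L.extend e).X n := fun n =>
    (HomologicalComplex.eval A _ n).mapIso eI
  refine ⟨I, ?_, fun n => Injective.of_iso (eIX n).symm (hLZ n).2, φ ≫ eI.inv, inferInstance⟩
  rw [CochainComplex.isStrictlyGE_iff]
  intro n hn
  have hz : IsZero (ι.obj (I.X n)) := IsZero.of_iso (hLge n hn) (eIX n)
  rw [IsZero.iff_id_eq_zero] at hz ⊢
  apply ι.map_injective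
  rw [ι.map_id, hz, ι.map_zero]

end Chain


section Derived

variable {A' : Type u'} [Category.{v'} A'] [Abelian A'] [HasDerivedCategory.{w'} A']
  {A : Type u} [Category.{v} A] [Abelian A] [HasDerivedCategory.{w} A]
  (ι : A' ⥤ A) [ι.Additive] [PreservesFiniteLimits ι] [PreservesFiniteColimits ι] [ι.Full] [ι.Faithful]
  (hinj : ∀ X' : A', ∃ (Y' : A') (i : X' ⟶ Y'), Mono i ∧ Injective (ι.obj Y'))

open DerivedCategory

include hinj in
theorem essSurj_isGE (Z : DerivedCategory A) (a : ℤ) [Z.IsGE a]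
    (hZ : ∀ i : ℤ, ι.essImage ((DerivedCategory.homologyFunctor A i).obj Z)) :
    ∃ (I : CochainComplex A' ℤ), I.IsStrictlyGE a ∧ (∀ n : ℤ, Injective (ι.obj (I.X n))) ∧
      Nonempty (ι.mapDerivedCategory.obj (DerivedCategory.Q.obj I) ≅ Z) := by
  obtain ⟨K, hK, ⟨eZ⟩⟩ := exists_iso_Q_obj_of_isGE Z a
  have hKh : ∀ i, ι.essImage (K.homology i) := fun i =>
    (ι.essImage).prop_of_iso ((DerivedCategory.homologyFunctor A i).mapIso eZ ≪≫
      (homologyFunctorFactors A i).app K) (hZ i)
  obtain ⟨I, hI1, hI2, φ, hφ⟩ := exists_complex ι hinj K a hKh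
  exact ⟨I, hI1, hI2, ⟨ι.mapDerivedCategoryFactors.app I ≪≫ (asIso (Q.map φ)).symm ≪≫ eZ.symm⟩⟩

end Derived

end Groth.Agent.Lib.helper25.DPlusES
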