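import Mathlib
import Groth.Agent.Lib.Helper25.DQCohSmall
import Groth.Agent.Lib.Helper25.QCCRpush
import Groth.Agent.Lib.Helper25.RGZ5

/-!
# `Rf_* : D_QCoh(O_X) ⥤ D_QCoh(O_Y)` has a right adjoint (helper25)

* `preservesColimitsOfShape_discrete`: a functor mapping colimit cofans to colimit cofans preserves coproducts.
* `isColimit_Rpush`: `Rf_*` (f quasi-compact quasi-separated) maps colimit cofans of objects of `D_QCoh` to colimit
  cofans (from `QCCRpush.isIso_theta`).
* `isLeftAdjoint_Rpush` (S1766): `BrownSub.isLeftAdjoint_of_weak` applied to `Rf_*` (additive, coproduct preserving,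
  weakly exact by `RGZ5.exists_distinguished_Rpush`).
-/

set_option autoImplicit false
universe u
open CategoryTheory CategoryTheory.Limits AlgebraicGeometry Pretriangulated
attribute [local instance] HasDerivedCategory.standard

namespace Groth.Agent.Lib.Helper25.DQCohRpushAdj

open Groth.Agent.Lib.Helper25.DQCohSmall

/-- a functor which preserves colimit cofans preserves coproducts -/
lemma preservesColimitsOfShape_discrete {C D : Type*} [Category C] [Category D] (F : C ⥤ D)
    (J : Type*) [HasCoproductsOfShape J C]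
    (h : ∀ (M : J → C) (A : C) (g : ∀ j, M j ⟶ A), IsColimit (Cofan.mk A g) →
      IsColimit (Cofan.mk (F.obj A) (fun j => F.map (g j)))) :
    PreservesColimitsOfShape (Discrete J) F where
  preservesColimit {K} := by
    haveI : PreservesColimit (Discrete.functor (K.obj ∘ Discrete.mk)) F :=
      preservesColimit_of_preserves_colimit_cocone (coproductIsCoproduct _)
        ((isColimitMapCoconeCofanMkEquiv F _ _).symm (h _ _ _ (coproductIsCoproduct _)))
    exact preservesColimit_of_iso_diagram F (Discrete.natIsoFunctor (F := K)).symm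

/-- `D_QCoh` as an object property -/
abbrev PQ (X : Scheme.{u}) : ObjectProperty (DCoh.D X) := DCoh.IsQCohD

variable {X Y : Scheme.{u}} (f : X ⟶ Y) [DCoh.HasRpush f]

/-- `Rf_*` maps colimit cofans of objects of `D_QCoh` to colimit cofans -/
noncomputable def isColimit_Rpush [QuasiCompact f] [QuasiSeparated f] {J : Type u} (M : J → DCoh.D X)
    (hM : ∀ j, DCoh.IsQCohD (M j)) (A : DCoh.D X) (g : ∀ j, M j ⟶ A) (hc : IsColimit (Cofan.mk A g)) :
    IsColimit (Cofan.mk ((DCoh.Rpush f).obj A) (fun j => (DCoh.Rpush f).map (g j))) := by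
  haveI : HasCoproduct (fun j => (DCoh.Rpush f).obj (M j)) := by
    haveI := Groth.Agent.Lib.Helper25.QCCPerfect.exactCoprod Y J
    haveI : HasCoproductsOfShape J (DCoh.D Y) := Groth.Agent.Lib.helper23.DCoprod.hasCoproductsOfShape
    infer_instance
  let θ : (∐ fun j => (DCoh.Rpush f).obj (M j)) ⟶ (DCoh.Rpush f).obj A :=
    Sigma.desc (fun j => (DCoh.Rpush f).map (g j))
  have hθ : ∀ j, Sigma.ι (fun j => (DCoh.Rpush f).obj (M j)) j ≫ θ = (DCoh.Rpush f).map (g j) :=
    fun j => Sigma.ι_desc _ j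
  haveI : IsIso θ := Groth.Agent.Lib.Helper25.QCCRpush.isIso_theta f M hM g hc
    (Sigma.ι (fun j => (DCoh.Rpush f).obj (M j))) (coproductIsCoproduct _) θ hθ
  refine Cofan.IsColimit.mk _ (fun s => inv θ ≫ Sigma.desc s.inj) (fun s j => ?_) (fun s m hm => ?_)
  · change (DCoh.Rpush f).map (g j) ≫ inv θ ≫ Sigma.desc s.inj = s.inj j
    rw [← hθ j, Category.assoc, IsIso.hom_inv_id_assoc, Sigma.ι_desc]
  · rw [IsIso.eq_inv_comp]
    refine Sigma.hom_ext _ _ (fun j => ?_)
    rw [← Category.assoc, hθ j, Sigma.ι_desc]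
    exact hm j

/-- **S1766**: for a morphism of quasi-compact quasi-separated schemes, `Rf_* : D_QCoh(O_X) ⥤ D_QCoh(O_Y)` has a
right adjoint -/
theorem isLeftAdjoint_Rpush (X Y : Scheme.{u}) [CompactSpace X] [QuasiSeparatedSpace X] [CompactSpace Y]
    [QuasiSeparatedSpace Y] (f : X ⟶ Y) [DCoh.HasRpush f]
    (h : ∀ K : DCoh.D X, DCoh.IsQCohD K → DCoh.IsQCohD ((DCoh.Rpush f).obj K)) :
    (ObjectProperty.lift DCoh.IsQCohD (ObjectProperty.ι DCoh.IsQCohD ⋙ DCoh.Rpush f)
      (fun K => h K.obj K.property)).IsLeftAdjoint := by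
  haveI := Groth.Agent.Lib.Helper25.QCCRpush.additive_Rpush f
  let F : (PQ X).FullSubcategory ⥤ (PQ Y).FullSubcategory :=
    (PQ Y).lift ((PQ X).ι ⋙ DCoh.Rpush f) (fun K => h K.obj K.property)
  haveI : F.Additive := inferInstance
  haveI : ∀ J : Type u, PreservesColimitsOfShape (Discrete J) F := fun J => by
    haveI := Groth.Agent.Lib.Helper25.QCCPerfect.exactCoprod X J
    haveI : HasCoproductsOfShape J (DCoh.D X) := Groth.Agent.Lib.helper23.DCoprod.hasCoproductsOfShape
    haveI : PreservesColimitsOfShape (Discrete J) ((PQ X).ι ⋙ DCoh.Rpush f) :=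
      preservesColimitsOfShape_discrete _ J (fun M A g hc => by
        have hc' : IsColimit (Cofan.mk ((PQ X).ι.obj A) (fun j => (PQ X).ι.map (g j))) :=
          isColimitCofanMkObjOfIsColimit (PQ X).ι _ _ hc
        exact isColimit_Rpush f (fun j => (M j).obj) (fun j => (M j).property) A.obj
          (fun j => (PQ X).ι.map (g j)) hc')
    haveI : PreservesColimitsOfShape (Discrete J) (F ⋙ (PQ Y).ι) :=
      preservesColimitsOfShape_of_natIso ((PQ Y).liftCompιIso _ _).symm
    exact preservesColimitsOfShape_of_reflects_of_preserves F (PQ Y).ι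
  haveI : IsEmpty ((⊥ : X.Opens) : Scheme.{u}) := ⟨fun x => x.2⟩
  obtain ⟨G, hG, -, hgen⟩ := Groth.Agent.Lib.Helper25.PerfGen.gen_qcqs X ⊥ (by simp)
  refine Groth.Agent.Lib.Helper25.BrownSub.isLeftAdjoint_of_weak (Ψ X.Modules) (PQ X) (Ψ Y.Modules) (PQ Y) F G
    (Groth.Agent.Lib.Helper25.ApproxAffine.isQCohD_of_isPerfect hG)
    (fun K hK h' => (hgen K hK (Groth.Agent.Lib.Helper25.HomVanQcqs.isZero_of_isEmpty _)).2 h')
    (Groth.Agent.Lib.Helper25.QCCPerfect.qff_of_isPerfect X G hG) ?_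
  intro T hT M x hx
  obtain ⟨c, hc⟩ := Groth.Agent.Lib.Helper25.RGZ5.exists_distinguished_Rpush f ((PQ X).ι.mapTriangle.obj T)
    ((PQ X).ι.map_distinguished T hT)
  have e1 : ∀ {A B : (PQ X).FullSubcategory} (m : A ⟶ B),
      (PQ Y).ι.map (F.map m) = (DCoh.Rpush f).map ((PQ X).ι.map m) := fun m => rfl
  have h0 : (DCoh.Rpush f).map ((PQ X).ι.map T.mor₁) ≫ (PQ Y).ι.map x = 0 := by
    rw [← e1, ← Functor.map_comp, hx, Functor.map_zero]
  obtain ⟨z, hz⟩ := Triangle.yoneda_exact₂ _ hc ((PQ Y).ι.map x) h0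
  have hz' : (PQ Y).ι.map x = (DCoh.Rpush f).map ((PQ X).ι.map T.mor₂) ≫ z := hz
  refine ⟨(PQ Y).fullyFaithfulι.preimage z, (PQ Y).ι.map_injective ?_⟩
  rw [Functor.map_comp, e1, hz']
  congr 1

end Groth.Agent.Lib.Helper25.DQCohRpushAdj
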