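import Mathlib
import Groth.Prelude.Def_DTor2
import Groth.Agent.Lib.Helper25.LTensorDCoh

/-!
# Tor amplitude on schemes via K-flat complexes (helper25)

Consequences of `LTensorDCoh`, under `hX : ∀ M : X.Modules, TensorRightQis M`:

* `torAmplitude_of_biprod` (statement S0915), `torAmplitude_triangle` (statement S0963),
  `hasFlatAmplitudeIn_shift`.
-/

set_option autoImplicit false
universe u
open CategoryTheory CategoryTheory.Limits AlgebraicGeometry Pretriangulated

attribute [local instance] HasDerivedCategory.standard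

namespace Groth.Agent.Lib.Helper25.TorAmpDCoh

open DCoh Groth.Agent.Lib.Helper25.LTensorDCoh

variable {X : Scheme.{u}} (hX : ∀ M : X.Modules, TensorRightQis M)

include hX in
theorem torAmplitude_of_biprod (K L : DCoh.D X) [HasBinaryBiproduct K L] (a b : ℤ)
    (h : DCoh.HasFlatAmplitudeIn a b (K ⊞ L)) :
    DCoh.HasTorAmplitudeIn a b K ∧ DCoh.HasTorAmplitudeIn a b L := by
  have key : ∀ (F : X.Modules) [HasLTensorMod F] (i : ℤ), (i < a ∨ b < i) →
      IsZero (HD ((LTensorMod F).obj (K ⊞ L)) i) := fun F _ i hi =>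
    isZero_HD_LTensorMod_of_hasFlatAmplitudeIn F (hX F) a b _ h i hi
  have retract : ∀ {Y Z : D X} (s : Y ⟶ Z) (r : Z ⟶ Y), s ≫ r = 𝟙 Y →
      ∀ (F : X.Modules) [HasLTensorMod F] (i : ℤ),
      IsZero (HD ((LTensorMod F).obj Z) i) → IsZero (HD ((LTensorMod F).obj Y) i) := by
    intro Y Z s r hsr F _ i hZ
    rw [IsZero.iff_id_eq_zero]
    have : 𝟙 (HD ((LTensorMod F).obj Y) i) =
        (DerivedCategory.homologyFunctor X.Modules i).map ((LTensorMod F).map s) ≫
          (DerivedCategory.homologyFunctor X.Modules i).map ((LTensorMod F).map r) := by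
      rw [← Functor.map_comp, ← Functor.map_comp, hsr, CategoryTheory.Functor.map_id,
        CategoryTheory.Functor.map_id]
    rw [this, hZ.eq_of_tgt ((DerivedCategory.homologyFunctor X.Modules i).map
      ((LTensorMod F).map s)) 0, zero_comp]
  exact ⟨fun F _ i hi => retract biprod.inl biprod.fst biprod.inl_fst F i (key F i hi),
    fun F _ i hi => retract biprod.inr biprod.snd biprod.inr_snd F i (key F i hi)⟩

lemma hasFlatAmplitudeIn_shift (a b n : ℤ) (K : D X) (h : HasFlatAmplitudeIn a b K) :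
    HasFlatAmplitudeIn (a - n) (b - n) (K⟦n⟧) := by
  obtain ⟨E, hV, hfl, ⟨e⟩⟩ := h
  refine ⟨E⟦n⟧, fun i hi => ?_, fun i => ?_, ⟨?_⟩⟩
  · exact hV (i + n) (by omega)
  · exact hfl (i + n)
  · exact (DerivedCategory.Q.commShiftIso n).app E ≪≫ (shiftFunctor (D X) n).mapIso e

include hX in
theorem torAmplitude_triangle (T : Triangle (DCoh.D X)) (hT : T ∈ distinguishedTriangles)
    (a b : ℤ) :
    (DCoh.HasFlatAmplitudeIn (a + 1) (b + 1) T.obj₁ → DCoh.HasFlatAmplitudeIn a b T.obj₂ →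
      DCoh.HasTorAmplitudeIn a b T.obj₃) ∧
    (DCoh.HasFlatAmplitudeIn a b T.obj₁ → DCoh.HasFlatAmplitudeIn a b T.obj₃ →
      DCoh.HasTorAmplitudeIn a b T.obj₂) ∧
    (DCoh.HasFlatAmplitudeIn (a + 1) (b + 1) T.obj₂ → DCoh.HasFlatAmplitudeIn a b T.obj₃ →
      DCoh.HasTorAmplitudeIn (a + 1) (b + 1) T.obj₁) := by
  refine ⟨fun h₁ h₂ F _ i hi => ?_, fun h₁ h₃ F _ i hi => ?_, fun h₂ h₃ F _ i hi => ?_⟩
  · have h₁' : HasFlatAmplitudeIn a b (T.obj₁⟦(1 : ℤ)⟧) := by
      have := hasFlatAmplitudeIn_shift (a + 1) (b + 1) 1 _ h₁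
      simpa using this
    exact isZero_HD_LTensorMod_obj₂ F (hX F) T.rotate (rot_of_distTriang _ hT) i
      (isZero_HD_LTensorMod_of_hasFlatAmplitudeIn F (hX F) a b _ h₂ i hi)
      (isZero_HD_LTensorMod_of_hasFlatAmplitudeIn F (hX F) a b _ h₁' i hi)
  · exact isZero_HD_LTensorMod_obj₂ F (hX F) T hT i
      (isZero_HD_LTensorMod_of_hasFlatAmplitudeIn F (hX F) a b _ h₁ i hi)
      (isZero_HD_LTensorMod_of_hasFlatAmplitudeIn F (hX F) a b _ h₃ i hi)
  · have h₃' : HasFlatAmplitudeIn (a + 1) (b + 1) (T.obj₃⟦(-1 : ℤ)⟧) := by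
      have := hasFlatAmplitudeIn_shift a b (-1) _ h₃
      simpa using this
    exact isZero_HD_LTensorMod_obj₂ F (hX F) T.invRotate (inv_rot_of_distTriang _ hT) i
      (isZero_HD_LTensorMod_of_hasFlatAmplitudeIn F (hX F) (a + 1) (b + 1) _ h₃' i hi)
      (isZero_HD_LTensorMod_of_hasFlatAmplitudeIn F (hX F) (a + 1) (b + 1) _ h₂ i hi)

end Groth.Agent.Lib.Helper25.TorAmpDCoh
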