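import Mathlib
import Groth.Agent.Lib.Helper25.TorAmpFlat
import Groth.Agent.Lib.Helper25.TorAmpDCoh
import Groth.Agent.Lib.Helper25.TensorRightQisAll
import Groth.Agent.Lib.Helper25.TorFlat2
import Groth.Agent.Lib.Helper25.FlatClass

/-!
# Objects of finite tor dimension in `D(O_Y)` (helper25)

`FTD K`: `K` has flat amplitude in some interval `[a, b]`.  Closure properties: isomorphisms, zero objects, shifts,
distinguished triangles (any vertex), retracts, biproducts.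
-/

set_option autoImplicit false
universe u
open CategoryTheory CategoryTheory.Limits AlgebraicGeometry Pretriangulated ZeroObject
attribute [local instance] HasDerivedCategory.standard

namespace Groth.Agent.Lib.Helper25.FTDClass

open DCoh Groth.Agent.Lib.Helper25.LTensorDCoh Groth.Agent.Lib.Helper25.TorAmpDCoh
  Groth.Agent.Lib.Helper25.TorAmpFlat Groth.Agent.Lib.Helper25.TensorRightQisAll

variable {Y : Scheme.{u}}

/-- finite tor dimension: flat amplitude in some interval -/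
def FTD (K : DCoh.D Y) : Prop := ∃ a b : ℤ, a ≤ b ∧ DCoh.HasFlatAmplitudeIn a b K

lemma hasFlatAmplitudeIn_mono {a b a' b' : ℤ} {K : DCoh.D Y} (h : DCoh.HasFlatAmplitudeIn a b K)
    (ha : a' ≤ a) (hb : b ≤ b') : DCoh.HasFlatAmplitudeIn a' b' K := by
  obtain ⟨E, hV, hfl, e⟩ := h
  exact ⟨E, fun i hi => hV i (by omega), hfl, e⟩

lemma ftd_of_iso {K L : DCoh.D Y} (e : K ≅ L) (h : FTD K) : FTD L := by
  obtain ⟨a, b, hab, E, hV, hfl, ⟨e'⟩⟩ := h
  exact ⟨a, b, hab, E, hV, hfl, ⟨e' ≪≫ e⟩⟩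

lemma ftd_inD (F : Y.Modules) (hF : FlatMod.IsFlat F) : FTD (DCoh.inD Y F) :=
  ⟨0, 0, le_rfl, Groth.Agent.Lib.Helper25.TorFlat2.hasFlatAmplitudeIn_inD F hF⟩

lemma ftd_of_isZero {K : DCoh.D Y} (hK : IsZero K) : FTD K := by
  refine ftd_of_iso (IsZero.iso ?_ hK) (ftd_inD (0 : Y.Modules)
    (Groth.Agent.Lib.helper25.FlatClass.isFlat_of_isZero (isZero_zero _)))
  exact Functor.map_isZero _ (isZero_zero _)

lemma ftd_shift {K : DCoh.D Y} (h : FTD K) (n : ℤ) : FTD (K⟦n⟧) := by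
  obtain ⟨a, b, hab, h⟩ := h
  exact ⟨a - n, b - n, by omega, hasFlatAmplitudeIn_shift a b n K h⟩

/-- the middle vertex -/
theorem ftd_obj₂ (T : Triangle (DCoh.D Y)) (hT : T ∈ distTriang _) (h₁ : FTD T.obj₁) (h₃ : FTD T.obj₃) :
    FTD T.obj₂ := by
  obtain ⟨a₁, b₁, hab₁, h₁⟩ := h₁
  obtain ⟨a₃, b₃, hab₃, h₃⟩ := h₃
  have hab : min a₁ a₃ ≤ max b₁ b₃ := le_trans (min_le_left _ _) (le_trans hab₁ (le_max_left _ _))
  refine ⟨min a₁ a₃, max b₁ b₃, hab, hasFlatAmplitudeIn_of_hasTorAmplitudeIn _ _ _ hab ?_⟩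
  exact (torAmplitude_triangle (fun M => tensorRightQis M) T hT _ _).2.1
    (hasFlatAmplitudeIn_mono h₁ (min_le_left _ _) (le_max_left _ _))
    (hasFlatAmplitudeIn_mono h₃ (min_le_right _ _) (le_max_right _ _))

theorem ftd_obj₁ (T : Triangle (DCoh.D Y)) (hT : T ∈ distTriang _) (h₂ : FTD T.obj₂) (h₃ : FTD T.obj₃) :
    FTD T.obj₁ :=
  ftd_obj₂ T.invRotate (inv_rot_of_distTriang _ hT) (ftd_shift h₃ (-1)) h₂

theorem ftd_obj₃ (T : Triangle (DCoh.D Y)) (hT : T ∈ distTriang _) (h₁ : FTD T.obj₁) (h₂ : FTD T.obj₂) :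
    FTD T.obj₃ :=
  ftd_obj₂ T.rotate (rot_of_distTriang _ hT) h₂ (ftd_shift h₁ 1)

theorem ftd_biprod {K L : DCoh.D Y} (hK : FTD K) (hL : FTD L) : FTD (K ⊞ L) :=
  ftd_obj₂ _ (binaryBiproductTriangle_distinguished K L) hK hL

theorem ftd_retract {P P' : DCoh.D Y} (i : P ⟶ P') (p : P' ⟶ P) (hip : i ≫ p = 𝟙 P) (h : FTD P') :
    FTD P := by
  obtain ⟨a, b, hab, h⟩ := h
  refine ⟨a, b, hab, hasFlatAmplitudeIn_of_hasTorAmplitudeIn _ _ _ hab ?_⟩
  intro F _ j hj
  have hZ : IsZero (HD ((LTensorMod F).obj P') j) :=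
    isZero_HD_LTensorMod_of_hasFlatAmplitudeIn F (tensorRightQis F) a b _ h j hj
  rw [IsZero.iff_id_eq_zero]
  have : 𝟙 (HD ((LTensorMod F).obj P) j) =
      (DerivedCategory.homologyFunctor Y.Modules j).map ((LTensorMod F).map i) ≫
        (DerivedCategory.homologyFunctor Y.Modules j).map ((LTensorMod F).map p) := by
    rw [← Functor.map_comp, ← Functor.map_comp, hip, CategoryTheory.Functor.map_id,
      CategoryTheory.Functor.map_id]
  rw [this, hZ.eq_of_tgt ((DerivedCategory.homologyFunctor Y.Modules j).map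
    ((LTensorMod F).map i)) 0, zero_comp]

end Groth.Agent.Lib.Helper25.FTDClass
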