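import Mathlib
import Groth.Agent.Lib.Helper25.FTDClass
import Groth.Agent.Lib.Helper25.TildePerfect
import Groth.Agent.Lib.Helper25.RpushAcyc
import Groth.Agent.Lib.Helper25.RpushQC3
import Groth.Agent.Lib.Helper25.RGZ5
import Groth.Agent.Lib.Helper25.QCCRpush
import Groth.Agent.Lib.Helper17.FlatOver5
import Groth.Agent.Lib.Helper17.FlatOver7
import Groth.Agent.Lib.Helper16.FLF4

/-!
# `Rf_*` of a perfect object has finite tor dimension for `f` flat and affine with affine source (helper25)

* `isFlatOver_of_isFlat`: a flat `O_X`-module is flat over `S` for `f : X ⟶ S` flat.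
* `isFlat_pushforward`: `f_* M` is flat for `f` flat and affine, `M` flat quasi-coherent.
* `ftd_Rpush_single`, `ftd_Rpush_of_tg`, `ftd_Rpush_affine`.
-/

set_option autoImplicit false
universe u
open CategoryTheory CategoryTheory.Limits AlgebraicGeometry Pretriangulated
attribute [local instance] HasDerivedCategory.standard

namespace Groth.Agent.Lib.Helper25.FlatPushAff

open DCoh Groth.Agent.Lib.Helper25.FTDClass Scheme.Modules DerivedCategory
  Groth.Agent.Lib.Helper25.RDerRlim Groth.Agent.Lib.Helper25.RDerAcyc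
  Groth.Agent.Lib.Helper25.ThomasonTG

variable {X Y : Scheme.{u}} (f : X ⟶ Y)

/-- a flat `O_X`-module is flat over the base of a flat morphism -/
theorem isFlatOver_of_isFlat [Flat f] (M : X.Modules) (hM : FlatMod.IsFlat M) :
    FlatMod.IsFlatOver f M := by
  intro x
  unfold FlatMod.IsFlatOverAt
  letI := FlatMod.moduleStalkOver f M x
  letI : Algebra (Y.presheaf.stalk (f.base x)) (X.presheaf.stalk x) :=
    (f.stalkMap x).hom.toAlgebra
  haveI : IsScalarTower (Y.presheaf.stalk (f.base x)) (X.presheaf.stalk x)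
      (M.presheaf.stalk x) :=
    IsScalarTower.of_algebraMap_smul (fun r m => rfl)
  haveI : Module.Flat (X.presheaf.stalk x) (M.presheaf.stalk x) := hM x
  haveI : Module.Flat (Y.presheaf.stalk (f.base x)) (X.presheaf.stalk x) := Flat.stalkMap f x
  exact Module.Flat.trans _ (X.presheaf.stalk x) _

/-- the direct image of a flat quasi-coherent module along a flat affine morphism is flat -/
theorem isFlat_pushforward [IsAffineHom f] [Flat f] (M : X.Modules) [M.IsQuasicoherent]
    (hM : FlatMod.IsFlat M) : FlatMod.IsFlat ((Scheme.Modules.pushforward f).obj M) := by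
  have h1 : FlatMod.IsFlatOver (f ≫ 𝟙 Y) M :=
    (Groth.Agent.Lib.helper17.FlatOver7.isFlatOver_congr (Category.comp_id f).symm M).1
      (isFlatOver_of_isFlat f M hM)
  have h2 := (Groth.Agent.Lib.helper17.FlatOver5.isFlatOver_push_iff f (𝟙 Y) M).1 h1
  exact (Groth.Agent.Lib.helper17.FlatOver7.isFlatOver_id_iff _).1 h2

/-- `Rf_*` of a flat quasi-coherent module placed in one degree (`f` flat, affine) -/
theorem ftd_Rpush_single [IsAffineHom f] [Flat f] [DCoh.HasRpush f] (a : ℤ) (M : X.Modules)
    (hq : M.IsQuasicoherent) (hM : FlatMod.IsFlat M) :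
    FTD ((DCoh.Rpush f).obj ((DerivedCategory.singleFunctor X.Modules a).obj M)) := by
  let Fc : CochainComplex X.Modules ℤ :=
    (HomologicalComplex.single X.Modules (ComplexShape.up ℤ) a).obj M
  have hFq : ∀ n, (Fc.X n).IsQuasicoherent := by
    intro n
    by_cases hn : n = a
    · subst hn
      exact Groth.Agent.Lib.helper16.QCohFibre.isQuasicoherent_of_iso
        (HomologicalComplex.singleObjXSelf (ComplexShape.up ℤ) n M).symm
    · exact Groth.Agent.Lib.helper7.CohKer.isQuasicoherent_of_isZero (X := X)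
        (HomologicalComplex.isZero_single_obj_X (ComplexShape.up ℤ) a _ n hn)
  have hFf : ∀ n, FlatMod.IsFlat (Fc.X n) := by
    intro n
    by_cases hn : n = a
    · subst hn
      exact Groth.Agent.Lib.helper25.FlatClass.isFlat_of_iso
        (HomologicalComplex.singleObjXSelf (ComplexShape.up ℤ) n M).symm hM
    · exact Groth.Agent.Lib.helper25.FlatClass.isFlat_of_isZero
        (HomologicalComplex.isZero_single_obj_X (ComplexShape.up ℤ) a _ n hn)
  haveI : HasInjectiveResolutions X.Modules :=
    Groth.Agent.Lib.helper21.ModOpenBC.hasInjectiveResolutions_modules _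
  have hiso := Groth.Agent.Lib.Helper25.RpushAcyc.isIso_unit_of_acyclic f Fc hFq
    (fun n i hi => Groth.Agent.Lib.Helper25.RpushQC3.isZero_rpush_of_isAffineHom f _ (hFq n) i hi)
  rw [isIso_α_app_iff (pushforward f) (DCoh.Rpush f)] at hiso
  let e := asIso ((uQ (pushforward f) (DCoh.Rpush f)
    ((DCoh.pushKh f).totalRightDerivedUnit DerivedCategory.Qh
      (HomotopyCategory.quasiIso X.Modules (ComplexShape.up ℤ)))).app Fc)
  refine ftd_of_iso (e ≪≫ (DCoh.Rpush f).mapIso
    ((DerivedCategory.singleFunctorIsoCompQ X.Modules a).app M).symm) ?_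
  refine ⟨a, a, le_rfl, ((pushforward f).mapHomologicalComplex _).obj Fc, ?_, ?_, ⟨Iso.refl _⟩⟩
  · intro i hi
    exact (pushforward f).map_isZero
      (HomologicalComplex.isZero_single_obj_X (ComplexShape.up ℤ) a _ i (by omega))
  · intro i
    haveI := hFq i
    exact isFlat_pushforward f (Fc.X i) (hFf i)

/-- `Rf_*` of objects of the thick subcategory generated by `O_X` (`f` flat, affine) -/
theorem ftd_Rpush_of_tg [IsAffineHom f] [Flat f] [DCoh.HasRpush f] {E : DCoh.D X} (hE : TG X E) :
    FTD ((DCoh.Rpush f).obj E) := by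
  induction hE with
  | zero P hP =>
    haveI := Groth.Agent.Lib.Helper25.QCCRpush.additive_Rpush f
    exact ftd_of_isZero ((DCoh.Rpush f).map_isZero hP)
  | single a M r e =>
    have hfl : FlatMod.IsFinLocFree M := by
      exact Groth.Agent.Lib.helper16.FLF.isFinLocFree_of_iso e.symm
        (Groth.Agent.Lib.helper16.FLF.isFinLocFree_freeMod X r)
    exact ftd_Rpush_single f a M (Groth.Agent.Lib.helper16.FLF.isQuasicoherent_of_isFinLocFree _ hfl)
      (Groth.Agent.Lib.helper16.FLF.isFlat_of_isFinLocFree _ hfl)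
  | tri T hT _ _ h1 h3 =>
    obtain ⟨c, hc⟩ := Groth.Agent.Lib.Helper25.RGZ5.exists_distinguished_Rpush f T hT
    exact ftd_obj₂ _ hc h1 h3
  | retract P P' i p hip _ h =>
    exact ftd_retract ((DCoh.Rpush f).map i) ((DCoh.Rpush f).map p)
      (by rw [← Functor.map_comp, hip, CategoryTheory.Functor.map_id]) h

/-- `Rf_*` of a perfect object has finite tor dimension, `X` and `Y` affine, `f` flat -/
theorem ftd_Rpush_affine [IsAffine X] [IsAffineHom f] [Flat f] [DCoh.HasRpush f] (E : DCoh.D X)
    (hE : DCoh.IsPerfect E) : FTD ((DCoh.Rpush f).obj E) :=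
  ftd_Rpush_of_tg f (Groth.Agent.Lib.Helper25.TildePerfect.tg_of_isPerfect_affine X E hE)

end Groth.Agent.Lib.Helper25.FlatPushAff
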