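import Mathlib
import Groth.Agent.Lib.Helper25.HomVanQcqs

/-!
# Mayer–Vietoris induction over quasi-compact quasi-separated schemes (helper25)

A property `Pr` of schemes which holds for affine schemes and which passes from the open subschemes
`V`, `W`, `V ⊓ W` of `Y` to `Y` whenever `V ⊔ W = ⊤` holds for every quasi-compact quasi-separated
scheme.  (The induction runs *over schemes*: the hypotheses are applied to open subschemes viewed as
schemes, so no transport between isomorphic schemes is ever needed.)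

* `stage1`, `of_ha`: quasi-compact schemes in which affine opens have affine intersections.
* `stage2`, `qcqs_induction`: quasi-compact quasi-separated schemes.
-/

set_option autoImplicit false
universe u
open CategoryTheory CategoryTheory.Limits AlgebraicGeometry

namespace Groth.Agent.Lib.Helper25.QcqsInduction

open TopologicalSpace Groth.Agent.Lib.Helper25.HomVanQcqs

variable (Pr : Scheme.{u} → Prop)

lemma congr_open {Y : Scheme.{u}} {A B : Y.Opens} (h : A = B) (hA : Pr A) : Pr B := by
  subst h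
  exact hA

variable (h_aff : ∀ Y : Scheme.{u}, IsAffine Y → Pr Y)
  (h_mv : ∀ (Y : Scheme.{u}) (V W : Y.Opens), V ⊔ W = ⊤ → Pr V → Pr W → Pr (V ⊓ W : Y.Opens) → Pr Y)

include h_aff h_mv

theorem stage1 : ∀ (n : ℕ) (Y : Scheme.{u}), HA Y → ∀ (U : Fin (n + 1) → Y.Opens),
    (⨆ i, U i) = ⊤ → (∀ i, IsAffineOpen (U i)) → Pr Y := by
  intro n
  induction n with
  | zero =>
    intro Y _ U hcov haff
    have h0 : U 0 = ⊤ := by
      refine top_le_iff.1 (hcov ▸ iSup_le fun i => ?_)
      have hi : i = 0 := Fin.ext (by have := i.2; omega)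
      rw [hi]
    have h1 : Pr (U 0) := h_aff _ (haff 0)
    exact h_mv Y (U 0) (U 0) (by rw [sup_idem, h0]) h1 h1
      (congr_open Pr (inf_idem (U 0)).symm h1)
  | succ n ih =>
    intro Y hY U hcov haff
    let V : Y.Opens := ⨆ i : Fin (n + 1), U i.castSucc
    let W : Y.Opens := U (Fin.last (n + 1))
    have hVW : V ⊔ W = ⊤ := by
      rw [← hcov]
      exact (Groth.Agent.Lib.helper27.SerreVan.iSup_fin_succ U).symm
    have h1 : Pr V := by
      refine ih V (ha_restrict hY V) (fun i => V.ι ⁻¹ᵁ U i.castSucc)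
        (preimage_iSup_eq_top V _ le_rfl) (fun i => ?_)
      refine (haff i.castSucc).preimage_of_isOpenImmersion V.ι ?_
      rw [Scheme.Opens.opensRange_ι]
      exact le_iSup (fun i : Fin (n + 1) => U i.castSucc) i
    have h2 : Pr W := h_aff _ (haff _)
    have h3 : Pr (V ⊓ W : Y.Opens) := by
      refine ih (V ⊓ W : Y.Opens) (ha_restrict hY _)
        (fun i => (V ⊓ W).ι ⁻¹ᵁ (U i.castSucc ⊓ W))
        (preimage_iSup_eq_top _ _ ?_) (fun i => ?_)
      · rw [← iSup_inf_eq]
      · refine (hY _ _ (haff i.castSucc) (haff _)).preimage_of_isOpenImmersion (V ⊓ W).ι ?_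
        rw [Scheme.Opens.opensRange_ι]
        exact inf_le_inf_right _ (le_iSup (fun i : Fin (n + 1) => U i.castSucc) i)
    exact h_mv Y V W hVW h1 h2 h3

/-- quasi-compact schemes in which affine opens have affine intersections -/
theorem of_ha (Y : Scheme.{u}) [CompactSpace Y] (hY : HA Y) : Pr Y := by
  classical
  obtain ⟨s, hs, hcov⟩ := (isCompact_iff_finite_and_eq_biUnion_affineOpens (X := Y)
    (U := (⊤ : Y.Opens))).mp isCompact_univ
  obtain ⟨t, e, he⟩ := hs.fin_embedding
  have h1 : (⨆ k : Fin t, ((e k : Y.affineOpens) : Y.Opens)) = ⊤ := by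
    have h2 : (⨆ i ∈ s, (i : Y.Opens)) = ⨆ k : Fin t, ((e k : Y.affineOpens) : Y.Opens) := by
      rw [← he, iSup_range]
    rw [← h2]
    exact hcov.symm
  rcases t with _ | t
  · haveI : IsEmpty Y := isEmpty_of_top_eq_bot (by rw [← h1, iSup_of_empty])
    exact h_aff Y inferInstance
  · exact stage1 Pr h_aff h_mv t Y hY (fun k => ((e k : Y.affineOpens) : Y.Opens)) h1
      (fun k => (e k).2)

theorem stage2 : ∀ (n : ℕ) (Y : Scheme.{u}) [QuasiSeparatedSpace Y] (U : Fin n → Y.Opens),
    (⨆ i, U i) = ⊤ → (∀ i, IsAffineOpen (U i)) → Pr Y := by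
  intro n
  induction n with
  | zero =>
    intro Y _ U hcov _
    haveI : IsEmpty Y := isEmpty_of_top_eq_bot (by rw [← hcov, iSup_of_empty])
    exact h_aff Y inferInstance
  | succ n ih =>
    intro Y _ U hcov haff
    let V : Y.Opens := ⨆ i : Fin n, U i.castSucc
    let W : Y.Opens := U (Fin.last n)
    have hVW : V ⊔ W = ⊤ := by
      rw [← hcov]
      exact (Groth.Agent.Lib.helper27.SerreVan.iSup_fin_succ U).symm
    haveI : QuasiSeparatedSpace (V : Scheme.{u}) :=
      QuasiSeparatedSpace.of_isOpenEmbedding V.ι.isOpenEmbedding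
    have h1 : Pr V := ih V (fun i => V.ι ⁻¹ᵁ U i.castSucc) (preimage_iSup_eq_top V _ le_rfl)
      (fun i => by
        refine (haff i.castSucc).preimage_of_isOpenImmersion V.ι ?_
        rw [Scheme.Opens.opensRange_ι]
        exact le_iSup (fun i : Fin n => U i.castSucc) i)
    have h2 : Pr W := h_aff _ (haff _)
    have hVc : IsCompact (V : Set Y) := by
      have : (V : Set Y) = ⋃ i : Fin n, (U i.castSucc : Set Y) := by
        simp [V]
      rw [this]
      exact isCompact_iUnion fun i => (haff i.castSucc).isCompact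
    have hc : IsCompact ((V ⊓ W : Y.Opens) : Set Y) :=
      hVc.inter_of_isOpen (haff _).isCompact V.isOpen W.isOpen
    haveI : CompactSpace (V ⊓ W : Y.Opens) := isCompact_iff_compactSpace.mp hc
    have h3 : Pr (V ⊓ W : Y.Opens) := of_ha Pr h_aff h_mv (V ⊓ W : Y.Opens)
      (ha_of_le_affine (haff (Fin.last n)) (V ⊓ W) inf_le_right)
    exact h_mv Y V W hVW h1 h2 h3

/-- **Mayer–Vietoris induction over qcqs schemes.** -/
theorem qcqs_induction (X : Scheme.{u}) [CompactSpace X] [QuasiSeparatedSpace X] : Pr X := by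
  classical
  obtain ⟨s, hs, hcov⟩ := (isCompact_iff_finite_and_eq_biUnion_affineOpens (X := X)
    (U := (⊤ : X.Opens))).mp isCompact_univ
  obtain ⟨t, e, he⟩ := hs.fin_embedding
  refine stage2 Pr h_aff h_mv t X (fun k => ((e k : X.affineOpens) : X.Opens)) ?_ (fun k => (e k).2)
  have h1 : (⨆ i ∈ s, (i : X.Opens)) = ⨆ k : Fin t, ((e k : X.affineOpens) : X.Opens) := by
    rw [← he, iSup_range]
  rw [← h1]
  exact hcov.symm

end Groth.Agent.Lib.Helper25.QcqsInduction
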