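import Mathlib
import Groth.Agent.Lib.Helper25.FlatPushAff
import Groth.Agent.Lib.Helper25.QcqsInduction
import Groth.Agent.Lib.Helper25.HomVanQcqs
import Groth.Agent.S6511

/-!
# `Rf_*` of a perfect object has finite tor dimension for `f` flat, quasi-compact quasi-separated source, affine target
(helper25)

`ftd_Rpush_of_flat`: Mayer–Vietoris induction (`QcqsInduction.qcqs_induction`, statement S6511) from the affine case
`FlatPushAff.ftd_Rpush_affine`.
-/

set_option autoImplicit false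
universe u
open CategoryTheory CategoryTheory.Limits AlgebraicGeometry Pretriangulated
attribute [local instance] HasDerivedCategory.standard

namespace Groth.Agent.Lib.Helper25.FlatPushMV

open DCoh Groth.Agent.Lib.Helper25.FTDClass Groth.Agent.Lib.Helper25.FlatPushAff

theorem ftd_Rpush_of_flat (Y : Scheme.{u}) [IsAffine Y] (X : Scheme.{u}) [CompactSpace X]
    [QuasiSeparatedSpace X] :
    ∀ (f : X ⟶ Y) [Flat f] [DCoh.HasRpush f] (E : DCoh.D X), DCoh.IsPerfect E →
      FTD ((DCoh.Rpush f).obj E) := by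
  refine Groth.Agent.Lib.Helper25.QcqsInduction.qcqs_induction
    (fun X => ∀ (f : X ⟶ Y) [Flat f] [DCoh.HasRpush f] (E : DCoh.D X), DCoh.IsPerfect E →
      FTD ((DCoh.Rpush f).obj E)) ?_ ?_ X
  · intro X hX f _ _ E hE
    haveI : IsAffine X := hX
    exact ftd_Rpush_affine f E hE
  · intro X V W hVW hV hW hVW' f _ _ E hE
    haveI := Groth.Agent.Lib.Helper25.SchKInj.hasRpush (V.ι ≫ f)
    haveI := Groth.Agent.Lib.Helper25.SchKInj.hasRpush (W.ι ≫ f)
    haveI := Groth.Agent.Lib.Helper25.SchKInj.hasRpush ((V ⊓ W).ι ≫ f)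
    obtain ⟨a, b, c, hT⟩ := Groth.Agent.S6511.result f V W hVW E
    exact ftd_obj₁ _ hT
      (ftd_biprod
        (hV (V.ι ≫ f) _ (Groth.Agent.Lib.Helper25.HomVanQcqs.isPerfect_restrictD V.ι hE))
        (hW (W.ι ≫ f) _ (Groth.Agent.Lib.Helper25.HomVanQcqs.isPerfect_restrictD W.ι hE)))
      (hVW' ((V ⊓ W).ι ≫ f) _
        (Groth.Agent.Lib.Helper25.HomVanQcqs.isPerfect_restrictD (V ⊓ W).ι hE))

end Groth.Agent.Lib.Helper25.FlatPushMV
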