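import Mathlib
import Groth.Agent.Lib.Helper25.LTensorCoh
import Groth.Agent.Lib.Helper25.PullFlatExact
import Groth.Agent.Lib.Helper25.LpullPC
import Groth.Agent.S1039
import Groth.Prelude.Def_HTor

/-!
# Coherence of local hypertor sheaves; `Lf^*` preserves `D^-_Coh` (helper25; = S3542)

* `isCoh_HD_of_isPseudoCoherentD`: on a locally Noetherian scheme, an `m`-pseudo-coherent object with quasi-coherent
  cohomology has coherent `H^i` for `i ≥ m` (the local half of S1039).
* `isZero_HD_Lpull`: `Lf^*` is right t-exact.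
* `isCohD_Lpull`: `Lf^*` maps `D^-_Coh(Y)` to `D_Coh(X)` for `X`, `Y` locally Noetherian (S1039 + S0910).
* `main`: `L pr₁^* P ⊗^L pr₂^* Q` has coherent cohomology (via `LTensorCoh.main`).
-/

set_option autoImplicit false
universe u
open CategoryTheory CategoryTheory.Limits AlgebraicGeometry Opposite

attribute [local instance] HasDerivedCategory.standard

namespace Groth.Agent.Lib.Helper25.LocalTorCoh

open Groth.Agent.Lib.Helper25.LpullAdapted Groth.Agent.Lib.Helper25.LTensorCoh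
  Groth.Agent.Lib.helper13.LpullQCoh

variable {X Y : Scheme.{u}}

/-- an object with quasi-coherent cohomology which is `m`-pseudo-coherent has coherent `H^i` for `i ≥ m` -/
lemma isCoh_HD_of_isPseudoCoherentD [IsLocallyNoetherian X] (E : DCoh.D X) (hE : DCoh.IsQCohD E) (m : ℤ)
    (hpc : DCoh.IsPseudoCoherentD m E) (i : ℤ) (hi : m ≤ i) : Coh.IsCoh (DCoh.HD E i) := by
  have H := fun x => Groth.Agent.Lib.helper25.DCohPC.exists_pcData hpc x
  choose V hxV d using H
  choose P α hP hα using d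
  refine ⟨hE i, Groth.Agent.Lib.helper25.FTLocal.isFT_of_forall_restrict _ (fun x => ?_)⟩
  obtain ⟨e⟩ := Groth.Agent.Lib.helper25.DCohHomology.nonempty_HD_restrict_iso (V x).ι E i
  let π : (P x).homology i ⟶ (Scheme.Modules.restrictFunctor (V x).ι).obj (DCoh.HD E i) :=
    ((DerivedCategory.homologyFunctorFactors _ i).app (P x)).inv ≫
      (DerivedCategory.homologyFunctor _ i).map (α x) ≫ e.inv
  have hπ : Epi π := by
    have := Groth.Agent.Lib.helper25.IsoAbove.IsoAbove.epi (hα x) i hi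
    dsimp only [π]
    have i1 : IsIso ((DerivedCategory.homologyFunctorFactors _ i).app (P x)).inv := Iso.isIso_inv _
    have i2 : IsIso e.inv := Iso.isIso_inv _
    have i3 : Epi ((DerivedCategory.homologyFunctorFactors _ i).app (P x)).inv := IsIso.epi_of_iso _
    have i4 : Epi e.inv := IsIso.epi_of_iso _
    exact epi_comp' i3 (epi_comp' this i4)
  exact ⟨V x, hxV x, Groth.Agent.Lib.helper7.CohKer.isFiniteType_of_epi π
    (Groth.Agent.Lib.helper25.DCohHomology.isCoh_homology_of_isStrictlyPerfect (hP x) i).2⟩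

/-- `Lf^*` is right t-exact -/
lemma isZero_HD_Lpull (f : X ⟶ Y) [DCoh.HasLpull f] (K : DCoh.D Y) (b : ℤ)
    (hb : ∀ i, b < i → IsZero (DCoh.HD K i)) (i : ℤ) (hi : b < i) :
    IsZero (DCoh.HD ((DCoh.Lpull f).obj K) i) := by
  obtain ⟨P, hP, ⟨e⟩⟩ := exists_P₀_rep K
  obtain ⟨e'⟩ := Groth.Agent.Lib.Helper25.StalkPullFlat.nonempty_Lpull_iso f P hP
  have h1 : ∀ k : ℤ, b < k → P.ExactAt k := fun k hk =>
    (Groth.Agent.Lib.Helper25.LpullPC.exactAt_iff_isZero_homologyFunctor_Q P k).2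
      ((hb k hk).of_iso ((DerivedCategory.homologyFunctor _ k).mapIso e))
  have h2 := Groth.Agent.Lib.Helper25.LpullPC.exactAt_pullCx_of_P₀ f P hP b h1 i hi
  have h3 := (Groth.Agent.Lib.Helper25.LpullPC.exactAt_iff_isZero_homologyFunctor_Q _ i).1 h2
  exact h3.of_iso ((DerivedCategory.homologyFunctor _ i).mapIso ((DCoh.Lpull f).mapIso e.symm ≪≫ e'))

/-- `Lf^*` preserves `D^-_Coh` when source and target are locally Noetherian -/
theorem isCohD_Lpull [IsLocallyNoetherian X] [IsLocallyNoetherian Y] (f : X ⟶ Y) [DCoh.HasLpull f]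
    (K : DCoh.D Y) (hK : DCoh.IsCohD K) (b : ℤ) (hb : ∀ i, b < i → IsZero (DCoh.HD K i)) :
    DCoh.IsCohD ((DCoh.Lpull f).obj K) := by
  have hq : DCoh.IsQCohD K := fun i => (hK i).1
  have hq' := Groth.Agent.Lib.helper13.LpullQCoh.main f K hq
  intro i
  have hpc : DCoh.IsPseudoCoherentD i K := by
    refine Groth.Agent.S1039.pc_of_coherent_homology i (b - i + 1).toNat K (fun k hk => hb k ?_)
      (fun k _ => hK k)
    have : ((b - i + 1).toNat : ℤ) ≥ b - i + 1 := Int.self_le_toNat _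
    omega
  exact isCoh_HD_of_isPseudoCoherentD _ hq' i
    (Groth.Agent.Lib.Helper25.LpullPC.isPseudoCoherentD_Lpull f i K hpc) i le_rfl


lemma isZero_HD_toD_of_isZero_X (K : CochainComplex X.Modules ℤ) (i : ℤ) (hz : IsZero (K.X i)) :
    IsZero (DCoh.HD (DCoh.toD X K) i) :=
  (HomologicalComplex.ExactAt.isZero_homology (ShortComplex.exact_of_isZero_X₂ _ hz)).of_iso
    ((DerivedCategory.homologyFunctorFactors _ i).app K)

/-- **S3542** -/
theorem main (X Y S : Scheme.{u}) (f : X ⟶ S) (g : Y ⟶ S) [Flat f]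
    [IsLocallyNoetherian X] [IsLocallyNoetherian (pullback f g)]
    (P : CochainComplex X.Modules ℤ) (Q : CochainComplex Y.Modules ℤ)
    (bP : ∃ b : ℤ, ∀ i : ℤ, b < i → IsZero (P.X i)) (bQ : ∃ b : ℤ, ∀ i : ℤ, b < i → IsZero (Q.X i))
    (hP : DCoh.IsCohD (DCoh.toD X P)) (hQ : DCoh.IsCohD (DCoh.toD Y Q))
    [DCoh.HasLpull (pullback.fst f g)] [DCoh.HasLTensorCx ((HTor.pullCx (pullback.snd f g)).obj Q)] :
    DCoh.IsCohD ((DCoh.LTensorCx ((HTor.pullCx (pullback.snd f g)).obj Q)).obj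
      ((DCoh.Lpull (pullback.fst f g)).obj (DCoh.toD X P))) := by
  obtain ⟨b1, hb1⟩ := bP
  obtain ⟨b2, hb2⟩ := bQ
  have z1 : ∀ i, b1 < i → IsZero (DCoh.HD (DCoh.toD X P) i) := fun i hi =>
    isZero_HD_toD_of_isZero_X P i (hb1 i hi)
  have hL := isCohD_Lpull (pullback.fst f g) (DCoh.toD X P) hP b1 z1
  have haL := isZero_HD_Lpull (pullback.fst f g) (DCoh.toD X P) b1 z1
  haveI : Flat (pullback.snd f g) := inferInstance
  haveI : PreservesFiniteLimits (Scheme.Modules.pullback (pullback.snd f g)) :=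
    Groth.Agent.Lib.Helper25.PullFlatExact.preservesFiniteLimits_pullback _
  have hE' : DCoh.IsCohD (DCoh.toD _ ((HTor.pullCx (pullback.snd f g)).obj Q)) := by
    intro i
    refine isCoh_of_iso (HDtoDIso (pullback.snd f g) Q i).symm (isCoh_pullback _ ?_)
    exact isCoh_of_iso ((DerivedCategory.homologyFunctorFactors _ i).app Q) (hQ i)
  have zE' : ∀ i, b2 < i → IsZero (DCoh.HD (DCoh.toD _ ((HTor.pullCx (pullback.snd f g)).obj Q)) i) :=
    fun i hi => isZero_HD_toD_of_isZero_X _ i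
      ((Scheme.Modules.pullback (pullback.snd f g)).map_isZero (hb2 i hi))
  exact (Groth.Agent.Lib.Helper25.LTensorCoh.main _ _ hL b1 haL hE' b2 zE').1

end Groth.Agent.Lib.Helper25.LocalTorCoh
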