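import Mathlib
import Groth.Agent.S0795
import Groth.Agent.S0796
import Groth.Agent.Lib.Helper21.CohWeakSerre
import Groth.Agent.Lib.Helper12.GammaExact
import Groth.Agent.Lib.Helper1.PushLocG
import Groth.Agent.Lib.Helper25.RpushQC
import Groth.Agent.Lib.Helper8.ProperOver
import Groth.Agent.Lib.Helper8.PushSupp
import Groth.Agent.Lib.Helper8.RpushClosed
import Groth.Agent.Lib.Helper8.SupportProper
import Groth.Agent.Lib.Helper16.QCohPullback2

/-!
# `Rf_*` of complexes with coherent cohomology of proper support (helper25, S1107 / S1001)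

`f : X ⟶ S` locally of finite type, `S` (locally) Noetherian.
* `CohS S`, `CohPS f`: coherent modules on `S` / coherent modules on `X` with support proper over `S`, as object properties
  on `Mod(O)` of the Zariski site; both are weak Serre (`WSerre.IsWeakSerre`; uses S0796 and helper7/helper21 coherence lemmas).
* `isProperOver_empty`, `support_eq_empty_of_isZero`, `cohPS_of_iso`.
* `isCohD_Rpush_plus` (S1107): `Rf_*` maps `D^+` with coherent cohomology of proper support to `D^+_Coh` (helper1's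
  dévissage `cohIn_rpush_plus` + helper8's S0795).
* `exists_bound_rpush_of_cohPS`: `R^p f_* F = 0` for `p ≫ 0` (via the scheme-theoretic support, proper over `S`).
* `exists_isLE_rpush_single`, `exists_isLE_rpush_bounded` (abstract, ringed sites): boundedness above of `Rf_*` on bounded
  complexes whose cohomology has eventually vanishing higher direct images.
* `isCohD_Rpush_bounded` (S1001).
-/

set_option autoImplicit false
universe u
open CategoryTheory CategoryTheory.Limits AlgebraicGeometry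
attribute [local instance] HasDerivedCategory.standard

namespace Groth.Agent.Lib.Helper25.RpushCohProper

open Groth.Agent.Lib.helper7.CohKer
open ZeroObject

/-- coherent modules, as an object property on `Mod(O)` of the Zariski site -/
def CohS (S : Scheme.{u}) : ObjectProperty (ModSite.Mod S.sheaf) :=
  fun M => Coh.IsCoh (X := S) M

/-- coherent modules with support proper over the base -/
def CohPS {X S : Scheme.{u}} (f : X ⟶ S) : ObjectProperty (ModSite.Mod X.sheaf) :=
  fun M => Coh.IsCoh (X := X) M ∧ ClSub.IsProperOver f (CohB1.support (X := X) M)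

instance (S : Scheme.{u}) [IsLocallyNoetherian S] : WSerre.IsWeakSerre (CohS S) where
  exists_zero := ⟨(0 : S.Modules), isZero_zero _, isCoh_of_isZero (X := S) (isZero_zero _)⟩
  kernels_le := by
    rintro _ ⟨f, k, hk, h1, h2⟩
    exact isCoh_of_iso (X := S) (IsLimit.conePointUniqueUpToIso (kernelIsKernel f) hk)
      (isCoh_kernel (X := S) h1 h2 f)
  cokernels_le := by
    rintro _ ⟨f, k, hk, h1, h2⟩
    exact isCoh_of_iso (X := S) (IsColimit.coconePointUniqueUpToIso (cokernelIsCokernel f) hk)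
      (isCoh_cokernel (X := S) h1 h2 f)
  prop_X₂_of_shortExact := by
    intro E hE h1 h3
    exact Groth.Agent.Lib.helper21.CohWeakSerre.isCoh_of_extension (X := S) E hE h1 h3

section

variable {X S : Scheme.{u}} (f : X ⟶ S)

lemma isProperOver_empty : ClSub.IsProperOver f (∅ : Set X) := by
  haveI : IsProper (Scheme.emptyTo X ≫ f) := inferInstance
  have h := Groth.Agent.Lib.helper8.isProperOver_range_of_isClosedImmersion f
    (Scheme.emptyTo X)
  have he : Set.range (Scheme.emptyTo X).base = (∅ : Set X) := Set.range_eq_empty _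
  rwa [he] at h

lemma support_eq_empty_of_isZero {Z : X.Modules} (hZ : IsZero Z) : CohB1.support Z = ∅ := by
  ext p
  simp only [Set.mem_empty_iff_false, iff_false]
  intro hp
  apply hp
  have h1 : IsZero ((DerSch.stalkFunctor X p).obj Z) := (DerSch.stalkFunctor X p).map_isZero hZ
  exact (ModuleCat.subsingleton_of_isZero h1 : Subsingleton ((DerSch.stalkFunctor X p).obj Z))

variable [LocallyOfFiniteType f] [IsLocallyNoetherian S]

lemma cohPS_of_iso {M N : X.Modules} (e : M ≅ N) (h : CohPS f M) : CohPS f N := by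
  haveI : IsLocallyNoetherian X := LocallyOfFiniteType.isLocallyNoetherian f
  refine ⟨isCoh_of_iso e h.1, ?_⟩
  rw [← Groth.Agent.Lib.helper8.StalkLen.support_eq_of_iso e]
  exact h.2

instance : WSerre.IsWeakSerre (CohPS f) where
  exists_zero := by
    haveI : IsLocallyNoetherian X := LocallyOfFiniteType.isLocallyNoetherian f
    refine ⟨(0 : X.Modules), isZero_zero _, isCoh_of_isZero (X := X) (isZero_zero _), ?_⟩
    rw [support_eq_empty_of_isZero (isZero_zero _)]
    exact isProperOver_empty f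
  kernels_le := by
    haveI : IsLocallyNoetherian X := LocallyOfFiniteType.isLocallyNoetherian f
    rintro _ ⟨φ, k, hk, h1, h2⟩
    refine cohPS_of_iso f (IsLimit.conePointUniqueUpToIso (kernelIsKernel φ) hk) ?_
    have hker : Coh.IsCoh (kernel φ) := isCoh_kernel (X := X) h1.1 h2.1 φ
    have hcok : Coh.IsCoh (cokernel φ) := isCoh_cokernel (X := X) h1.1 h2.1 φ
    have him : Coh.IsCoh (Abelian.image φ) := isCoh_kernel (X := X) h2.1 hcok (cokernel.π φ)
    exact ⟨hker, ((Groth.Agent.S0796.result f _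
      (Groth.Agent.Lib.helper12.GammaExact.shortExact_kernel_image φ) hker h1.1 him).1 h1.2).1⟩
  cokernels_le := by
    haveI : IsLocallyNoetherian X := LocallyOfFiniteType.isLocallyNoetherian f
    rintro _ ⟨φ, k, hk, h1, h2⟩
    refine cohPS_of_iso f (IsColimit.coconePointUniqueUpToIso (cokernelIsCokernel φ) hk) ?_
    have hcok : Coh.IsCoh (cokernel φ) := isCoh_cokernel (X := X) h1.1 h2.1 φ
    have him : Coh.IsCoh (Abelian.image φ) := isCoh_kernel (X := X) h2.1 hcok (cokernel.π φ)
    exact ⟨hcok, ((Groth.Agent.S0796.result f _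
      (Groth.Agent.Lib.helper12.GammaExact.shortExact_image_cokernel φ) him h2.1 hcok).1 h2.2).2⟩
  prop_X₂_of_shortExact := by
    haveI : IsLocallyNoetherian X := LocallyOfFiniteType.isLocallyNoetherian f
    intro E hE h1 h3
    have h2 : Coh.IsCoh E.X₂ :=
      Groth.Agent.Lib.helper21.CohWeakSerre.isCoh_of_extension (X := X) E hE h1.1 h3.1
    exact ⟨h2, (Groth.Agent.S0796.result f E hE h1.1 h2 h3.1).2 ⟨h1.2, h3.2⟩⟩

end

section Main

variable {X S : Scheme.{u}} (f : X ⟶ S) [LocallyOfFiniteType f] [IsLocallyNoetherian S]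
  [DCoh.HasRpush f]

/-- **S1107**: `Rf_*` sends `D^+` with coherent cohomology of proper support to `D^+_Coh` -/
theorem isCohD_Rpush_plus (E : DCoh.D X) (a : ℤ) [E.IsGE a] (hE : DCoh.IsCohD E)
    (hsupp : ∀ i : ℤ, ClSub.IsProperOver f (CohB1.support (DCoh.HD E i))) :
    DCoh.IsCohD ((DCoh.Rpush f).obj E) ∧ ((DCoh.Rpush f).obj E).IsGE a := by
  haveI : HasInjectiveResolutions (ModSite.Mod X.sheaf) :=
    Groth.Agent.Lib.helper21.ModOpenBC.hasInjectiveResolutions_modules X
  haveI : HasInjectiveResolutions X.Modules :=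
    Groth.Agent.Lib.helper21.ModOpenBC.hasInjectiveResolutions_modules X
  haveI : SiteCmp.HasRpushD (ModSite.RMor.ofScheme f) := ‹DCoh.HasRpush f›
  have h3 : ∀ F : ModSite.Mod X.sheaf, CohPS f F → ∀ p : ℕ,
      CohS S (((ModSite.RMor.ofScheme f).Rpush p).obj F) := by
    intro F hF p
    exact Groth.Agent.S0795.result f F hF.1 hF.2 p
  refine ⟨?_, @Groth.Agent.H1.PushLoc.isGE_rpush _ _ _ _ _ _ _ _ (ModSite.RMor.ofScheme f) _ E a
    ‹E.IsGE a›⟩
  exact Groth.Agent.H1.PushLoc.cohIn_rpush_plus (ModSite.RMor.ofScheme f) (CohPS f) (CohS S) h3 E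
    (fun i => ⟨hE i, hsupp i⟩) a ‹E.IsGE a›

end Main

section Bounded

variable {X S : Scheme.{u}} (f : X ⟶ S) [LocallyOfFiniteType f] [CompactSpace S]

/-- higher direct images of a coherent module with proper support vanish in large degrees -/
theorem exists_bound_rpush_of_cohPS (F : X.Modules) (hF : CohPS f F) :
    ∃ N : ℕ, ∀ p : ℕ, N ≤ p → IsZero ((Coh.Rpush f p).obj F) := by
  haveI : F.IsQuasicoherent := hF.1.1
  haveI : HasInjectiveResolutions X.Modules :=
    Groth.Agent.Lib.helper21.ModOpenBC.hasInjectiveResolutions_modules X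
  haveI : HasInjectiveResolutions
      (Groth.Agent.Lib.helper8.SchemeSupport.annIdeal F hF.1.2).subscheme.Modules :=
    Groth.Agent.Lib.helper21.ModOpenBC.hasInjectiveResolutions_modules _
  haveI : IsProper ((Groth.Agent.Lib.helper8.SchemeSupport.annIdeal F hF.1.2).subschemeι ≫ f) :=
    Groth.Agent.Lib.helper8.SchemeSupport.isProper_annIdeal_subschemeι_comp f F hF.1.2 hF.2
  haveI := Groth.Agent.Lib.helper8.SchemeSupport.isIso_unit_annIdeal F hF.1.2
  obtain ⟨N, hN⟩ := Groth.Agent.Lib.Helper25.RpushQC.exists_bound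
    ((Groth.Agent.Lib.helper8.SchemeSupport.annIdeal F hF.1.2).subschemeι ≫ f)
  refine ⟨N, fun p hp => ?_⟩
  obtain ⟨e2⟩ := Groth.Agent.Lib.helper8.RpushClosed.nonempty_rpush_push_iso
    (Groth.Agent.Lib.helper8.SchemeSupport.annIdeal F hF.1.2).subschemeι f
    ((Scheme.Modules.pullback
      (Groth.Agent.Lib.helper8.SchemeSupport.annIdeal F hF.1.2).subschemeι).obj F) p
  have e1 : F ≅ (Scheme.Modules.pushforward
      (Groth.Agent.Lib.helper8.SchemeSupport.annIdeal F hF.1.2).subschemeι).obj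
      ((Scheme.Modules.pullback
        (Groth.Agent.Lib.helper8.SchemeSupport.annIdeal F hF.1.2).subschemeι).obj F) :=
    asIso ((Scheme.Modules.pullbackPushforwardAdjunction
      (Groth.Agent.Lib.helper8.SchemeSupport.annIdeal F hF.1.2).subschemeι).unit.app F)
  exact IsZero.of_iso (hN _
    (Groth.Agent.Lib.helper16.QCohPullback.isQuasicoherent_pullback _ F) p hp)
    ((Coh.Rpush f p).mapIso e1 ≪≫ e2)

end Bounded

section Abstract

open DerivedCategory Groth.Agent.H1.TruncCoh Groth.Agent.H1.PushLoc Pretriangulated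

variable {C : Type u} [SmallCategory C] {J : GrothendieckTopology C} {O_C : Sheaf J CommRingCat.{u}}
  {D : Type u} [SmallCategory D] {K : GrothendieckTopology D} {O_D : Sheaf K CommRingCat.{u}}
  (f : ModSite.RMor O_C O_D) [SiteCmp.HasRpushD f]
  (A : ObjectProperty (ModSite.Mod O_C)) [WSerre.IsWeakSerre A]
  [HasInjectiveResolutions (ModSite.Mod O_C)]
  (hvan : ∀ F : ModSite.Mod O_C, A F → ∃ N : ℕ, ∀ p : ℕ, N ≤ p → IsZero ((f.Rpush p).obj F))

include hvan

omit [WSerre.IsWeakSerre A] in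
theorem exists_isLE_rpush_single (Y : ModSite.Mod O_C) (hY : A Y) (b : ℤ) :
    ∃ b' : ℤ, ((SiteCmp.RpushD f).obj ((singleFunctor (ModSite.Mod O_C) b).obj Y)).IsLE b' := by
  obtain ⟨N, hN⟩ := hvan Y hY
  let e : ((singleFunctor (ModSite.Mod O_C) 0).obj Y)⟦-b⟧ ≅
      (singleFunctor (ModSite.Mod O_C) b).obj Y :=
    ((singleFunctors (ModSite.Mod O_C)).shiftIso (-b) b 0 (by omega)).app Y
  obtain ⟨i⟩ := nonempty_rpush_shift_iso f ((singleFunctor (ModSite.Mod O_C) 0).obj Y) (-b)
  haveI h0 : ((SiteCmp.RpushD f).obj ((singleFunctor (ModSite.Mod O_C) 0).obj Y)).IsLE (N : ℤ) := by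
    rw [DerivedCategory.isLE_iff]
    intro j hj
    obtain ⟨p, rfl⟩ : ∃ p : ℕ, j = (p : ℤ) := ⟨j.toNat, by omega⟩
    obtain ⟨i'⟩ := nonempty_homology_rpush_single f Y p
    exact IsZero.of_iso (hN p (by omega)) i'
  refine ⟨(N : ℤ) + b, ?_⟩
  haveI h1 : (((SiteCmp.RpushD f).obj ((singleFunctor (ModSite.Mod O_C) 0).obj Y))⟦-b⟧).IsLE
      ((N : ℤ) + b) :=
    TStructure.t.isLE_shift _ (N : ℤ) (-b) ((N : ℤ) + b) (by omega)
  exact TStructure.t.isLE_of_iso (i.symm ≪≫ (SiteCmp.RpushD f).mapIso e) _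

theorem exists_isLE_rpush_bounded :
    ∀ (n : ℕ) (b : ℤ) (M : DerivedCategory (ModSite.Mod O_C)), WSerre.cohIn A M →
      M.IsGE (b - n + 1) → M.IsLE b → ∃ b' : ℤ, ((SiteCmp.RpushD f).obj M).IsLE b' := by
  intro n
  induction n with
  | zero =>
    intro b M _ hGE hLE
    have : M.IsGE (b + 1) := by simpa using hGE
    have hz : IsZero M := TStructure.t.isZero M b (b + 1)
    refine ⟨0, ?_⟩
    rw [DerivedCategory.isLE_iff]
    intro j hj
    haveI : M.IsGE (j + 1) := TStructure.t.isGE_of_isZero hz _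
    have := isGE_rpush f M (j + 1)
    exact isZero_of_isGE _ (j + 1) j (by omega)
  | succ n ih =>
    intro b M hM hGE hLE
    let t : Triangulated.TStructure (DerivedCategory (ModSite.Mod O_C)) := TStructure.t
    let T := (t.triangleLEGE (b - 1) b (by omega)).obj M
    have hT : T ∈ distTriang _ := t.triangleLEGE_distinguished (b - 1) b (by omega) M
    have hGE' : M.IsGE (b - n) := by
      have e : b - ((n + 1 : ℕ) : ℤ) + 1 = b - n := by push_cast; ring
      rwa [e] at hGE
    obtain ⟨T', hT', ⟨i₁⟩, ⟨i₂⟩, ⟨i₃⟩⟩ := exists_triangle_rpush f T hT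
    have h₃ : ∃ b₃ : ℤ, ((SiteCmp.RpushD f).obj T.obj₃).IsLE b₃ := by
      have g1 : T.obj₃.IsGE b := by
        change t.IsGE ((t.truncGE b).obj M) b
        infer_instance
      have g2 : T.obj₃.IsLE b := by
        change t.IsLE ((t.truncGE b).obj M) b
        infer_instance
      obtain ⟨Y, ⟨e⟩⟩ := exists_iso_singleFunctor_obj_of_isGE_of_isLE T.obj₃ b
      have hY : A Y := by
        have h1 : A ((homologyFunctor (ModSite.Mod O_C) b).obj T.obj₃) := cohIn_truncGE A M hM b b
        exact A.prop_of_iso ((homologyFunctor (ModSite.Mod O_C) b).mapIso e ≪≫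
          (singleFunctorCompHomologyFunctorIso (ModSite.Mod O_C) b).app Y) h1
      obtain ⟨b₃, hb₃⟩ := exists_isLE_rpush_single f A hvan Y hY b
      exact ⟨b₃, TStructure.t.isLE_of_iso ((SiteCmp.RpushD f).mapIso e.symm) _⟩
    have h₁ : ∃ b₁ : ℤ, ((SiteCmp.RpushD f).obj T.obj₁).IsLE b₁ := by
      have g1 : T.obj₁.IsLE (b - 1) := by
        change t.IsLE ((t.truncLE (b - 1)).obj M) (b - 1)
        infer_instance
      have g2 : T.obj₁.IsGE (b - 1 - n + 1) := by
        have e : b - 1 - (n : ℤ) + 1 = b - n := by ring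
        rw [e]
        change t.IsGE ((t.truncLE (b - 1)).obj M) (b - n)
        infer_instance
      exact ih (b - 1) T.obj₁ (cohIn_truncLE A M hM (b - 1)) g2 g1
    obtain ⟨b₁, hb₁⟩ := h₁
    obtain ⟨b₃, hb₃⟩ := h₃
    refine ⟨max b₁ b₃, ?_⟩
    have k₁ : T'.obj₁.IsLE (max b₁ b₃) := by
      haveI : T'.obj₁.IsLE b₁ := TStructure.t.isLE_of_iso i₁.symm _
      exact TStructure.t.isLE_of_le _ b₁ _ (le_max_left _ _)
    have k₃ : T'.obj₃.IsLE (max b₁ b₃) := by
      haveI : T'.obj₃.IsLE b₃ := TStructure.t.isLE_of_iso i₃.symm _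
      exact TStructure.t.isLE_of_le _ b₃ _ (le_max_right _ _)
    have k₂ : T'.obj₂.IsLE (max b₁ b₃) := TStructure.t.isLE₂ T' hT' _ k₁ k₃
    exact TStructure.t.isLE_of_iso i₂ _

end Abstract

section Bounded2

variable {X S : Scheme.{u}} (f : X ⟶ S) [LocallyOfFiniteType f] [IsLocallyNoetherian S]
  [CompactSpace S] [DCoh.HasRpush f]

/-- **S1001** -/
theorem isCohD_Rpush_bounded (E : DCoh.D X) (a b : ℤ) [E.IsGE a] [E.IsLE b] (hE : DCoh.IsCohD E)
    (hsupp : ∀ i : ℤ, ClSub.IsProperOver f (CohB1.support (DCoh.HD E i))) :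
    DCoh.IsCohD ((DCoh.Rpush f).obj E) ∧ ((DCoh.Rpush f).obj E).IsGE a ∧
      ∃ b' : ℤ, ((DCoh.Rpush f).obj E).IsLE b' := by
  obtain ⟨h1, h2⟩ := isCohD_Rpush_plus f E a hE hsupp
  refine ⟨h1, h2, ?_⟩
  have hGE : E.IsGE (b - ((b - a + 1).toNat : ℤ) + 1) := by
    by_cases hab : a ≤ b + 1
    · have e : b - ((b - a + 1).toNat : ℤ) + 1 = a := by omega
      rw [e]; infer_instance
    · exact DerivedCategory.TStructure.t.isGE_of_ge E (b - ((b - a + 1).toNat : ℤ) + 1) a (by omega)
  haveI : HasInjectiveResolutions (ModSite.Mod X.sheaf) :=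
    Groth.Agent.Lib.helper21.ModOpenBC.hasInjectiveResolutions_modules X
  haveI : SiteCmp.HasRpushD (ModSite.RMor.ofScheme f) := ‹DCoh.HasRpush f›
  exact exists_isLE_rpush_bounded (ModSite.RMor.ofScheme f) (CohPS f)
    (fun F hF => exists_bound_rpush_of_cohPS f F hF) (b - a + 1).toNat b E
    (fun i => ⟨hE i, hsupp i⟩) hGE ‹E.IsLE b›

end Bounded2

end Groth.Agent.Lib.Helper25.RpushCohProper
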