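import Mathlib
import Groth.Agent.Lib.Helper25.FlatPushMV
import Groth.Agent.Lib.Helper25.FlatAmpPerfect
import Groth.Agent.Lib.Helper25.RpushCohProper
import Groth.Agent.Lib.Helper25.LocalTorCoh
import Groth.Agent.Lib.Helper25.K0Regular
import Groth.Agent.Lib.Helper25.PerfectTor
import Groth.Agent.Lib.Helper25.ApproxAffine
import Groth.Agent.Lib.Helper13.PerfAmp2
import Groth.Agent.Lib.Helper8.DevMaster
import Groth.Agent.S1039

/-!
# `Rf_*` preserves perfect objects for `f` flat and proper over a locally Noetherian base (helper25)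

* `isCohD_of_isPerfect`, `isProperOver_of_isProper`.
* `isPerfect_Rpush_affine_base`: affine Noetherian base: bounded coherent cohomology (S1001) gives pseudo-coherence (S1039),
  `FlatPushMV.ftd_Rpush_of_flat` gives finite flat amplitude; conclude by helper13's `PerfAmp2.main`.
* `isPerfect_Rpush_of_flat_proper`: localisation on the base.
-/

set_option autoImplicit false
universe u
open CategoryTheory CategoryTheory.Limits AlgebraicGeometry Pretriangulated
attribute [local instance] HasDerivedCategory.standard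

namespace Groth.Agent.Lib.Helper25.FlatProperPerfect

open DCoh Groth.Agent.Lib.Helper25.FTDClass

variable {X Y : Scheme.{u}}

/-- a perfect object on a locally Noetherian scheme has coherent cohomology -/
theorem isCohD_of_isPerfect [IsLocallyNoetherian X] (E : DCoh.D X) (hE : DCoh.IsPerfect E) :
    DCoh.IsCohD E := fun i =>
  Groth.Agent.Lib.Helper25.LocalTorCoh.isCoh_HD_of_isPseudoCoherentD E
    (Groth.Agent.Lib.Helper25.ApproxAffine.isQCohD_of_isPerfect hE) i
    (Groth.Agent.Lib.helper25.PerfectTor.isPseudoCoherentD_of_isPerfect hE i) i le_rfl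

/-- closed subsets are proper over the base of a proper morphism -/
theorem isProperOver_of_isProper (f : X ⟶ Y) [IsProper f] (Z : Set X) (hZ : IsClosed Z) :
    ClSub.IsProperOver f Z :=
  ⟨hZ, inferInstance⟩

theorem isPerfect_Rpush_affine_base [IsAffine Y] [IsLocallyNoetherian Y] (f : X ⟶ Y) [IsProper f]
    [Flat f] [DCoh.HasRpush f] (E : DCoh.D X) (hE : DCoh.IsPerfect E) :
    DCoh.IsPerfect ((DCoh.Rpush f).obj E) := by
  haveI : IsLocallyNoetherian X := LocallyOfFiniteType.isLocallyNoetherian f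
  haveI : CompactSpace X := QuasiCompact.compactSpace_of_compactSpace f
  haveI : IsNoetherian X := {}
  haveI : IsNoetherian Y := {}
  obtain ⟨a', b', hab', hfl⟩ := Groth.Agent.Lib.Helper25.FlatPushMV.ftd_Rpush_of_flat Y X f E hE
  obtain ⟨a, b, hGE, hLE⟩ := Groth.Agent.Lib.Helper25.K0Regular.exists_bounds_of_isPerfect E hE
  have hcoh := isCohD_of_isPerfect E hE
  obtain ⟨h1, -, b'', h3⟩ := Groth.Agent.Lib.Helper25.RpushCohProper.isCohD_Rpush_bounded f E a b hcoh
    (fun i => isProperOver_of_isProper f _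
      (Groth.Agent.Lib.helper8.Dev.isClosed_support_of_isCoh _ (hcoh i)))
  have hq : DCoh.IsQCohD ((DCoh.Rpush f).obj E) := fun i => (h1 i).1
  have hpc : DCoh.IsPseudoCoherentD (a' - 1) ((DCoh.Rpush f).obj E) :=
    (Groth.Agent.S1039.result Y _ hq (a' - 1)).2 ⟨fun i _ => h1 i, b'', h3⟩
  exact Groth.Agent.Lib.helper13.PerfAmp2.isPerfect_of_hasPerfectAmplitudeIn _ a' b'
    ((Groth.Agent.Lib.helper13.PerfAmp2.main Y _ a' b' hab').2 ⟨hpc, hfl⟩)

/-- **`Rf_*` preserves perfect objects** for `f` flat and proper, base locally Noetherian -/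
theorem isPerfect_Rpush_of_flat_proper [IsLocallyNoetherian Y] (f : X ⟶ Y) [IsProper f] [Flat f]
    [DCoh.HasRpush f] (E : DCoh.D X) (hE : DCoh.IsPerfect E) :
    DCoh.IsPerfect ((DCoh.Rpush f).obj E) := by
  apply Groth.Agent.Lib.helper25.FlatAmpPerfect.isPerfect_of_restrict
  intro y
  obtain ⟨_, ⟨V, hV, rfl⟩, hyV, -⟩ :=
    Y.isBasis_affineOpens.exists_subset_of_mem_open (Set.mem_univ y) isOpen_univ
  refine ⟨V, hyV, ?_⟩
  haveI : IsAffine (V : Scheme.{u}) := hV
  haveI := Groth.Agent.Lib.Helper25.SchKInj.hasRpush (f ∣_ V)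
  obtain ⟨e⟩ := Groth.Agent.Lib.Helper25.SchKInj.nonempty_Rpush_restrict_iso f V
  refine Groth.Agent.Lib.helper25.DCohPerfect.isPerfect_of_iso (e.app E).symm ?_
  exact isPerfect_Rpush_affine_base (f ∣_ V) _
    (Groth.Agent.Lib.Helper25.HomVanQcqs.isPerfect_restrictD (f ⁻¹ᵁ V).ι hE)

end Groth.Agent.Lib.Helper25.FlatProperPerfect
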