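import Mathlib
import Groth.Agent.Lib.Helper25.CoprodAdj
import Groth.Agent.Lib.Helper25.DQCohRpushAdj
import Groth.Agent.Lib.Helper25.DQCohCompact
import Groth.Agent.Lib.Helper25.FlatProperPerfect

/-!
# The right adjoint of `Rf_* : D_QCoh(O_X) ⥤ D_QCoh(O_Y)` preserves coproducts when `Rf_*` preserves perfect objects
(helper25)

* `ff_full`: compactness relative to an object property gives compactness in the full subcategory.
* `preservesCoproducts_of_preserves_perfect`: from `CoprodAdj.preservesColimitsOfShape_of_ff`, the perfect generator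
  `PerfGen.gen_qcqs` and `QCCPerfect.qff_of_isPerfect`.
* `preservesCoproducts_of_flat_proper` (S1770).
-/

set_option autoImplicit false
universe w u
open CategoryTheory CategoryTheory.Limits AlgebraicGeometry Pretriangulated
attribute [local instance] HasDerivedCategory.standard

namespace Groth.Agent.Lib.Helper25.DQCohAdjCoprod

open Groth.Agent.Lib.Helper25.FinFac Groth.Agent.Lib.Helper25.DQCohRpushAdj
  Groth.Agent.Lib.Helper25.DQCohSmall

/-- compactness relative to `Q` gives compactness in the full subcategory -/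
lemma ff_full {C : Type*} [Category C] [Preadditive C] (Q : ObjectProperty C)
    (hpres : ∀ J : Type w, PreservesColimitsOfShape (Discrete J) Q.ι) {P : Q.FullSubcategory}
    (h : FF.{w} Q P.obj) : FF.{w} (fun _ => True) P := by
  intro J M _ A g hc x
  have := hpres J
  have hc' : IsColimit (Cofan.mk (Q.ι.obj A) (fun j => Q.ι.map (g j))) :=
    isColimitCofanMkObjOfIsColimit Q.ι _ _ hc
  obtain ⟨S, hS⟩ := h J (fun j => (M j).obj) (fun j => (M j).property) A.obj
    (fun j => Q.ι.map (g j)) hc' (Q.ι.map x)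
  refine ⟨S, Q.ι.map_injective ?_⟩
  rw [Functor.map_comp, map_eS g hc Q.ι hc' S]
  exact hS

theorem preservesCoproducts_of_preserves_perfect (X Y : Scheme.{u}) [CompactSpace X]
    [QuasiSeparatedSpace X] [CompactSpace Y] [QuasiSeparatedSpace Y] (f : X ⟶ Y) [DCoh.HasRpush f]
    (h : ∀ K : DCoh.D X, DCoh.IsQCohD K → DCoh.IsQCohD ((DCoh.Rpush f).obj K))
    (a : DCoh.DQCoh Y ⥤ DCoh.DQCoh X)
    (adj : (ObjectProperty.lift DCoh.IsQCohD (ObjectProperty.ι DCoh.IsQCohD ⋙ DCoh.Rpush f)
      (fun K => h K.obj K.property)) ⊣ a)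
    (hperf : ∀ E : DCoh.D X, DCoh.IsPerfect E → DCoh.IsPerfect ((DCoh.Rpush f).obj E))
    (J : Type u) : PreservesColimitsOfShape (Discrete J) a := by
  haveI := Groth.Agent.Lib.Helper25.QCCRpush.additive_Rpush f
  let F : (PQ X).FullSubcategory ⥤ (PQ Y).FullSubcategory :=
    (PQ Y).lift ((PQ X).ι ⋙ DCoh.Rpush f) (fun K => h K.obj K.property)
  haveI : F.Additive := inferInstance
  haveI : a.Additive := adj.right_adjoint_additive
  haveI := Groth.Agent.Lib.Helper25.QCCPerfect.exactCoprod X J
  haveI : HasCoproductsOfShape J (DCoh.D X) := Groth.Agent.Lib.helper23.DCoprod.hasCoproductsOfShape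
  haveI := Groth.Agent.Lib.Helper25.QCCPerfect.exactCoprod Y J
  haveI : HasCoproductsOfShape J (DCoh.D Y) := Groth.Agent.Lib.helper23.DCoprod.hasCoproductsOfShape
  haveI : IsEmpty ((⊥ : X.Opens) : Scheme.{u}) := ⟨fun x => x.2⟩
  obtain ⟨G, hG, -, hgen⟩ := Groth.Agent.Lib.Helper25.PerfGen.gen_qcqs X ⊥ (by simp)
  have hpresX : ∀ J : Type u, PreservesColimitsOfShape (Discrete J) (PQ X).ι := fun J => by
    haveI := Groth.Agent.Lib.Helper25.QCCPerfect.exactCoprod X J
    haveI : HasCoproductsOfShape J (DCoh.D X) :=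
      Groth.Agent.Lib.helper23.DCoprod.hasCoproductsOfShape
    infer_instance
  have hpresY : ∀ J : Type u, PreservesColimitsOfShape (Discrete J) (PQ Y).ι := fun J => by
    haveI := Groth.Agent.Lib.Helper25.QCCPerfect.exactCoprod Y J
    haveI : HasCoproductsOfShape J (DCoh.D Y) :=
      Groth.Agent.Lib.helper23.DCoprod.hasCoproductsOfShape
    infer_instance
  refine Groth.Agent.Lib.Helper25.CoprodAdj.preservesColimitsOfShape_of_ff F a adj
    (fun P : (PQ X).FullSubcategory => DCoh.IsPerfect P.obj) ?_ ?_ ?_ J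
  · intro Z hZ
    have hZ0 : IsZero Z.obj := by
      refine (hgen Z.obj Z.property (Groth.Agent.Lib.Helper25.HomVanQcqs.isZero_of_isEmpty _)).2
        (fun n φ => ?_)
      have hGn : DCoh.IsPerfect (G⟦n⟧) := Groth.Agent.Lib.helper25.DCohPerfect.isPerfect_shift hG n
      let P : (PQ X).FullSubcategory :=
        ⟨G⟦n⟧, Groth.Agent.Lib.Helper25.ApproxAffine.isQCohD_of_isPerfect hGn⟩
      have h0 := hZ P hGn ((PQ X).fullyFaithfulι.preimage φ)
      have h1 := congrArg (PQ X).ι.map h0
      rw [Functor.FullyFaithful.map_preimage, Functor.map_zero] at h1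
      exact h1
    rw [IsZero.iff_id_eq_zero]
    apply (PQ X).ι.map_injective
    rw [Functor.map_zero, CategoryTheory.Functor.map_id]
    exact (IsZero.iff_id_eq_zero _).1 hZ0
  · intro P hP
    exact ff_full (PQ X) hpresX (Groth.Agent.Lib.Helper25.QCCPerfect.qff_of_isPerfect X P.obj hP)
  · intro P hP
    exact ff_full (PQ Y) hpresY
      (Groth.Agent.Lib.Helper25.QCCPerfect.qff_of_isPerfect Y (F.obj P).obj (hperf P.obj hP))

end Groth.Agent.Lib.Helper25.DQCohAdjCoprod
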