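import Mathlib
import Groth.Agent.Lib.Helper25.DQCohCompact
import Groth.Agent.Lib.Helper25.RGZ5

/-!
# Compact objects of `D_{QCoh,T}(O_X)` are perfect (helper25)

* `PT X O`: objects of `D_QCoh(O_X)` vanishing on the open `O`; a triangulated subcategory closed under coproducts.
* `isCompact_iff_isPerfect_supp` (S1016).
-/

set_option autoImplicit false
universe u
open CategoryTheory CategoryTheory.Limits AlgebraicGeometry Pretriangulated
attribute [local instance] HasDerivedCategory.standard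

namespace Groth.Agent.Lib.Helper25.DQCohCompactSupp

open Groth.Agent.Lib.Helper25.DQCohSmall Groth.Agent.Lib.Helper25.DQCohCompact
  Groth.Agent.Lib.Helper25.FinFac

/-- a colimit of zero objects is zero -/
theorem isZero_of_isColimit {C J : Type*} [Category C] [Category J] [HasZeroMorphisms C]
    {F : J ⥤ C} {c : Cocone F} (hc : IsColimit c) (h : ∀ j, IsZero (F.obj j)) : IsZero c.pt := by
  rw [IsZero.iff_id_eq_zero]
  apply hc.hom_ext
  intro j
  exact (h j).eq_of_src _ _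

variable (X : Scheme.{u}) (O : X.Opens)

/-- objects of `D_QCoh(O_X)` vanishing on `O` -/
def PT : ObjectProperty (DCoh.D X) :=
  fun K => DCoh.IsQCohD K ∧ IsZero ((DCoh.restrictD O.ι).obj K)

instance : (PT X O).IsClosedUnderIsomorphisms where
  of_iso e h := ⟨Groth.Agent.Lib.Helper25.LiftCover.isQCohD_of_iso e h.1,
    IsZero.of_iso h.2 ((DCoh.restrictD O.ι).mapIso e.symm)⟩

open ZeroObject in
instance : (PT X O).IsTriangulated where
  exists_zero := ⟨0, isZero_zero _, Groth.Agent.Lib.Helper25.PerfGen.isQCohD_zero,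
    Functor.map_isZero _ (isZero_zero _)⟩
  isStableUnderShiftBy n := ⟨fun K hK => ⟨Groth.Agent.Lib.Helper25.HomVanMV.isQCohD_shift K hK.1 n,
    Groth.Agent.Lib.Helper25.RGZ5.isZero_restrictD_shift O K hK.2 n⟩⟩
  toIsTriangulatedClosed₂ := ObjectProperty.IsTriangulatedClosed₂.mk' (fun T hT h₁ h₃ =>
    ⟨Groth.Agent.Lib.Helper25.DQCohTri.isQCohD_obj₂ T hT h₁.1 h₃.1,
      Triangle.isZero₂_of_isZero₁₃ _ ((DCoh.restrictD O.ι).map_distinguished T hT) h₁.2 h₃.2⟩)

instance (J : Type u) : (PT X O).IsClosedUnderColimitsOfShape (Discrete J) where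
  colimitsOfShape_le := by
    rintro K ⟨h⟩
    refine ⟨ObjectProperty.prop_of_isColimit (DCoh.IsQCohD (X := X)) h.isColimit
      (fun j => (h.prop_diag_obj j).1), ?_⟩
    haveI : DCoh.HasRpush O.ι := Groth.Agent.Lib.Helper25.SchKInj.hasRpush _
    obtain ⟨adj'⟩ := Groth.Agent.Lib.Helper25.RGZ1.nonempty_adj O.ι
    haveI := adj'.leftAdjoint_preservesColimits
    exact isZero_of_isColimit
      (isColimitOfPreserves (DCoh.restrictD O.ι) h.isColimit) (fun j => (h.prop_diag_obj j).2)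

lemma ff_mono {C : Type*} [Category C] [Preadditive C] {Q Q' : C → Prop} (h : ∀ K, Q' K → Q K) {P : C}
    (hP : FF.{u} Q P) : FF.{u} Q' P :=
  fun ι M hM A g hc x => hP ι M (fun i => h _ (hM i)) A g hc x

/-- **S1016** -/
theorem isCompact_iff_isPerfect_supp [CompactSpace X] [QuasiSeparatedSpace X]
    (T : Set X) (hT : IsClosed T) (hTc : IsCompact Tᶜ)
    (K : DCoh.D X) (hK : DCoh.IsQCohD K) (hKT : ∀ i : ℤ, CohB1.support (DCoh.HD K i) ⊆ T) :
    PerfAux.IsCompactObjRel.{u}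
      (fun L : DCoh.D X => DCoh.IsQCohD L ∧ ∀ i : ℤ, CohB1.support (DCoh.HD L i) ⊆ T) K ↔
      DCoh.IsPerfect K := by
  rw [Groth.Agent.Lib.Helper25.CompactRel.isCompactObjRel_iff_ff]
  let O : X.Opens := ⟨Tᶜ, hT.isOpen_compl⟩
  have hOT : ((O : Set X))ᶜ = T := compl_compl T
  have hiff : ∀ L : DCoh.D X, PT X O L ↔
      (DCoh.IsQCohD L ∧ ∀ i : ℤ, CohB1.support (DCoh.HD L i) ⊆ T) := fun L =>
    ⟨fun h => ⟨h.1, fun i => hOT ▸ Groth.Agent.Lib.Helper25.SchKInj.support_HD_restrictD O L h.2 i⟩,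
      fun h => ⟨h.1, Groth.Agent.Lib.Helper25.SchKInj.isZero_restrictD_of_support O L
        (fun i => hOT.symm ▸ h.2 i)⟩⟩
  constructor
  · intro hff
    obtain ⟨G, hG, hGO, hgen⟩ := Groth.Agent.Lib.Helper25.PerfGen.gen_qcqs X O hTc
    have hGq := Groth.Agent.Lib.Helper25.ApproxAffine.isQCohD_of_isPerfect hG
    exact Groth.Agent.Lib.Helper25.BrownSub.thick_of_ff (Ψ X.Modules) (PT X O) G ⟨hGq, hGO⟩
      (fun E hE h' => (hgen E hE.1 hE.2).2 h')
      (ff_mono (fun L hL => hL.1) (Groth.Agent.Lib.Helper25.QCCPerfect.qff_of_isPerfect X G hG))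
      (PerfP X) hG K ((hiff K).2 ⟨hK, hKT⟩) (ff_mono (fun L hL => (hiff L).1 hL) hff)
  · intro hP
    exact ff_mono (fun L hL => hL.1) (Groth.Agent.Lib.Helper25.QCCPerfect.qff_of_isPerfect X K hP)

end Groth.Agent.Lib.Helper25.DQCohCompactSupp
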