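import Mathlib

/-!
# `T^p` right exact iff `T^{p+1}` left exact, for cohomological δ-functors coming from triangles (helper25)

Let `G : A ⥤ D(B)` be an additive functor from an abelian category which sends short exact sequences to
distinguished triangles (first two maps the images of those of the sequence; e.g. `single 0` followed by functors
preserving distinguished triangles).  With `T^p = G ⋙ H^p`:
* `exact_mid`: `T^p(X₁) ⟶ T^p(X₂) ⟶ T^p(X₃)` is exact;
* `epi_iff_mono`: `T^p(g)` is epi iff `T^{p+1}(f)` is mono;
* `preservesFiniteColimits_iff`, `preservesFiniteLimits_iff`;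
* `preservesFiniteColimits_iff_preservesFiniteLimits_succ`.
-/

set_option autoImplicit false
universe w v₁ v₂ u₁ u₂
open CategoryTheory Limits Pretriangulated

namespace Groth.Agent.Lib.Helper25.DeltaExact

variable {A : Type u₁} [Category.{v₁} A] [Abelian A] {B : Type u₂} [Category.{v₂} B] [Abelian B]
  [HasDerivedCategory.{w} B]
  (G : A ⥤ DerivedCategory B) [G.Additive]
  (hG : ∀ S : ShortComplex A, S.ShortExact →
    ∃ h : G.obj S.X₃ ⟶ (G.obj S.X₁)⟦(1 : ℤ)⟧, Triangle.mk (G.map S.f) (G.map S.g) h ∈ distTriang _)

instance (p : ℤ) : (G ⋙ DerivedCategory.homologyFunctor B p).Additive := by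
  infer_instance

include hG in
theorem exact_mid (S : ShortComplex A) (hS : S.ShortExact) (p : ℤ) :
    (S.map (G ⋙ DerivedCategory.homologyFunctor B p)).Exact := by
  obtain ⟨h, hT⟩ := hG S hS
  exact DerivedCategory.HomologySequence.exact₂ _ hT p

include hG in
theorem epi_iff_mono (S : ShortComplex A) (hS : S.ShortExact) (p : ℤ) :
    Epi ((G ⋙ DerivedCategory.homologyFunctor B p).map S.g) ↔
      Mono ((G ⋙ DerivedCategory.homologyFunctor B (p + 1)).map S.f) := by
  obtain ⟨h, hT⟩ := hG S hS
  rw [Functor.comp_map, Functor.comp_map]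
  exact (DerivedCategory.HomologySequence.epi_homologyMap_mor₂_iff _ hT p (p + 1) rfl).trans
    (DerivedCategory.HomologySequence.mono_homologyMap_mor₁_iff _ hT p (p + 1) rfl).symm

include hG in
theorem preservesFiniteColimits_iff (p : ℤ) :
    PreservesFiniteColimits (G ⋙ DerivedCategory.homologyFunctor B p) ↔
      ∀ S : ShortComplex A, S.ShortExact →
        Epi ((G ⋙ DerivedCategory.homologyFunctor B p).map S.g) := by
  rw [Functor.preservesFiniteColimits_iff_forall_exact_map_and_epi]
  constructor
  · intro h S hS
    exact (h S hS).2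
  · intro h S hS
    exact ⟨exact_mid G hG S hS p, h S hS⟩

include hG in
theorem preservesFiniteLimits_iff (p : ℤ) :
    PreservesFiniteLimits (G ⋙ DerivedCategory.homologyFunctor B p) ↔
      ∀ S : ShortComplex A, S.ShortExact →
        Mono ((G ⋙ DerivedCategory.homologyFunctor B p).map S.f) := by
  rw [Functor.preservesFiniteLimits_iff_forall_exact_map_and_mono]
  constructor
  · intro h S hS
    exact (h S hS).2
  · intro h S hS
    exact ⟨exact_mid G hG S hS p, h S hS⟩

include hG in
/-- `T^p` is right exact iff `T^{p+1}` is left exact -/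
theorem preservesFiniteColimits_iff_preservesFiniteLimits_succ (p : ℤ) :
    PreservesFiniteColimits (G ⋙ DerivedCategory.homologyFunctor B p) ↔
      PreservesFiniteLimits (G ⋙ DerivedCategory.homologyFunctor B (p + 1)) := by
  rw [preservesFiniteColimits_iff G hG, preservesFiniteLimits_iff G hG]
  constructor
  · intro h S hS
    exact (epi_iff_mono G hG S hS p).1 (h S hS)
  · intro h S hS
    exact (epi_iff_mono G hG S hS p).2 (h S hS)

end Groth.Agent.Lib.Helper25.DeltaExact
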