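import Mathlib

/-!
# Projections out of `Tot T(N, D)` for `D` with finite support (helper25)

`T : 𝒜 ⥤ 𝒜 ⥤ 𝒜` an additive bifunctor on a preadditive category, `N D : CochainComplex 𝒜 ℤ`.

* `π T N D a b n h : (N ⊗ D)ⁿ ⟶ T(Nᵃ, Dᵇ)` (`a + b = n`), `ι_π_self`, `ι_π_ne`;
* if `D.X b` is zero for `b ∉ s` (`s : Finset ℤ`): `sum_π_ι`, `ext_π`, `lift`, `lift_π`;
* `d_π`: the differential of the total complex followed by a projection;
* `map_π`: naturality in `N`.
-/

set_option autoImplicit false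
open CategoryTheory Limits HomologicalComplex

namespace Groth.Agent.Lib.Helper25.DualCx1

variable {𝒜 : Type*} [Category 𝒜] [Preadditive 𝒜]
  (T : 𝒜 ⥤ 𝒜 ⥤ 𝒜) [T.Additive] [∀ A, (T.obj A).Additive]
  (N D : CochainComplex 𝒜 ℤ) [HasMapBifunctor N D T (ComplexShape.up ℤ)]

/-- the projection `(N ⊗ D)ⁿ ⟶ T(Nᵃ, Dᵇ)` -/
noncomputable def π (a b n : ℤ) (h : a + b = n) :
    (mapBifunctor N D T (ComplexShape.up ℤ)).X n ⟶ (T.obj (N.X a)).obj (D.X b) :=
  mapBifunctorDesc (K₁ := N) (K₂ := D) (F := T) (c := ComplexShape.up ℤ)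
    (fun a' b' h' => if ha : a' = a then eqToHom (by
      have h1 : a' + b' = n := h'
      have hb : b' = b := by omega
      rw [ha, hb]) else 0)

@[reassoc]
lemma ι_π_self (a b n : ℤ) (h : a + b = n) :
    ιMapBifunctor N D T (ComplexShape.up ℤ) a b n h ≫ π T N D a b n h = 𝟙 _ := by
  unfold π
  rw [ι_mapBifunctorDesc, dif_pos rfl]
  rfl

@[reassoc]
lemma ι_π_ne (a' b' a b n : ℤ) (h' : a' + b' = n) (h : a + b = n) (hne : a' ≠ a) :
    ιMapBifunctor N D T (ComplexShape.up ℤ) a' b' n h' ≫ π T N D a b n h = 0 := by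
  unfold π
  rw [ι_mapBifunctorDesc, dif_neg hne]

section Finite

variable (s : Finset ℤ) (hs : ∀ b : ℤ, b ∉ s → IsZero (D.X b))

include hs in
lemma isZero_obj (A : 𝒜) (b : ℤ) (hb : b ∉ s) : IsZero ((T.obj A).obj (D.X b)) :=
  (T.obj A).map_isZero (hs b hb)

include hs in
lemma sum_π_ι (n : ℤ) :
    ∑ b ∈ s, π T N D (n - b) b n (by omega) ≫
      ιMapBifunctor N D T (ComplexShape.up ℤ) (n - b) b n (by dsimp; omega) = 𝟙 _ := by
  apply mapBifunctor.hom_ext (K₁ := N) (K₂ := D) (F := T) (c := ComplexShape.up ℤ)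
  intro a' b' h'
  have h1 : a' + b' = n := h'
  obtain rfl : a' = n - b' := by omega
  rw [Category.comp_id, Preadditive.comp_sum]
  by_cases hb : b' ∈ s
  · rw [Finset.sum_eq_single b']
    · rw [← Category.assoc, ι_π_self, Category.id_comp]
    · intro b _ hne
      rw [← Category.assoc, ι_π_ne T N D _ _ _ _ _ _ _ (by omega), zero_comp]
    · intro h
      exact absurd hb h
  · exact (isZero_obj T D s hs _ b' hb).eq_of_src _ _

include hs in
lemma ext_π {A : 𝒜} {n : ℤ} {φ ψ : A ⟶ (mapBifunctor N D T (ComplexShape.up ℤ)).X n}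
    (h : ∀ (a b : ℤ) (hab : a + b = n), φ ≫ π T N D a b n hab = ψ ≫ π T N D a b n hab) :
    φ = ψ := by
  rw [← Category.comp_id φ, ← Category.comp_id ψ, ← sum_π_ι T N D s hs n, Preadditive.comp_sum,
    Preadditive.comp_sum]
  refine Finset.sum_congr rfl (fun b _ => ?_)
  rw [← Category.assoc, ← Category.assoc, h]

/-- the morphism to `(N ⊗ D)ⁿ` with given components -/
noncomputable def lift {A : 𝒜} {n : ℤ}
    (φ : ∀ (a b : ℤ), a + b = n → (A ⟶ (T.obj (N.X a)).obj (D.X b))) :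
    A ⟶ (mapBifunctor N D T (ComplexShape.up ℤ)).X n :=
  ∑ b ∈ s, φ (n - b) b (by omega) ≫
    ιMapBifunctor N D T (ComplexShape.up ℤ) (n - b) b n (by dsimp; omega)

include hs in
lemma lift_π {A : 𝒜} {n : ℤ}
    (φ : ∀ (a b : ℤ), a + b = n → (A ⟶ (T.obj (N.X a)).obj (D.X b))) (a b : ℤ) (h : a + b = n) :
    lift T N D s φ ≫ π T N D a b n h = φ a b h := by
  by_cases hb : b ∈ s
  · obtain rfl : a = n - b := by omega
    unfold lift
    rw [Preadditive.sum_comp, Finset.sum_eq_single b]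
    · rw [Category.assoc, ι_π_self, Category.comp_id]
    · intro b' _ hne
      rw [Category.assoc, ι_π_ne T N D _ _ _ _ _ _ _ (by omega), comp_zero]
    · intro h
      exact absurd hb h
  · exact (isZero_obj T D s hs _ b hb).eq_of_tgt _ _

end Finite

/-- the differential of `N ⊗ D` followed by a projection -/
lemma d_π (n n' : ℤ) (hn : n + 1 = n') (a b : ℤ) (h : a + b = n') (a₁ b₁ : ℤ) (ha : a₁ + 1 = a)
    (hb : b₁ + 1 = b) :
    (mapBifunctor N D T (ComplexShape.up ℤ)).d n n' ≫ π T N D a b n' h =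
      π T N D a₁ b n (by omega) ≫ (T.map (N.d a₁ a)).app (D.X b) +
        a.negOnePow • (π T N D a b₁ n (by omega) ≫ (T.obj (N.X a)).map (D.d b₁ b)) := by
  apply mapBifunctor.hom_ext (K₁ := N) (K₂ := D) (F := T) (c := ComplexShape.up ℤ)
  intro a' b' h'
  have h1 : a' + b' = n := h'
  rw [mapBifunctor.d_eq, Preadditive.add_comp, Preadditive.comp_add, Preadditive.comp_add,
    mapBifunctor.ι_D₁_assoc, mapBifunctor.ι_D₂_assoc,
    mapBifunctor.d₁_eq N D T (ComplexShape.up ℤ)
      (show (ComplexShape.up ℤ).Rel a' (a' + 1) from rfl) b' n' (by dsimp; omega),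
    mapBifunctor.d₂_eq N D T (ComplexShape.up ℤ) a'
      (show (ComplexShape.up ℤ).Rel b' (b' + 1) from rfl) n' (by dsimp; omega)]
  simp only [ComplexShape.ε₁_def, ComplexShape.ε₂_def, ComplexShape.ε_up_ℤ, one_smul,
    Linear.units_smul_comp, Linear.comp_units_smul, Category.assoc]
  by_cases h2 : a' = a₁
  · subst h2
    obtain rfl : b' = b := by omega
    obtain rfl : a' + 1 = a := ha
    rw [ι_π_self, Category.comp_id, ι_π_ne T N D a' (b' + 1) (a' + 1) b' n' _ h (by omega),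
      comp_zero, smul_zero, add_zero, ι_π_self_assoc,
      ι_π_ne_assoc T N D a' b' (a' + 1) b₁ n _ _ (by omega), zero_comp, smul_zero, add_zero]
  · by_cases h3 : a' = a
    · subst h3
      obtain rfl : b' = b₁ := by omega
      obtain rfl : b' + 1 = b := hb
      rw [ι_π_self, Category.comp_id, ι_π_ne T N D (a' + 1) b' a' (b' + 1) n' _ h (by omega),
        comp_zero, zero_add, ι_π_ne_assoc T N D a' b' a₁ (b' + 1) n _ _ h2, zero_comp, zero_add,
        ι_π_self_assoc]
    · rw [ι_π_ne T N D (a' + 1) b' a b n' _ h (by omega), comp_zero,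
        ι_π_ne T N D a' (b' + 1) a b n' _ h h3, comp_zero, smul_zero, add_zero,
        ι_π_ne_assoc T N D a' b' a₁ b n _ _ h2, zero_comp,
        ι_π_ne_assoc T N D a' b' a b₁ n _ _ h3, zero_comp, smul_zero, add_zero]

variable {N} in
/-- naturality of the projections in the first variable -/
lemma map_π {N' : CochainComplex 𝒜 ℤ} [HasMapBifunctor N' D T (ComplexShape.up ℤ)] (ψ : N ⟶ N')
    (a b n : ℤ) (h : a + b = n) :
    (mapBifunctorMap ψ (𝟙 D) T (ComplexShape.up ℤ)).f n ≫ π T N' D a b n h =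
      π T N D a b n h ≫ (T.map (ψ.f a)).app (D.X b) := by
  apply mapBifunctor.hom_ext (K₁ := N) (K₂ := D) (F := T) (c := ComplexShape.up ℤ)
  intro a' b' h'
  have h1 : a' + b' = n := h'
  rw [ι_mapBifunctorMap_assoc, id_f, CategoryTheory.Functor.map_id, Category.id_comp]
  by_cases h2 : a' = a
  · subst h2
    obtain rfl : b' = b := by omega
    rw [ι_π_self, Category.comp_id, ← Category.assoc, ι_π_self, Category.id_comp]
  · rw [ι_π_ne T N' D a' b' a b n _ _ h2, comp_zero, ← Category.assoc,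
      ι_π_ne T N D a' b' a b n _ _ h2, zero_comp]

end Groth.Agent.Lib.Helper25.DualCx1
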