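import Mathlib
import Groth.Agent.Lib.Helper25.DualCx1

/-!
# The chain-level adjunction `- ⊗ E ⊣ - ⊗ D` for a complex `E` with a termwise dual `D` (helper25)

`T : 𝒜 ⥤ 𝒜 ⥤ 𝒜` an additive bifunctor on a preadditive category (all total complexes exist).

* `DualData T E D`: termwise adjunctions `T(-, E^q) ⊣ T(-, D^r)` (`q + r = 0`), `D` of finite support, and the
  differential of `D` is the signed transpose (mate) of the differential of `E`:
  `η^{q,r}_A ≫ T(T(A, d_E^q), D^r) = (-1)^r • η^{q+1,r-1}_A ≫ T(T(A, E^{q+1}), d_D^{r-1})`.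
* `adjCx dd : (T.map₂CochainComplex).flip.obj E ⊣ (T.map₂CochainComplex).flip.obj D`.
-/

set_option autoImplicit false
open CategoryTheory Limits HomologicalComplex

namespace Groth.Agent.Lib.Helper25.DualCx2

open Groth.Agent.Lib.Helper25.DualCx1

variable {𝒜 : Type*} [Category 𝒜] [Preadditive 𝒜]
  (T : 𝒜 ⥤ 𝒜 ⥤ 𝒜) [T.Additive] [∀ A, (T.obj A).Additive]

instance flipObjAdditive (P : 𝒜) : (T.flip.obj P).Additive := { }

/-- termwise duality data between two complexes -/
structure DualData (E D : CochainComplex 𝒜 ℤ) where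
  /-- the termwise adjunctions -/
  adj : ∀ q r : ℤ, q + r = 0 → (T.flip.obj (E.X q) ⊣ T.flip.obj (D.X r))
  /-- a finite support of `D` -/
  s : Finset ℤ
  hs : ∀ r : ℤ, r ∉ s → IsZero (D.X r)
  mate : ∀ (q r q' r' : ℤ) (h : q + r = 0) (h' : q' + r' = 0) (_ : q + 1 = q') (A : 𝒜),
    (adj q r h).unit.app A ≫ (T.map ((T.obj A).map (E.d q q'))).app (D.X r) =
      r.negOnePow • ((adj q' r' h').unit.app A ≫
        (T.obj ((T.obj A).obj (E.X q'))).map (D.d r' r))

variable {T} {E D : CochainComplex 𝒜 ℤ} (dd : DualData T E D)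

lemma homEquiv_units_smul {F G : 𝒜 ⥤ 𝒜} [F.Additive] (adj : F ⊣ G) (A B : 𝒜) (u : ℤˣ)
    (f : F.obj A ⟶ B) : adj.homEquiv A B (u • f) = u • adj.homEquiv A B f := by
  rw [Units.smul_def, Units.smul_def]
  exact map_zsmul (adj.homAddEquiv A B) _ _

lemma homEquiv_symm_units_smul {F G : 𝒜 ⥤ 𝒜} [F.Additive] (adj : F ⊣ G) (A B : 𝒜) (u : ℤˣ)
    (f : A ⟶ G.obj B) : (adj.homEquiv A B).symm (u • f) = u • (adj.homEquiv A B).symm f := by
  rw [Units.smul_def, Units.smul_def]
  exact map_zsmul (adj.homAddEquiv A B).symm _ _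

/-- the mate relation, in terms of `homEquiv` -/
lemma mate₁ (q r q' r' : ℤ) (h : q + r = 0) (h' : q' + r' = 0) (hq : q + 1 = q') {A B : 𝒜}
    (φ : (T.obj A).obj (E.X q') ⟶ B) :
    (dd.adj q r h).homEquiv A B ((T.obj A).map (E.d q q') ≫ φ) =
      r.negOnePow • ((dd.adj q' r' h').homEquiv A B φ ≫ (T.obj B).map (D.d r' r)) := by
  rw [Adjunction.homEquiv_unit, Adjunction.homEquiv_unit]
  change _ ≫ (T.map ((T.obj A).map (E.d q q') ≫ φ)).app (D.X r) =
    r.negOnePow • ((_ ≫ (T.map φ).app (D.X r')) ≫ _)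
  rw [T.map_comp, NatTrans.comp_app, ← Category.assoc, dd.mate q r q' r' h h' hq A,
    Linear.units_smul_comp, Category.assoc, Category.assoc]
  congr 2
  exact (T.map φ).naturality (D.d r' r)

/-- the mate relation, in terms of `homEquiv.symm` -/
lemma mate₂ (q r q' r' : ℤ) (h : q + r = 0) (h' : q' + r' = 0) (hq : q + 1 = q') {A B : 𝒜}
    (x : A ⟶ (T.obj B).obj (D.X r')) :
    (T.obj A).map (E.d q q') ≫ ((dd.adj q' r' h').homEquiv A B).symm x =
      r.negOnePow • ((dd.adj q r h).homEquiv A B).symm (x ≫ (T.obj B).map (D.d r' r)) := by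
  apply ((dd.adj q r h).homEquiv A B).injective
  rw [mate₁ dd q r q' r' h h' hq, Equiv.apply_symm_apply, homEquiv_units_smul,
    Equiv.apply_symm_apply]

section

variable (M N : CochainComplex 𝒜 ℤ) [HasMapBifunctor M E T (ComplexShape.up ℤ)]
  [HasMapBifunctor N D T (ComplexShape.up ℤ)]

/-- the components of the adjunct of a morphism `M ⊗ E ⟶ N` -/
noncomputable def toFunF (f : mapBifunctor M E T (ComplexShape.up ℤ) ⟶ N) (p : ℤ) :
    M.X p ⟶ (mapBifunctor N D T (ComplexShape.up ℤ)).X p :=
  lift T N D dd.s (fun a b h => (dd.adj (-b) b (by omega)).homEquiv (M.X p) (N.X a)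
    (ιMapBifunctor M E T (ComplexShape.up ℤ) p (-b) a (by dsimp; omega) ≫ f.f a))

lemma toFunF_π (f : mapBifunctor M E T (ComplexShape.up ℤ) ⟶ N) (p a b q : ℤ) (h : a + b = p)
    (hq : q + b = 0) :
    toFunF dd M N f p ≫ π T N D a b p h = (dd.adj q b hq).homEquiv (M.X p) (N.X a)
      (ιMapBifunctor M E T (ComplexShape.up ℤ) p q a (by dsimp; omega) ≫ f.f a) := by
  obtain rfl : q = -b := by omega
  exact lift_π T N D dd.s dd.hs _ a b h

lemma sign₁ (p b a : ℤ) (h : a + b = p + 1) :
    p.negOnePow * b.negOnePow = - a.negOnePow := by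
  obtain rfl : a = p + 1 - b := by omega
  rw [Int.negOnePow_sub, Int.negOnePow_succ]
  simp

/-- the adjunct of a morphism `M ⊗ E ⟶ N` -/
noncomputable def toFun (f : mapBifunctor M E T (ComplexShape.up ℤ) ⟶ N) :
    M ⟶ mapBifunctor N D T (ComplexShape.up ℤ) where
  f p := toFunF dd M N f p
  comm' p p' hp := by
    have hp' : p + 1 = p' := hp
    apply ext_π T N D dd.s dd.hs
    intro a b hab
    rw [Category.assoc, Category.assoc,
      d_π T N D p p' hp' a b hab (a - 1) (b - 1) (by omega) (by omega), Preadditive.comp_add,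
      Linear.comp_units_smul, ← Category.assoc, ← Category.assoc,
      toFunF_π dd M N f p (a - 1) b (-b) (by omega) (by omega),
      toFunF_π dd M N f p a (b - 1) (-b + 1) (by omega) (by omega),
      toFunF_π dd M N f p' a b (-b) hab (by omega)]
    have e1 := (dd.adj (-b) b (by omega)).homEquiv_naturality_right
      (ιMapBifunctor M E T (ComplexShape.up ℤ) p (-b) (a - 1) (by dsimp; omega) ≫ f.f (a - 1))
      (N.d (a - 1) a)
    change _ = _ ≫ (T.map (N.d (a - 1) a)).app (D.X b) at e1
    rw [← e1, Category.assoc, f.comm (a - 1) a, ← Category.assoc, mapBifunctor.d_eq,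
      Preadditive.comp_add, mapBifunctor.ι_D₁, mapBifunctor.ι_D₂,
      mapBifunctor.d₁_eq M E T (ComplexShape.up ℤ)
        (show (ComplexShape.up ℤ).Rel p p' from hp) (-b) a (by dsimp; omega),
      mapBifunctor.d₂_eq M E T (ComplexShape.up ℤ) p
        (show (ComplexShape.up ℤ).Rel (-b) (-b + 1) from rfl) a (by dsimp; omega)]
    simp only [ComplexShape.ε₁_def, ComplexShape.ε₂_def, ComplexShape.ε_up_ℤ, one_smul,
      Linear.units_smul_comp, Preadditive.add_comp, Category.assoc]
    rw [Adjunction.homAddEquiv_add, homEquiv_units_smul,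
      mate₁ dd (-b) b (-b + 1) (b - 1) (by omega) (by omega) rfl, smul_smul,
      sign₁ p b a (by omega), Units.neg_smul]
    have e2 := (dd.adj (-b) b (by omega)).homEquiv_naturality_left (M.d p p')
      (ιMapBifunctor M E T (ComplexShape.up ℤ) p' (-b) a (by dsimp; omega) ≫ f.f a)
    change (dd.adj (-b) b _).homEquiv _ _ ((T.map (M.d p p')).app (E.X (-b)) ≫ _) = _ at e2
    rw [e2]
    abel

@[simp]
lemma toFun_f (f : mapBifunctor M E T (ComplexShape.up ℤ) ⟶ N) (p : ℤ) :
    (toFun dd M N f).f p = toFunF dd M N f p := rfl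

/-- the components of the inverse adjunct -/
noncomputable def invFunF (g : M ⟶ mapBifunctor N D T (ComplexShape.up ℤ)) (n : ℤ) :
    (mapBifunctor M E T (ComplexShape.up ℤ)).X n ⟶ N.X n :=
  mapBifunctorDesc (K₁ := M) (K₂ := E) (F := T) (c := ComplexShape.up ℤ)
    (fun p q h => ((dd.adj q (-q) (by omega)).homEquiv (M.X p) (N.X n)).symm
      (g.f p ≫ π T N D n (-q) p (by
        have h1 : p + q = n := h
        omega)))

lemma ι_invFunF (g : M ⟶ mapBifunctor N D T (ComplexShape.up ℤ)) (p q n r : ℤ) (h : p + q = n)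
    (hr : q + r = 0) :
    ιMapBifunctor M E T (ComplexShape.up ℤ) p q n h ≫ invFunF dd M N g n =
      ((dd.adj q r hr).homEquiv (M.X p) (N.X n)).symm (g.f p ≫ π T N D n r p (by omega)) := by
  obtain rfl : r = -q := by omega
  unfold invFunF
  rw [ι_mapBifunctorDesc]

lemma sign₂ (p q r n' : ℤ) (h : p + q + 1 = n') (hr : q + r = 0) :
    p.negOnePow * r.negOnePow = - n'.negOnePow := by
  obtain rfl : n' = p + q + 1 := by omega
  obtain rfl : r = -q := by omega
  rw [Int.negOnePow_succ, Int.negOnePow_add, Int.negOnePow_neg]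
  simp

/-- the inverse adjunct of a morphism `M ⟶ N ⊗ D` -/
noncomputable def invFun (g : M ⟶ mapBifunctor N D T (ComplexShape.up ℤ)) :
    mapBifunctor M E T (ComplexShape.up ℤ) ⟶ N where
  f n := invFunF dd M N g n
  comm' n n' hn := by
    have hn' : n + 1 = n' := hn
    apply mapBifunctor.hom_ext (K₁ := M) (K₂ := E) (F := T) (c := ComplexShape.up ℤ)
    intro p q h
    have h1 : p + q = n := h
    rw [← Category.assoc, ι_invFunF dd M N g p q n (-q) h1 (by omega), ← Category.assoc,
      mapBifunctor.d_eq, Preadditive.comp_add, mapBifunctor.ι_D₁, mapBifunctor.ι_D₂,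
      mapBifunctor.d₁_eq M E T (ComplexShape.up ℤ)
        (show (ComplexShape.up ℤ).Rel p (p + 1) from rfl) q n' (by dsimp; omega),
      mapBifunctor.d₂_eq M E T (ComplexShape.up ℤ) p
        (show (ComplexShape.up ℤ).Rel q (q + 1) from rfl) n' (by dsimp; omega)]
    simp only [ComplexShape.ε₁_def, ComplexShape.ε₂_def, ComplexShape.ε_up_ℤ, one_smul,
      Linear.units_smul_comp, Preadditive.add_comp, Category.assoc]
    rw [ι_invFunF dd M N g (p + 1) q n' (-q) (by omega) (by omega),
      ι_invFunF dd M N g p (q + 1) n' (-q - 1) (by omega) (by omega),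
      mate₂ dd q (-q) (q + 1) (-q - 1) (by omega) (by omega) rfl, smul_smul,
      sign₂ p q (-q) n' (by omega) (by omega), Units.neg_smul]
    have e1 := (dd.adj q (-q) (by omega)).homEquiv_naturality_right_symm
      (g.f p ≫ π T N D n (-q) p (by omega)) (N.d n n')
    change ((dd.adj q (-q) _).homEquiv _ _).symm (_ ≫ (T.map (N.d n n')).app (D.X (-q))) = _
      at e1
    rw [← e1]
    have e2 := (dd.adj q (-q) (by omega)).homEquiv_naturality_left_symm (M.d p (p + 1))
      (g.f (p + 1) ≫ π T N D n' (-q) (p + 1) (by omega))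
    change _ = (T.map (M.d p (p + 1))).app (E.X q) ≫ _ at e2
    have e3 : M.d p (p + 1) ≫ g.f (p + 1) ≫ π T N D n' (-q) (p + 1) (by omega) =
        g.f p ≫ π T N D n (-q) p (by omega) ≫ (T.map (N.d n n')).app (D.X (-q)) +
          n'.negOnePow • ((g.f p ≫ π T N D n' (-q - 1) p (by omega)) ≫
            (T.obj (N.X n')).map (D.d (-q - 1) (-q))) := by
      rw [← Category.assoc, ← g.comm p (p + 1), Category.assoc,
        d_π T N D p (p + 1) rfl n' (-q) (by omega) n (-q - 1) (by omega) (by omega),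
        Preadditive.comp_add, Linear.comp_units_smul, Category.assoc]
    rw [← e2, e3, Adjunction.homAddEquiv_symm_add, homEquiv_symm_units_smul]
    simp only [Category.assoc]
    abel

@[simp]
lemma invFun_f (g : M ⟶ mapBifunctor N D T (ComplexShape.up ℤ)) (n : ℤ) :
    (invFun dd M N g).f n = invFunF dd M N g n := rfl

/-- the Hom-set bijection `Hom(M ⊗ E, N) ≃ Hom(M, N ⊗ D)` -/
noncomputable def homEquiv :
    (mapBifunctor M E T (ComplexShape.up ℤ) ⟶ N) ≃ (M ⟶ mapBifunctor N D T (ComplexShape.up ℤ)) where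
  toFun := toFun dd M N
  invFun := invFun dd M N
  left_inv f := by
    ext n p q h
    have h1 : p + q = n := h
    rw [invFun_f, ι_invFunF dd M N _ p q n (-q) h1 (by omega), toFun_f,
      toFunF_π dd M N f p n (-q) q (by omega) (by omega), Equiv.symm_apply_apply]
  right_inv g := by
    ext p
    apply ext_π T N D dd.s dd.hs
    intro a b hab
    rw [toFun_f, toFunF_π dd M N _ p a b (-b) hab (by omega), invFun_f,
      ι_invFunF dd M N g p (-b) a b (by omega) (by omega), Equiv.apply_symm_apply]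

end

section Adj

variable [∀ K L : CochainComplex 𝒜 ℤ, HasMapBifunctor K L T (ComplexShape.up ℤ)]

/-- **The chain-level adjunction `- ⊗ E ⊣ - ⊗ D`.** -/
noncomputable def adjCx :
    (T.map₂CochainComplex).flip.obj E ⊣ (T.map₂CochainComplex).flip.obj D :=
  Adjunction.mkOfHomEquiv
    { homEquiv := fun M N => homEquiv dd M N
      homEquiv_naturality_left_symm := by
        intro M' M N φ g
        ext n
        apply mapBifunctor.hom_ext (K₁ := M') (K₂ := E) (F := T) (c := ComplexShape.up ℤ)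
        intro p q h
        have h1 : p + q = n := h
        change _ ≫ invFunF dd M' N (φ ≫ g) n =
          _ ≫ (mapBifunctorMap φ (𝟙 E) T (ComplexShape.up ℤ)).f n ≫ invFunF dd M N g n
        rw [ι_invFunF dd M' N _ p q n (-q) h1 (by omega), ι_mapBifunctorMap_assoc, id_f,
          CategoryTheory.Functor.map_id, Category.id_comp,
          ι_invFunF dd M N _ p q n (-q) h1 (by omega), comp_f, Category.assoc]
        exact (dd.adj q (-q) (by omega)).homEquiv_naturality_left_symm (φ.f p) _
      homEquiv_naturality_right := by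
        intro M N N' f ψ
        ext p
        apply ext_π T N' D dd.s dd.hs
        intro a b hab
        change toFunF dd M N' (f ≫ ψ) p ≫ _ =
          (toFunF dd M N f p ≫ (mapBifunctorMap ψ (𝟙 D) T (ComplexShape.up ℤ)).f p) ≫ _
        rw [toFunF_π dd M N' _ p a b (-b) hab (by omega), Category.assoc, map_π,
          ← Category.assoc, toFunF_π dd M N _ p a b (-b) hab (by omega), comp_f,
          ← Category.assoc]
        exact (dd.adj (-b) b (by omega)).homEquiv_naturality_right _ (ψ.f a) }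

end Adj

end Groth.Agent.Lib.Helper25.DualCx2
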