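import Mathlib

/-!
# Self-dual endofunctors: finite direct sums of copies of the identity (helper25)

`𝒜` preadditive.

* `Decomp F`: a decomposition `F ≅ 𝟭 ⊕ ⋯ ⊕ 𝟭` of an endofunctor, given by `u i : 𝟭 ⟶ F`, `v i : F ⟶ 𝟭` with
  `u i ≫ v j = δ_ij`, `∑ v i ≫ u i = 𝟙`;
* `Decomp.adj : F ⊣ F`;
* `trN d d' δ : F' ⟶ F` the transpose of `δ : F ⟶ F'`, `unit_trN` (the mate identity), `trN_eq_conjugateEquiv`,
  `trN_comp`, `trN_zero`.
-/

set_option autoImplicit false
open CategoryTheory Limits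

namespace Groth.Agent.Lib.Helper25.DualCx3

variable {𝒜 : Type*} [Category 𝒜] [Preadditive 𝒜]

/-- a decomposition of an endofunctor as a finite direct sum of copies of the identity functor -/
structure Decomp (F : 𝒜 ⥤ 𝒜) where
  /-- the number of summands -/
  n : ℕ
  /-- the inclusions -/
  u : Fin n → (𝟭 𝒜 ⟶ F)
  /-- the projections -/
  v : Fin n → (F ⟶ 𝟭 𝒜)
  u_v : ∀ (i j : Fin n) (A : 𝒜), (u i).app A ≫ (v j).app A = if i = j then 𝟙 A else 0
  sum_v_u : ∀ A : 𝒜, ∑ i, (v i).app A ≫ (u i).app A = 𝟙 (F.obj A)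

namespace Decomp

variable {F : 𝒜 ⥤ 𝒜} (d : Decomp F)

@[reassoc]
lemma u_v_self (i : Fin d.n) (A : 𝒜) : (d.u i).app A ≫ (d.v i).app A = 𝟙 A := by
  rw [d.u_v, if_pos rfl]

@[reassoc]
lemma u_v' (i j : Fin d.n) (A : 𝒜) (h : i ≠ j) : (d.u i).app A ≫ (d.v j).app A = 0 := by
  rw [d.u_v, if_neg h]

@[reassoc]
lemma u_nat (i : Fin d.n) {A B : 𝒜} (f : A ⟶ B) :
    f ≫ (d.u i).app B = (d.u i).app A ≫ F.map f :=
  (d.u i).naturality f

@[reassoc]
lemma v_nat (i : Fin d.n) {A B : 𝒜} (f : A ⟶ B) :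
    F.map f ≫ (d.v i).app B = (d.v i).app A ≫ f :=
  (d.v i).naturality f

/-- the unit of the self-adjunction -/
noncomputable def unit : 𝟭 𝒜 ⟶ F ⋙ F where
  app A := ∑ i, (d.u i).app A ≫ (d.u i).app (F.obj A)
  naturality A B f := by
    dsimp
    rw [Preadditive.comp_sum, Preadditive.sum_comp]
    refine Finset.sum_congr rfl (fun i _ => ?_)
    rw [d.u_nat_assoc, d.u_nat, Category.assoc]

/-- the counit of the self-adjunction -/
noncomputable def counit : F ⋙ F ⟶ 𝟭 𝒜 where
  app A := ∑ i, (d.v i).app (F.obj A) ≫ (d.v i).app A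
  naturality A B f := by
    dsimp
    rw [Preadditive.comp_sum, Preadditive.sum_comp]
    refine Finset.sum_congr rfl (fun i _ => ?_)
    rw [d.v_nat_assoc, d.v_nat, Category.assoc]

variable [F.Additive]

/-- `F ≅ 𝟭ⁿ` is self-adjoint. -/
noncomputable def adj : F ⊣ F :=
  Adjunction.mkOfUnitCounit
    { unit := d.unit
      counit := d.counit
      left_triangle := by
        ext A
        dsimp [unit, counit]
        rw [Category.id_comp, Functor.map_sum, Preadditive.sum_comp]
        rw [← d.sum_v_u A]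
        refine Finset.sum_congr rfl (fun i _ => ?_)
        rw [Preadditive.comp_sum, Finset.sum_eq_single i]
        · rw [d.v_nat_assoc, Category.assoc, d.u_v_self, Category.comp_id]
        · intro j _ hji
          rw [d.v_nat_assoc, Category.assoc, d.u_v' i j _ (Ne.symm hji), comp_zero, comp_zero]
        · intro h
          exact absurd (Finset.mem_univ i) h
      right_triangle := by
        ext A
        dsimp [unit, counit]
        rw [Category.id_comp, Functor.map_sum, Preadditive.comp_sum]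
        rw [← d.sum_v_u A]
        refine Finset.sum_congr rfl (fun j _ => ?_)
        rw [Preadditive.sum_comp, Finset.sum_eq_single j]
        · simp only [Category.assoc]
          rw [← d.u_nat, Category.assoc, d.u_v_self_assoc]
        · intro i _ hij
          simp only [Category.assoc]
          rw [← d.u_nat, Category.assoc, d.u_v'_assoc i j _ hij, zero_comp]
        · intro h
          exact absurd (Finset.mem_univ j) h }

lemma adj_unit_app (A : 𝒜) :
    d.adj.unit.app A = ∑ i, (d.u i).app A ≫ (d.u i).app (F.obj A) := rfl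

end Decomp

section Transpose

variable {F F' F'' : 𝒜 ⥤ 𝒜} (d : Decomp F) (d' : Decomp F') (d'' : Decomp F'')

/-- the transpose `F' ⟶ F` of a natural transformation `δ : F ⟶ F'` -/
noncomputable def trN (δ : F ⟶ F') : F' ⟶ F :=
  ∑ i, ∑ j, d'.v j ≫ (d.u i ≫ δ ≫ d'.v j) ≫ d.u i

lemma trN_app (δ : F ⟶ F') (B : 𝒜) :
    (trN d d' δ).app B = ∑ i, ∑ j, (d'.v j).app B ≫
      ((d.u i).app B ≫ δ.app B ≫ (d'.v j).app B) ≫ (d.u i).app B := by
  unfold trN
  rw [NatTrans.app_sum]
  refine Finset.sum_congr rfl (fun i _ => ?_)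
  rw [NatTrans.app_sum]
  rfl

lemma trN_zero : trN d d' (0 : F ⟶ F') = 0 := by
  unfold trN
  simp

variable [F.Additive] [F'.Additive] [F''.Additive]

/-- the mate identity -/
lemma unit_trN (δ : F ⟶ F') (A : 𝒜) :
    d'.adj.unit.app A ≫ (trN d d' δ).app (F'.obj A) = d.adj.unit.app A ≫ F.map (δ.app A) := by
  have hL : d.adj.unit.app A ≫ F.map (δ.app A) =
      ∑ i, (d.u i).app A ≫ δ.app A ≫ (d.u i).app (F'.obj A) := by
    rw [Decomp.adj_unit_app, Preadditive.sum_comp]
    refine Finset.sum_congr rfl (fun i _ => ?_)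
    rw [Category.assoc, ← d.u_nat]
  rw [hL, Decomp.adj_unit_app, trN_app, Preadditive.sum_comp]
  simp only [Preadditive.comp_sum]
  rw [Finset.sum_comm]
  refine Finset.sum_congr rfl (fun i _ => ?_)
  have h1 : ∀ k : Fin d'.n, ∑ j, ((d'.u k).app A ≫ (d'.u k).app (F'.obj A)) ≫
      (d'.v j).app (F'.obj A) ≫ ((d.u i).app (F'.obj A) ≫ δ.app (F'.obj A) ≫
        (d'.v j).app (F'.obj A)) ≫ (d.u i).app (F'.obj A) =
      ((d.u i).app A ≫ δ.app A) ≫ ((d'.v k).app A ≫ (d'.u k).app A) ≫
        (d.u i).app (F'.obj A) := by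
    intro k
    rw [Finset.sum_eq_single k]
    · simp only [Category.assoc]
      rw [d'.u_v_self_assoc, d.u_nat_assoc, δ.naturality_assoc, d'.v_nat_assoc]
      rfl
    · intro j _ hjk
      simp only [Category.assoc]
      rw [d'.u_v'_assoc k j _ (Ne.symm hjk), zero_comp, comp_zero]
    · intro h
      exact absurd (Finset.mem_univ k) h
  rw [Finset.sum_congr rfl (fun k _ => h1 k), ← Preadditive.comp_sum, ← Preadditive.sum_comp,
    d'.sum_v_u, Category.id_comp, Category.assoc]

lemma trN_eq_conjugateEquiv (δ : F ⟶ F') :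
    trN d d' δ = conjugateEquiv d'.adj d.adj δ := by
  rw [← Equiv.symm_apply_eq]
  ext A
  apply (d.adj.homEquiv _ _).injective
  rw [Adjunction.homEquiv_unit, Adjunction.homEquiv_unit,
    ← unit_conjugateEquiv_symm d'.adj d.adj (trN d d' δ) A, unit_trN]

lemma trN_comp (δ : F ⟶ F') (δ' : F' ⟶ F'') :
    trN d' d'' δ' ≫ trN d d' δ = trN d d'' (δ ≫ δ') := by
  rw [trN_eq_conjugateEquiv, trN_eq_conjugateEquiv, trN_eq_conjugateEquiv, conjugateEquiv_comp]

end Transpose

end Groth.Agent.Lib.Helper25.DualCx3
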