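import Mathlib
import Groth.Agent.Lib.Helper25.DualCx2
import Groth.Agent.Lib.Helper25.DualCx3

/-!
# The dual of a bounded complex of based (finite free) objects (helper25)

`T : 𝒜 ⥤ 𝒜 ⥤ 𝒜` an additive bifunctor on a preadditive category with a unit object `O`, a right unitor
`ρ : T(-, O) ≅ 𝟭` and a left unitor `lam : T(O, -) ≅ 𝟭`.

* `Based O P`: a finite basis of `P` (`P ≅ Oⁿ`): `e i : O ⟶ P`, `p i : P ⟶ O`;
* `Based.decomp`: the decomposition `T(-, P) ≅ 𝟭ⁿ`; `tr b b' φ : P' ⟶ P` the transpose of `φ : P ⟶ P'`;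
* `dualCx E b`: the dual complex of a complex `E` of based objects (`Dʳ = E⁻ʳ`, signed transposed differentials);
* `dualData`: `DualCx2.DualData T E (dualCx E b)`, hence `DualCx2.adjCx : - ⊗ E ⊣ - ⊗ dualCx E b`.
-/

set_option autoImplicit false
open CategoryTheory Limits HomologicalComplex

namespace Groth.Agent.Lib.Helper25.DualCx4

open Groth.Agent.Lib.Helper25.DualCx2 Groth.Agent.Lib.Helper25.DualCx3

variable {𝒜 : Type*} [Category 𝒜] [Preadditive 𝒜]

/-- a finite basis of an object `P` relative to a "unit" object `O` -/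
structure Based (O P : 𝒜) where
  /-- the rank -/
  n : ℕ
  /-- the basis vectors -/
  e : Fin n → (O ⟶ P)
  /-- the coordinates -/
  p : Fin n → (P ⟶ O)
  e_p : ∀ i j : Fin n, e i ≫ p j = if i = j then 𝟙 O else 0
  sum_p_e : ∑ i, p i ≫ e i = 𝟙 P

variable (T : 𝒜 ⥤ 𝒜 ⥤ 𝒜) [T.Additive] [∀ A, (T.obj A).Additive]
  {O : 𝒜} (ρ : T.flip.obj O ≅ 𝟭 𝒜)

instance flipAdditive : T.flip.Additive := { }

section

variable {P P' P'' : 𝒜} (b : Based O P) (b' : Based O P') (b'' : Based O P'')

/-- the decomposition `T(-, P) ≅ 𝟭ⁿ` induced by a basis of `P` -/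
noncomputable def Based.decomp : Decomp (T.flip.obj P) where
  n := b.n
  u i := ρ.inv ≫ T.flip.map (b.e i)
  v i := T.flip.map (b.p i) ≫ ρ.hom
  u_v i j A := by
    dsimp
    rw [Category.assoc, ← (T.obj A).map_comp_assoc, b.e_p]
    split_ifs
    · rw [CategoryTheory.Functor.map_id, Category.id_comp]
      exact ρ.inv_hom_id_app A
    · rw [Functor.map_zero, zero_comp, comp_zero]
  sum_v_u A := by
    dsimp
    have h : ∀ i : Fin b.n, ((T.obj A).map (b.p i) ≫ ρ.hom.app A) ≫
        ρ.inv.app A ≫ (T.obj A).map (b.e i) = (T.obj A).map (b.p i ≫ b.e i) := by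
      intro i
      rw [Category.assoc, ← Category.assoc (ρ.hom.app A)]
      erw [ρ.hom_inv_id_app A]
      rw [Category.id_comp, Functor.map_comp]
    rw [Finset.sum_congr rfl (fun i _ => h i), ← Functor.map_sum, b.sum_p_e,
      CategoryTheory.Functor.map_id]

/-- the transpose `P' ⟶ P` of `φ : P ⟶ P'` -/
noncomputable def tr (φ : P ⟶ P') : P' ⟶ P :=
  ∑ i, ∑ j, b'.p j ≫ (b.e i ≫ φ ≫ b'.p j) ≫ b.e i

lemma tr_zero : tr b b' (0 : P ⟶ P') = 0 := by
  unfold tr
  simp

lemma flip_map_tr (φ : P ⟶ P') :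
    T.flip.map (tr b b' φ) = trN (b.decomp T ρ) (b'.decomp T ρ) (T.flip.map φ) := by
  ext A
  rw [trN_app]
  unfold tr
  dsimp [Based.decomp]
  rw [Functor.map_sum]
  refine Finset.sum_congr rfl (fun i _ => ?_)
  rw [Functor.map_sum]
  refine Finset.sum_congr rfl (fun j _ => ?_)
  simp only [Functor.map_comp, Category.assoc]
  congr 1
  erw [ρ.hom_inv_id_app_assoc A]
  congr 3
  erw [ρ.hom_inv_id_app_assoc A]

variable (lam : T.obj O ≅ 𝟭 𝒜)

include lam in
lemma eq_zero_of_flip_map {Q Q' : 𝒜} (x : Q ⟶ Q') (h : T.flip.map x = 0) : x = 0 := by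
  have h1 : (T.obj O).map x = 0 := by
    have := congrArg (fun t => t.app O) h
    simpa using this
  have h2 := lam.hom.naturality x
  rw [h1, zero_comp] at h2
  have h3 : lam.inv.app Q ≫ lam.hom.app Q ≫ x = 0 := by
    erw [← h2]
    rw [comp_zero]
  rw [← Category.assoc] at h3
  erw [lam.inv_hom_id_app Q, Category.id_comp] at h3
  exact h3

include ρ lam in
lemma tr_comp_eq_zero (φ : P ⟶ P') (φ' : P' ⟶ P'') (h : φ ≫ φ' = 0) :
    tr b' b'' φ' ≫ tr b b' φ = 0 := by
  apply eq_zero_of_flip_map T lam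
  rw [Functor.map_comp, flip_map_tr T ρ, flip_map_tr T ρ, trN_comp, ← Functor.map_comp, h,
    Functor.map_zero, trN_zero]

end

section Complex

variable (lam : T.obj O ≅ 𝟭 𝒜) (E : CochainComplex 𝒜 ℤ) (b : ∀ q : ℤ, Based O (E.X q))

/-- the dual of a complex of based objects -/
noncomputable def dualCx : CochainComplex 𝒜 ℤ where
  X r := E.X (-r)
  d r r' := r'.negOnePow • tr (b (-r')) (b (-r)) (E.d (-r') (-r))
  shape r r' h := by
    rw [E.shape, tr_zero, smul_zero]
    intro h'
    apply h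
    have h1 : -r' + 1 = -r := h'
    change r + 1 = r'
    omega
  d_comp_d' r r' r'' _ _ := by
    rw [Linear.units_smul_comp, Linear.comp_units_smul,
      tr_comp_eq_zero T ρ (b (-r'')) (b (-r')) (b (-r)) lam _ _ (E.d_comp_d _ _ _), smul_zero,
      smul_zero]

lemma dualCx_d (r r' : ℤ) :
    (dualCx T ρ lam E b).d r r' = r'.negOnePow • tr (b (-r')) (b (-r)) (E.d (-r') (-r)) := rfl

/-- transport of an adjunction along an equality of objects -/
noncomputable def adjOfEq {P P' : 𝒜} (h : P = P') (a : T.flip.obj P ⊣ T.flip.obj P) :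
    T.flip.obj P ⊣ T.flip.obj P' := by
  subst h
  exact a

lemma adjOfEq_self {P : 𝒜} (h : P = P) (a : T.flip.obj P ⊣ T.flip.obj P) :
    adjOfEq T h a = a := rfl

/-- the termwise adjunctions -/
noncomputable def dualAdj (q r : ℤ) (h : q + r = 0) :
    T.flip.obj (E.X q) ⊣ T.flip.obj ((dualCx T ρ lam E b).X r) :=
  adjOfEq T (show E.X q = E.X (-r) by
    have : q = -r := by omega
    rw [this]) ((b q).decomp T ρ).adj

lemma dualAdj_self (r : ℤ) (h : -r + r = 0) :
    dualAdj T ρ lam E b (-r) r h = ((b (-r)).decomp T ρ).adj := rfl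

/-- **the duality data between a bounded complex of based objects and its dual** -/
noncomputable def dualData (s₀ : Finset ℤ) (hs₀ : ∀ q : ℤ, q ∉ s₀ → IsZero (E.X q)) :
    DualData T E (dualCx T ρ lam E b) where
  adj q r h := dualAdj T ρ lam E b q r h
  s := s₀.image (fun q => -q)
  hs r hr := by
    apply hs₀
    intro h
    apply hr
    rw [Finset.mem_image]
    exact ⟨-r, h, neg_neg r⟩
  mate q r q' r' h h' hq A := by
    obtain rfl : q = -r := by omega
    obtain rfl : q' = -r' := by omega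
    have hmap : ∀ (X : 𝒜) {Q Q' : 𝒜} (u : ℤˣ) (t : Q ⟶ Q'),
        (T.obj X).map (u • t) = u • (T.obj X).map t := by
      intro X Q Q' u t
      rw [Units.smul_def, Units.smul_def, Functor.map_zsmul]
    change ((b (-r)).decomp T ρ).adj.unit.app A ≫
        (T.map ((T.obj A).map (E.d (-r) (-r')))).app (E.X (-r)) =
      r.negOnePow • (((b (-r')).decomp T ρ).adj.unit.app A ≫
        (T.obj ((T.obj A).obj (E.X (-r')))).map
          (r.negOnePow • tr (b (-r)) (b (-r')) (E.d (-r) (-r'))))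
    rw [hmap, Linear.comp_units_smul, smul_smul, Int.units_mul_self, one_smul]
    have h1 := unit_trN ((b (-r)).decomp T ρ) ((b (-r')).decomp T ρ)
      (T.flip.map (E.d (-r) (-r'))) A
    rw [← flip_map_tr] at h1
    exact h1.symm

end Complex

end Groth.Agent.Lib.Helper25.DualCx4
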