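import Groth.Agent.Lib.Helper25.ResTensorNat
import Groth.Agent.Lib.Helper25.DCohRestrict
import Groth.Agent.Lib.Helper13.RestrKFlat2

/-!
# Restriction to an open commutes with the derived tensor product (helper25)

* `hasLTensorCx E : DCoh.HasLTensorCx E` for every complex `E` on a scheme (K-flat resolutions).
* `isKFlat_res j K hK`: restriction along ANY open immersion preserves K-flat complexes.
* `restrictLTensorIso j K hK : restrictD j ⋙ LTensorCx (K|_U) ≅ LTensorCx K ⋙ restrictD j` for K-flat `K`.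
-/

set_option autoImplicit false
universe u
open CategoryTheory CategoryTheory.Limits AlgebraicGeometry HomologicalComplex

attribute [local instance] HasDerivedCategory.standard

namespace Groth.Agent.Lib.Helper25.LTensorRestrict

open Groth.Agent.Lib.helper13.RestrKFlat Groth.Agent.Lib.Helper25.LTensorComp Scheme.Modules
  Groth.Agent.Lib.Helper25.LDerAdapted Groth.Agent.Lib.Helper25.KFlatTri
  Groth.Agent.Lib.Helper25.LTensorDCoh Groth.Agent.Lib.Helper25.ResTensorNat DerivedCategory

variable {X U : Scheme.{u}}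

/-- **the derived tensor product with any complex exists** -/
theorem hasLTensorCx (E : CochainComplex X.Modules ℤ) : DCoh.HasLTensorCx E :=
  hasLeftDerivedFunctor_Q (fun E => DCoh.IsKFlat E) hzero
    (fun E n h => dcoh_isKFlat_shift E n h) (fun f h h' => dcoh_isKFlat_mappingCone f h h')
    hres₀ (DCoh.tensorCxQ E) (hF E) (fun f hE hE' hf => hF₀ E f hE hE' hf)

lemma isKFlat_of_iso {K K' : CochainComplex X.Modules ℤ} (e : K ≅ K') (hK : DCoh.IsKFlat K) :
    DCoh.IsKFlat K' := by
  intro A hA i
  exact (hK A hA i).of_iso ((HomologicalComplex.homologyFunctor _ _ i).mapIso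
    (((DCoh.tensorCx (X := X)).obj A).mapIso e).symm)

/-- `(𝟙)^* A ≅ A` for complexes -/
noncomputable def resCxIdIso (A : CochainComplex X.Modules ℤ) : (resCx (𝟙 X)).obj A ≅ A :=
  HomologicalComplex.Hom.isoOfComponents (fun i => restrictFunctorId.app (A.X i))
    (fun i j _ => (restrictFunctorId.hom.naturality (A.d i j)).symm)

open Groth.Agent.Lib.helper25.DCohRestrict (resCxCompIso resCxCongrIso) in
/-- restriction along an isomorphism preserves K-flat complexes -/
theorem isKFlat_res_of_isIso (j : U ⟶ X) [IsIso j] (K : CochainComplex X.Modules ℤ)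
    (hK : DCoh.IsKFlat K) : DCoh.IsKFlat ((resCx j).obj K) := by
  intro A hA i
  let A' := (resCx (inv j)).obj A
  have hA' : ∀ i, IsZero (A'.homology i) := fun i =>
    isZero_homology_map (restrictFunctor (inv j)) A i (hA i)
  have h2 := hK A' hA'
  have h3 : IsZero (((resCx j).obj (((DCoh.tensorCx (X := X)).obj A').obj K)).homology i) :=
    isZero_homology_map (restrictFunctor j) _ i (h2 i)
  let e1 := resTensorCxIso j A' K
  let e2 : (resCx j).obj A' ≅ A :=
    (resCxCompIso j (inv j) A).symm ≪≫ resCxCongrIso (show j ≫ inv j = 𝟙 U by simp) A ≪≫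
      resCxIdIso A
  let e3 := ((DCoh.tensorCx (X := U)).mapIso e2).app ((resCx j).obj K)
  exact h3.of_iso ((HomologicalComplex.homologyFunctor _ _ i).mapIso (e1 ≪≫ e3).symm)

open Groth.Agent.Lib.helper25.DCohRestrict (resCxCompIso resCxCongrIso) in
/-- **restriction along an open immersion preserves K-flat complexes** -/
theorem isKFlat_res (j : U ⟶ X) [IsOpenImmersion j] (K : CochainComplex X.Modules ℤ)
    (hK : DCoh.IsKFlat K) : DCoh.IsKFlat ((resCx j).obj K) := by
  have h1 := dcoh_isKFlat_restrict j.opensRange K hK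
  have h2 := isKFlat_res_of_isIso j.isoOpensRange.hom _ h1
  exact isKFlat_of_iso ((resCxCompIso j.isoOpensRange.hom j.opensRange.ι K).symm ≪≫
    resCxCongrIso j.isoOpensRange_hom_ι K) h2

section Iso

variable (j : U ⟶ X) [IsOpenImmersion j] (K : CochainComplex X.Modules ℤ) (hK : DCoh.IsKFlat K)
  [DCoh.HasLTensorCx K] [DCoh.HasLTensorCx ((resCx j).obj K)]

include hK in
/-- the isomorphism on complexes: `Q ⋙ (restrictD j ⋙ LTensorCx (K|_U)) ≅ Q ⋙ (LTensorCx K ⋙ restrictD j)` -/
noncomputable def restrictLTensorIsoQ :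
    Q ⋙ (DCoh.restrictD j ⋙ DCoh.LTensorCx ((resCx j).obj K)) ≅
      Q ⋙ (DCoh.LTensorCx K ⋙ DCoh.restrictD j) :=
  haveI := isIso_ε_of_isKFlat K hK
  haveI := isIso_ε_of_isKFlat _ (isKFlat_res j K hK)
  (Functor.associator _ _ _).symm ≪≫
    Functor.isoWhiskerRight ((restrictFunctor j).mapDerivedCategoryFactors) _ ≪≫
    Functor.associator _ _ _ ≪≫
    Functor.isoWhiskerLeft (resCx j) (asIso (ε ((resCx j).obj K))) ≪≫
    (Functor.associator _ _ _).symm ≪≫
    Functor.isoWhiskerRight (resTensorNatIso j K).symm Q ≪≫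
    Functor.associator _ _ _ ≪≫
    Functor.isoWhiskerLeft (tR K) ((restrictFunctor j).mapDerivedCategoryFactors).symm ≪≫
    (Functor.associator _ _ _).symm ≪≫
    Functor.isoWhiskerRight (asIso (ε K)).symm (DCoh.restrictD j) ≪≫
    Functor.associator _ _ _

include hK in
/-- **`(N ⊗^L K)|_U ≅ N|_U ⊗^L K|_U`**, naturally in `N` (for K-flat `K`) -/
noncomputable def restrictLTensorIso :
    DCoh.restrictD j ⋙ DCoh.LTensorCx ((resCx j).obj K) ≅ DCoh.LTensorCx K ⋙ DCoh.restrictD j :=
  Localization.liftNatIso Q (HomologicalComplex.quasiIso X.Modules (ComplexShape.up ℤ))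
    (Q ⋙ (DCoh.restrictD j ⋙ DCoh.LTensorCx ((resCx j).obj K)))
    (Q ⋙ (DCoh.LTensorCx K ⋙ DCoh.restrictD j)) _ _ (restrictLTensorIsoQ j K hK)

end Iso

end Groth.Agent.Lib.Helper25.LTensorRestrict
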