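import Mathlib
import Groth.Agent.Lib.Helper25.DualCx4
import Groth.Agent.Lib.Helper25.LTensorComp
import Groth.Agent.Lib.Helper25.LTensorRestrict
import Groth.Agent.Lib.Helper25.TensorUnit
import Groth.Agent.Lib.Helper25.TensorRightQisAll
import Groth.Agent.Lib.Helper25.FlatClass
import Groth.Agent.Lib.Helper16.FLF4

/-!
# The dual of a bounded complex of finite free `O_X`-modules; `- ⊗^L E ⊣ - ⊗^L E^∨` (helper25)

* `ρ`, `lam`: the unitors of `DCoh.tensorBi`; `basedFree X n : Based O_X (freeMod X n)`, `Based.ofIso`;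
* `dual E b`: the dual complex of a complex `E` with bases `b q : Based O_X (E.X q)`;
* `adjCx E b s hs : tR E ⊣ tR (dual E b)` on complexes;
* `isKFlat_of_based`, `isKFlat_dual`;
* `adjD E b s hs : LTensorCx E ⊣ LTensorCx (dual E b)` on `D(O_X)`.
-/

set_option autoImplicit false
universe u
open CategoryTheory Limits AlgebraicGeometry HomologicalComplex

attribute [local instance] HasDerivedCategory.standard

namespace Groth.Agent.Lib.Helper25.DualCx5

open DCoh Groth.Agent.Lib.Helper25.DualCx2 Groth.Agent.Lib.Helper25.DualCx4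
  Groth.Agent.Lib.Helper25.LTensorComp

variable {X : Scheme.{u}}

/-- the right unitor of `DCoh.tensorBi` -/
noncomputable def ρ : (DCoh.tensorBi (X := X)).flip.obj (Coh.structureModule X) ≅ 𝟭 X.Modules :=
  (NatIso.ofComponents (fun _ => Iso.refl _) (by
      intro A B g
      change _ ≫ 𝟙 _ = 𝟙 _ ≫ _
      rw [Category.comp_id]
      exact (Category.id_comp _).symm) :
    (DCoh.tensorBi (X := X)).flip.obj (Coh.structureModule X) ≅
      DCoh.tensorRightMod (Coh.structureModule X)) ≪≫
    Groth.Agent.Lib.Helper25.TensorUnit.tensorRightUnitIso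

/-- the left unitor of `DCoh.tensorBi` -/
noncomputable def lam : (DCoh.tensorBi (X := X)).obj (Coh.structureModule X) ≅ 𝟭 X.Modules :=
  Groth.Agent.Lib.Helper25.TensorRightQisAll.tensorRightModIso (Coh.structureModule X) ≪≫
    Groth.Agent.Lib.Helper25.TensorUnit.tensorRightUnitIso

/-- the standard basis of `O_Xⁿ` -/
noncomputable def basedFree (X : Scheme.{u}) (n : ℕ) :
    Based (Coh.structureModule X) (FlatMod.freeMod X n) where
  n := n
  e i := Sigma.ι (fun _ : Fin n => Coh.structureModule X) i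
  p i := Sigma.desc (fun j : Fin n => if j = i then 𝟙 (Coh.structureModule X) else 0)
  e_p i j := by
    rw [Sigma.ι_desc]
  sum_p_e := by
    apply Sigma.hom_ext
    intro k
    rw [Preadditive.comp_sum, Category.comp_id, Finset.sum_eq_single k]
    · rw [← Category.assoc, Sigma.ι_desc, if_pos rfl, Category.id_comp]
    · intro i _ hik
      rw [← Category.assoc, Sigma.ι_desc, if_neg (Ne.symm hik), zero_comp]
    · intro h
      exact absurd (Finset.mem_univ k) h

/-- transport of a basis along an isomorphism -/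
noncomputable def basedOfIso {𝒜 : Type*} [Category 𝒜] [Preadditive 𝒜] {O P P' : 𝒜}
    (b : Based O P) (θ : P ≅ P') : Based O P' where
  n := b.n
  e i := b.e i ≫ θ.hom
  p i := θ.inv ≫ b.p i
  e_p i j := by
    rw [Category.assoc, θ.hom_inv_id_assoc, b.e_p]
  sum_p_e := by
    have h : ∀ i : Fin b.n, (θ.inv ≫ b.p i) ≫ b.e i ≫ θ.hom = θ.inv ≫ (b.p i ≫ b.e i) ≫ θ.hom := by
      intro i
      simp only [Category.assoc]
    rw [Finset.sum_congr rfl (fun i _ => h i), ← Preadditive.comp_sum, ← Preadditive.sum_comp,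
      b.sum_p_e, Category.id_comp, θ.inv_hom_id]

variable (E : CochainComplex X.Modules ℤ) (b : ∀ q : ℤ, Based (Coh.structureModule X) (E.X q))

/-- the dual complex -/
noncomputable def dual : CochainComplex X.Modules ℤ :=
  dualCx (DCoh.tensorBi (X := X)) ρ lam E b

lemma dual_X (r : ℤ) : (dual E b).X r = E.X (-r) := rfl

/-- the chain-level adjunction `- ⊗ E ⊣ - ⊗ E^∨` -/
noncomputable def adjCx (s : Finset ℤ) (hs : ∀ q : ℤ, q ∉ s → IsZero (E.X q)) :
    tR E ⊣ tR (dual E b) :=
  DualCx2.adjCx (dualData (DCoh.tensorBi (X := X)) ρ lam E b s hs)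

/-- an object with a finite basis is flat -/
lemma isFlat_of_based {P : X.Modules} (bP : Based (Coh.structureModule X) P) :
    FlatMod.IsFlat P := by
  -- `P ≅ O_Xⁿ`
  let f : FlatMod.freeMod X bP.n ⟶ P := Sigma.desc (fun i => bP.e i)
  let g : P ⟶ FlatMod.freeMod X bP.n :=
    ∑ i, bP.p i ≫ Sigma.ι (fun _ : Fin bP.n => Coh.structureModule X) i
  have hgf : g ≫ f = 𝟙 P := by
    rw [Preadditive.sum_comp, ← bP.sum_p_e]
    refine Finset.sum_congr rfl (fun i _ => ?_)
    rw [Category.assoc, Sigma.ι_desc]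
  have hfg : f ≫ g = 𝟙 _ := by
    apply Sigma.hom_ext
    intro k
    rw [← Category.assoc, Sigma.ι_desc, Category.comp_id, Preadditive.comp_sum,
      Finset.sum_eq_single k]
    · rw [← Category.assoc, bP.e_p, if_pos rfl, Category.id_comp]
    · intro i _ hik
      rw [← Category.assoc, bP.e_p, if_neg (Ne.symm hik), zero_comp]
    · intro h
      exact absurd (Finset.mem_univ k) h
  exact Groth.Agent.Lib.helper25.FlatClass.isFlat_of_iso (⟨f, g, hfg, hgf⟩ : _ ≅ P)
    (Groth.Agent.Lib.helper16.FLF.isFlat_of_isFinLocFree _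
      (Groth.Agent.Lib.helper16.FLF.isFinLocFree_freeMod X bP.n))

include b in
lemma isKFlat_of_based (c : ℤ) (hc : ∀ q, c < q → IsZero (E.X q)) : DCoh.IsKFlat E :=
  Groth.Agent.Lib.helper13.KFlat.dcoh_isKFlat_of_bounded_above E c hc
    (fun n => isFlat_of_based (b n))

lemma isKFlat_dual (a : ℤ) (ha : ∀ q, q < a → IsZero (E.X q)) : DCoh.IsKFlat (dual E b) :=
  Groth.Agent.Lib.helper13.KFlat.dcoh_isKFlat_of_bounded_above (dual E b) (-a)
    (fun r hr => ha (-r) (by omega)) (fun n => isFlat_of_based (b (-n)))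

attribute [local instance] Groth.Agent.Lib.Helper25.LTensorRestrict.hasLTensorCx

/-- **`- ⊗^L E ⊣ - ⊗^L E^∨` on `D(O_X)`** for a bounded complex `E` of finite free modules (with bases). -/
noncomputable def adjD (a c : ℤ) (ha : ∀ q, q < a → IsZero (E.X q)) (hc : ∀ q, c < q → IsZero (E.X q)) :
    DCoh.LTensorCx E ⊣ DCoh.LTensorCx (dual E b) := by
  haveI h1 : IsIso (ε E) := isIso_ε_of_isKFlat E (isKFlat_of_based E b c hc)
  haveI h2 : IsIso (ε (dual E b)) := isIso_ε_of_isKFlat (dual E b) (isKFlat_dual E b a ha)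
  letI : CatCommSq (tR E) DerivedCategory.Q DerivedCategory.Q (DCoh.LTensorCx E) :=
    ⟨(asIso (ε E)).symm⟩
  letI : CatCommSq (tR (dual E b)) DerivedCategory.Q DerivedCategory.Q
      (DCoh.LTensorCx (dual E b)) := ⟨(asIso (ε (dual E b))).symm⟩
  have hs : ∀ q : ℤ, q ∉ Finset.Icc a c → IsZero (E.X q) := by
    intro q hq
    rw [Finset.mem_Icc, not_and_or, not_le, not_le] at hq
    rcases hq with hq | hq
    · exact ha q hq
    · exact hc q hq
  exact (adjCx E b (Finset.Icc a c) hs).localization DerivedCategory.Q (W X) DerivedCategory.Q (W X)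
    (DCoh.LTensorCx E) (DCoh.LTensorCx (dual E b))

end Groth.Agent.Lib.Helper25.DualCx5
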