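import Groth.Agent.Lib.Helper25.SiteLTensor2
import Groth.Agent.Lib.Helper25.LTensorComp

/-!
# `- ⊗^L P ≅ - ⊗^L E` for a quasi-isomorphism `P ⟶ E` of complexes of `O_X`-modules (helper25)

Scheme version of `SiteLTensor2.LTensorCxIsoOfQuasiIso`.
-/

set_option autoImplicit false
universe u
open CategoryTheory Limits HomologicalComplex AlgebraicGeometry

attribute [local instance] HasDerivedCategory.standard

namespace Groth.Agent.Lib.Helper25.LTensorQis

open Groth.Agent.Lib.Helper25.LTensorComp Groth.Agent.Lib.Helper25.LTensorDCoh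

variable {X : Scheme.{u}} {P E : CochainComplex X.Modules ℤ} (φ : P ⟶ E) [QuasiIso φ]
  [DCoh.HasLTensorCx P] [DCoh.HasLTensorCx E]

/-- the comparison transformation induced by `φ : P ⟶ E` -/
noncomputable def βφ : DerivedCategory.Q ⋙ DCoh.LTensorCx P ⟶ DCoh.tensorCxQ E :=
  ε P ≫ Functor.whiskerRight ((DCoh.tensorCx (X := X)).flip.map φ) DerivedCategory.Q

omit [QuasiIso φ] [DCoh.HasLTensorCx E] in
lemma βφ_app (F : CochainComplex X.Modules ℤ) :
    (βφ φ).app F = (ε P).app F ≫ DerivedCategory.Q.map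
      (mapBifunctorMap (𝟙 F) φ (DCoh.tensorBi (X := X)) (ComplexShape.up ℤ)) := rfl

/-- **`- ⊗^L P ≅ - ⊗^L E` for a quasi-isomorphism `P ⟶ E`.** -/
noncomputable def LTensorCxIsoOfQuasiIso : DCoh.LTensorCx P ≅ DCoh.LTensorCx E :=
  isoOfAdapted DerivedCategory.Q (W X) (DCoh.tensorCxQ E) (DCoh.LTensorCx E) (ε E)
    (DCoh.LTensorCx P) (βφ φ) (fun F => DCoh.IsKFlat F)
    (fun Z => by
      obtain ⟨E', f, hE', hf⟩ := hres₀ Z
      exact ⟨E', f, hE', (HomologicalComplex.mem_quasiIso_iff f).2 hf⟩)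
    (fun F hF => isIso_ε_app E F hF)
    (fun F hF => by
      rw [βφ_app]
      have h1 := isIso_ε_app P F hF
      have h2 : IsIso (DerivedCategory.Q.map
          (mapBifunctorMap (𝟙 F) φ (DCoh.tensorBi (X := X)) (ComplexShape.up ℤ))) := by
        rw [DerivedCategory.isIso_Q_map_iff_quasiIso]
        exact @Groth.Agent.Lib.Helper25.SiteLTensor2.quasiIso_tensorLeft_of_isKFlat _ _ _
          X.sheaf F hF P E φ ‹QuasiIso φ›
      exact @IsIso.comp_isIso _ _ _ _ _ _ _ h1 h2)

end Groth.Agent.Lib.Helper25.LTensorQis
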