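import Mathlib
import Groth.Agent.Lib.Helper25.DualCx5
import Groth.Agent.Lib.Helper25.DCohPerfect
import Groth.Agent.Lib.Helper25.RestrictDNat
import Groth.Agent.Lib.Helper25.LTensorQis
import Groth.Agent.Lib.Helper16.FLF2

/-!
# Bounded complexes of finite free modules; objects of `D(O_X)` represented by them (helper25)

* `IsFreeCx F`: `F` is a bounded complex whose terms are isomorphic to `O_Xⁿ`'s; `isFreeCx_res`,
  `isStrictlyPerfect_of_isFreeCx`, `isKFlat_of_isFreeCx`.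
* `SPD P`: `P ≅ Q F` with `IsFreeCx F`; `spd_of_iso`, `spd_restrictD`, `spd_of_range_subset`.
* `exists_spd_of_isPerfect`: a perfect object is `SPD` on a neighbourhood basis of affine opens.
* `nonempty_LTensorCx_iso_of_Q_iso`: K-flat complexes isomorphic in `D(O_X)` define isomorphic derived tensor functors.
* `exists_dual`: for `K` K-flat with `SPD (Q K)` and `LTensorCx K ⊣ H`: `H ≅ LTensorCx D` with `IsFreeCx D`.
-/

set_option autoImplicit false
universe u
open CategoryTheory Limits AlgebraicGeometry HomologicalComplex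

attribute [local instance] HasDerivedCategory.standard

namespace Groth.Agent.Lib.Helper25.DualCx6

open DCoh Scheme.Modules Groth.Agent.Lib.helper25.DCohRestrict Groth.Agent.Lib.helper25.DCohPerfect
  Groth.Agent.Lib.Helper25.DualCx4 Groth.Agent.Lib.Helper25.DualCx5

variable {X Y Z : Scheme.{u}}

/-- a bounded complex of finite free modules -/
def IsFreeCx (F : CochainComplex Y.Modules ℤ) : Prop :=
  (∃ a c : ℤ, ∀ q : ℤ, (q < a ∨ c < q) → IsZero (F.X q)) ∧
    ∀ q : ℤ, ∃ n : ℕ, Nonempty (F.X q ≅ FlatMod.freeMod Y n)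

lemma isFreeCx_res (k : Z ⟶ Y) [IsOpenImmersion k] {F : CochainComplex Y.Modules ℤ}
    (hF : IsFreeCx F) : IsFreeCx ((resCx k).obj F) := by
  obtain ⟨⟨a, c, hac⟩, hf⟩ := hF
  refine ⟨⟨a, c, fun q hq => (restrictFunctor k).map_isZero (hac q hq)⟩, fun q => ?_⟩
  obtain ⟨n, ⟨e⟩⟩ := hf q
  exact ⟨n, ⟨(restrictFunctor k).mapIso e ≪≫
    Groth.Agent.Lib.helper16.FLF.restrictFreeModIso k n⟩⟩

lemma isStrictlyPerfect_of_isFreeCx {F : CochainComplex Y.Modules ℤ} (hF : IsFreeCx F) :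
    DCoh.IsStrictlyPerfect F := by
  obtain ⟨⟨a, c, hac⟩, hf⟩ := hF
  refine ⟨⟨a, c, hac⟩, fun q => ?_⟩
  obtain ⟨n, ⟨e⟩⟩ := hf q
  exact Groth.Agent.Lib.helper16.FLF.isFinLocFree_of_iso e.symm
    (Groth.Agent.Lib.helper16.FLF.isFinLocFree_freeMod Y n)

/-- `P` is represented by a bounded complex of finite free modules -/
def SPD (P : DCoh.D Y) : Prop :=
  ∃ F : CochainComplex Y.Modules ℤ, IsFreeCx F ∧ Nonempty (P ≅ DerivedCategory.Q.obj F)

lemma spd_of_iso {P P' : DCoh.D Y} (e : P ≅ P') (h : SPD P) : SPD P' := by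
  obtain ⟨F, hF, ⟨i⟩⟩ := h
  exact ⟨F, hF, ⟨e.symm ≪≫ i⟩⟩

lemma spd_restrictD (k : Z ⟶ Y) [IsOpenImmersion k] {P : DCoh.D Y} (h : SPD P) :
    SPD ((DCoh.restrictD k).obj P) := by
  obtain ⟨F, hF, ⟨i⟩⟩ := h
  exact ⟨(resCx k).obj F, isFreeCx_res k hF, ⟨(DCoh.restrictD k).mapIso i ≪≫ resDQIso k F⟩⟩

/-- `SPD` on the range of an open immersion passes to smaller opens -/
lemma spd_of_range_subset (j : Z ⟶ X) [IsOpenImmersion j] {P : DCoh.D X}
    (h : SPD ((DCoh.restrictD j).obj P)) (W : X.Opens) (hW : (W : Set X) ⊆ Set.range j) :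
    SPD ((DCoh.restrictD W.ι).obj P) := by
  have hr : Set.range W.ι ⊆ Set.range j := by
    rw [Scheme.Opens.range_ι]
    exact hW
  let k := IsOpenImmersion.lift j W.ι hr
  have hk : k ≫ j = W.ι := IsOpenImmersion.lift_fac j W.ι hr
  haveI : IsOpenImmersion (k ≫ j) := by rw [hk]; infer_instance
  haveI : IsOpenImmersion k := IsOpenImmersion.of_comp k j
  obtain ⟨e₁⟩ := nonempty_restrictD_congr_iso hk.symm P
  obtain ⟨e₂⟩ := nonempty_restrictD_comp_iso k j P
  exact spd_of_iso (e₁ ≪≫ e₂).symm (spd_restrictD k h)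

lemma spd_of_le {P : DCoh.D X} {U U' : X.Opens} (hle : U' ≤ U)
    (h : SPD ((DCoh.restrictD U.ι).obj P)) : SPD ((DCoh.restrictD U'.ι).obj P) := by
  refine spd_of_range_subset U.ι h U' ?_
  rw [Scheme.Opens.range_ι]
  exact hle

lemma isZero_freeMod_zero (Y : Scheme.{u}) : IsZero (FlatMod.freeMod Y 0) := by
  rw [IsZero.iff_id_eq_zero]
  apply Sigma.hom_ext
  intro i
  exact i.elim0

/-- **a perfect object is represented by bounded complexes of finite free modules locally** -/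
theorem exists_spd_of_isPerfect {P : DCoh.D X} (hP : DCoh.IsPerfect P) (x : X) :
    ∃ U : X.Opens, x ∈ U ∧ IsAffineOpen U ∧ SPD ((DCoh.restrictD U.ι).obj P) := by
  classical
  obtain ⟨V, hxV, E, ⟨⟨a, c, hac⟩, hfl⟩, ⟨e⟩⟩ := exists_restrictD_iso_of_isPerfect hP x
  let x' : (V : Scheme.{u}) := ⟨x, hxV⟩
  choose U n hxU hiso using fun q : ℤ => hfl q x'
  let U' : (V : Scheme.{u}).Opens := (Finset.Icc a c).inf U
  have hxU' : x' ∈ U' := by
    have h0 : ∀ s : Finset ℤ, x' ∈ s.inf U := by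
      intro s
      induction s using Finset.induction_on with
      | empty => simp
      | insert q s _ ih =>
        rw [Finset.inf_insert]
        exact ⟨hxU q, ih⟩
    exact h0 _
  have hF : IsFreeCx ((resCx U'.ι).obj E) := by
    refine ⟨⟨a, c, fun q hq => (restrictFunctor U'.ι).map_isZero (hac q hq)⟩, fun q => ?_⟩
    by_cases hq : q ∈ Finset.Icc a c
    · obtain ⟨i⟩ := hiso q
      obtain ⟨i'⟩ := Groth.Agent.Lib.helper16.FLF.restrict_iso_freeMod_of_le (E.X q)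
        (Finset.inf_le hq : U' ≤ U q) (n q) i
      exact ⟨n q, ⟨i'⟩⟩
    · refine ⟨0, ⟨IsZero.iso ((restrictFunctor U'.ι).map_isZero (hac q ?_))
        (isZero_freeMod_zero _)⟩⟩
      rw [Finset.mem_Icc, not_and_or, not_le, not_le] at hq
      exact hq
  let j : (U' : Scheme.{u}) ⟶ X := U'.ι ≫ V.ι
  obtain ⟨e₂⟩ := nonempty_restrictD_comp_iso U'.ι V.ι P
  have hj : SPD ((DCoh.restrictD j).obj P) :=
    ⟨_, hF, ⟨e₂ ≪≫ (DCoh.restrictD U'.ι).mapIso e ≪≫ resDQIso U'.ι E⟩⟩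
  have hxj : x ∈ j.opensRange := ⟨⟨x', hxU'⟩, rfl⟩
  obtain ⟨W, hW, hxW, hWj⟩ := TopologicalSpace.Opens.isBasis_iff_nbhd.mp X.isBasis_affineOpens hxj
  exact ⟨W, hxW, hW, spd_of_range_subset j hj W hWj⟩

attribute [local instance] Groth.Agent.Lib.Helper25.LTensorRestrict.hasLTensorCx

open Groth.Agent.Lib.Helper25.LTensorQis in
/-- complexes isomorphic in `D(O_X)` define isomorphic derived tensor functors -/
theorem nonempty_LTensorCx_iso_of_Q_iso (K F : CochainComplex Y.Modules ℤ)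
    (e : DerivedCategory.Q.obj K ≅ DerivedCategory.Q.obj F) :
    Nonempty (DCoh.LTensorCx K ≅ DCoh.LTensorCx F) := by
  obtain ⟨Z, s, hs, g, hg⟩ := DerivedCategory.right_fac e.hom
  haveI : QuasiIso s := (DerivedCategory.isIso_Q_map_iff_quasiIso (φ := s)).1 hs
  have hg' : IsIso (DerivedCategory.Q.map g) := by
    have h1 : DerivedCategory.Q.map g = DerivedCategory.Q.map s ≫ e.hom := by
      rw [hg, IsIso.hom_inv_id_assoc]
    rw [h1]
    infer_instance
  haveI : QuasiIso g := (DerivedCategory.isIso_Q_map_iff_quasiIso (φ := g)).1 hg'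
  exact ⟨(LTensorCxIsoOfQuasiIso s).symm ≪≫ LTensorCxIsoOfQuasiIso g⟩

lemma isKFlat_of_isFreeCx {F : CochainComplex Y.Modules ℤ} (hF : IsFreeCx F) : DCoh.IsKFlat F := by
  obtain ⟨⟨a, c, hac⟩, hf⟩ := hF
  refine Groth.Agent.Lib.helper13.KFlat.dcoh_isKFlat_of_bounded_above F c
    (fun q hq => hac q (Or.inr hq)) (fun q => ?_)
  obtain ⟨n, ⟨e⟩⟩ := hf q
  exact Groth.Agent.Lib.helper25.FlatClass.isFlat_of_iso e.symm
    (Groth.Agent.Lib.helper16.FLF.isFlat_of_isFinLocFree _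
      (Groth.Agent.Lib.helper16.FLF.isFinLocFree_freeMod Y n))

/-- **the dual of a complex represented by a bounded complex of finite free modules**:
every right adjoint of `- ⊗^L K` is `- ⊗^L D` for a bounded complex `D` of finite free modules -/
theorem exists_dual (K : CochainComplex Y.Modules ℤ) {H : DCoh.D Y ⥤ DCoh.D Y}
    (adj : DCoh.LTensorCx K ⊣ H) (h : SPD (DerivedCategory.Q.obj K)) :
    ∃ D : CochainComplex Y.Modules ℤ, IsFreeCx D ∧ Nonempty (H ≅ DCoh.LTensorCx D) := by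
  obtain ⟨F, ⟨⟨a, c, hac⟩, hf⟩, ⟨e⟩⟩ := h
  choose n hn using hf
  let b : ∀ q : ℤ, Based (Coh.structureModule Y) (F.X q) :=
    fun q => basedOfIso (basedFree Y (n q)) (hn q).some.symm
  obtain ⟨t⟩ := nonempty_LTensorCx_iso_of_Q_iso K F e
  let adj' : DCoh.LTensorCx F ⊣ H := adj.ofNatIsoLeft t
  let adj'' := adjD F b a c (fun q hq => hac q (Or.inl hq)) (fun q hq => hac q (Or.inr hq))
  refine ⟨dual F b, ⟨⟨-c, -a, fun r hr => ?_⟩, fun r => ⟨n (-r), ⟨(hn (-r)).some⟩⟩⟩,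
    ⟨adj'.rightAdjointUniq adj''⟩⟩
  exact hac (-r) (by omega)

end Groth.Agent.Lib.Helper25.DualCx6
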