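import Groth.Agent.Lib.Helper25.TensorCxAmp
import Groth.Agent.Lib.Helper25.LTensorRestrict
import Groth.Agent.Lib.Helper25.DualCx6

/-!
# `- ⊗^L K` sends distinguished triangles to distinguished triangles (helper25)

* `exists_distinguished_LTensorCx K T hT`: for a distinguished triangle `T` of `D(O_X)` there is a third map making
  `(T.obj₁ ⊗^L K ⟶ T.obj₂ ⊗^L K ⟶ T.obj₃ ⊗^L K ⟶)` distinguished (first two maps the images of those of `T`).
* `isZero_LTensorCx_obj`: `0 ⊗^L K = 0`.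
* `isZero_restrictD_LTensorCx`: `A|_U = 0 ⇒ (A ⊗^L K)|_U = 0`.
-/

set_option autoImplicit false
universe u
open CategoryTheory CategoryTheory.Limits AlgebraicGeometry HomologicalComplex Pretriangulated
attribute [local instance] HasDerivedCategory.standard

namespace Groth.Agent.Lib.Helper25.LTensorTri

open Groth.Agent.Lib.helper2.BifunctorExact Groth.Agent.Lib.helper13.KFlat
  Groth.Agent.Lib.helper13.KRes Groth.Agent.Lib.helper13.LTensorQCoh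
  Groth.Agent.Lib.Helper25.LpullAdapted Groth.Agent.Lib.Helper25.LTensorComp DerivedCategory
  Groth.Agent.Lib.Helper25.TensorCxAmp

variable {X : Scheme.{u}}

lemma aux {C : Type*} [Category C] {A B D E E' G : C} (x : A ⟶ B) (y₁ : B ⟶ D) (y₂ : D ⟶ E)
    (i : E ≅ E') (z₁ : A ⟶ G) (z₂ : G ⟶ E') (h : (x ≫ y₁) ≫ y₂ = z₁ ≫ z₂ ≫ i.inv) :
    x ≫ y₁ ≫ y₂ ≫ i.hom = z₁ ≫ z₂ := by
  have := congrArg (· ≫ i.hom) h
  simpa using this

lemma sq_aux {D H : Type*} [Category D] [Category H] (LF : D ⥤ H) {A B A' B' : D} {a b : H}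
    (εA : LF.obj A ⟶ a) (εB : LF.obj B ⟶ b) [IsIso εA] [IsIso εB] (u : A ⟶ B) (v : a ⟶ b)
    (n : LF.map u ≫ εB = εA ≫ v) (eA : A ≅ A') (eB : B ≅ B') (t : A' ⟶ B')
    (c : u ≫ eB.hom = eA.hom ≫ t) :
    v ≫ ((asIso εB).symm ≪≫ LF.mapIso eB).hom =
      ((asIso εA).symm ≪≫ LF.mapIso eA).hom ≫ LF.map t := by
  simp only [Iso.trans_hom, Iso.symm_hom, asIso_inv, Functor.mapIso_hom]
  rw [Category.assoc, ← LF.map_comp, ← c, LF.map_comp, IsIso.eq_inv_comp, ← Category.assoc εA v, ← n]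
  simp

/-- **`- ⊗^L K` sends distinguished triangles to distinguished triangles** -/
theorem exists_distinguished_LTensorCx (K : CochainComplex X.Modules ℤ) [DCoh.HasLTensorCx K]
    (T : Triangle (DCoh.D X)) (hT : T ∈ distTriang (DCoh.D X)) :
    ∃ h' : (DCoh.LTensorCx K).obj T.obj₃ ⟶ ((DCoh.LTensorCx K).obj T.obj₁)⟦(1 : ℤ)⟧,
      Triangle.mk ((DCoh.LTensorCx K).map T.mor₁) ((DCoh.LTensorCx K).map T.mor₂) h' ∈
        distTriang (DCoh.D X) := by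
  have hT' : T.invRotate ∈ distTriang (DCoh.D X) := inv_rot_of_distTriang _ hT
  obtain ⟨P₁, P₂, φ, h₁, h₂, e₁, e₂, comm⟩ := exists_P₀_rep_hom T.invRotate.mor₁
  have hT₀ := DerivedCategory.mappingCone_triangle_distinguished φ
  let e := isoTriangleOfIso₁₂ _ _ hT₀ hT' e₁ e₂ comm
  let e₃ : Q.obj (CochainComplex.mappingCone φ) ≅ T.obj₂ := Triangle.π₃.mapIso e
  have c₂ : Q.map (CochainComplex.mappingCone.inr φ) ≫ e₃.hom = e₂.hom ≫ T.mor₁ := by
    have h := e.hom.comm₂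
    rw [isoTriangleOfIso₁₂_hom_hom₂] at h
    exact h
  let e₁' : Q.obj (P₁⟦(1 : ℤ)⟧) ≅ T.obj₃ :=
    (Q.commShiftIso (1 : ℤ)).app P₁ ≪≫ (shiftFunctor (DCoh.D X) (1 : ℤ)).mapIso e₁ ≪≫
      (shiftEquiv (DCoh.D X) (1 : ℤ)).counitIso.app T.obj₃
  have c₃ : Q.map (CochainComplex.mappingCone.triangle φ).mor₃ ≫ e₁'.hom = e₃.hom ≫ T.mor₂ := by
    have h := e.hom.comm₃
    rw [isoTriangleOfIso₁₂_hom_hom₁] at h
    have h' : (Q.map (CochainComplex.mappingCone.triangle φ).mor₃ ≫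
        (Q.commShiftIso (1 : ℤ)).hom.app P₁) ≫ e₁.hom⟦(1 : ℤ)⟧' =
        e₃.hom ≫ T.mor₂ ≫ (shiftEquiv (DCoh.D X) (1 : ℤ)).counitIso.inv.app T.obj₃ := h
    exact aux _ _ _ _ _ _ h'
  have hS := shortExact_map_Ψ (DCoh.tensorBi (X := X)) K
    (CochainComplex.mappingCone.triangleRotateShortComplex φ)
    (CochainComplex.mappingCone.triangleRotateShortComplexSplitting φ)
  haveI i₁ := isIso_ε_app K P₂ h₂.1
  haveI i₂ := isIso_ε_app K _ (hcone φ h₁ h₂).1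
  haveI i₃ := isIso_ε_app K _ (hshift P₁ 1 h₁).1
  let θ₁ : Q.obj ((DCoh.tensorCx.obj P₂).obj K) ≅ (DCoh.LTensorCx K).obj T.obj₁ :=
    (asIso ((ε K).app P₂)).symm ≪≫ (DCoh.LTensorCx K).mapIso e₂
  let θ₂ : Q.obj ((DCoh.tensorCx.obj (CochainComplex.mappingCone φ)).obj K) ≅
      (DCoh.LTensorCx K).obj T.obj₂ :=
    (asIso ((ε K).app (CochainComplex.mappingCone φ))).symm ≪≫ (DCoh.LTensorCx K).mapIso e₃
  let θ₃ : Q.obj ((DCoh.tensorCx.obj (P₁⟦(1 : ℤ)⟧)).obj K) ≅ (DCoh.LTensorCx K).obj T.obj₃ :=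
    (asIso ((ε K).app (P₁⟦(1 : ℤ)⟧))).symm ≪≫ (DCoh.LTensorCx K).mapIso e₁'
  have hdist := DerivedCategory.triangleOfSES_distinguished hS
  refine ⟨θ₃.inv ≫ (DerivedCategory.triangleOfSES hS).mor₃ ≫ θ₁.hom⟦(1 : ℤ)⟧', ?_⟩
  refine isomorphic_distinguished _ hdist _ (Triangle.isoMk _ _ θ₁ θ₂ θ₃ ?_ ?_ ?_).symm
  · exact sq_aux (DCoh.LTensorCx K) ((ε K).app P₂) ((ε K).app (CochainComplex.mappingCone φ))
      (Q.map (CochainComplex.mappingCone.inr φ)) _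
      ((ε K).naturality (CochainComplex.mappingCone.inr φ)) e₂ e₃ T.mor₁ c₂
  · exact sq_aux (DCoh.LTensorCx K) ((ε K).app (CochainComplex.mappingCone φ))
      ((ε K).app (P₁⟦(1 : ℤ)⟧))
      (Q.map (CochainComplex.mappingCone.triangle φ).mor₃) _
      ((ε K).naturality (CochainComplex.mappingCone.triangle φ).mor₃) e₃ e₁' T.mor₂ c₃
  · exact (Iso.hom_inv_id_assoc θ₃ _).symm

/-- `0 ⊗^L K = 0` -/
theorem isZero_LTensorCx_obj (K : CochainComplex X.Modules ℤ) [DCoh.HasLTensorCx K] (E : DCoh.D X)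
    (hE : IsZero E) : IsZero ((DCoh.LTensorCx K).obj E) := by
  obtain ⟨Z, hZ, hZK⟩ := Groth.Agent.Lib.Helper25.LTensorDCoh.hzero (X := X)
  haveI := isIso_ε_app K Z hZK
  have h0 : IsZero (Q.obj Z : DCoh.D X) := Functor.map_isZero Q hZ
  refine IsZero.of_iso ?_ ((DCoh.LTensorCx K).mapIso (hE.iso h0) ≪≫ asIso ((ε K).app Z))
  refine Functor.map_isZero Q ?_
  rw [IsZero.iff_id_eq_zero]
  apply HomologicalComplex.hom_ext
  intro k
  exact (Groth.Agent.Lib.Helper25.FMRegular.isZero_tensorCx_X Z K k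
    (fun i j _ => Or.inl ((HomologicalComplex.eval _ _ i).map_isZero hZ))).eq_of_src _ _

variable {U : Scheme.{u}}

/-- `A|_U = 0 ⇒ (A ⊗^L K)|_U = 0` -/
theorem isZero_restrictD_LTensorCx (j : U ⟶ X) [IsOpenImmersion j] (K : CochainComplex X.Modules ℤ)
    [DCoh.HasLTensorCx K] (A : DCoh.D X) (hA : IsZero ((DCoh.restrictD j).obj A)) :
    IsZero ((DCoh.restrictD j).obj ((DCoh.LTensorCx K).obj A)) := by
  obtain ⟨K', hK', ⟨eK⟩⟩ := Groth.Agent.Lib.helper13.LpullQCoh.exists_P₀_rep (DCoh.toD X K)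
  obtain ⟨t⟩ := Groth.Agent.Lib.Helper25.DualCx6.nonempty_LTensorCx_iso_of_Q_iso K K' eK.symm
  haveI := Groth.Agent.Lib.Helper25.LTensorRestrict.hasLTensorCx K'
  haveI := Groth.Agent.Lib.Helper25.LTensorRestrict.hasLTensorCx
    ((Groth.Agent.Lib.helper25.DCohRestrict.resCx j).obj K')
  refine IsZero.of_iso ?_ ((DCoh.restrictD j).mapIso (t.app A) ≪≫
    ((Groth.Agent.Lib.Helper25.LTensorRestrict.restrictLTensorIso j K' hK'.1).app A).symm)
  exact isZero_LTensorCx_obj _ _ hA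

end Groth.Agent.Lib.Helper25.LTensorTri
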