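import Mathlib
import Groth.Prelude.Def_QCohCat
import Groth.Agent.Lib.Helper21.QCohColim2
import Groth.Agent.Lib.Helper7.CohKer

/-!
# The category of quasi-coherent modules on a scheme is abelian (helper25)

* closure of `QCohCat.isQCoh X` under zero, kernels, cokernels, finite products; hence Mathlib's
  `Abelian (QCohCat.isQCoh X).FullSubcategory` instance applies (`abelianQCoh`).
-/

set_option autoImplicit false
universe u
open CategoryTheory Limits AlgebraicGeometry

namespace Groth.Agent.Lib.Helper25.QCohAbelian

variable (X : Scheme.{u})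

instance : (QCohCat.isQCoh X).IsClosedUnderIsomorphisms :=
  inferInstanceAs (SheafOfModules.isQuasicoherent X.ringCatSheaf).IsClosedUnderIsomorphisms

instance closedColimU (J : Type u) [Category.{u} J] :
    (QCohCat.isQCoh X).IsClosedUnderColimitsOfShape J where
  colimitsOfShape_le := by
    rintro M ⟨h⟩
    exact Groth.Agent.Lib.helper21.QCohColim.isQuasicoherent_of_isColimit h.diag
      h.prop_diag_obj h.isColimit

/-- closure under colimits indexed by small categories in universe `0` -/
instance closedColim0 (J : Type) [SmallCategory J] :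
    (QCohCat.isQCoh X).IsClosedUnderColimitsOfShape J :=
  ObjectProperty.IsClosedUnderColimitsOfShape.of_equivalence
    (ULiftHomULiftCategory.equiv.{u, u} J).symm

lemma isQCoh_of_isZero {Z : X.Modules} (hZ : IsZero Z) : QCohCat.isQCoh X Z :=
  (QCohCat.isQCoh X).prop_of_isColimit (F := Functor.empty.{0} X.Modules)
    (c := asEmptyCocone Z) hZ.isInitial (fun j => j.as.elim)

instance : (QCohCat.isQCoh X).ContainsZero where
  exists_zero := by
    obtain ⟨Z, hZ⟩ : ∃ Z : X.Modules, IsZero Z := ⟨_, isZero_zero _⟩
    exact ⟨Z, hZ, isQCoh_of_isZero X hZ⟩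

instance : (QCohCat.isQCoh X).IsClosedUnderKernels where
  kernels_le := by
    rintro _ ⟨f, k, hk, ⟨h1, h2⟩⟩
    rename_i M₁ M₂
    haveI : M₁.IsQuasicoherent := h1
    haveI : M₂.IsQuasicoherent := h2
    have h3 : QCohCat.isQCoh X (kernel f) :=
      Groth.Agent.Lib.helper7.CohKer.isQuasicoherent_kernel f
    exact (QCohCat.isQCoh X).prop_of_iso
      (IsLimit.conePointUniqueUpToIso (kernelIsKernel f) hk) h3

instance : (QCohCat.isQCoh X).IsClosedUnderCokernels where
  cokernels_le := by
    rintro _ ⟨f, k, hk, ⟨h1, h2⟩⟩
    refine (QCohCat.isQCoh X).prop_of_isColimit hk ?_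
    rintro (_ | _)
    · exact h1
    · exact h2

instance : (QCohCat.isQCoh X).IsClosedUnderFiniteProducts :=
  ObjectProperty.IsClosedUnderFiniteProducts.of_isClosedUnderLimitsOfShape.{0}
    (fun J _ => ⟨by
      rintro M ⟨h⟩
      classical
      haveI : Fintype J := Fintype.ofFinite J
      haveI : HasFiniteBiproducts X.Modules := HasFiniteBiproducts.of_hasFiniteProducts
      haveI : HasBiproductsOfShape J X.Modules := hasBiproductsOfShape_finite _
      let F : J → X.Modules := fun j => h.diag.obj ⟨j⟩
      let e0 : h.diag ≅ Discrete.functor F := Discrete.natIso (fun _ => Iso.refl _)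
      have hl : IsLimit ((Cone.postcompose e0.hom).obj (Cone.mk _ h.π)) :=
        (IsLimit.postcomposeHomEquiv e0 _).symm h.isLimit
      have e : M ≅ ⨁ F :=
        IsLimit.conePointUniqueUpToIso hl (biproduct.isLimit F)
      refine (QCohCat.isQCoh X).prop_of_iso e.symm ?_
      exact (QCohCat.isQCoh X).prop_of_isColimit (biproduct.isColimit F)
        (fun j => h.prop_diag_obj j)⟩)

/-- the abelian category of quasi-coherent modules -/
noncomputable instance abelianQCoh : Abelian (QCohCat.isQCoh X).FullSubcategory :=
  inferInstance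

end Groth.Agent.Lib.Helper25.QCohAbelian
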