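import Groth.Agent.Lib.Helper25.PFTri1
import Groth.Agent.Lib.Helper13.LpullQCoh

/-!
# `- ⊗^L D` preserves coproducts (helper25)

* `degColim_first`: `Tot F(-, K₂)` preserves degreewise coproduct cofans (first variable analogue of
  `PFCop1.degColim_Ψ₂`).
* `isColimit_cofan_of_iso`: transport of colimit cofans along isomorphisms.
* `isIso_sigmaDesc_LTensorCx` (= S11118): for a family `C i` of objects of `D(O_X)`, the canonical map
  `∐ (C i ⊗^L D) ⟶ (∐ C i) ⊗^L D` is an isomorphism.
-/

set_option autoImplicit false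
universe w u
open CategoryTheory CategoryTheory.Limits AlgebraicGeometry HomologicalComplex

attribute [local instance] HasDerivedCategory.standard

namespace Groth.Agent.Lib.Helper25.PFCop3

open Groth.Agent.Lib.Helper25.PFCop1 Groth.Agent.Lib.Helper25.PFTri1
  Groth.Agent.Lib.helper23.DCoprod Groth.Agent.Lib.Helper25.LTensorComp

section Bifunctor

variable {C₁ C₂ D : Type*} [Category C₁] [Category C₂] [Category D]
  [Preadditive C₁] [Preadditive C₂] [Preadditive D]
  (F : C₁ ⥤ C₂ ⥤ D) [F.Additive] [∀ X₁, (F.obj X₁).Additive]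
  (K₂ : CochainComplex C₂ ℤ)
  [∀ K₁ : CochainComplex C₁ ℤ, HasMapBifunctor K₁ K₂ F (ComplexShape.up ℤ)]
  {J : Type w} [∀ X₂ : C₂, PreservesColimitsOfShape (Discrete J) (F.flip.obj X₂)]

/-- `Tot F(-, K₂)` preserves degreewise coproduct cofans -/
theorem degColim_first {K : J → CochainComplex C₁ ℤ} {L : CochainComplex C₁ ℤ} (ia : ∀ j, K j ⟶ L)
    (h : DegColim ia) :
    DegColim (fun j => mapBifunctorMap (ia j) (𝟙 K₂) F (ComplexShape.up ℤ)) := by
  intro n
  have hcol : ∀ p q : ℤ, IsColimit (Cofan.mk ((F.obj (L.X p)).obj (K₂.X q))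
      (fun j => (F.map ((ia j).f p)).app (K₂.X q))) := fun p q =>
    isColimitCofanMkObjOfIsColimit (F.flip.obj (K₂.X q)) (fun j => (K j).X p) (fun j => (ia j).f p)
      (h p).some
  have hι : ∀ (j : J) (p q : ℤ)
      (hpq : ComplexShape.π (ComplexShape.up ℤ) (ComplexShape.up ℤ) (ComplexShape.up ℤ) (p, q) = n),
      ιMapBifunctor (K j) K₂ F (ComplexShape.up ℤ) p q n hpq ≫
        (mapBifunctorMap (ia j) (𝟙 K₂) F (ComplexShape.up ℤ)).f n =
      (F.map ((ia j).f p)).app (K₂.X q) ≫ ιMapBifunctor L K₂ F (ComplexShape.up ℤ) p q n hpq := by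
    intro j p q hpq
    rw [ι_mapBifunctorMap]
    simp
  refine ⟨Cofan.IsColimit.mk _
    (fun t => mapBifunctorDesc (fun p q hpq => Cofan.IsColimit.desc (hcol p q)
      (fun j => ιMapBifunctor (K j) K₂ F (ComplexShape.up ℤ) p q n hpq ≫ t.inj j)))
    (fun t j => ?_) (fun t m hm => ?_)⟩
  · refine HomologicalComplex.mapBifunctor.hom_ext (fun p q hpq => ?_)
    change ιMapBifunctor (K j) K₂ F (ComplexShape.up ℤ) p q n hpq ≫
      (mapBifunctorMap (ia j) (𝟙 K₂) F (ComplexShape.up ℤ)).f n ≫ _ = _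
    rw [reassoc_of% (hι j p q hpq), ι_mapBifunctorDesc]
    exact Cofan.IsColimit.fac (hcol p q) _ j
  · refine HomologicalComplex.mapBifunctor.hom_ext (fun p q hpq => ?_)
    rw [ι_mapBifunctorDesc]
    refine Cofan.IsColimit.hom_ext (hcol p q) _ _ (fun j => ?_)
    rw [Cofan.IsColimit.fac]
    change (F.map ((ia j).f p)).app (K₂.X q) ≫
      ιMapBifunctor L K₂ F (ComplexShape.up ℤ) p q n hpq ≫ m = _
    rw [← reassoc_of% (hι j p q hpq)]
    exact congrArg (fun x => ιMapBifunctor (K j) K₂ F (ComplexShape.up ℤ) p q n hpq ≫ x) (hm j)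

end Bifunctor

/-- transport of colimit cofans along isomorphisms -/
noncomputable def isColimit_cofan_of_iso {C : Type*} [Category C] {J : Type*} {a b : J → C} {A B : C}
    (ia : ∀ j, a j ⟶ A) (ib : ∀ j, b j ⟶ B) (hb : IsColimit (Cofan.mk B ib)) (φ : A ≅ B)
    (m : ∀ j, a j ≅ b j) (h : ∀ j, ia j ≫ φ.hom = (m j).hom ≫ ib j) :
    IsColimit (Cofan.mk A ia) :=
  Cofan.IsColimit.mk _
    (fun s => φ.hom ≫ Cofan.IsColimit.desc hb (fun j => (m j).inv ≫ s.inj j))
    (fun s j => by
      change ia j ≫ φ.hom ≫ _ = _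
      rw [reassoc_of% (h j)]
      have := Cofan.IsColimit.fac hb (fun j => (m j).inv ≫ s.inj j) j
      change ib j ≫ _ = _ at this
      rw [this, Iso.hom_inv_id_assoc])
    (fun s t ht => by
      have h1 : φ.inv ≫ t = Cofan.IsColimit.desc hb (fun j => (m j).inv ≫ s.inj j) := by
        refine Cofan.IsColimit.hom_ext hb _ _ (fun j => ?_)
        have h3 := Cofan.IsColimit.fac hb (fun j => (m j).inv ≫ s.inj j) j
        change ib j ≫ _ = _ at h3
        have h2 : ib j = (m j).inv ≫ ia j ≫ φ.hom := by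
          rw [h j, Iso.inv_hom_id_assoc]
        change ib j ≫ φ.inv ≫ t = ib j ≫ _
        rw [h3, h2, Category.assoc, Category.assoc, Iso.hom_inv_id_assoc]
        exact congrArg (fun x => (m j).inv ≫ x) (ht j)
      rw [← h1, Iso.hom_inv_id_assoc])

variable {X : Scheme.{u}}

instance preservesColimits_tensorBi_flip_obj (N : X.Modules) :
    PreservesColimitsOfSize.{u, u} ((DCoh.tensorBi (X := X)).flip.obj N) :=
  @preservesColimits_of_natIso _ _ _ _ _ _
    ((Groth.Agent.Lib.helper13.KFlat.tensorBiBraiding X.sheaf).app N)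
    (Groth.Agent.Lib.Helper25.PFCop2.preservesColimits_tensorBi_obj N)

/-- **`- ⊗^L D` preserves coproducts** (= S11118) -/
theorem isIso_sigmaDesc_LTensorCx (D : CochainComplex X.Modules ℤ) [DCoh.HasLTensorCx D]
    {ι : Type u} (C : ι → DCoh.D X) [HasCoproduct C]
    [HasCoproduct (fun i => (DCoh.LTensorCx D).obj (C i))] :
    IsIso (Sigma.desc (fun i => (DCoh.LTensorCx D).map (Sigma.ι C i))) := by
  haveI := Groth.Agent.Lib.Helper25.QCCPerfect.exactCoprod X ι
  choose P hP eP using fun i => Groth.Agent.Lib.helper13.LpullQCoh.exists_P₀_rep (C i)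
  let e : ∀ i, DerivedCategory.Q.obj (P i) ≅ C i := fun i => (eP i).some
  have hia := degColim_sigι P
  have hL : DCoh.IsKFlat (sig P) := isKFlat_of_degColim (sigι P) hia (fun i => (hP i).1)
  -- the coproduct of the `Q (P i)`
  have hQ := isColimit_Q_of_degColim (sigι P) hia
  -- the coproduct of the `Q (P i ⊗ D)`
  have hT := isColimit_Q_of_degColim _ (degColim_first (DCoh.tensorBi (X := X)) D (sigι P) hia)
  -- `- ⊗^L D` of the coproduct cofan of the `Q (P i)`
  haveI h1 := isIso_ε_app D (sig P) hL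
  haveI h2 : ∀ i, IsIso ((ε D).app (P i)) := fun i => isIso_ε_app D (P i) (hP i).1
  have hF : IsColimit (Cofan.mk ((DCoh.LTensorCx D).obj (DerivedCategory.Q.obj (sig P)))
      (fun i => (DCoh.LTensorCx D).map (DerivedCategory.Q.map (sigι P i)))) :=
    isColimit_cofan_of_iso _ _ hT (@asIso _ _ _ _ _ h1) (fun i => @asIso _ _ _ _ _ (h2 i))
      (fun i => (ε D).naturality (sigι P i))
  -- transport to the family `C`
  have hC : IsColimit (Cofan.mk (DerivedCategory.Q.obj (sig P))
      (fun i => (e i).inv ≫ DerivedCategory.Q.map (sigι P i))) :=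
    isColimit_cofan_of_iso _ _ hQ (Iso.refl _) (fun i => (e i).symm)
      (fun i => Category.comp_id _)
  have hFC : IsColimit (Cofan.mk ((DCoh.LTensorCx D).obj (DerivedCategory.Q.obj (sig P)))
      (fun i => (DCoh.LTensorCx D).map ((e i).inv ≫ DerivedCategory.Q.map (sigι P i)))) :=
    isColimit_cofan_of_iso _ _ hF (Iso.refl _) (fun i => (DCoh.LTensorCx D).mapIso (e i).symm)
      (fun i => by
        rw [Iso.refl_hom, Category.comp_id, Functor.map_comp]
        rfl)
  -- comparison with the chosen coproducts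
  let φ : ∐ C ≅ DerivedCategory.Q.obj (sig P) :=
    IsColimit.coconePointUniqueUpToIso (coproductIsCoproduct C) hC
  have hφ : ∀ i, Sigma.ι C i ≫ φ.hom = (e i).inv ≫ DerivedCategory.Q.map (sigι P i) := fun i =>
    IsColimit.comp_coconePointUniqueUpToIso_hom (coproductIsCoproduct C) hC ⟨i⟩
  have hB : IsColimit (Cofan.mk ((DCoh.LTensorCx D).obj (∐ C))
      (fun i => (DCoh.LTensorCx D).map (Sigma.ι C i))) :=
    isColimit_cofan_of_iso _ _ hFC ((DCoh.LTensorCx D).mapIso φ) (fun i => Iso.refl _)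
      (fun i => by
        rw [Iso.refl_hom, Category.id_comp, Functor.mapIso_hom, ← Functor.map_comp, hφ i])
  exact Groth.Agent.Lib.Helper25.PFCop2.isIso_of_isColimit_cofan _ _
    (coproductIsCoproduct (fun i => (DCoh.LTensorCx D).obj (C i))) hB _ (fun i => 𝟙 _)
    (fun i => inferInstance) (fun i => by
      rw [Category.id_comp]
      exact Sigma.ι_desc _ i)

end Groth.Agent.Lib.Helper25.PFCop3
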