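import Mathlib
import Groth.Agent.Lib.Helper25.DQCohSmall
import Groth.Agent.Lib.Helper25.LTensorTri
import Groth.Agent.Lib.Helper25.PFCop3
import Groth.Agent.Lib.Helper25.LTensorRestrict
import Groth.Agent.Lib.Helper27.BrownGroth

/-!
# The derived internal Hom `RHom(E, -)` exists on every scheme (helper25)

* `isLeftAdjoint_of_weak_of_brown` (abstract): `Ψ : C' ≌ C`, `Φ : D' ≌ D` small models (morphisms in `Type w`) of
  pretriangulated categories such that `C'` satisfies Brown representability; an additive functor `F : C ⥤ D` which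
  preserves `w`-small coproducts and is weakly exact (`Hom(F -, M)` is exact in the middle on distinguished triangles)
  is a left adjoint.
* `preservesCoproducts_LTensorCx`, `additive_LTensorCx`.
* `hasRSheafHom E : DCoh.HasRSheafHom E` for every complex `E` of `O_X`-modules on a scheme `X`: `- ⊗^L E` has a right
  adjoint (Brown representability for `D(O_X)`, helper27's `brown_grothendieck`).
-/

set_option autoImplicit false
set_option linter.style.haveILetI false
universe w v₁ u₁ u₂ v₃ u₃ u₄ u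
open CategoryTheory CategoryTheory.Limits Pretriangulated Opposite AlgebraicGeometry
open CategoryTheory.Pretriangulated.Opposite

namespace Groth.Agent.Lib.Helper25.RHomExists

section abstract

variable {C : Type u₁} [Category.{v₁} C] [Preadditive C] [HasZeroObject C] [HasShift C ℤ]
  [∀ n : ℤ, (shiftFunctor C n).Additive] [Pretriangulated C]
  {C' : Type u₂} [Category.{w} C'] [Preadditive C'] [HasZeroObject C'] [HasShift C' ℤ]
  [∀ n : ℤ, (shiftFunctor C' n).Additive] [Pretriangulated C']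
  (Ψ : C' ⥤ C) [Ψ.CommShift ℤ] [Ψ.IsTriangulated] [Ψ.IsEquivalence]
  {D : Type u₃} [Category.{v₃} D] [Preadditive D]
  {D' : Type u₄} [Category.{w} D'] [Preadditive D']
  (Φ : D' ⥤ D) [Φ.Additive] [Φ.IsEquivalence]
  (F : C ⥤ D) [F.Additive] [∀ J : Type w, PreservesColimitsOfShape (Discrete J) F]

/-- the functor between the small models -/
noncomputable def F' : C' ⥤ D' := Ψ ⋙ F ⋙ Φ.inv

/-- `F' ⋙ Φ ≅ Ψ ⋙ F` -/
noncomputable def κ : F' Ψ Φ F ⋙ Φ ≅ Ψ ⋙ F :=
  Functor.associator Ψ (F ⋙ Φ.inv) Φ ≪≫ Functor.isoWhiskerLeft _ (Functor.associator _ _ _) ≪≫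
    Functor.isoWhiskerLeft _ (Functor.isoWhiskerLeft _ Φ.asEquivalence.counitIso) ≪≫
    Functor.isoWhiskerLeft _ (Functor.rightUnitor _)

instance : Φ.inv.Additive :=
  haveI : Φ.asEquivalence.functor.Additive := inferInstanceAs Φ.Additive
  inferInstanceAs Φ.asEquivalence.inverse.Additive

instance : (F' Ψ Φ F).Additive := inferInstanceAs (Ψ ⋙ F ⋙ Φ.inv).Additive

instance (J : Type w) : PreservesColimitsOfShape (Discrete J) (F' Ψ Φ F) :=
  inferInstanceAs (PreservesColimitsOfShape (Discrete J) (Ψ ⋙ F ⋙ Φ.inv))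

omit [∀ J : Type w, PreservesColimitsOfShape (Discrete J) F] [F.Additive] [Φ.Additive] in
/-- weak exactness passes to the functor between the small models -/
lemma hex'
    (hex : ∀ (T : Triangle C), T ∈ distTriang _ → ∀ (M : D)
      (x : F.obj T.obj₂ ⟶ M), F.map T.mor₁ ≫ x = 0 → ∃ z : F.obj T.obj₃ ⟶ M, x = F.map T.mor₂ ≫ z)
    (T' : Triangle C') (hT' : T' ∈ distTriang _)
    (M' : D') (x : (F' Ψ Φ F).obj T'.obj₂ ⟶ M')
    (hx : (F' Ψ Φ F).map T'.mor₁ ≫ x = 0) :
    ∃ z : (F' Ψ Φ F).obj T'.obj₃ ⟶ M', x = (F' Ψ Φ F).map T'.mor₂ ≫ z := by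
  have hT := Ψ.map_distinguished T' hT'
  let k := κ Ψ Φ F
  obtain ⟨z, hz⟩ : ∃ z : F.obj (Ψ.obj T'.obj₃) ⟶ Φ.obj M',
      k.inv.app T'.obj₂ ≫ Φ.map x = F.map (Ψ.map T'.mor₂) ≫ z :=
    hex _ hT (Φ.obj M') (k.inv.app T'.obj₂ ≫ Φ.map x) (by
    have hn : F.map (Ψ.map T'.mor₁) ≫ k.inv.app T'.obj₂ =
      k.inv.app T'.obj₁ ≫ Φ.map ((F' Ψ Φ F).map T'.mor₁) := k.inv.naturality T'.mor₁
    change F.map (Ψ.map T'.mor₁) ≫ k.inv.app T'.obj₂ ≫ Φ.map x = 0
    rw [reassoc_of% hn, ← Functor.map_comp, hx, Functor.map_zero, comp_zero])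
  refine ⟨Φ.preimage (k.hom.app T'.obj₃ ≫ z), Φ.map_injective ?_⟩
  rw [Functor.map_comp, Functor.map_preimage]
  have hn : Φ.map ((F' Ψ Φ F).map T'.mor₂) ≫ k.hom.app T'.obj₃ =
    k.hom.app T'.obj₂ ≫ F.map (Ψ.map T'.mor₂) := k.hom.naturality T'.mor₂
  rw [reassoc_of% hn, ← hz, Iso.hom_inv_id_app_assoc]

include Ψ Φ in
/-- **adjoint functor theorem**: an additive, coproduct preserving, weakly exact functor out of a pretriangulated
category with a small model satisfying Brown representability is a left adjoint -/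
theorem isLeftAdjoint_of_weak_of_brown
    (hrep : ∀ (H : C'ᵒᵖ ⥤ AddCommGrpCat.{w}) [H.IsHomological]
      [∀ κ : Type w, PreservesLimitsOfShape (Discrete κ) H],
      (H ⋙ forget AddCommGrpCat.{w}).IsRepresentable)
    (hex : ∀ (T : Triangle C), T ∈ distTriang _ → ∀ (M : D)
      (x : F.obj T.obj₂ ⟶ M), F.map T.mor₁ ≫ x = 0 → ∃ z : F.obj T.obj₃ ⟶ M, x = F.map T.mor₂ ≫ z) :
    F.IsLeftAdjoint := by
  have hF' : (F' Ψ Φ F).IsLeftAdjoint := by
    apply Functor.isLeftAdjoint_of_rightAdjointObjIsDefined_eq_top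
    ext M'
    simp only [Pi.top_apply, Prop.top_eq_true, iff_true]
    rw [Functor.rightAdjointObjIsDefined_iff]
    let H : C'ᵒᵖ ⥤ AddCommGrpCat.{w} := (F' Ψ Φ F).op ⋙ preadditiveYoneda.obj M'
    have hH : H.IsHomological := ⟨fun T hT => by
      rw [ShortComplex.ab_exact_iff]
      intro (x₂ : (F' Ψ Φ F).obj T.obj₂.unop ⟶ M')
        (hx₂ : (F' Ψ Φ F).map T.mor₂.unop ≫ x₂ = 0)
      obtain ⟨x₃, hx₃⟩ := hex' Ψ Φ F hex _ (unop_distinguished T hT) M' x₂ hx₂
      exact ⟨x₃, hx₃.symm⟩⟩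
    have : ∀ κ : Type w, PreservesLimitsOfShape (Discrete κ) (F' Ψ Φ F).op := fun κ => by
      have : PreservesColimitsOfShape (Discrete κ)ᵒᵖ (F' Ψ Φ F) :=
        preservesColimitsOfShape_of_equiv (Discrete.opposite κ).symm (F' Ψ Φ F)
      exact preservesLimitsOfShape_op (Discrete κ) (F' Ψ Φ F)
    have : ∀ κ : Type w, PreservesLimitsOfShape (Discrete κ) H := fun κ => inferInstance
    exact hrep H
  have e : F ≅ Ψ.inv ⋙ F' Ψ Φ F ⋙ Φ :=
    (Functor.leftUnitor _).symm ≪≫
      Functor.isoWhiskerRight Ψ.asEquivalence.counitIso.symm F ≪≫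
      Functor.associator _ _ _ ≪≫ Functor.isoWhiskerLeft _ (κ Ψ Φ F).symm ≪≫
      Functor.isoWhiskerLeft _ (Iso.refl _)
  exact Functor.isLeftAdjoint_of_iso e.symm

end abstract

section scheme

attribute [local instance] HasDerivedCategory.standard

open Groth.Agent.Lib.Helper25.DQCohSmall
open scoped ZeroObject

variable {X : Scheme.{u}}

/-- `- ⊗^L E` maps colimit cofans to colimit cofans -/
noncomputable def isColimit_LTensorCx (E : CochainComplex X.Modules ℤ) [DCoh.HasLTensorCx E]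
    {J : Type u} (M : J → DCoh.D X) (A : DCoh.D X) (g : ∀ j, M j ⟶ A) (hc : IsColimit (Cofan.mk A g)) :
    IsColimit (Cofan.mk ((DCoh.LTensorCx E).obj A) (fun j => (DCoh.LTensorCx E).map (g j))) := by
  haveI := Groth.Agent.Lib.Helper25.QCCPerfect.exactCoprod X J
  haveI : HasCoproductsOfShape J (DCoh.D X) := Groth.Agent.Lib.helper23.DCoprod.hasCoproductsOfShape
  let φ : ∐ M ≅ A := IsColimit.coconePointUniqueUpToIso (coproductIsCoproduct M) hc
  have hφ : ∀ j, Sigma.ι M j ≫ φ.hom = g j := fun j =>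
    IsColimit.comp_coconePointUniqueUpToIso_hom (coproductIsCoproduct M) hc ⟨j⟩
  haveI hθ : IsIso (Sigma.desc (fun j => (DCoh.LTensorCx E).map (Sigma.ι M j))) :=
    Groth.Agent.Lib.Helper25.PFCop3.isIso_sigmaDesc_LTensorCx E M
  have h1 : IsColimit (Cofan.mk ((DCoh.LTensorCx E).obj (∐ M))
      (fun j => (DCoh.LTensorCx E).map (Sigma.ι M j))) :=
    Groth.Agent.Lib.Helper25.PFCop3.isColimit_cofan_of_iso _ _
      (coproductIsCoproduct (fun j => (DCoh.LTensorCx E).obj (M j)))
      (asIso (Sigma.desc (fun j => (DCoh.LTensorCx E).map (Sigma.ι M j)))).symm (fun j => Iso.refl _)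
      (fun j => by
        rw [Iso.symm_hom, asIso_inv, IsIso.comp_inv_eq, Iso.refl_hom, Category.id_comp]
        exact (Sigma.ι_desc (fun j => (DCoh.LTensorCx E).map (Sigma.ι M j)) j).symm)
  exact Groth.Agent.Lib.Helper25.PFCop3.isColimit_cofan_of_iso _ _ h1
    ((DCoh.LTensorCx E).mapIso φ.symm) (fun j => Iso.refl _) (fun j => by
      rw [Iso.refl_hom, Category.id_comp, Functor.mapIso_hom, ← Functor.map_comp, Iso.symm_hom,
        ← hφ j, Category.assoc, Iso.hom_inv_id, Category.comp_id])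

/-- `- ⊗^L E` preserves coproducts -/
theorem preservesCoproducts_LTensorCx (E : CochainComplex X.Modules ℤ) [DCoh.HasLTensorCx E] (J : Type u) :
    PreservesColimitsOfShape (Discrete J) (DCoh.LTensorCx E) := by
  haveI := Groth.Agent.Lib.Helper25.QCCPerfect.exactCoprod X J
  haveI : HasCoproductsOfShape J (DCoh.D X) := Groth.Agent.Lib.helper23.DCoprod.hasCoproductsOfShape
  exact Groth.Agent.Lib.Helper25.DQCohRpushAdj.preservesColimitsOfShape_discrete _ J
    (fun M A g hc => isColimit_LTensorCx E M A g hc)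

/-- `- ⊗^L E` is additive -/
theorem additive_LTensorCx (E : CochainComplex X.Modules ℤ) [DCoh.HasLTensorCx E] :
    (DCoh.LTensorCx E).Additive := by
  haveI : PreservesColimitsOfShape (Discrete (ULift.{u} WalkingPair)) (DCoh.LTensorCx E) :=
    preservesCoproducts_LTensorCx E _
  haveI : PreservesColimitsOfShape (Discrete WalkingPair) (DCoh.LTensorCx E) :=
    preservesColimitsOfShape_of_equiv (Discrete.equivalence Equiv.ulift) _
  haveI : (DCoh.LTensorCx E).PreservesZeroMorphisms :=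
    Functor.preservesZeroMorphisms_of_map_zero_object
      ((Groth.Agent.Lib.Helper25.LTensorTri.isZero_LTensorCx_obj E 0 (isZero_zero _)).isoZero)
  haveI := preservesBinaryBiproducts_of_preservesBinaryCoproducts (DCoh.LTensorCx E)
  exact Functor.additive_of_preservesBinaryBiproducts _

/-- **the derived internal Hom exists**: `- ⊗^L E` has a right adjoint, for every complex `E` of modules on a scheme -/
theorem hasRSheafHom (E : CochainComplex X.Modules ℤ) [DCoh.HasLTensorCx E] : DCoh.HasRSheafHom E := by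
  haveI := additive_LTensorCx E
  haveI : ∀ J : Type u, PreservesColimitsOfShape (Discrete J) (DCoh.LTensorCx E) :=
    fun J => preservesCoproducts_LTensorCx E J
  refine isLeftAdjoint_of_weak_of_brown (Ψ X.Modules) (Ψ X.Modules) (DCoh.LTensorCx E)
    (fun H _ _ => Groth.Agent.Lib.helper27.BrownGroth.brown_grothendieck H) ?_
  intro T hT M x hx
  obtain ⟨c, hc⟩ := Groth.Agent.Lib.Helper25.LTensorTri.exists_distinguished_LTensorCx E T hT
  obtain ⟨z, hz⟩ := Triangle.yoneda_exact₂ _ hc x hx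
  exact ⟨z, hz⟩

end scheme

end Groth.Agent.Lib.Helper25.RHomExists
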