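import Mathlib
import Groth.Prelude.Def_QCohCat
import Groth.Prelude.Def_DDual2
import Groth.Prelude.Def_DCoh4
import Groth.Agent.Lib.Helper25.DeltaExact
import Groth.Agent.Lib.Helper25.QCohAbelian
import Groth.Agent.Lib.Helper25.LDerTri
import Groth.Agent.Lib.Helper25.LpullAdapted
import Groth.Agent.Lib.Helper25.LTensorTri
import Groth.Agent.Lib.Helper25.RGZ5
import Groth.Agent.Lib.Helper25.RHomExists
import Groth.Agent.Lib.Helper25.QCCRpush
import Groth.Agent.Lib.Helper13.CurveDual7

/-!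
# The δ-functor `M ↦ R^p f_*(Lf^* M ⊗^L F)` on quasi-coherent modules (helper25)

* `exists_distinguished_Lpull`: `Lf^*` sends distinguished triangles to distinguished triangles (any `f`).
* `shortExact_map_ι`: the inclusion `QCoh(Y) ⥤ Mod(O_Y)` preserves short exact sequences.
* `GPush f F = ι ⋙ single 0 ⋙ Lf^* ⋙ (- ⊗^L F) ⋙ Rf_*` sends short exact sequences to distinguished triangles
  (`exists_distinguished_GPush`), is additive.
* `main` (= S6253): `R^p f_*(Lf^* - ⊗^L F)` right exact on `QCoh(Y)` iff `R^{p+1} f_*(Lf^* - ⊗^L F)` left exact.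
* `GTens F = ι ⋙ single 0 ⋙ (- ⊗^L F)` likewise, `GTens' F = single 0 ⋙ (- ⊗^L F)` on all modules.
-/

set_option autoImplicit false
universe u
open CategoryTheory CategoryTheory.Limits AlgebraicGeometry Pretriangulated
attribute [local instance] HasDerivedCategory.standard

namespace Groth.Agent.Lib.Helper25.DeltaPush

open Groth.Agent.Lib.Helper25.QCohAbelian

variable {X Y : Scheme.{u}}

/-- `Lf^*` sends distinguished triangles to distinguished triangles -/
theorem exists_distinguished_Lpull (f : X ⟶ Y) [DCoh.HasLpull f] (T : Triangle (DCoh.D Y))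
    (hT : T ∈ distTriang _) :
    ∃ c : (DCoh.Lpull f).obj T.obj₃ ⟶ ((DCoh.Lpull f).obj T.obj₁)⟦(1 : ℤ)⟧,
      Triangle.mk ((DCoh.Lpull f).map T.mor₁) ((DCoh.Lpull f).map T.mor₂) c ∈
        distTriang (DCoh.D X) :=
  Groth.Agent.Lib.Helper25.LDerTri.exists_distinguished_of_complex
    (Groth.Agent.Lib.Helper25.LpullAdapted.P₀ Y) (Groth.Agent.Lib.Helper25.LpullAdapted.hzero Y)
    Groth.Agent.Lib.Helper25.LpullAdapted.hshift
    (fun g h h' => Groth.Agent.Lib.Helper25.LpullAdapted.hcone g h h')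
    Groth.Agent.Lib.Helper25.LpullAdapted.hres₀ (DCoh.pullKh f)
    (fun g h h' hg => Groth.Agent.Lib.Helper25.LpullAdapted.hΦ₀ f g h h' hg) (DCoh.Lpull f)
    ((DCoh.pullKh f).totalLeftDerivedCounit DerivedCategory.Qh
      (HomotopyCategory.quasiIso Y.Modules (ComplexShape.up ℤ))) T hT

/-- the inclusion of quasi-coherent modules preserves short exact sequences -/
theorem shortExact_map_ι (S : ShortComplex (QCohCat.isQCoh Y).FullSubcategory) (hS : S.ShortExact) :
    (S.map (QCohCat.isQCoh Y).ι).ShortExact := by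
  haveI : PreservesFiniteLimits (QCohCat.isQCoh Y).ι := by
    haveI : ∀ ⦃A B : (QCohCat.isQCoh Y).FullSubcategory⦄ (f : A ⟶ B),
        PreservesLimit (parallelPair f 0) (QCohCat.isQCoh Y).ι :=
      (QCohCat.isQCoh Y).preservesKernels_ι
    exact Functor.preservesFiniteLimits_of_preservesKernels _
  haveI : PreservesFiniteColimits (QCohCat.isQCoh Y).ι := by
    haveI : ∀ ⦃A B : (QCohCat.isQCoh Y).FullSubcategory⦄ (f : A ⟶ B),
        PreservesColimit (parallelPair f 0) (QCohCat.isQCoh Y).ι :=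
      (QCohCat.isQCoh Y).preservesCokernels_ι
    exact Functor.preservesFiniteColimits_of_preservesCokernels _
  exact hS.map_of_exact _

/-- short exact sequences of modules give distinguished triangles in `D(O_Y)` -/
theorem exists_distinguished_single (S : ShortComplex Y.Modules) (hS : S.ShortExact) :
    ∃ c : (DerivedCategory.singleFunctor Y.Modules 0).obj S.X₃ ⟶
        ((DerivedCategory.singleFunctor Y.Modules 0).obj S.X₁)⟦(1 : ℤ)⟧,
      Triangle.mk ((DerivedCategory.singleFunctor Y.Modules 0).map S.f)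
        ((DerivedCategory.singleFunctor Y.Modules 0).map S.g) c ∈ distTriang (DCoh.D Y) :=
  ⟨_, hS.singleTriangle_distinguished⟩

section Push

variable (f : X ⟶ Y) (F : CochainComplex X.Modules ℤ) [DCoh.HasLpull f] [DCoh.HasLTensorCx F]
  [DCoh.HasRpush f]

/-- `M ↦ Rf_*(Lf^* M ⊗^L F)` on quasi-coherent modules -/
noncomputable abbrev GPush : (QCohCat.isQCoh Y).FullSubcategory ⥤ DCoh.D Y :=
  (QCohCat.isQCoh Y).ι ⋙ DerivedCategory.singleFunctor Y.Modules 0 ⋙ DCoh.Lpull f ⋙
    DCoh.LTensorCx F ⋙ DCoh.Rpush f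

instance : (GPush f F).Additive := by
  haveI := Groth.Agent.Lib.helper13.CurveDual.additive_Lpull f
  haveI := Groth.Agent.Lib.Helper25.RHomExists.additive_LTensorCx F
  haveI := Groth.Agent.Lib.Helper25.QCCRpush.additive_Rpush f
  infer_instance

theorem exists_distinguished_GPush (S : ShortComplex (QCohCat.isQCoh Y).FullSubcategory)
    (hS : S.ShortExact) :
    ∃ h : (GPush f F).obj S.X₃ ⟶ ((GPush f F).obj S.X₁)⟦(1 : ℤ)⟧,
      Triangle.mk ((GPush f F).map S.f) ((GPush f F).map S.g) h ∈ distTriang _ := by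
  obtain ⟨c₁, h₁⟩ := exists_distinguished_single _ (shortExact_map_ι S hS)
  obtain ⟨c₂, h₂⟩ := exists_distinguished_Lpull f _ h₁
  obtain ⟨c₃, h₃⟩ := Groth.Agent.Lib.Helper25.LTensorTri.exists_distinguished_LTensorCx F _ h₂
  obtain ⟨c₄, h₄⟩ := Groth.Agent.Lib.Helper25.RGZ5.exists_distinguished_Rpush f _ h₃
  exact ⟨c₄, h₄⟩

/-- **S6253**: `R^p f_*(Lf^* - ⊗^L F)` is right exact on `QCoh(Y)` iff `R^{p+1} f_*(Lf^* - ⊗^L F)` is left exact -/
theorem main (p : ℤ) :
    PreservesFiniteColimits ((QCohCat.isQCoh Y).ι ⋙ DerivedCategory.singleFunctor Y.Modules 0 ⋙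
      DCoh.Lpull f ⋙ DCoh.LTensorCx F ⋙ DCoh.Rpush f ⋙
      DerivedCategory.homologyFunctor Y.Modules p) ↔
    PreservesFiniteLimits ((QCohCat.isQCoh Y).ι ⋙ DerivedCategory.singleFunctor Y.Modules 0 ⋙
      DCoh.Lpull f ⋙ DCoh.LTensorCx F ⋙ DCoh.Rpush f ⋙
      DerivedCategory.homologyFunctor Y.Modules (p + 1)) :=
  Groth.Agent.Lib.Helper25.DeltaExact.preservesFiniteColimits_iff_preservesFiniteLimits_succ
    (GPush f F) (exists_distinguished_GPush f F) p

end Push

section Tens

variable (F : CochainComplex X.Modules ℤ) [DCoh.HasLTensorCx F]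

/-- `M ↦ M ⊗^L F` on quasi-coherent modules -/
noncomputable abbrev GTens : (QCohCat.isQCoh X).FullSubcategory ⥤ DCoh.D X :=
  (QCohCat.isQCoh X).ι ⋙ DerivedCategory.singleFunctor X.Modules 0 ⋙ DCoh.LTensorCx F

/-- `M ↦ M ⊗^L F` on all modules -/
noncomputable abbrev GTens' : X.Modules ⥤ DCoh.D X :=
  DerivedCategory.singleFunctor X.Modules 0 ⋙ DCoh.LTensorCx F

instance : (GTens F).Additive := by
  haveI := Groth.Agent.Lib.Helper25.RHomExists.additive_LTensorCx F
  infer_instance

instance : (GTens' F).Additive := by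
  haveI := Groth.Agent.Lib.Helper25.RHomExists.additive_LTensorCx F
  infer_instance

theorem exists_distinguished_GTens' (S : ShortComplex X.Modules) (hS : S.ShortExact) :
    ∃ h : (GTens' F).obj S.X₃ ⟶ ((GTens' F).obj S.X₁)⟦(1 : ℤ)⟧,
      Triangle.mk ((GTens' F).map S.f) ((GTens' F).map S.g) h ∈ distTriang _ := by
  obtain ⟨c₁, h₁⟩ := exists_distinguished_single _ hS
  exact Groth.Agent.Lib.Helper25.LTensorTri.exists_distinguished_LTensorCx F _ h₁

theorem exists_distinguished_GTens (S : ShortComplex (QCohCat.isQCoh X).FullSubcategory)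
    (hS : S.ShortExact) :
    ∃ h : (GTens F).obj S.X₃ ⟶ ((GTens F).obj S.X₁)⟦(1 : ℤ)⟧,
      Triangle.mk ((GTens F).map S.f) ((GTens F).map S.g) h ∈ distTriang _ :=
  exists_distinguished_GTens' F _ (shortExact_map_ι S hS)

end Tens

end Groth.Agent.Lib.Helper25.DeltaPush
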