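import Mathlib
import Groth.Agent.Lib.Helper25.DerAdjK

/-!
# Derived adjunctions for right derived functors defined via `Q : CochainComplex ⥤ DerivedCategory`

* `isLeftKanExtension_αOf`: a left Kan extension `(F', β)` of `Φ'` along `Qh` is also a left Kan
  extension of `quotient ⋙ Φ'` along `Q` (unit `αOf Φ' F' β`).
* `nonempty_adjunction`: if `F ⊣ G` with `F` exact, the target of `F` has K-injective resolutions, and
  `(RG, α)` is a right derived functor of `G.mapHomologicalComplex _ ⋙ Q` w.r.t. quasi-isomorphisms of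
  complexes, then `F.mapDerivedCategory ⊣ RG`.
-/

set_option autoImplicit false
universe w₁ w₂ v₁ v₂ v₃ u₁ u₂ u₃
open CategoryTheory

namespace Groth.Agent.Lib.Helper25.DerAdjQ

section Transfer

variable {C : Type u₁} [Category.{v₁} C] [Abelian C] [HasDerivedCategory.{w₁} C]
  {H : Type u₃} [Category.{v₃} H]
  (Φ' : HomotopyCategory C (ComplexShape.up ℤ) ⥤ H) (F' : DerivedCategory C ⥤ H)
  (β : Φ' ⟶ DerivedCategory.Qh ⋙ F')

/-- the unit along `Q` induced by a unit along `Qh` -/
noncomputable def αOf :
    HomotopyCategory.quotient C (ComplexShape.up ℤ) ⋙ Φ' ⟶ DerivedCategory.Q ⋙ F' where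
  app K := β.app ((HomotopyCategory.quotient C (ComplexShape.up ℤ)).obj K) ≫
    F'.map ((DerivedCategory.quotientCompQhIso C).hom.app K)
  naturality K K' f := by
    have h1 := β.naturality ((HomotopyCategory.quotient C (ComplexShape.up ℤ)).map f)
    have h2 := (DerivedCategory.quotientCompQhIso C).hom.naturality f
    simp only [Functor.comp_obj, Functor.comp_map] at h1 h2 ⊢
    rw [reassoc_of% h1, Category.assoc, ← F'.map_comp, ← F'.map_comp, h2]

variable {Φ' F'} in
/-- the natural transformation along `Qh` induced by one along `Q` -/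
noncomputable def γOf {T : DerivedCategory C ⥤ H}
    (γ : HomotopyCategory.quotient C (ComplexShape.up ℤ) ⋙ Φ' ⟶ DerivedCategory.Q ⋙ T) :
    Φ' ⟶ DerivedCategory.Qh ⋙ T where
  app X := γ.app X.as ≫ T.map ((DerivedCategory.quotientCompQhIso C).inv.app X.as)
  naturality X Y f := by
    obtain ⟨g, rfl⟩ := (HomotopyCategory.quotient C (ComplexShape.up ℤ)).map_surjective
      (X := X.as) (Y := Y.as) f
    have h1 : Φ'.map ((HomotopyCategory.quotient C (ComplexShape.up ℤ)).map g) ≫ γ.app Y.as =
        γ.app X.as ≫ T.map (DerivedCategory.Q.map g) := γ.naturality g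
    have h2 : DerivedCategory.Q.map g ≫ (DerivedCategory.quotientCompQhIso C).inv.app Y.as =
        (DerivedCategory.quotientCompQhIso C).inv.app X.as ≫
          DerivedCategory.Qh.map ((HomotopyCategory.quotient C (ComplexShape.up ℤ)).map g) :=
      (DerivedCategory.quotientCompQhIso C).inv.naturality g
    have key : T.map (DerivedCategory.Q.map g) ≫
        T.map ((DerivedCategory.quotientCompQhIso C).inv.app Y.as) =
        T.map ((DerivedCategory.quotientCompQhIso C).inv.app X.as) ≫
          T.map (DerivedCategory.Qh.map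
            ((HomotopyCategory.quotient C (ComplexShape.up ℤ)).map g)) := by
      rw [← T.map_comp, h2, T.map_comp]
    calc Φ'.map ((HomotopyCategory.quotient C (ComplexShape.up ℤ)).map g) ≫ γ.app Y.as ≫
          T.map ((DerivedCategory.quotientCompQhIso C).inv.app Y.as)
        = (γ.app X.as ≫ T.map (DerivedCategory.Q.map g)) ≫
          T.map ((DerivedCategory.quotientCompQhIso C).inv.app Y.as) := by
          rw [← Category.assoc, h1]
      _ = γ.app X.as ≫ T.map ((DerivedCategory.quotientCompQhIso C).inv.app X.as) ≫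
          T.map (DerivedCategory.Qh.map
            ((HomotopyCategory.quotient C (ComplexShape.up ℤ)).map g)) := by
          rw [Category.assoc, key]
      _ = (γ.app X.as ≫ T.map ((DerivedCategory.quotientCompQhIso C).inv.app X.as)) ≫
          T.map (DerivedCategory.Qh.map
            ((HomotopyCategory.quotient C (ComplexShape.up ℤ)).map g)) := by
          rw [Category.assoc]

variable [F'.IsLeftKanExtension β]

/-- a left Kan extension along `Qh` is a left Kan extension along `Q` -/
theorem isLeftKanExtension_αOf : F'.IsLeftKanExtension (αOf Φ' F' β) := by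
  have hfac : ∀ (T : DerivedCategory C ⥤ H)
      (γ : HomotopyCategory.quotient C (ComplexShape.up ℤ) ⋙ Φ' ⟶ DerivedCategory.Q ⋙ T),
      αOf Φ' F' β ≫ Functor.whiskerLeft DerivedCategory.Q
        (F'.descOfIsLeftKanExtension β T (γOf γ)) = γ := by
    intro T γ
    ext K
    have h1 := F'.descOfIsLeftKanExtension_fac_app β T (γOf γ)
      ((HomotopyCategory.quotient C (ComplexShape.up ℤ)).obj K)
    have h2 := (F'.descOfIsLeftKanExtension β T (γOf γ)).naturality
      ((DerivedCategory.quotientCompQhIso C).hom.app K)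
    simp only [Functor.comp_obj] at h1 h2
    simp only [NatTrans.comp_app, Functor.whiskerLeft_app, αOf, Functor.comp_obj, Category.assoc]
    rw [h2, reassoc_of% h1]
    change (γ.app K ≫ T.map ((DerivedCategory.quotientCompQhIso C).inv.app K)) ≫
      T.map ((DerivedCategory.quotientCompQhIso C).hom.app K) = γ.app K
    have key : T.map ((DerivedCategory.quotientCompQhIso C).inv.app K) ≫
        T.map ((DerivedCategory.quotientCompQhIso C).hom.app K) = 𝟙 _ := by
      rw [← T.map_comp, Iso.inv_hom_id_app, T.map_id]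
    rw [Category.assoc, key]
    exact Category.comp_id _
  have huniq : ∀ (T : DerivedCategory C ⥤ H) (δ₁ δ₂ : F' ⟶ T),
      αOf Φ' F' β ≫ Functor.whiskerLeft DerivedCategory.Q δ₁ =
        αOf Φ' F' β ≫ Functor.whiskerLeft DerivedCategory.Q δ₂ → δ₁ = δ₂ := by
    intro T δ₁ δ₂ h
    apply F'.hom_ext_of_isLeftKanExtension β
    ext X
    have h1 := NatTrans.congr_app h X.as
    have n1 := δ₁.naturality ((DerivedCategory.quotientCompQhIso C).hom.app X.as)
    have n2 := δ₂.naturality ((DerivedCategory.quotientCompQhIso C).hom.app X.as)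
    simp only [NatTrans.comp_app, Functor.whiskerLeft_app, αOf, Functor.comp_obj,
      Category.assoc] at h1 n1 n2
    rw [n1, n2] at h1
    simp only [NatTrans.comp_app, Functor.whiskerLeft_app, Functor.comp_obj]
    haveI : Mono (T.map ((DerivedCategory.quotientCompQhIso C).hom.app X.as)) := inferInstance
    exact (cancel_mono (T.map ((DerivedCategory.quotientCompQhIso C).hom.app X.as))).1
      ((Category.assoc _ _ _).trans (h1.trans (Category.assoc _ _ _).symm))
  refine ⟨⟨Limits.IsInitial.ofUniqueHom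
    (fun G => StructuredArrow.homMk (F'.descOfIsLeftKanExtension β G.right (γOf G.hom))
      (hfac G.right G.hom)) (fun G m => ?_)⟩⟩
  apply StructuredArrow.ext
  apply huniq
  have := StructuredArrow.w m
  exact this.trans (hfac G.right G.hom).symm

end Transfer

section Adj

open Groth.Agent.Lib.helper23 Groth.Agent.Lib.Helper25.DerAdjK

variable {A : Type u₁} {B : Type u₂} [Category.{v₁} A] [Category.{v₂} B] [Abelian A] [Abelian B]
  [HasDerivedCategory.{w₁} A] [HasDerivedCategory.{w₂} B]
  (hKinj : ∀ K : CochainComplex B ℤ, ∃ (I : CochainComplex B ℤ) (f : K ⟶ I),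
    I.IsKInjective ∧ QuasiIso f)
  {F : A ⥤ B} {G : B ⥤ A} (adj : F ⊣ G) [F.Additive] [G.Additive]
  [Limits.PreservesFiniteLimits F] [Limits.PreservesFiniteColimits F]
  (RG : DerivedCategory B ⥤ DerivedCategory A)
  (α : G.mapHomologicalComplex (ComplexShape.up ℤ) ⋙ DerivedCategory.Q ⟶ DerivedCategory.Q ⋙ RG)
  [RG.IsRightDerivedFunctor α (HomologicalComplex.quasiIso B (ComplexShape.up ℤ))]

include hKinj adj α in
/-- **Derived adjunction**, for a right derived functor defined on cochain complexes. -/
theorem nonempty_adjunction : Nonempty (F.mapDerivedCategory ⊣ RG) := by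
  obtain ⟨r, e, hr, -⟩ := exists_fibrant hKinj
  obtain ⟨Φ', hΦ'⟩ : ∃ Φ' : HomotopyCategory B (ComplexShape.up ℤ) ⥤ DerivedCategory A,
      Φ' = G.mapHomotopyCategory (ComplexShape.up ℤ) ⋙ DerivedCategory.Qh := ⟨_, rfl⟩
  obtain ⟨RG', hRG'⟩ : ∃ RG' : DerivedCategory B ⥤ DerivedCategory A,
      RG' = RDerK.R DerivedCategory.Qh r e hr ⋙ Φ' := ⟨_, rfl⟩
  obtain ⟨β', hβ'⟩ : ∃ β' : Φ' ⟶ DerivedCategory.Qh ⋙ RG',
      HEq β' (RDerK.η DerivedCategory.Qh r e hr Φ') := by
    subst hRG'
    exact ⟨_, HEq.rfl⟩
  haveI hK : RG'.IsLeftKanExtension β' := by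
    subst hRG'
    obtain rfl := eq_of_heq hβ'
    exact RDerK.isLeftKanExtension DerivedCategory.Qh r e hr Φ'
  haveI : RG'.IsRightDerivedFunctor β' (HomotopyCategory.quasiIso B (ComplexShape.up ℤ)) := ⟨hK⟩
  subst hΦ'
  obtain ⟨adj', -⟩ := exists_adjunction hKinj adj RG' β'
  haveI h5 := isLeftKanExtension_αOf _ RG' β'
  let e' : HomotopyCategory.quotient B (ComplexShape.up ℤ) ⋙
      (G.mapHomotopyCategory (ComplexShape.up ℤ) ⋙ DerivedCategory.Qh) ≅
      G.mapHomologicalComplex (ComplexShape.up ℤ) ⋙ DerivedCategory.Q :=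
    (Functor.associator _ _ _).symm ≪≫
      Functor.isoWhiskerRight (G.mapHomotopyCategoryFactors (ComplexShape.up ℤ))
        DerivedCategory.Qh ≪≫ Functor.associator _ _ _ ≪≫
      Functor.isoWhiskerLeft (G.mapHomologicalComplex (ComplexShape.up ℤ))
        (DerivedCategory.quotientCompQhIso A)
  haveI h7 : RG'.IsLeftKanExtension (e'.inv ≫ αOf _ RG' β') :=
    (Functor.isLeftKanExtension_iff_of_iso₂ (αOf _ RG' β') (e'.inv ≫ αOf _ RG' β') e'
      (Iso.refl RG') (by simp)).1 h5
  haveI h8 : RG.IsLeftKanExtension α := Functor.IsRightDerivedFunctor.isLeftKanExtension RG α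
    (HomologicalComplex.quasiIso B (ComplexShape.up ℤ))
  exact ⟨adj'.ofNatIsoRight (Functor.leftKanExtensionUnique RG' (e'.inv ≫ αOf _ RG' β') RG α)⟩

end Adj

end Groth.Agent.Lib.Helper25.DerAdjQ
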