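import Mathlib
import Groth.Agent.Lib.Helper25.DerivedTrunc

/-!
# A chain of `n+1` cohomologically zero maps between objects of amplitude `[a, a+n]` composes to zero
(version for `ComposableArrows`)
-/

set_option autoImplicit false
open CategoryTheory CategoryTheory.Limits Pretriangulated
universe w v u

namespace Groth.Agent.Lib.helper25.DerivedTrunc

open DerivedCategory

variable {C : Type u} [Category.{v} C] [Abelian C] [HasDerivedCategory.{w} C]

theorem chain_eq_zero (a : ℤ) (n : ℕ) :
    ∀ (K : ComposableArrows (DerivedCategory C) (n + 1)),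
    (∀ i : Fin (n + 2), (K.obj i).IsGE a) →
    (∀ i : Fin (n + 2), (K.obj i).IsLE (a + n)) →
    (∀ (i : ℕ) (hi : i < n + 1) (q : ℤ),
      (homologyFunctor C q).map (K.map' i (i + 1)) = 0) →
    K.map' 0 (n + 1) = 0 := by
  induction n with
  | zero =>
    intro K hGE hLE hzero
    have h0 : (K.obj' 0).IsGE a := hGE ⟨0, by omega⟩
    have h1 : (K.obj' 1).IsGE a := hGE ⟨1, by omega⟩
    have h0' : (K.obj' 0).IsLE a := by simpa using hLE ⟨0, by omega⟩
    have h1' : (K.obj' 1).IsLE a := by simpa using hLE ⟨1, by omega⟩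
    exact eq_zero_of_single_degree a (K.map' 0 1) (hzero 0 (by omega) a)
  | succ n ih =>
    intro K hGE hLE hzero
    obtain ⟨m, hm⟩ : ∃ m : ℤ, m = a + n + 1 := ⟨_, rfl⟩
    have hLE' : ∀ i : Fin (n + 1 + 2), (K.obj i).IsLE m := by
      intro i
      have := hLE i
      rw [hm]
      have e : a + ((n + 1 : ℕ) : ℤ) = a + n + 1 := by push_cast; ring
      rw [← e]
      exact this
    let K' : ComposableArrows (DerivedCategory C) (n + 1) := K.δ₀ ⋙ (tD C).truncLT m
    have hK' : K'.map' 0 (n + 1) = 0 := by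
      apply ih K'
      · intro i
        have := hGE i.succ
        exact isGE_truncLT m a (K.obj i.succ)
      · intro i
        exact (tD C).isLE_truncLT_obj (K.obj i.succ) m (a + n) (by omega)
      · intro i hi q
        have h1 : K'.map' i (i + 1) = ((tD C).truncLT m).map (K.map' (i + 1) (i + 1 + 1)) := rfl
        rw [h1]
        exact homology_truncLT_map_eq_zero m q _ (hzero (i + 1) (by omega) q)
    have hK'' : ((tD C).truncLT m).map (K.map' 1 (n + 1 + 1)) = 0 := hK'
    have hf₀ : K.map' 0 1 ≫ ((tD C).truncGEπ m).app (K.obj' 1) = 0 := by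
      have hn : K.map' 0 1 ≫ ((tD C).truncGEπ m).app (K.obj' 1) =
          ((tD C).truncGEπ m).app (K.obj' 0) ≫ ((tD C).truncGE m).map (K.map' 0 1) :=
        ((tD C).truncGEπ m).naturality _
      rw [hn]
      have : (K.obj' 0).IsLE m := hLE' ⟨0, by omega⟩
      have : (K.obj' 1).IsLE m := hLE' ⟨1, by omega⟩
      have hA : (((tD C).truncGE m).obj (K.obj' 0)).IsLE m := isLE_truncGE m m _
      have hB : (((tD C).truncGE m).obj (K.obj' 1)).IsLE m := isLE_truncGE m m _
      have hA' : (((tD C).truncGE m).obj (K.obj' 0)).IsGE m := inferInstance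
      have hB' : (((tD C).truncGE m).obj (K.obj' 1)).IsGE m := inferInstance
      have hz : ((tD C).truncGE m).map (K.map' 0 1) = 0 :=
        eq_zero_of_single_degree m _
          (homology_truncGE_map_eq_zero m m _ (hzero 0 (by omega) m))
      rw [hz, comp_zero]
    obtain ⟨g, hg⟩ : ∃ g : K.obj' 0 ⟶ ((tD C).truncLT m).obj (K.obj' 1),
        K.map' 0 1 = g ≫ ((tD C).truncLTι m).app (K.obj' 1) :=
      Triangle.coyoneda_exact₂ _ ((tD C).triangleLTGE_distinguished m (K.obj' 1))
        (K.map' 0 1) hf₀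
    have hnat : ((tD C).truncLTι m).app (K.obj' 1) ≫ K.map' 1 (n + 1 + 1) =
        ((tD C).truncLT m).map (K.map' 1 (n + 1 + 1)) ≫
          ((tD C).truncLTι m).app (K.obj' (n + 1 + 1)) :=
      (((tD C).truncLTι m).naturality _).symm
    have hz : ((tD C).truncLTι m).app (K.obj' 1) ≫ K.map' 1 (n + 1 + 1) = 0 := by
      rw [hnat, hK'', zero_comp]
    calc K.map' 0 (n + 1 + 1)
        = K.map' 0 1 ≫ K.map' 1 (n + 1 + 1) := K.map'_comp 0 1 (n + 1 + 1)
      _ = (g ≫ ((tD C).truncLTι m).app (K.obj' 1)) ≫ K.map' 1 (n + 1 + 1) := by rw [hg]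
      _ = g ≫ (((tD C).truncLTι m).app (K.obj' 1) ≫ K.map' 1 (n + 1 + 1)) :=
          Category.assoc _ _ _
      _ = g ≫ 0 := congrArg (fun z => g ≫ z) hz
      _ = 0 := comp_zero

end Groth.Agent.Lib.helper25.DerivedTrunc
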