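import Mathlib
import Groth.Agent.Lib.Helper25.KosMain

/-!
# The Koszul object on `Spec A` (helper25)

* `selfOver A`: `Spec A` over itself by the identity (used as a local instance here).
* `linear_tilde`, `linear_tildeD`: `M ↦ M~` and `D(A) ⥤ D(O_{Spec A})` are `A`-linear (for `KLin.linearOver` with
  respect to `selfOver`).
* `tildeDSingleIso`, `isKos_tilde`: the object attached to `Koszul.koszul A fs` satisfies `KosObj.IsKos`.
* `basicOpen_toGlobal`, `mem_puncturedOpen_iff`, `isCompact_puncturedOpen`: `LocCoh.puncturedOpen A (f₁, …, f_r)`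
  is the quasi-compact union of the `D(f_i)`.
* `setting`: the data of S1095/S1096/S1044 form a `KosMain.Setting`.
-/

set_option autoImplicit false
universe u
open CategoryTheory CategoryTheory.Limits AlgebraicGeometry Opposite

attribute [local instance] HasDerivedCategory.standard

namespace Groth.Agent.Lib.Helper25.KosTilde

open Pretriangulated DerivedCategory TopologicalSpace Scheme.Modules
open Groth.Agent.Lib.Helper25.KosObj

variable (A : Type u) [CommRing A]

/-- `Spec A` over itself by the identity -/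
noncomputable abbrev selfOver : (Spec (CommRingCat.of A)).Over (Spec (CommRingCat.of A)) := ⟨𝟙 _⟩

attribute [local instance 2000] selfOver

example : ((Spec (CommRingCat.of A)) ↘ (Spec (CommRingCat.of A))) = 𝟙 _ := rfl

instance linear_tilde : (tilde.functor (CommRingCat.of A)).Linear A := by
  refine (Functor.linear_iff A _).mpr fun M a => ?_
  rw [KLin.smul_id]
  unfold Formal.smulMod
  apply (tilde.adjunction.homEquiv M _).injective
  rw [Adjunction.homEquiv_unit, Adjunction.homEquiv_unit]
  have h1 := tilde.adjunction.unit.naturality (a • 𝟙 M)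
  refine h1.symm.trans ?_
  ext m
  show (tilde.adjunction.unit.app M).hom (a • m) = _
  rw [LinearMap.map_smul]
  rfl

variable [PreservesFiniteLimits (tilde.functor (CommRingCat.of A))]

instance linear_tildeD : (DCoh.tildeD (CommRingCat.of A)).Linear A :=
  inferInstanceAs ((tilde.functor (CommRingCat.of A)).mapDerivedCategory.Linear A)

/-- `(A in degree 0)~ ≅ O_X` in degree `0` -/
noncomputable def tildeDSingleIso :
    (DCoh.tildeD (CommRingCat.of A)).obj (Q.obj
      ((CochainComplex.singleFunctor (ModuleCat.{u} A) 0).obj (ModuleCat.of A A))) ≅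
      QCCEv.Sp (Spec (CommRingCat.of A)) 0 :=
  ((tilde.functor (CommRingCat.of A)).mapDerivedCategoryFactors).app _ ≪≫
    Q.mapIso ((HomologicalComplex.singleMapHomologicalComplex (tilde.functor (CommRingCat.of A))
      (ComplexShape.up ℤ) 0).app (ModuleCat.of A A)) ≪≫
    ((DerivedCategory.singleFunctorIsoCompQ (Spec (CommRingCat.of A)).Modules 0).app
      (Coh.structureModule (Spec (CommRingCat.of A)))).symm

/-- the object of `D(O_{Spec A})` attached to the Koszul complex is of Koszul type -/
theorem isKos_tilde : ∀ fs : List A, IsKos A (Spec (CommRingCat.of A)) fs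
    ((DCoh.tildeD (CommRingCat.of A)).obj (Q.obj (Koszul.koszul A fs)))
  | [] => ⟨tildeDSingleIso A⟩
  | f :: l => by
    let F := DCoh.tildeD (CommRingCat.of A)
    let φ : Koszul.koszul A l ⟶ Koszul.koszul A l := f • 𝟙 (Koszul.koszul A l)
    have hT := F.map_distinguished _ (DerivedCategory.mappingCone_triangle_distinguished φ)
    refine ⟨F.obj (Q.obj (Koszul.koszul A l)), F.map (Q.map φ), F.map (Q.map (CochainComplex.mappingCone.inr φ)),
      F.map (Q.map (CochainComplex.mappingCone.triangle φ).mor₃ ≫ (Q.commShiftIso (1 : ℤ)).hom.app _) ≫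
        (F.commShiftIso (1 : ℤ)).hom.app _, isKos_tilde l, ?_, hT⟩
    show F.map (Q.map (f • 𝟙 (Koszul.koszul A l))) = _
    rw [Functor.map_smul, Functor.map_smul, CategoryTheory.Functor.map_id,
      CategoryTheory.Functor.map_id]

omit [PreservesFiniteLimits (tilde.functor (CommRingCat.of A))] in
lemma basicOpen_toGlobal (a : A) :
    (Spec (CommRingCat.of A)).basicOpen (show Γ(Spec (CommRingCat.of A), ⊤) from
      Coh.toGlobal (Spec (CommRingCat.of A) ↘ Spec (CommRingCat.of A)) a) =
      PrimeSpectrum.basicOpen a :=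
  basicOpen_eq_of_affine (R := CommRingCat.of A) a

omit [PreservesFiniteLimits (tilde.functor (CommRingCat.of A))] in
lemma mem_puncturedOpen_iff (fs : List A) (x : PrimeSpectrum A) :
    x ∈ (PrimeSpectrum.zeroLocus (R := A) ((Ideal.span {a | a ∈ fs} : Ideal A) : Set A))ᶜ ↔
      ∃ a ∈ fs, x ∈ (PrimeSpectrum.basicOpen a : Set (PrimeSpectrum A)) := by
  rw [PrimeSpectrum.zeroLocus_span, Set.mem_compl_iff, PrimeSpectrum.mem_zeroLocus,
    Set.not_subset]
  constructor
  · rintro ⟨a, ha, hax⟩
    exact ⟨a, ha, hax⟩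
  · rintro ⟨a, ha, hax⟩
    exact ⟨a, ha, hax⟩

omit [PreservesFiniteLimits (tilde.functor (CommRingCat.of A))] in
lemma isCompact_puncturedOpen (fs : List A) :
    IsCompact ((LocCoh.puncturedOpen A (Ideal.span {a | a ∈ fs}) :
      (Spec (CommRingCat.of A)).Opens) : Set (Spec (CommRingCat.of A))) := by
  have h : (PrimeSpectrum.zeroLocus (R := A) ((Ideal.span {a | a ∈ fs} : Ideal A) : Set A))ᶜ =
      ⋃ a ∈ {a | a ∈ fs}, ((PrimeSpectrum.basicOpen a : Opens (PrimeSpectrum A)) :
        Set (PrimeSpectrum A)) := by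
    ext x
    rw [Set.mem_iUnion₂]
    exact (mem_puncturedOpen_iff A fs x).trans
      ⟨fun ⟨a, ha, hx⟩ => ⟨a, ha, hx⟩, fun ⟨a, ha, hx⟩ => ⟨a, ha, hx⟩⟩
  show IsCompact (PrimeSpectrum.zeroLocus (R := A) ((Ideal.span {a | a ∈ fs} : Ideal A) : Set A))ᶜ
  rw [h]
  exact (List.finite_toSet fs).isCompact_biUnion (fun a _ => PrimeSpectrum.isCompact_basicOpen a)

/-- the setting of `KosMain` for `Spec A`, the punctured open of `(f₁, …, f_r)` and the Koszul object -/
theorem setting (fs : List A)
    [DCoh.HasRpush (LocCoh.puncturedOpen A (Ideal.span {a | a ∈ fs})).ι]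
    (adj : DCoh.restrictD (LocCoh.puncturedOpen A (Ideal.span {a | a ∈ fs})).ι ⊣
      DCoh.Rpush (LocCoh.puncturedOpen A (Ideal.span {a | a ∈ fs})).ι)
    (E : DCoh.D (Spec (CommRingCat.of A))) (hE : DCoh.IsQCohD E) :
    KosMain.Setting fs (LocCoh.puncturedOpen A (Ideal.span {a | a ∈ fs})) adj
      ((DCoh.tildeD (CommRingCat.of A)).obj (Q.obj (Koszul.koszul A fs))) E where
  hUc := isCompact_puncturedOpen A fs
  hle := by
    intro a ha x hx
    rw [basicOpen_toGlobal] at hx
    exact (mem_puncturedOpen_iff A fs x).2 ⟨a, ha, hx⟩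
  hcov := by
    intro x hx
    obtain ⟨a, ha, hxa⟩ := (mem_puncturedOpen_iff A fs x).1 hx
    refine ⟨a, ha, ?_⟩
    rw [basicOpen_toGlobal]
    exact hxa
  hK := isKos_tilde A fs
  hE := hE

end Groth.Agent.Lib.Helper25.KosTilde
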