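import Groth.Agent.S0997
import Groth.Agent.Lib.Helper21.TildeHom3
import Groth.Agent.Lib.Helper25.DetectBasis
import Groth.Agent.Lib.Helper25.HomLocPerf
import Groth.Agent.Lib.Helper25.LiftCover
import Groth.Agent.Lib.Helper25.KosTilde

/-!
# A criterion for quasi-coherence of the cohomology sheaves of an object of `D(O_{Spec A})` (helper25)

`S = Spec A`, `W_a = D(a)`.

* `isBasis_Wa`: the `W_a` form a basis.
* `bijective_comp_counit`: for `F ⊣ G` with `F` fully faithful, composition with the counit is bijective on `Hom(F P, -)`.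
* `spIso p : O_S[-p] ≅ (A[-p])~`, `resSpIso W p : (O_S[-p])|_W ≅ O_W[-p]`.
* `isZero_HD_cone`: vanishing of `H^n` of the cone of the counit `(RΓ Y)~ ⟶ Y` from bijectivity statements on `W_a`.
* `isQCohD_of_isLocAt`: if for all `a`, `p` the restriction map `Hom(O_S[-p], Y) ⟶ Hom(O_{W_a}[-p], Y|_{W_a})` is a localization
  at `a`, then `Y ∈ D_QCoh`.
-/

set_option autoImplicit false
universe u
open CategoryTheory CategoryTheory.Limits AlgebraicGeometry Opposite TopologicalSpace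
attribute [local instance] HasDerivedCategory.standard

namespace Groth.Agent.Lib.Helper25.QCohCrit

open Pretriangulated DerivedCategory Scheme.Modules
open Groth.Agent.Lib.Helper25.HomLocPerf Groth.Agent.Lib.Helper25.RHomAbs
  Groth.Agent.Lib.Helper25.QCCEv Groth.Agent.Lib.Helper25.DetectBasis

section Abstract

variable {C D : Type*} [Category C] [Category D] {F : C ⥤ D} {G : D ⥤ C} (adj : F ⊣ G)

include adj in
/-- for a fully faithful left adjoint, composition with the counit is bijective on `Hom(F P, -)` -/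
lemma bijective_comp_counit [F.Full] [F.Faithful] (P : C) (Y : D) :
    Function.Bijective (fun β : F.obj P ⟶ F.obj (G.obj Y) => β ≫ adj.counit.app Y) := by
  have h1 : Function.Bijective (fun g : P ⟶ G.obj Y => F.map g) :=
    ⟨fun _ _ h => F.map_injective h, fun β => ⟨F.preimage β, F.map_preimage β⟩⟩
  have h2 : (fun β : F.obj P ⟶ F.obj (G.obj Y) => β ≫ adj.counit.app Y) ∘
      (fun g : P ⟶ G.obj Y => F.map g) = (adj.homEquiv P Y).symm := by
    funext g
    simp [Adjunction.homEquiv_counit]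
  exact (Function.Bijective.of_comp_iff _ h1).1 (h2 ▸ (adj.homEquiv P Y).symm.bijective)

end Abstract

variable (A : Type u) [CommRing A]

attribute [local instance 2000] Groth.Agent.Lib.Helper25.KosTilde.selfOver

/-- the basic open `D(a)` of `Spec A`, in the form used by `HomLocPerf` -/
noncomputable abbrev Wa (a : A) : (Spec (CommRingCat.of A)).Opens :=
  (Spec (CommRingCat.of A)).basicOpen
    (show Γ(Spec (CommRingCat.of A), ⊤) from
      Coh.toGlobal (Spec (CommRingCat.of A) ↘ Spec (CommRingCat.of A)) a)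

lemma Wa_eq (a : A) : Wa A a = PrimeSpectrum.basicOpen a := by
  have h : (show Γ(Spec (CommRingCat.of A), ⊤) from
      Coh.toGlobal (Spec (CommRingCat.of A) ↘ Spec (CommRingCat.of A)) a) =
      (Scheme.ΓSpecIso (CommRingCat.of A)).inv a := by
    change ((Spec (CommRingCat.of A) ↘ Spec (CommRingCat.of A)).appTop.hom)
      ((Scheme.ΓSpecIso (CommRingCat.of A)).inv.hom a) = _
    rfl
  unfold Wa
  rw [h]
  exact basicOpen_eq_of_affine (R := CommRingCat.of A) a

lemma isBasis_Wa : Opens.IsBasis (Set.range (Wa A)) := by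
  have h : Set.range (Wa A) = Set.range (@PrimeSpectrum.basicOpen A _) := by
    congr 1
    funext a
    exact Wa_eq A a
  rw [h]
  exact PrimeSpectrum.isBasis_basic_opens


section Tri

variable {C : Type*} [Category C] [Preadditive C] [HasZeroObject C] [HasShift C ℤ]
  [∀ n : ℤ, (shiftFunctor C n).Additive] [Pretriangulated C]

/-- in a distinguished triangle `Z ⟶ Y ⟶ Cn ⟶ Z[1]`, maps `G ⟶ Cn` vanish as soon as `Hom(G, Z) ⟶ Hom(G, Y)` is
surjective and `Hom(G[-1], Z) ⟶ Hom(G[-1], Y)` is injective -/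
lemma eq_zero_of_surj_inj (T : Triangle C) (hT : T ∈ distTriang C) (G : C)
    (hsurj : Function.Surjective (fun y : G ⟶ T.obj₁ => y ≫ T.mor₁))
    (hinj : Function.Injective (fun y : G⟦(-1 : ℤ)⟧ ⟶ T.obj₁ => y ≫ T.mor₁))
    (φ : G ⟶ T.obj₃) : φ = 0 := by
  have h1 : φ ≫ T.mor₃ = 0 := by
    let adjS : shiftFunctor C (-1 : ℤ) ⊣ shiftFunctor C (1 : ℤ) :=
      (shiftEquiv' C (-1 : ℤ) 1 (by omega)).toAdjunction
    let y' : G⟦(-1 : ℤ)⟧ ⟶ T.obj₁ := (adjS.homEquiv G T.obj₁).symm (φ ≫ T.mor₃)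
    have hy' : y' ≫ T.mor₁ = 0 := by
      have h3 := adjS.homEquiv_naturality_right_symm (φ ≫ T.mor₃) T.mor₁
      have h4 : (φ ≫ T.mor₃) ≫ (shiftFunctor C (1 : ℤ)).map T.mor₁ = 0 := by
        rw [Category.assoc]
        have h6 : T.mor₃ ≫ (shiftFunctor C (1 : ℤ)).map T.mor₁ = 0 :=
          comp_distTriang_mor_zero₃₁ _ hT
        rw [h6, comp_zero]
      rw [← h3, h4]
      exact Groth.Agent.Lib.Helper25.QCCRpush.homEquiv_symm_zero adjS _ _
    have hy0 : y' = 0 := hinj (by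
      change y' ≫ T.mor₁ = 0 ≫ T.mor₁
      rw [hy', zero_comp])
    have h5 := congrArg (adjS.homEquiv G T.obj₁) hy0
    rw [Equiv.apply_symm_apply] at h5
    rw [h5]
    exact Groth.Agent.Lib.Helper25.QCCRpush.homEquiv_zero adjS _ _
  obtain ⟨z, hz⟩ := Triangle.coyoneda_exact₃ _ hT φ h1
  obtain ⟨y, hy⟩ := hsurj z
  have h12 : T.mor₁ ≫ T.mor₂ = 0 := comp_distTriang_mor_zero₁₂ _ hT
  have hz' : φ = z ≫ T.mor₂ := hz
  have hy' : y ≫ T.mor₁ = z := hy
  exact hz'.trans ((congrArg (fun w => w ≫ T.mor₂) hy'.symm).trans ((Category.assoc y T.mor₁ T.mor₂).trans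
    ((congrArg (fun w => y ≫ w) h12).trans comp_zero)))

end Tri

instance instPFLTilde : PreservesFiniteLimits (tilde.functor (CommRingCat.of A)) :=
  Groth.Agent.S9498.preservesFiniteLimits_tilde _

/-- `(A[-p])~ ≅ O_S[-p]` -/
noncomputable def spIso (p : ℤ) :
    (DCoh.tildeD (CommRingCat.of A)).obj
      ((singleFunctor (ModuleCat.{u} (CommRingCat.of A)) p).obj
        (ModuleCat.of (CommRingCat.of A) (CommRingCat.of A))) ≅
      Sp (Spec (CommRingCat.of A)) p :=
  ((tilde.functor (CommRingCat.of A)).mapDerivedCategorySingleFunctor p).app _ ≪≫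
    (singleFunctor _ p).mapIso (tildeSelf (R := CommRingCat.of A))

/-- `(O_Y[-p])|_W ≅ O_W[-p]` -/
noncomputable def resSpIso {Y : Scheme.{u}} (W : Y.Opens) (p : ℤ) :
    (DCoh.restrictD W.ι).obj (Sp Y p) ≅ Sp (W : Scheme.{u}) p :=
  ((Scheme.Modules.restrictFunctor W.ι).mapDerivedCategorySingleFunctor p).app _ ≪≫
    (singleFunctor _ p).mapIso (Scheme.Modules.restrictUnitIso W.ι)

/-- `(O_Y[-p])[-1] ≅ O_Y[-(p+1)]` -/
noncomputable def spShiftIso (Y : Scheme.{u}) (p : ℤ) :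
    (Sp Y p)⟦(-1 : ℤ)⟧ ≅ Sp Y (p + 1) :=
  ((DerivedCategory.singleFunctors Y.Modules).shiftIso (-1) (p + 1) p (by omega)).app
    (Coh.structureModule Y)


section LocSplit

variable {P Q P' Q' : Type*} [AddCommGroup P] [AddCommGroup Q] [AddCommGroup P'] [AddCommGroup Q']

/-- injectivity half of `IsLocAt.bijective_of_square`, with the minimal hypotheses -/
theorem injective_of_square {fP : P →+ P} {fQ : Q →+ Q} {ρ : P →+ Q}
    {fP' : P' →+ P'} {fQ' : Q' →+ Q'} {ρ' : P' →+ Q'}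
    (hcomm : ∀ x, ρ (fP x) = fQ (ρ x)) (hinjQ : Function.Injective fQ)
    (hsurj : ∀ y, ∃ (n : ℕ) (x : P), ρ x = (fQ^[n]) y)
    (hker' : ∀ x, ρ' x = 0 → ∃ n : ℕ, (fP'^[n]) x = 0)
    (a : P →+ P') (b : Q →+ Q') (ha : Function.Injective a) (hsq : ∀ x, b (ρ x) = ρ' (a x))
    (haf : ∀ x, a (fP x) = fP' (a x)) (hbf : ∀ y, b (fQ y) = fQ' (b y)) : Function.Injective b := by
  rw [injective_iff_map_eq_zero]
  intro δ hδ
  obtain ⟨n, γ, hγ⟩ := hsurj δ
  have h1 : ρ' (a γ) = 0 := by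
    rw [← hsq, hγ, iterate_comm fQ fQ' b hbf, hδ, RHomAbs.iterate_map_zero]
  obtain ⟨m, hm⟩ := hker' _ h1
  have h2 : a (fP^[m] γ) = 0 := by rw [iterate_comm fP fP' a haf, hm]
  have h3 : fP^[m] γ = 0 := by
    apply ha
    rw [h2, map_zero]
  have h4 : fQ^[m] (fQ^[n] δ) = 0 := by
    rw [← hγ, ← iterate_comm fP fQ ρ hcomm, h3, map_zero]
  have h5 : fQ^[m] (fQ^[n] δ) = fQ^[m] (fQ^[n] 0) := by
    rw [h4, RHomAbs.iterate_map_zero, RHomAbs.iterate_map_zero]
  exact (hinjQ.iterate n) ((hinjQ.iterate m) h5)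

/-- surjectivity half of `IsLocAt.bijective_of_square`, with the minimal hypotheses -/
theorem surjective_of_square {fQ : Q →+ Q} {ρ : P →+ Q}
    {fQ' : Q' →+ Q'} {ρ' : P' →+ Q'}
    (hsurjQ : Function.Surjective fQ) (hinjQ' : Function.Injective fQ')
    (hsurj' : ∀ y, ∃ (n : ℕ) (x : P'), ρ' x = (fQ'^[n]) y)
    (a : P →+ P') (b : Q →+ Q') (ha : Function.Surjective a) (hsq : ∀ x, b (ρ x) = ρ' (a x))
    (hbf : ∀ y, b (fQ y) = fQ' (b y)) : Function.Surjective b := by
  intro δ'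
  obtain ⟨n, γ', hγ'⟩ := hsurj' δ'
  obtain ⟨γ, rfl⟩ := ha γ'
  obtain ⟨δ, hδ⟩ := (hsurjQ.iterate n) (ρ γ)
  refine ⟨δ, ?_⟩
  apply hinjQ'.iterate n
  rw [← iterate_comm fQ fQ' b hbf, hδ, hsq, hγ']

end LocSplit

section Main

variable (Y : DCoh.D (Spec (CommRingCat.of A)))

instance quasiCompact_Wa_ι (a : A) : QuasiCompact (Wa A a).ι := by
  have h : IsAffineOpen (Wa A a) := (isAffineOpen_top (Spec (CommRingCat.of A))).basicOpen _
  haveI : IsAffine (Wa A a : Scheme.{u}) := h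
  infer_instance

/-- the hypothesis of the criterion: `Hom(O_S[-p], Y) ⟶ Hom(O_W[-p], Y|_W)`, `W = D(a)`, is a localization at `a` -/
abbrev LocHyp (a : A) (p : ℤ) : Prop :=
  IsLocAt (preHom (a • 𝟙 (Sp (Spec (CommRingCat.of A)) p)) Y)
    (preHom ((DCoh.restrictD (Wa A a).ι).map (a • 𝟙 (Sp (Spec (CommRingCat.of A)) p))) _)
    (resHom (Wa A a) (Sp (Spec (CommRingCat.of A)) p) Y)

/-- the surjectivity part of `LocHyp` -/
abbrev LocSurj (a : A) (p : ℤ) : Prop :=
  ∀ y : (DCoh.restrictD (Wa A a).ι).obj (Sp (Spec (CommRingCat.of A)) p) ⟶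
      (DCoh.restrictD (Wa A a).ι).obj Y,
    ∃ (n : ℕ) (x : Sp (Spec (CommRingCat.of A)) p ⟶ Y),
      resHom (Wa A a) (Sp (Spec (CommRingCat.of A)) p) Y x =
        ((preHom ((DCoh.restrictD (Wa A a).ι).map (a • 𝟙 (Sp (Spec (CommRingCat.of A)) p))) _)^[n]) y

/-- the kernel part of `LocHyp` -/
abbrev LocKer (a : A) (p : ℤ) : Prop :=
  ∀ x : Sp (Spec (CommRingCat.of A)) p ⟶ Y,
    resHom (Wa A a) (Sp (Spec (CommRingCat.of A)) p) Y x = 0 →
      ∃ n : ℕ, ((preHom (a • 𝟙 (Sp (Spec (CommRingCat.of A)) p)) Y)^[n]) x = 0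

variable {A} in
/-- composition with the counit `(RΓ Y)~ ⟶ Y` is bijective on `Hom(O_S[-p], -)` -/
lemma bijective_rightComp_counit
    {RG : DCoh.D (Spec (CommRingCat.of A)) ⥤ DerivedCategory (ModuleCat.{u} (CommRingCat.of A))}
    (adjt : DCoh.tildeD (CommRingCat.of A) ⊣ RG)
    [(DCoh.tildeD (CommRingCat.of A)).Full] [(DCoh.tildeD (CommRingCat.of A)).Faithful] (p : ℤ) :
    Function.Bijective (Preadditive.rightComp (Sp (Spec (CommRingCat.of A)) p)
      (adjt.counit.app Y)) := by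
  have h0 := bijective_comp_counit adjt
    ((singleFunctor (ModuleCat.{u} (CommRingCat.of A)) p).obj
      (ModuleCat.of (CommRingCat.of A) (CommRingCat.of A))) Y
  constructor
  · intro x x' hx
    have h1 : (spIso A p).hom ≫ x = (spIso A p).hom ≫ x' := h0.1 (by
      change ((spIso A p).hom ≫ x) ≫ adjt.counit.app Y = ((spIso A p).hom ≫ x') ≫ adjt.counit.app Y
      rw [Category.assoc, Category.assoc]
      exact congrArg (fun w => (spIso A p).hom ≫ w) hx)
    exact (cancel_epi (spIso A p).hom).1 h1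
  · intro z
    obtain ⟨β, hβ⟩ := h0.2 ((spIso A p).hom ≫ z)
    refine ⟨(spIso A p).inv ≫ β, ?_⟩
    change ((spIso A p).inv ≫ β) ≫ adjt.counit.app Y = z
    have hβ' : β ≫ adjt.counit.app Y = (spIso A p).hom ≫ z := hβ
    rw [Category.assoc, hβ', Iso.inv_hom_id_assoc]

variable {A} in
/-- the restriction to `D(a)` of the counit `(RΓ Y)~ ⟶ Y` induces an injection on `Hom(O[-p]|_{D(a)}, -)` -/
theorem injective_res_counit
    {RG : DCoh.D (Spec (CommRingCat.of A)) ⥤ DerivedCategory (ModuleCat.{u} (CommRingCat.of A))}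
    (adjt : DCoh.tildeD (CommRingCat.of A) ⊣ RG)
    [(DCoh.tildeD (CommRingCat.of A)).Full] [(DCoh.tildeD (CommRingCat.of A)).Faithful]
    (hZq : DCoh.IsQCohD ((DCoh.tildeD (CommRingCat.of A)).obj (RG.obj Y)))
    (a : A) (p : ℤ) (hk : LocKer A Y a p) :
    Function.Injective (fun y : (DCoh.restrictD (Wa A a).ι).obj (Sp (Spec (CommRingCat.of A)) p) ⟶
        (DCoh.restrictD (Wa A a).ι).obj ((DCoh.tildeD (CommRingCat.of A)).obj (RG.obj Y)) =>
      y ≫ (DCoh.restrictD (Wa A a).ι).map (adjt.counit.app Y)) := by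
  have hZ := HomLocPerf.isLocAt_restrict A (Spec (CommRingCat.of A)) a (Sp _ p) _
    (Groth.Agent.Lib.Helper25.QCCRpush.isPerfect_Sp _ p) hZq
  exact injective_of_square (fQ' := preHom ((DCoh.restrictD (Wa A a).ι).map
      (a • 𝟙 (Sp (Spec (CommRingCat.of A)) p))) ((DCoh.restrictD (Wa A a).ι).obj Y))
    hZ.comm hZ.bij.1 hZ.surj hk
    (Preadditive.rightComp _ (adjt.counit.app Y))
    (Preadditive.rightComp _ ((DCoh.restrictD (Wa A a).ι).map (adjt.counit.app Y)))
    (bijective_rightComp_counit Y adjt p).1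
    (fun x => ((DCoh.restrictD (Wa A a).ι).map_comp x (adjt.counit.app Y)).symm)
    (fun x => by
      change (_ ≫ x) ≫ _ = _ ≫ (x ≫ _)
      rw [Category.assoc]) (fun y => by
      change (_ ≫ y) ≫ _ = _ ≫ (y ≫ _)
      rw [Category.assoc])

variable {A} in
/-- the restriction to `D(a)` of the counit `(RΓ Y)~ ⟶ Y` induces a surjection on `Hom(O[-p]|_{D(a)}, -)` -/
theorem surjective_res_counit
    {RG : DCoh.D (Spec (CommRingCat.of A)) ⥤ DerivedCategory (ModuleCat.{u} (CommRingCat.of A))}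
    (adjt : DCoh.tildeD (CommRingCat.of A) ⊣ RG)
    [(DCoh.tildeD (CommRingCat.of A)).Full] [(DCoh.tildeD (CommRingCat.of A)).Faithful]
    (hZq : DCoh.IsQCohD ((DCoh.tildeD (CommRingCat.of A)).obj (RG.obj Y)))
    (a : A) (p : ℤ) (hs : LocSurj A Y a p) :
    Function.Surjective (fun y : (DCoh.restrictD (Wa A a).ι).obj (Sp (Spec (CommRingCat.of A)) p) ⟶
        (DCoh.restrictD (Wa A a).ι).obj ((DCoh.tildeD (CommRingCat.of A)).obj (RG.obj Y)) =>
      y ≫ (DCoh.restrictD (Wa A a).ι).map (adjt.counit.app Y)) := by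
  have hZ := HomLocPerf.isLocAt_restrict A (Spec (CommRingCat.of A)) a (Sp _ p) _
    (Groth.Agent.Lib.Helper25.QCCRpush.isPerfect_Sp _ p) hZq
  have hinjQ' : Function.Injective (preHom ((DCoh.restrictD (Wa A a).ι).map
      (a • 𝟙 (Sp (Spec (CommRingCat.of A)) p))) ((DCoh.restrictD (Wa A a).ι).obj Y)) := by
    haveI := isIso_restrict_smul A (Spec (CommRingCat.of A)) a (Sp (Spec (CommRingCat.of A)) p)
    intro y y' hy
    exact (cancel_epi ((DCoh.restrictD (Wa A a).ι).map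
      (a • 𝟙 (Sp (Spec (CommRingCat.of A)) p)))).1 hy
  exact surjective_of_square (ρ := resHom (Wa A a) (Sp (Spec (CommRingCat.of A)) p)
      ((DCoh.tildeD (CommRingCat.of A)).obj (RG.obj Y))) hZ.bij.2 hinjQ' hs
    (Preadditive.rightComp _ (adjt.counit.app Y))
    (Preadditive.rightComp _ ((DCoh.restrictD (Wa A a).ι).map (adjt.counit.app Y)))
    (bijective_rightComp_counit Y adjt p).2
    (fun x => ((DCoh.restrictD (Wa A a).ι).map_comp x (adjt.counit.app Y)).symm)
    (fun y => by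
      change (_ ≫ y) ≫ _ = _ ≫ (y ≫ _)
      rw [Category.assoc])

variable {A} in
/-- vanishing of `H^n` of the cone of the counit `(RΓ Y)~ ⟶ Y` -/
theorem isZero_HD_cone
    {RG : DCoh.D (Spec (CommRingCat.of A)) ⥤ DerivedCategory (ModuleCat.{u} (CommRingCat.of A))}
    (adjt : DCoh.tildeD (CommRingCat.of A) ⊣ RG)
    [(DCoh.tildeD (CommRingCat.of A)).Full] [(DCoh.tildeD (CommRingCat.of A)).Faithful]
    (hZq : DCoh.IsQCohD ((DCoh.tildeD (CommRingCat.of A)).obj (RG.obj Y)))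
    {C : DCoh.D (Spec (CommRingCat.of A))} (c : Y ⟶ C)
    (d : C ⟶ ((DCoh.tildeD (CommRingCat.of A)).obj (RG.obj Y))⟦(1 : ℤ)⟧)
    (hT : Triangle.mk (adjt.counit.app Y) c d ∈ distTriang _) (n : ℤ)
    (hs : ∀ a, LocSurj A Y a n) (hk : ∀ a, LocKer A Y a (n + 1)) : IsZero (DCoh.HD C n) := by
  apply isZero_HD_of_basis (Set.range (Wa A)) (isBasis_Wa A) C n
  rintro W ⟨a, rfl⟩ σ
  have hT' := (DCoh.restrictD (Wa A a).ι).map_distinguished _ hT
  let eG : (DCoh.restrictD (Wa A a).ι).obj (Sp (Spec (CommRingCat.of A)) (n + 1)) ≅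
      ((DCoh.restrictD (Wa A a).ι).obj (Sp (Spec (CommRingCat.of A)) n))⟦(-1 : ℤ)⟧ :=
    (DCoh.restrictD (Wa A a).ι).mapIso (spShiftIso (Spec (CommRingCat.of A)) n).symm ≪≫
      ((DCoh.restrictD (Wa A a).ι).commShiftIso (-1 : ℤ)).app (Sp (Spec (CommRingCat.of A)) n)
  have h0 := eq_zero_of_surj_inj _ hT' ((DCoh.restrictD (Wa A a).ι).obj (Sp (Spec (CommRingCat.of A)) n))
    (surjective_res_counit Y adjt hZq a n (hs a)) (by
      intro y y' hy
      have h1 := injective_res_counit Y adjt hZq a (n + 1) (hk a) (a₁ := eG.hom ≫ y)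
        (a₂ := eG.hom ≫ y') (by
          change (eG.hom ≫ y) ≫ _ = (eG.hom ≫ y') ≫ _
          rw [Category.assoc, Category.assoc]
          exact congrArg (fun w => eG.hom ≫ w) hy)
      exact (cancel_epi eG.hom).1 h1) ((resSpIso (Wa A a) n).hom ≫ σ)
  rw [← cancel_epi (resSpIso (Wa A a) n).hom, comp_zero]
  exact h0

/-- **per-degree criterion**: `H^j(Y)` is quasi-coherent as soon as the localization property holds in the
indicated degrees -/
theorem isQuasicoherent_HD_of_loc (j : ℤ)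
    (hs : ∀ a p, p = j - 1 ∨ p = j → LocSurj A Y a p)
    (hk : ∀ a p, p = j ∨ p = j + 1 → LocKer A Y a p) : Coh.IsQCoh (DCoh.HD Y j) := by
  obtain ⟨RG, ⟨adjt⟩⟩ := Groth.Agent.S0997.exists_adj (CommRingCat.of A)
  obtain ⟨hfull, hfaith, hchar⟩ := Groth.Agent.S0997.main (CommRingCat.of A)
  have hZq : DCoh.IsQCohD ((DCoh.tildeD (CommRingCat.of A)).obj (RG.obj Y)) :=
    (hchar _).2 ⟨_, ⟨Iso.refl _⟩⟩
  obtain ⟨C, c, d, hT⟩ := distinguished_cocone_triangle (adjt.counit.app Y)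
  have h1 : IsZero (DCoh.HD C (j - 1)) :=
    isZero_HD_cone Y adjt hZq c d hT (j - 1) (fun a => hs a _ (Or.inl rfl))
      (fun a => hk a _ (Or.inl (by omega)))
  have h2 : IsZero (DCoh.HD C j) :=
    isZero_HD_cone Y adjt hZq c d hT j (fun a => hs a _ (Or.inr rfl)) (fun a => hk a _ (Or.inr rfl))
  haveI : Mono ((DerivedCategory.homologyFunctor _ j).map (adjt.counit.app Y)) :=
    (HomologySequence.mono_homologyMap_mor₁_iff _ hT (j - 1) j (by omega)).2 (h1.eq_of_src _ _)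
  haveI : Epi ((DerivedCategory.homologyFunctor _ j).map (adjt.counit.app Y)) :=
    (HomologySequence.epi_homologyMap_mor₁_iff _ hT j).2 (h2.eq_of_tgt _ _)
  haveI : IsIso ((DerivedCategory.homologyFunctor _ j).map (adjt.counit.app Y)) :=
    isIso_of_mono_of_epi _
  exact Groth.Agent.Lib.helper16.QCohFibre.isQuasicoherent_of_iso
    (asIso ((DerivedCategory.homologyFunctor _ j).map (adjt.counit.app Y))) (hA := hZq j)

/-- **criterion**: if all the restriction maps `Hom(O_S[-p], Y) ⟶ Hom(O_{D(a)}[-p], Y|_{D(a)})` are localizations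
at `a`, then `Y ∈ D_QCoh(O_S)` -/
theorem isQCohD_of_isLocAt (h : ∀ a p, LocHyp A Y a p) : DCoh.IsQCohD Y :=
  fun j => isQuasicoherent_HD_of_loc A Y j (fun a p _ => (h a p).surj) (fun a p _ => (h a p).ker)

end Main

end Groth.Agent.Lib.Helper25.QCohCrit
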