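import Groth.Agent.Lib.Helper25.TensorLin
import Groth.Agent.Lib.Helper25.LTensorComp

/-!
# `- ⊗^L K` is linear over the base ring (helper25)

For `X` over `Spec A` and a K-flat complex `K`: `(LTensorCx K).map (a • 𝟙 N) = a • 𝟙 _`
(`LTensorCx_map_smul_id`), hence `(LTensorCx K).map (a • f) = a • (LTensorCx K).map f`.
-/

set_option autoImplicit false
universe u
open CategoryTheory CategoryTheory.Limits AlgebraicGeometry

attribute [local instance] HasDerivedCategory.standard

namespace Groth.Agent.Lib.Helper25.LTensorLin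

open Groth.Agent.Lib.Helper25.LTensorComp Groth.Agent.Lib.Helper25.TensorLin DerivedCategory

variable {X : Scheme.{u}} {A : Type u} [CommRing A] [X.Over (Spec (CommRingCat.of A))]

theorem LTensorCx_map_smul_id (K : CochainComplex X.Modules ℤ) (hK : DCoh.IsKFlat K)
    [DCoh.HasLTensorCx K] (N : DCoh.D X) (a : A) :
    (DCoh.LTensorCx K).map (a • 𝟙 N) = a • 𝟙 ((DCoh.LTensorCx K).obj N) := by
  haveI := isIso_ε_of_isKFlat K hK
  let e : Q ⋙ DCoh.LTensorCx K ≅ DCoh.tensorCxQ K := asIso (ε K)
  let F := Q.objPreimage N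
  let i : Q.obj F ≅ N := Q.objObjPreimageIso N
  have h0 : (DCoh.LTensorCx K).map (a • 𝟙 (Q.obj F)) = a • 𝟙 _ := by
    have h1 : a • 𝟙 (Q.obj F) = Q.map (a • 𝟙 F) := by
      rw [Functor.map_smul, CategoryTheory.Functor.map_id]
    have hn := e.hom.naturality (a • 𝟙 F)
    have h2 : (DCoh.tensorCxQ K).map (a • 𝟙 F) = a • 𝟙 _ := by
      change Q.map (((DCoh.tensorCx (X := X)).map (a • 𝟙 F)).app K) = _
      rw [tensorCx_map_smul, Functor.map_smul, CategoryTheory.Functor.map_id]
      rfl
    rw [h2] at hn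
    simp only [Functor.comp_map] at hn
    rw [h1, ← cancel_mono (e.hom.app F), hn, Linear.comp_smul, Linear.smul_comp, Category.comp_id,
      Category.id_comp]
  have h3 : a • 𝟙 N = i.inv ≫ (a • 𝟙 (Q.obj F)) ≫ i.hom := by
    rw [Linear.smul_comp, Linear.comp_smul, Category.id_comp, Iso.inv_hom_id]
  rw [h3, Functor.map_comp, Functor.map_comp, h0, Linear.smul_comp, Linear.comp_smul,
    Category.id_comp, ← Functor.map_comp, Iso.inv_hom_id, CategoryTheory.Functor.map_id]

theorem LTensorCx_map_smul (K : CochainComplex X.Modules ℤ) (hK : DCoh.IsKFlat K)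
    [DCoh.HasLTensorCx K] {N N' : DCoh.D X} (f : N ⟶ N') (a : A) :
    (DCoh.LTensorCx K).map (a • f) = a • (DCoh.LTensorCx K).map f := by
  have h : a • f = (a • 𝟙 N) ≫ f := by rw [Linear.smul_comp, Category.id_comp]
  rw [h, Functor.map_comp, LTensorCx_map_smul_id K hK, Linear.smul_comp, Category.id_comp]

end Groth.Agent.Lib.Helper25.LTensorLin
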