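import Groth.Agent.Lib.Helper25.RHomRestrict
import Groth.Agent.Lib.Helper25.HomLocPerf
import Groth.Agent.Lib.Helper25.LTensorLin

/-!
# Localization of `Hom(N, RHom(K, L))` from localization of `Hom(N ⊗^L K, L)` (helper25)

* `left_adjoint_map_smul`, `homEquiv_smul`, `homEquiv_symm_smul`: linearity of adjunctions.
* `isLocAt_restrict_RHom`: `X` over `Spec A`, `W = D(ā)`, `K` K-flat, `H` right adjoint of `T = - ⊗^L K`.  If the restriction
  map `Hom(T N, L) ⟶ Hom((T N)|_W, L|_W)` is a localization at `a`, so is `Hom(N, H L) ⟶ Hom(N|_W, (H L)|_W)`.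
-/

set_option autoImplicit false
universe u
open CategoryTheory CategoryTheory.Limits AlgebraicGeometry Opposite
attribute [local instance] HasDerivedCategory.standard

namespace Groth.Agent.Lib.Helper25.RHomLoc

open Groth.Agent.Lib.Helper25.RHomAbs Groth.Agent.Lib.Helper25.HomLocPerf
  Groth.Agent.Lib.Helper25.ShriekSupp Groth.Agent.Lib.Helper25.RHomRestrict
  Groth.Agent.Lib.Helper25.LTensorRestrict Groth.Agent.Lib.Helper25.LTensorLin
  Groth.Agent.Lib.helper21.SchShriek Groth.Agent.Lib.Helper25.KLinRestrict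

section Abstract

variable {A : Type*} [CommRing A] {C D : Type*} [Category C] [Category D] [Preadditive C] [Preadditive D]
  [Linear A C] [Linear A D] {F : C ⥤ D} {G : D ⥤ C} (adj : F ⊣ G)

include adj in
/-- a left adjoint of a linear functor is linear -/
lemma left_adjoint_map_smul (hG : ∀ {X Y : D} (g : X ⟶ Y) (a : A), G.map (a • g) = a • G.map g)
    {X Y : C} (f : X ⟶ Y) (a : A) : F.map (a • f) = a • F.map f := by
  apply (adj.homEquiv _ _).injective
  rw [Adjunction.homEquiv_unit, Adjunction.homEquiv_unit, hG, Linear.comp_smul]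
  have h1 := adj.unit.naturality (a • f)
  have h2 := adj.unit.naturality f
  simp only [Functor.id_map, Functor.comp_map] at h1 h2
  rw [← h1, ← h2, Linear.smul_comp]

include adj in
lemma homEquiv_symm_smul (hF : ∀ {X Y : C} (f : X ⟶ Y) (a : A), F.map (a • f) = a • F.map f)
    {X : C} {Y : D} (g : X ⟶ G.obj Y) (a : A) :
    (adj.homEquiv X Y).symm (a • g) = a • (adj.homEquiv X Y).symm g := by
  rw [Adjunction.homEquiv_counit, Adjunction.homEquiv_counit, hF, Linear.smul_comp]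

include adj in
lemma homEquiv_smul (hF : ∀ {X Y : C} (f : X ⟶ Y) (a : A), F.map (a • f) = a • F.map f)
    {X : C} {Y : D} (g : F.obj X ⟶ Y) (a : A) :
    adj.homEquiv X Y (a • g) = a • adj.homEquiv X Y g := by
  apply (adj.homEquiv X Y).symm.injective
  rw [homEquiv_symm_smul adj hF, Equiv.symm_apply_apply, Equiv.symm_apply_apply]

end Abstract

section Main

variable (A : Type u) [CommRing A]

/-- the comparison square between `Hom(T N, L) ⟶ Hom((T N)|_W, L|_W)` and `Hom(N, H L) ⟶ Hom(N|_W, (H L)|_W)` -/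
theorem exists_square_RHom (X : Scheme.{u}) [X.Over (Spec (CommRingCat.of A))] (a : A)
    (K : CochainComplex X.Modules ℤ) (hK : DCoh.IsKFlat K) [DCoh.HasLTensorCx K]
    {H : DCoh.D X ⥤ DCoh.D X} (adjT : DCoh.LTensorCx K ⊣ H) (N L : DCoh.D X) :
    ∃ (aMap : ((DCoh.LTensorCx K).obj N ⟶ L) →+ (N ⟶ H.obj L))
      (bMap : ((DCoh.restrictD (X.basicOpen
        (show Γ(X, ⊤) from Coh.toGlobal (X ↘ Spec (CommRingCat.of A)) a)).ι).obj
          ((DCoh.LTensorCx K).obj N) ⟶ (DCoh.restrictD (X.basicOpen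
        (show Γ(X, ⊤) from Coh.toGlobal (X ↘ Spec (CommRingCat.of A)) a)).ι).obj L) →+
        ((DCoh.restrictD (X.basicOpen
        (show Γ(X, ⊤) from Coh.toGlobal (X ↘ Spec (CommRingCat.of A)) a)).ι).obj N ⟶
          (DCoh.restrictD (X.basicOpen
        (show Γ(X, ⊤) from Coh.toGlobal (X ↘ Spec (CommRingCat.of A)) a)).ι).obj (H.obj L))),
      Function.Bijective aMap ∧ Function.Bijective bMap ∧
      (∀ x, bMap (resHom (X.basicOpen
        (show Γ(X, ⊤) from Coh.toGlobal (X ↘ Spec (CommRingCat.of A)) a))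
          ((DCoh.LTensorCx K).obj N) L x) = resHom (X.basicOpen
        (show Γ(X, ⊤) from Coh.toGlobal (X ↘ Spec (CommRingCat.of A)) a)) N (H.obj L) (aMap x)) ∧
      (∀ x, aMap (preHom (a • 𝟙 ((DCoh.LTensorCx K).obj N)) L x) =
        preHom (a • 𝟙 N) (H.obj L) (aMap x)) ∧
      (∀ y, bMap (preHom ((DCoh.restrictD (X.basicOpen
        (show Γ(X, ⊤) from Coh.toGlobal (X ↘ Spec (CommRingCat.of A)) a)).ι).map
          (a • 𝟙 ((DCoh.LTensorCx K).obj N))) _ y) =
        preHom ((DCoh.restrictD (X.basicOpen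
        (show Γ(X, ⊤) from Coh.toGlobal (X ↘ Spec (CommRingCat.of A)) a)).ι).map (a • 𝟙 N)) _
          (bMap y)) := by
  let W : X.Opens := X.basicOpen (show Γ(X, ⊤) from Coh.toGlobal (X ↘ Spec (CommRingCat.of A)) a)
  letI : (W : Scheme.{u}).Over (Spec (CommRingCat.of A)) :=
    ⟨W.ι ≫ (X ↘ Spec (CommRingCat.of A))⟩
  haveI : W.ι.IsOver (Spec (CommRingCat.of A)) := ⟨rfl⟩
  haveI : DCoh.HasLTensorCx ((Groth.Agent.Lib.helper13.RestrKFlat.resCx W.ι).obj K) := hasLTensorCx _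
  let T := DCoh.LTensorCx K
  let Sh := (shriek W).mapDerivedCategory
  let Rs := DCoh.restrictD W.ι
  obtain ⟨φ, hφ⟩ := exists_iso_comp_counit W K hK N
  haveI : T.Additive := by
    haveI : T.IsLeftAdjoint := adjT.isLeftAdjoint
    haveI := preservesBinaryBiproducts_of_preservesBinaryCoproducts T
    exact Functor.additive_of_preservesBinaryBiproducts T
  haveI : H.Additive := adjT.right_adjoint_additive
  haveI : Sh.Additive := (adjD W).left_adjoint_additive
  -- linearity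
  have hRs : ∀ {P Q : DCoh.D X} (g : P ⟶ Q) (b : A), Rs.map (b • g) = b • Rs.map g :=
    fun g b => Functor.map_smul _ _ _
  have hSh : ∀ {P Q : DCoh.D (W : Scheme.{u})} (g : P ⟶ Q) (b : A), Sh.map (b • g) = b • Sh.map g :=
    fun g b => left_adjoint_map_smul (adjD W) hRs g b
  have hT : ∀ {P Q : DCoh.D X} (g : P ⟶ Q) (b : A), T.map (b • g) = b • T.map g :=
    fun g b => LTensorCx_map_smul K hK g b
  -- the comparison maps
  let aMap : (T.obj N ⟶ L) →+ (N ⟶ H.obj L) := (adjT.homAddEquiv N L).toAddMonoidHom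
  let b1 : (Rs.obj (T.obj N) ⟶ Rs.obj L) →+ (Sh.obj (Rs.obj (T.obj N)) ⟶ L) :=
    ((adjD W).homAddEquiv (Rs.obj (T.obj N)) L).symm.toAddMonoidHom
  let b2 : (Sh.obj (Rs.obj (T.obj N)) ⟶ L) →+ (T.obj (Sh.obj (Rs.obj N)) ⟶ L) :=
    Preadditive.leftComp L φ.hom
  let b3 : (T.obj (Sh.obj (Rs.obj N)) ⟶ L) →+ (Sh.obj (Rs.obj N) ⟶ H.obj L) :=
    (adjT.homAddEquiv (Sh.obj (Rs.obj N)) L).toAddMonoidHom
  let b4 : (Sh.obj (Rs.obj N) ⟶ H.obj L) →+ (Rs.obj N ⟶ Rs.obj (H.obj L)) :=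
    ((adjD W).homAddEquiv (Rs.obj N) (H.obj L)).toAddMonoidHom
  let bMap : (Rs.obj (T.obj N) ⟶ Rs.obj L) →+ (Rs.obj N ⟶ Rs.obj (H.obj L)) :=
    b4.comp (b3.comp (b2.comp b1))
  have hb1 : Function.Bijective b1 := ((adjD W).homAddEquiv (Rs.obj (T.obj N)) L).symm.bijective
  have hb2 : Function.Bijective b2 := by
    constructor
    · intro x y hxy
      exact (cancel_epi φ.hom).1 hxy
    · intro y
      exact ⟨φ.inv ≫ y, by change φ.hom ≫ φ.inv ≫ y = y; rw [Iso.hom_inv_id_assoc]⟩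
  have hb3 : Function.Bijective b3 := (adjT.homAddEquiv (Sh.obj (Rs.obj N)) L).bijective
  have hb4 : Function.Bijective b4 := ((adjD W).homAddEquiv (Rs.obj N) (H.obj L)).bijective
  refine ⟨aMap, bMap, (adjT.homAddEquiv N L).bijective,
    (hb4.comp (hb3.comp (hb2.comp hb1))), ?_, ?_, ?_⟩
  · -- the square commutes
    intro γ
    change (adjD W).homEquiv _ _ (adjT.homEquiv _ _
      (φ.hom ≫ ((adjD W).homEquiv _ _).symm (Rs.map γ))) = Rs.map (adjT.homEquiv N L γ)
    rw [map_eq_homEquiv (adjD W) _ _ γ, Equiv.symm_apply_apply, ← Category.assoc, ← hφ,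
      Adjunction.homEquiv_naturality_left, ← map_eq_homEquiv (adjD W)]
    rfl
  · -- compatibility with `a` upstairs
    intro γ
    change adjT.homEquiv N L ((a • 𝟙 (T.obj N)) ≫ γ) = (a • 𝟙 N) ≫ adjT.homEquiv N L γ
    rw [← Adjunction.homEquiv_naturality_left]
    congr 2
    exact (LTensorCx_map_smul_id K hK N a).symm
  · -- compatibility with `a` downstairs
    intro δ
    change bMap (Rs.map (a • 𝟙 (T.obj N)) ≫ δ) = Rs.map (a • 𝟙 N) ≫ bMap δ
    have e1 : Rs.map (a • 𝟙 (T.obj N)) ≫ δ = a • δ := by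
      rw [hRs, CategoryTheory.Functor.map_id, Linear.smul_comp, Category.id_comp]
    have e2 : ∀ x : Rs.obj N ⟶ Rs.obj (H.obj L), Rs.map (a • 𝟙 N) ≫ x = a • x := by
      intro x
      rw [hRs, CategoryTheory.Functor.map_id, Linear.smul_comp, Category.id_comp]
    rw [e1, e2]
    change (adjD W).homEquiv _ _ (adjT.homEquiv _ _
      (φ.hom ≫ ((adjD W).homEquiv _ _).symm (a • δ))) =
      a • (adjD W).homEquiv _ _ (adjT.homEquiv _ _ (φ.hom ≫ ((adjD W).homEquiv _ _).symm δ))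
    rw [homEquiv_symm_smul (adjD W) hSh, Linear.comp_smul, homEquiv_smul adjT hT,
      homEquiv_smul (adjD W) hSh]

/-- **localization of `Hom(N, RHom(K, L))`** -/
theorem isLocAt_restrict_RHom (X : Scheme.{u}) [X.Over (Spec (CommRingCat.of A))] (a : A)
    (K : CochainComplex X.Modules ℤ) (hK : DCoh.IsKFlat K) [DCoh.HasLTensorCx K]
    {H : DCoh.D X ⥤ DCoh.D X} (adjT : DCoh.LTensorCx K ⊣ H) (N L : DCoh.D X)
    (h : IsLocAt (preHom (a • 𝟙 ((DCoh.LTensorCx K).obj N)) L)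
      (preHom ((DCoh.restrictD (X.basicOpen
        (show Γ(X, ⊤) from Coh.toGlobal (X ↘ Spec (CommRingCat.of A)) a)).ι).map
          (a • 𝟙 ((DCoh.LTensorCx K).obj N))) _)
      (resHom (X.basicOpen
        (show Γ(X, ⊤) from Coh.toGlobal (X ↘ Spec (CommRingCat.of A)) a))
          ((DCoh.LTensorCx K).obj N) L)) :
    IsLocAt (preHom (a • 𝟙 N) (H.obj L))
      (preHom ((DCoh.restrictD (X.basicOpen
        (show Γ(X, ⊤) from Coh.toGlobal (X ↘ Spec (CommRingCat.of A)) a)).ι).map (a • 𝟙 N)) _)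
      (resHom (X.basicOpen
        (show Γ(X, ⊤) from Coh.toGlobal (X ↘ Spec (CommRingCat.of A)) a)) N (H.obj L)) := by
  obtain ⟨aMap, bMap, ha, hb, hsq, haf, hbf⟩ := exists_square_RHom A X a K hK adjT N L
  exact h.of_bijective_square aMap bMap ha hb hsq haf hbf

/-- the kernel half of `isLocAt_restrict_RHom` -/
theorem ker_restrict_RHom (X : Scheme.{u}) [X.Over (Spec (CommRingCat.of A))] (a : A)
    (K : CochainComplex X.Modules ℤ) (hK : DCoh.IsKFlat K) [DCoh.HasLTensorCx K]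
    {H : DCoh.D X ⥤ DCoh.D X} (adjT : DCoh.LTensorCx K ⊣ H) (N L : DCoh.D X)
    (h : ∀ x : (DCoh.LTensorCx K).obj N ⟶ L, resHom (X.basicOpen
        (show Γ(X, ⊤) from Coh.toGlobal (X ↘ Spec (CommRingCat.of A)) a))
          ((DCoh.LTensorCx K).obj N) L x = 0 →
        ∃ n : ℕ, ((preHom (a • 𝟙 ((DCoh.LTensorCx K).obj N)) L)^[n]) x = 0) :
    ∀ x : N ⟶ H.obj L, resHom (X.basicOpen
        (show Γ(X, ⊤) from Coh.toGlobal (X ↘ Spec (CommRingCat.of A)) a)) N (H.obj L) x = 0 →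
      ∃ n : ℕ, ((preHom (a • 𝟙 N) (H.obj L))^[n]) x = 0 := by
  obtain ⟨aMap, bMap, ha, hb, hsq, haf, hbf⟩ := exists_square_RHom A X a K hK adjT N L
  intro x' hx'
  obtain ⟨x, rfl⟩ := ha.2 x'
  have h1 : resHom (X.basicOpen
      (show Γ(X, ⊤) from Coh.toGlobal (X ↘ Spec (CommRingCat.of A)) a))
        ((DCoh.LTensorCx K).obj N) L x = 0 := by
    apply hb.1
    rw [hsq, hx', map_zero]
  obtain ⟨n, hn⟩ := h x h1
  exact ⟨n, by rw [← iterate_comm _ _ aMap haf, hn, map_zero]⟩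

end Main

end Groth.Agent.Lib.Helper25.RHomLoc
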