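import Groth.Agent.S0962
import Groth.Agent.Lib.Helper25.QCohCrit
import Groth.Agent.Lib.Helper25.RHomLoc
import Groth.Agent.Lib.Helper25.LTensorQis
import Groth.Agent.Lib.Helper28.RestrictCover
import Groth.Agent.Lib.Helper25.RGZ4
import Groth.Agent.Lib.Helper25.HomVanQcqs

/-!
# Quasi-coherence of `RHom(K, L)` for `K` perfect and `L ∈ D_QCoh` (helper25)

* `isQCohD_RHom_affine`: on `Spec A`, for a K-flat complex `K` with perfect image in `D(O)`, any right adjoint `H` of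
  `- ⊗^L K` preserves `D_QCoh`.
* `isQCohD_of_restrict_cover`: `D_QCoh` is local for covers by open immersions.
* `exists_restrict`: any right adjoint of `- ⊗^L K` (`K` K-flat) restricts along open immersions.
* `exists_kflat_adj`: replacing `K` by a K-flat resolution.
* `isQCohD_RSheafHom_of_affine`: reduction of quasi-coherence of `RHom(K, L)` to affine charts.
* `isQCohD_RSheafHom` (**S1114**).
-/

set_option autoImplicit false
universe u
open CategoryTheory CategoryTheory.Limits AlgebraicGeometry Opposite TopologicalSpace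
attribute [local instance] HasDerivedCategory.standard

namespace Groth.Agent.Lib.Helper25.RHomQCoh

open Pretriangulated DerivedCategory Scheme.Modules
open Groth.Agent.Lib.Helper25.HomLocPerf Groth.Agent.Lib.Helper25.RHomAbs
  Groth.Agent.Lib.Helper25.QCCEv Groth.Agent.Lib.Helper25.RHomRestrict
  Groth.Agent.Lib.Helper25.LTensorRestrict Groth.Agent.Lib.Helper25.RestrictDNat
  Groth.Agent.Lib.helper25.DCohRestrict

attribute [local instance] Groth.Agent.Lib.Helper25.LTensorRestrict.hasLTensorCx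

section Affine

variable (A : Type u) [CommRing A]

attribute [local instance 2000] Groth.Agent.Lib.Helper25.KosTilde.selfOver

/-- **affine case**: on `Spec A`, a right adjoint of `- ⊗^L K`, `K` K-flat and perfect, preserves `D_QCoh` -/
theorem isQCohD_RHom_affine (K : CochainComplex (Spec (CommRingCat.of A)).Modules ℤ)
    (hK : DCoh.IsKFlat K) (hperf : DCoh.IsPerfect (DerivedCategory.Q.obj K))
    {H : DCoh.D (Spec (CommRingCat.of A)) ⥤ DCoh.D (Spec (CommRingCat.of A))}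
    (adjT : DCoh.LTensorCx K ⊣ H) (L : DCoh.D (Spec (CommRingCat.of A))) (hL : DCoh.IsQCohD L) :
    DCoh.IsQCohD (H.obj L) := by
  apply Groth.Agent.Lib.Helper25.QCohCrit.isQCohD_of_isLocAt A
  intro a p
  exact Groth.Agent.Lib.Helper25.RHomLoc.isLocAt_restrict_RHom A _ a K hK adjT (Sp _ p) L
    (HomLocPerf.isLocAt_restrict A _ a _ L
      (Groth.Agent.S0962.result K hK hperf _ (Groth.Agent.Lib.Helper25.QCCRpush.isPerfect_Sp _ p)) hL)

end Affine

variable {X : Scheme.{u}}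

/-- `D_QCoh` is local for covers by open immersions -/
theorem isQCohD_of_restrict_cover (R : DCoh.D X) {ι : Type u} (Z : ι → Scheme.{u})
    (j : ∀ i, Z i ⟶ X) [∀ i, IsOpenImmersion (j i)]
    (hcov : ∀ x : X, ∃ i, x ∈ Set.range (j i))
    (h : ∀ i, DCoh.IsQCohD ((DCoh.restrictD (j i)).obj R)) : DCoh.IsQCohD R := by
  intro n
  apply Groth.Agent.Lib.helper28.RestrictCover.isQuasicoherent_of_restrict_cover (DCoh.HD R n) Z j hcov
  intro i
  obtain ⟨e⟩ := Groth.Agent.Lib.Helper25.DerBC.nonempty_homology_mapDerivedCategory_iso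
    (restrictFunctor (j i)) R n
  haveI : (DCoh.HD ((DCoh.restrictD (j i)).obj R) n).IsQuasicoherent := h i n
  exact Groth.Agent.Lib.helper16.QCohFibre.isQuasicoherent_of_iso e

/-- any right adjoint of `- ⊗^L K`, `K` K-flat, restricts along open immersions -/
theorem exists_restrict {U : Scheme.{u}} (j : U ⟶ X) [IsOpenImmersion j]
    (K : CochainComplex X.Modules ℤ) (hK : DCoh.IsKFlat K)
    {H : DCoh.D X ⥤ DCoh.D X} (adjT : DCoh.LTensorCx K ⊣ H) :
    ∃ (K' : CochainComplex U.Modules ℤ) (_ : DCoh.IsKFlat K') (H' : DCoh.D U ⥤ DCoh.D U)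
      (_ : DCoh.LTensorCx K' ⊣ H'),
      Nonempty (DerivedCategory.Q.obj K' ≅ (DCoh.restrictD j).obj (DerivedCategory.Q.obj K)) ∧
      ∀ L : DCoh.D X, Nonempty ((DCoh.restrictD j).obj (H.obj L) ≅
        H'.obj ((DCoh.restrictD j).obj L)) := by
  let W : X.Opens := j.opensRange
  let e : U ⟶ (W : Scheme.{u}) := j.isoOpensRange.hom
  have he : e ≫ W.ι = j := j.isoOpensRange_hom_ι
  have hK₁ : DCoh.IsKFlat ((resCx W.ι).obj K) := isKFlat_res W.ι K hK
  have hK₂ : DCoh.IsKFlat ((resCx e).obj ((resCx W.ι).obj K)) := isKFlat_res_of_isIso e _ hK₁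
  obtain ⟨H₁, adj₁, hL₁⟩ := exists_restrict_opens W K hK adjT
  obtain ⟨H₂, adj₂, hL₂⟩ := exists_restrict_iso e ((resCx W.ι).obj K) hK₁ adj₁
  let φ : DCoh.restrictD j ≅ DCoh.restrictD W.ι ⋙ DCoh.restrictD e :=
    congrIso he.symm ≪≫ compIso e W.ι
  refine ⟨(resCx e).obj ((resCx W.ι).obj K), hK₂, H₂, adj₂, ⟨?_⟩, fun L => ?_⟩
  · exact (resDQIso e _).symm ≪≫ (DCoh.restrictD e).mapIso (resDQIso W.ι K).symm ≪≫
      (φ.app (DerivedCategory.Q.obj K)).symm
  · obtain ⟨i₁⟩ := hL₁ L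
    obtain ⟨i₂⟩ := hL₂ ((DCoh.restrictD W.ι).obj L)
    exact ⟨φ.app (H.obj L) ≪≫ (DCoh.restrictD e).mapIso i₁ ≪≫ i₂ ≪≫ H₂.mapIso (φ.app L).symm⟩

/-- replacing `K` by a K-flat resolution -/
theorem exists_kflat_adj (K : CochainComplex X.Modules ℤ) {H : DCoh.D X ⥤ DCoh.D X}
    (adj : DCoh.LTensorCx K ⊣ H) :
    ∃ (K' : CochainComplex X.Modules ℤ) (_ : DCoh.IsKFlat K') (_ : DCoh.LTensorCx K' ⊣ H),
      Nonempty (DerivedCategory.Q.obj K' ≅ DerivedCategory.Q.obj K) := by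
  obtain ⟨K', q, hK', hq⟩ := Groth.Agent.Lib.Helper25.LTensorDCoh.hres₀ K
  haveI : QuasiIso q := hq
  haveI : IsIso (DerivedCategory.Q.map q) := by
    rw [DerivedCategory.isIso_Q_map_iff_quasiIso]; exact hq
  exact ⟨K', hK', adj.ofNatIsoLeft (Groth.Agent.Lib.Helper25.LTensorQis.LTensorCxIsoOfQuasiIso q).symm,
    ⟨asIso (DerivedCategory.Q.map q)⟩⟩

/-- **reduction to affine charts** of the quasi-coherence of `RHom(K, L)` -/
theorem isQCohD_RSheafHom_of_affine (K : CochainComplex X.Modules ℤ) {H : DCoh.D X ⥤ DCoh.D X}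
    (adj : DCoh.LTensorCx K ⊣ H) (L : DCoh.D X)
    (haff : ∀ (A : Type u) [CommRing A] (j : Spec (CommRingCat.of A) ⟶ X) [IsOpenImmersion j]
      (K' : CochainComplex (Spec (CommRingCat.of A)).Modules ℤ) (_ : DCoh.IsKFlat K')
      (H' : DCoh.D (Spec (CommRingCat.of A)) ⥤ DCoh.D (Spec (CommRingCat.of A)))
      (_ : DCoh.LTensorCx K' ⊣ H'),
      Nonempty (DerivedCategory.Q.obj K' ≅ (DCoh.restrictD j).obj (DerivedCategory.Q.obj K)) →
        DCoh.IsQCohD (H'.obj ((DCoh.restrictD j).obj L))) :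
    DCoh.IsQCohD (H.obj L) := by
  obtain ⟨K₁, hK₁, adjT, ⟨eK⟩⟩ := exists_kflat_adj K adj
  refine isQCohD_of_restrict_cover (H.obj L)
    (fun V : X.affineOpens => Spec (CommRingCat.of Γ(X, V.1))) (fun V => V.2.fromSpec) ?_ ?_
  · intro x
    obtain ⟨V, hV, hxV, -⟩ := exists_isAffineOpen_mem_and_subset (show x ∈ (⊤ : X.Opens) from trivial)
    refine ⟨⟨V, hV⟩, ?_⟩
    rw [hV.range_fromSpec]
    exact hxV
  · intro V
    obtain ⟨K', hK', H', adj', ⟨eK'⟩, hL'⟩ := exists_restrict V.2.fromSpec K₁ hK₁ adjT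
    obtain ⟨i⟩ := hL' L
    exact Groth.Agent.Lib.Helper25.LiftCover.isQCohD_of_iso i.symm
      (haff Γ(X, V.1) V.2.fromSpec K' hK' H' adj'
        ⟨eK' ≪≫ (DCoh.restrictD V.2.fromSpec).mapIso eK⟩)

/-- **S1114**: `RHom(K, L) ∈ D_QCoh` for `K` perfect and `L ∈ D_QCoh` -/
theorem isQCohD_RSheafHom (K : CochainComplex X.Modules ℤ) {H : DCoh.D X ⥤ DCoh.D X}
    (adj : DCoh.LTensorCx K ⊣ H) (hK : DCoh.IsPerfect (DerivedCategory.Q.obj K))
    (L : DCoh.D X) (hL : DCoh.IsQCohD L) : DCoh.IsQCohD (H.obj L) := by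
  apply isQCohD_RSheafHom_of_affine K adj L
  intro A _ j _ K' hK' H' adj' ⟨e⟩
  exact isQCohD_RHom_affine A K' hK'
    (Groth.Agent.Lib.helper25.DCohPerfect.isPerfect_of_iso e.symm
      (Groth.Agent.Lib.Helper25.HomVanQcqs.isPerfect_restrictD j hK)) adj' _
    (Groth.Agent.Lib.Helper25.RGZ4.isQCohD_restrictD j L hL)

end Groth.Agent.Lib.Helper25.RHomQCoh
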