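import Mathlib
import Groth.Agent.Lib.Helper25.DualCx6
import Groth.Agent.Lib.Helper25.TotSingle
import Groth.Agent.Lib.Helper25.TensorRightQisAll
import Groth.Agent.Lib.Helper25.RHomQCoh
import Groth.Agent.Lib.Helper25.DCohPC5

/-!
# `G[0] ⊗^L D ≅ D ⊗^L G` for a K-flat complex `D` and a module `G` (helper25)

* `nonempty_LTensorCx_inD_iso D hD G : (LTensorCx D).obj (inD G) ≅ (LTensorMod G).obj (Q D)`.
* `exists_local_structure`: for `K` K-flat, `LTensorCx K ⊣ H`, and an open `U` on which `Q K` is represented by a bounded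
  complex of finite free modules: `H(G[0])|_U ≅ D ⊗^L G|_U` for a bounded complex `D` of finite free modules on `U`.
-/

set_option autoImplicit false
universe u
open CategoryTheory Limits AlgebraicGeometry HomologicalComplex

attribute [local instance] HasDerivedCategory.standard

namespace Groth.Agent.Lib.Helper25.DualCx7

open DCoh Groth.Agent.Lib.Helper25.LTensorComp Groth.Agent.Lib.Helper25.LTensorDCoh
  Groth.Agent.Lib.Helper25.TensorRightQisAll Groth.Agent.Lib.Helper25.TotSingle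

attribute [local instance] Groth.Agent.Lib.Helper25.LTensorRestrict.hasLTensorCx

variable {Y : Scheme.{u}}

/-- `G[0] ⊗^L D ≅ D ⊗^L G` -/
theorem nonempty_LTensorCx_inD_iso (D : CochainComplex Y.Modules ℤ) (hD : DCoh.IsKFlat D)
    (G : Y.Modules) [DCoh.HasLTensorMod G] :
    Nonempty ((DCoh.LTensorCx D).obj (DCoh.inD Y G) ≅
      (DCoh.LTensorMod G).obj (DerivedCategory.Q.obj D)) := by
  let S : CochainComplex Y.Modules ℤ :=
    (HomologicalComplex.single Y.Modules (ComplexShape.up ℤ) 0).obj G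
  have hS : ∀ p : ℤ, p ≠ 0 → IsZero (S.X p) := fun p hp =>
    HomologicalComplex.isZero_single_obj_X _ _ _ _ hp
  let e1 : DCoh.inD Y G ≅ DerivedCategory.Q.obj S :=
    (DerivedCategory.singleFunctorIsoCompQ Y.Modules 0).app G
  haveI : IsIso (ε D) := isIso_ε_of_isKFlat D hD
  let e2 : (DCoh.LTensorCx D).obj (DerivedCategory.Q.obj S) ≅
      DerivedCategory.Q.obj (mapBifunctor S D (DCoh.tensorBi (X := Y)) (ComplexShape.up ℤ)) :=
    (asIso (ε D)).app S
  let e3 := totIso (DCoh.tensorBi (X := Y)) S hS D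
  let e4 : (DCoh.tensorBi (X := Y)).obj (S.X 0) ≅ DCoh.tensorRightMod G :=
    (DCoh.tensorBi (X := Y)).mapIso (HomologicalComplex.singleObjXSelf (ComplexShape.up ℤ) 0 G) ≪≫
      tensorRightModIso G
  obtain ⟨e5⟩ := nonempty_LTensorMod_iso G (tensorRightQis G) D hD
  exact ⟨(DCoh.LTensorCx D).mapIso e1 ≪≫ e2 ≪≫ DerivedCategory.Q.mapIso e3.symm ≪≫
    DerivedCategory.Q.mapIso ((NatIso.mapHomologicalComplex e4 (ComplexShape.up ℤ)).app D) ≪≫
    e5.symm⟩

open Groth.Agent.Lib.Helper25.DualCx6 in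
/-- **local structure of `RHom(K, G)` for `K` perfect** -/
theorem exists_local_structure {X : Scheme.{u}} (K : CochainComplex X.Modules ℤ)
    (hK : DCoh.IsKFlat K) {H : DCoh.D X ⥤ DCoh.D X} (adj : DCoh.LTensorCx K ⊣ H) (U : X.Opens)
    (hU : SPD ((DCoh.restrictD U.ι).obj (DerivedCategory.Q.obj K))) (G : X.Modules)
    [DCoh.HasLTensorMod ((Scheme.Modules.restrictFunctor U.ι).obj G)] :
    ∃ D : CochainComplex (U : Scheme.{u}).Modules ℤ, IsFreeCx D ∧
      Nonempty ((DCoh.restrictD U.ι).obj (H.obj (DCoh.inD X G)) ≅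
        (DCoh.LTensorMod ((Scheme.Modules.restrictFunctor U.ι).obj G)).obj
          (DerivedCategory.Q.obj D)) := by
  obtain ⟨K', hK', H', adj', ⟨e⟩, hL⟩ :=
    Groth.Agent.Lib.Helper25.RHomQCoh.exists_restrict U.ι K hK adj
  obtain ⟨D, hD, ⟨t⟩⟩ := exists_dual K' adj' (spd_of_iso e.symm hU)
  obtain ⟨i₁⟩ := hL (DCoh.inD X G)
  obtain ⟨i₂⟩ := nonempty_LTensorCx_inD_iso D (isKFlat_of_isFreeCx hD)
    ((Scheme.Modules.restrictFunctor U.ι).obj G)
  exact ⟨D, hD, ⟨i₁ ≪≫ H'.mapIso (Groth.Agent.Lib.helper25.DCohPC5.restrictD_single_iso G U) ≪≫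
    t.app _ ≪≫ i₂⟩⟩

end Groth.Agent.Lib.Helper25.DualCx7
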