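import Mathlib
import Groth.Agent.Lib.Helper13.PerfAmp2
import Groth.Agent.Lib.Helper25.LTensorDCoh
import Groth.Agent.Lib.Helper25.TensorRightQisAll
import Groth.Agent.Lib.Helper25.LpullPerfect
import Groth.Agent.Lib.Helper25.LDerTri

/-!
# `- ⊗^L G` for a module `G` on a scheme: restriction to opens, zero objects, distinguished triangles (helper25)

* `nonempty_restrictD_LTensorMod_iso`: `(E ⊗^L G)|_V ≅ E|_V ⊗^L G|_V`.
* `isZero_LTensorMod_of_isZero_module`, `isZero_LTensorMod_obj`.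
* `exists_distinguished_LTensorMod`.
-/

set_option autoImplicit false
universe u
open CategoryTheory CategoryTheory.Limits AlgebraicGeometry Pretriangulated ZeroObject
attribute [local instance] HasDerivedCategory.standard

namespace Groth.Agent.Lib.Helper25.LTensorModRes

open DCoh Scheme.Modules DerivedCategory Groth.Agent.Lib.Helper25.LTensorDCoh
  Groth.Agent.Lib.Helper25.TensorRightQisAll Groth.Agent.Lib.Helper25.LpullAdapted
  Groth.Agent.Lib.Helper25.LpullPerfect Groth.Agent.Lib.helper25.DCohRestrict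
  Groth.Agent.Lib.helper13.PerfAmp2 Groth.Agent.Lib.Helper25.KFlatTri

variable {X : Scheme.{u}}

/-- restriction to an open commutes with `- ⊗^L G` -/
theorem nonempty_restrictD_LTensorMod_iso (V : X.Opens) (G : X.Modules) [DCoh.HasLTensorMod G]
    [DCoh.HasLTensorMod ((restrictFunctor V.ι).obj G)] (E : DCoh.D X) :
    Nonempty ((DCoh.restrictD V.ι).obj ((DCoh.LTensorMod G).obj E) ≅
      (DCoh.LTensorMod ((restrictFunctor V.ι).obj G)).obj ((DCoh.restrictD V.ι).obj E)) := by
  obtain ⟨P, hP, ⟨eP⟩⟩ := exists_P₀_rep E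
  obtain ⟨t⟩ := nonempty_LTensorMod_iso G (tensorRightQis G) P hP.1
  obtain ⟨t'⟩ := nonempty_LTensorMod_iso ((restrictFunctor V.ι).obj G)
    (tensorRightQis _) ((resCx V.ι).obj P) (P₀_restrict V P hP).1
  exact ⟨(DCoh.restrictD V.ι).mapIso ((DCoh.LTensorMod G).mapIso eP.symm ≪≫ t) ≪≫
    resDQIso V.ι _ ≪≫ Q.mapIso (resTensorRightCxIso V G P) ≪≫ t'.symm ≪≫
    (DCoh.LTensorMod ((restrictFunctor V.ι).obj G)).mapIso
      ((resDQIso V.ι P).symm ≪≫ (DCoh.restrictD V.ι).mapIso eP)⟩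

/-- `N ⊗ G = 0` for `G = 0` -/
lemma isZero_tensorRightMod_obj (G : X.Modules) (hG : IsZero G) (N : X.Modules) :
    IsZero ((DCoh.tensorRightMod G).obj N) := by
  unfold DCoh.tensorRightMod
  refine Functor.map_isZero DCoh.shP ?_
  have hZ : IsZero (CohB1.toPMod G) := Functor.map_isZero DCoh.toP hG
  rw [IsZero.iff_id_eq_zero]
  change 𝟙 (MonoidalCategory.tensorObj (DCoh.toP.obj N) (CohB1.toPMod G)) = 0
  rw [← MonoidalCategory.whiskerLeft_id, hZ.eq_of_src (𝟙 _) 0]
  ext1 U
  simp [MonoidalPreadditive.whiskerLeft_zero]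
  try rfl

/-- a complex with zero terms is zero in the derived category -/
lemma isZero_Q_of_terms (K : CochainComplex X.Modules ℤ) (hK : ∀ i, IsZero (K.X i)) :
    IsZero (Q.obj K : DCoh.D X) := by
  refine Functor.map_isZero Q ?_
  rw [IsZero.iff_id_eq_zero]
  apply HomologicalComplex.hom_ext
  intro i
  exact (hK i).eq_of_src _ _

/-- `E ⊗^L G = 0` for `G = 0` -/
theorem isZero_LTensorMod_of_isZero_module (G : X.Modules) (hG : IsZero G) [DCoh.HasLTensorMod G]
    (E : DCoh.D X) : IsZero ((DCoh.LTensorMod G).obj E) := by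
  obtain ⟨P, hP, ⟨eP⟩⟩ := exists_P₀_rep E
  obtain ⟨t⟩ := nonempty_LTensorMod_iso G (tensorRightQis G) P hP.1
  refine IsZero.of_iso ?_ ((DCoh.LTensorMod G).mapIso eP.symm ≪≫ t)
  exact isZero_Q_of_terms _ (fun i => isZero_tensorRightMod_obj G hG _)

/-- `E ⊗^L G = 0` for `E = 0` -/
theorem isZero_LTensorMod_obj (G : X.Modules) [DCoh.HasLTensorMod G] (E : DCoh.D X) (hE : IsZero E) :
    IsZero ((DCoh.LTensorMod G).obj E) := by
  obtain ⟨t⟩ := nonempty_LTensorMod_iso G (tensorRightQis G) (0 : CochainComplex X.Modules ℤ)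
    (dcoh_isKFlat_of_isZero _ (isZero_zero _))
  have h0 : IsZero (Q.obj (0 : CochainComplex X.Modules ℤ) : DCoh.D X) :=
    Functor.map_isZero Q (isZero_zero _)
  refine IsZero.of_iso ?_ ((DCoh.LTensorMod G).mapIso (hE.iso h0) ≪≫ t)
  exact isZero_Q_of_terms _ (fun i => (DCoh.tensorRightMod G).map_isZero
    ((HomologicalComplex.eval _ _ i).map_isZero (isZero_zero _)))

/-- `- ⊗^L G` sends distinguished triangles to distinguished triangles -/
theorem exists_distinguished_LTensorMod (G : X.Modules) [DCoh.HasLTensorMod G] (T : Triangle (DCoh.D X))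
    (hT : T ∈ distTriang (DCoh.D X)) :
    ∃ h' : (DCoh.LTensorMod G).obj T.obj₃ ⟶ ((DCoh.LTensorMod G).obj T.obj₁)⟦(1 : ℤ)⟧,
      Triangle.mk ((DCoh.LTensorMod G).map T.mor₁) ((DCoh.LTensorMod G).map T.mor₂) h' ∈
        distTriang (DCoh.D X) :=
  Groth.Agent.Lib.Helper25.LDerTri.exists_distinguished_of_complex (fun E => DCoh.IsKFlat E) hzero
    (fun E n h => dcoh_isKFlat_shift E n h) (fun f h h' => dcoh_isKFlat_mappingCone f h h')
    hres₀ (tensorModKh G) (fun f hE hE' hf => hΦ₀ G (tensorRightQis G) f hE hE' hf) (DCoh.LTensorMod G)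
    ((tensorModKh G).totalLeftDerivedCounit DerivedCategory.Qh
      (HomotopyCategory.quasiIso X.Modules (ComplexShape.up ℤ))) T hT

end Groth.Agent.Lib.Helper25.LTensorModRes
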