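import Mathlib
import Groth.Agent.Lib.Helper25.LTensorModRes
import Groth.Agent.Lib.Helper25.DCohHomology
import Groth.Agent.Lib.Helper25.SchKInj2
import Groth.Agent.Lib.Helper18.DegCalc
import Groth.Agent.Lib.Helper11.CounitEpi

/-!
# `E ⊗^L G` for `E` perfect and `G` coherent on a locally Noetherian scheme (helper25)

* `support_HD_LTensorMod_subset`: the cohomology sheaves of `E ⊗^L G` are supported on `Supp G` (closed).
* `exists_local_model`: locally `E ⊗^L G` is a bounded complex of coherent modules.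
* `isCohD_LTensorMod`: coherent cohomology.
* `exists_bounds_LTensorMod`: bounded when `Supp G` is quasi-compact.
-/

set_option autoImplicit false
universe u
open CategoryTheory CategoryTheory.Limits AlgebraicGeometry Pretriangulated
attribute [local instance] HasDerivedCategory.standard

namespace Groth.Agent.Lib.Helper25.TensorCohSupp

open DCoh Scheme.Modules DerivedCategory Groth.Agent.Lib.Helper25.LTensorDCoh
  Groth.Agent.Lib.Helper25.TensorRightQisAll Groth.Agent.Lib.Helper25.LpullAdapted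
  Groth.Agent.Lib.Helper25.LpullPerfect Groth.Agent.Lib.helper25.DCohRestrict
  Groth.Agent.Lib.Helper25.LTensorModRes Groth.Agent.Lib.helper25.DCohHomology
  Groth.Agent.Lib.helper25.DCohPerfect

variable {X : Scheme.{u}}

/-- the cohomology sheaves of `E ⊗^L G` are supported on the support of `G` -/
theorem support_HD_LTensorMod_subset (G : X.Modules) [DCoh.HasLTensorMod G]
    (hZ : IsClosed (CohB1.support G)) (E : DCoh.D X) (i : ℤ) :
    CohB1.support (DCoh.HD ((DCoh.LTensorMod G).obj E) i) ⊆ CohB1.support G := by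
  let U : X.Opens := ⟨(CohB1.support G)ᶜ, hZ.isOpen_compl⟩
  haveI : DCoh.HasLTensorMod ((restrictFunctor U.ι).obj G) := hasLTensorMod _ (tensorRightQis _)
  have hG : IsZero ((restrictFunctor U.ι).obj G) :=
    (Groth.Agent.Lib.helper7.RestrictSupport.isZero_restrict_iff_support G U).2
      (by intro x hx; exact fun h => h hx)
  obtain ⟨e⟩ := nonempty_restrictD_LTensorMod_iso U G E
  have h0 : IsZero ((DCoh.restrictD U.ι).obj ((DCoh.LTensorMod G).obj E)) :=
    IsZero.of_iso (isZero_LTensorMod_of_isZero_module _ hG _) e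
  have h1 := Groth.Agent.Lib.Helper25.SchKInj.support_HD_restrictD U _ h0 i
  intro x hx
  have := h1 hx
  simpa [U] using this

/-- local models: near every point `E ⊗^L G` is a bounded complex of coherent modules -/
theorem exists_local_model (G : X.Modules) (hG : Coh.IsCoh G) [DCoh.HasLTensorMod G] (E : DCoh.D X)
    (hE : DCoh.IsPerfect E) (x : X) :
    ∃ (V : X.Opens) (T : CochainComplex (V : Scheme.{u}).Modules ℤ) (a b : ℤ), x ∈ V ∧
      (∀ n, Coh.IsCoh (T.X n)) ∧ (∀ n, n < a ∨ b < n → IsZero (T.X n)) ∧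
      ∀ i : ℤ, Nonempty ((restrictFunctor V.ι).obj (DCoh.HD ((DCoh.LTensorMod G).obj E) i) ≅
        T.homology i) := by
  obtain ⟨V, hxV, S, hS, ⟨e⟩⟩ := exists_restrictD_iso_of_isPerfect hE x
  haveI : DCoh.HasLTensorMod ((restrictFunctor V.ι).obj G) := hasLTensorMod _ (tensorRightQis _)
  obtain ⟨e1⟩ := nonempty_restrictD_LTensorMod_iso V G E
  obtain ⟨e3⟩ := nonempty_LTensorMod_iso ((restrictFunctor V.ι).obj G) (tensorRightQis _) S
    (P₀_of_isStrictlyPerfect S hS).1
  obtain ⟨⟨a, b, hab⟩, hf⟩ := hS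
  have hGV : Coh.IsCoh ((restrictFunctor V.ι).obj G) :=
    Groth.Agent.Lib.helper11.CounitEpi.isCoh_restrict hG V
  refine ⟨V, ((DCoh.tensorRightMod ((restrictFunctor V.ι).obj G)).mapHomologicalComplex
    (ComplexShape.up ℤ)).obj S, a, b, hxV, fun n => ?_, fun n hn => ?_, fun i => ?_⟩
  · exact Groth.Agent.Lib.Helper18.DegCalc.isCoh_tensorMod (isCoh_of_isFinLocFree (hf n)) hGV
  · exact (DCoh.tensorRightMod _).map_isZero (hab n hn)
  · exact nonempty_HD_restrict_iso_homology V.ι _ _
      ⟨e1 ≪≫ (DCoh.LTensorMod ((restrictFunctor V.ι).obj G)).mapIso e ≪≫ e3⟩ i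

/-- the cohomology sheaves of a complex of coherent modules on a locally Noetherian scheme are coherent -/
lemma isCoh_homology_of_terms {Y : Scheme.{u}} [IsLocallyNoetherian Y] (T : CochainComplex Y.Modules ℤ)
    (h : ∀ n, Coh.IsCoh (T.X n)) (i : ℤ) : Coh.IsCoh (T.homology i) := by
  have hk : Coh.IsCoh (kernel (T.sc i).g) :=
    Groth.Agent.Lib.helper7.CohKer.isCoh_kernel (h _) (h _) _
  have hc : Coh.IsCoh (cokernel (kernel.lift (T.sc i).g (T.sc i).f (T.sc i).zero)) :=
    Groth.Agent.Lib.helper7.CohKer.isCoh_cokernel (h _) hk _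
  exact Groth.Agent.Lib.helper7.CohKer.isCoh_of_iso (T.sc i).homologyIsoCokernelLift.symm hc

/-- `E ⊗^L G` has coherent cohomology sheaves -/
theorem isCohD_LTensorMod [IsLocallyNoetherian X] (G : X.Modules) (hG : Coh.IsCoh G)
    [DCoh.HasLTensorMod G] (E : DCoh.D X) (hE : DCoh.IsPerfect E) :
    DCoh.IsCohD ((DCoh.LTensorMod G).obj E) := by
  intro i
  choose V T a b hxV hTc hTz hiso using exists_local_model G hG E hE
  have hcov : ⨆ x : X, V x = ⊤ := by
    rw [eq_top_iff]
    intro x _
    exact TopologicalSpace.Opens.mem_iSup.mpr ⟨x, hxV x⟩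
  refine isCoh_of_cover _ V hcov (fun x => ?_)
  haveI : IsLocallyNoetherian (V x : Scheme.{u}) := isLocallyNoetherian_of_isOpenImmersion (V x).ι
  exact Groth.Agent.Lib.helper7.CohKer.isCoh_of_iso (hiso x i).some.symm
    (isCoh_homology_of_terms (T x) (hTc x) i)

/-- `E ⊗^L G` is bounded when the support of `G` is closed and quasi-compact -/
theorem exists_bounds_LTensorMod (G : X.Modules) (hG : Coh.IsCoh G) (hZ : IsClosed (CohB1.support G))
    (hc : IsCompact (CohB1.support G)) [DCoh.HasLTensorMod G] (E : DCoh.D X)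
    (hE : DCoh.IsPerfect E) :
    ∃ a b : ℤ, ((DCoh.LTensorMod G).obj E).IsGE a ∧ ((DCoh.LTensorMod G).obj E).IsLE b := by
  choose V T a b hxV hTc hTz hiso using exists_local_model G hG E hE
  obtain ⟨t, ht⟩ := hc.elim_finite_subcover (fun x : X => ((V x : X.Opens) : Set X))
    (fun x => (V x).isOpen) (fun x _ => Set.mem_iUnion.mpr ⟨x, hxV x⟩)
  obtain ⟨a₁, ha₁⟩ := (t.image (fun x => -a x)).exists_le
  obtain ⟨b₁, hb₁⟩ := (t.image (fun x => b x)).exists_le
  have hz : ∀ i : ℤ, i < -a₁ ∨ b₁ < i →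
      IsZero ((DerivedCategory.homologyFunctor _ i).obj ((DCoh.LTensorMod G).obj E)) := by
    intro i hi
    change IsZero (DCoh.HD ((DCoh.LTensorMod G).obj E) i)
    rw [Groth.Agent.Lib.helper7.RestrictSupport.isZero_iff_subsingleton_sections]
    have hs : CohB1.support (DCoh.HD ((DCoh.LTensorMod G).obj E) i) ⊆ ((⊤ : X.Opens) : Set X)ᶜ := by
      intro x hx
      exfalso
      have hxZ := support_HD_LTensorMod_subset G hZ E i hx
      obtain ⟨y, hy⟩ := Set.mem_iUnion.mp (ht hxZ)
      obtain ⟨hyt, hxy⟩ := Set.mem_iUnion.mp hy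
      have h0 : IsZero ((restrictFunctor (V y).ι).obj (DCoh.HD ((DCoh.LTensorMod G).obj E) i)) := by
        refine IsZero.of_iso ?_ (hiso y i).some
        refine HomologicalComplex.ExactAt.isZero_homology (ShortComplex.exact_of_isZero_X₂ _ ?_)
        refine hTz y i ?_
        have h1 := ha₁ (-a y) (Finset.mem_image_of_mem (fun x => -a x) hyt)
        have h2 := hb₁ (b y) (Finset.mem_image_of_mem (fun x => b x) hyt)
        omega
      exact ((Groth.Agent.Lib.helper7.RestrictSupport.isZero_restrict_iff_support _ (V y)).1 h0 hx) hxy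
    intro W
    exact (Groth.Agent.Lib.helper7.RestrictSupport.subsingleton_sections_iff_support _ ⊤).2 hs W le_top
  refine ⟨-a₁, b₁, ?_, ?_⟩
  · rw [DerivedCategory.isGE_iff]
    exact fun i hi => hz i (Or.inl hi)
  · rw [DerivedCategory.isLE_iff]
    exact fun i hi => hz i (Or.inr hi)

end Groth.Agent.Lib.Helper25.TensorCohSupp
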