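import Mathlib
import Groth.Agent.Lib.Helper25.DualCx7
import Groth.Agent.Lib.Helper25.TensorCohSupp

/-!
# `RHom(K, G)` for `K` perfect and `G` coherent on a locally Noetherian scheme (helper25)

`K` a K-flat complex with `Q K` perfect, `H` any right adjoint of `- ⊗^L K`, `G` a module:

* `isZero_rightAdjoint_obj`: right adjoints preserve zero objects;
* `support_HD_RHom_subset`: the cohomology sheaves of `H(G[0])` are supported on `Supp G` (closed);
* `exists_local_model_RHom`: locally `H(G[0])` is a bounded complex of coherent modules;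
* `isCohD_RHom`, `exists_bounds_RHom`.
-/

set_option autoImplicit false
universe u
open CategoryTheory CategoryTheory.Limits AlgebraicGeometry Pretriangulated
attribute [local instance] HasDerivedCategory.standard

namespace Groth.Agent.Lib.Helper25.DualCx10

open DCoh Scheme.Modules DerivedCategory Groth.Agent.Lib.Helper25.LTensorDCoh
  Groth.Agent.Lib.Helper25.TensorRightQisAll Groth.Agent.Lib.helper25.DCohRestrict
  Groth.Agent.Lib.helper25.DCohHomology Groth.Agent.Lib.helper25.DCohPerfect
  Groth.Agent.Lib.Helper25.DualCx6 Groth.Agent.Lib.Helper25.DualCx7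
  Groth.Agent.Lib.Helper25.TensorCohSupp

attribute [local instance] Groth.Agent.Lib.Helper25.LTensorRestrict.hasLTensorCx

variable {X : Scheme.{u}}

/-- right adjoints preserve zero objects -/
lemma isZero_rightAdjoint_obj {C D : Type*} [Category C] [Category D] [HasZeroMorphisms C]
    [HasZeroMorphisms D] {F : C ⥤ D} {G : D ⥤ C} (adj : F ⊣ G) {Z : D} (hZ : IsZero Z) :
    IsZero (G.obj Z) := by
  rw [IsZero.iff_id_eq_zero]
  exact (adj.homEquiv (G.obj Z) Z).symm.injective (hZ.eq_of_tgt _ _)

section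

variable (K : CochainComplex X.Modules ℤ) (hK : DCoh.IsKFlat K)
  {H : DCoh.D X ⥤ DCoh.D X} (adj : DCoh.LTensorCx K ⊣ H) (G : X.Modules)

include hK adj in
/-- the cohomology sheaves of `RHom(K, G)` are supported on the support of `G` -/
theorem support_HD_RHom_subset (hZ : IsClosed (CohB1.support G)) (i : ℤ) :
    CohB1.support (DCoh.HD (H.obj (DCoh.inD X G)) i) ⊆ CohB1.support G := by
  let U : X.Opens := ⟨(CohB1.support G)ᶜ, hZ.isOpen_compl⟩
  have hG : IsZero ((restrictFunctor U.ι).obj G) :=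
    (Groth.Agent.Lib.helper7.RestrictSupport.isZero_restrict_iff_support G U).2
      (by intro x hx; exact fun h => h hx)
  obtain ⟨K', hK', H', adj', -, hL⟩ :=
    Groth.Agent.Lib.Helper25.RHomQCoh.exists_restrict U.ι K hK adj
  obtain ⟨e⟩ := hL (DCoh.inD X G)
  have h0 : IsZero ((DCoh.restrictD U.ι).obj (H.obj (DCoh.inD X G))) := by
    refine IsZero.of_iso (isZero_rightAdjoint_obj adj' ?_) e
    refine IsZero.of_iso ?_ (Groth.Agent.Lib.helper25.DCohPC5.restrictD_single_iso G U)
    exact Functor.map_isZero _ hG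
  have h1 := Groth.Agent.Lib.Helper25.SchKInj.support_HD_restrictD U _ h0 i
  intro x hx
  have := h1 hx
  simpa [U] using this

include hK adj in
/-- local models: near every point `RHom(K, G)` is a bounded complex of coherent modules -/
theorem exists_local_model_RHom (hP : DCoh.IsPerfect (DerivedCategory.Q.obj K))
    (hG : Coh.IsCoh G) (x : X) :
    ∃ (V : X.Opens) (T : CochainComplex (V : Scheme.{u}).Modules ℤ) (a b : ℤ), x ∈ V ∧
      (∀ n, Coh.IsCoh (T.X n)) ∧ (∀ n, n < a ∨ b < n → IsZero (T.X n)) ∧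
      ∀ i : ℤ, Nonempty ((restrictFunctor V.ι).obj (DCoh.HD (H.obj (DCoh.inD X G)) i) ≅
        T.homology i) := by
  obtain ⟨V, hxV, -, hV⟩ := exists_spd_of_isPerfect hP x
  haveI : DCoh.HasLTensorMod ((restrictFunctor V.ι).obj G) := hasLTensorMod _ (tensorRightQis _)
  obtain ⟨D, hD, ⟨e⟩⟩ := exists_local_structure K hK adj V hV G
  obtain ⟨e3⟩ := nonempty_LTensorMod_iso ((restrictFunctor V.ι).obj G) (tensorRightQis _) D
    (isKFlat_of_isFreeCx hD)
  have hS := isStrictlyPerfect_of_isFreeCx hD
  obtain ⟨⟨a, b, hab⟩, hf⟩ := hS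
  have hGV : Coh.IsCoh ((restrictFunctor V.ι).obj G) :=
    Groth.Agent.Lib.helper11.CounitEpi.isCoh_restrict hG V
  refine ⟨V, ((DCoh.tensorRightMod ((restrictFunctor V.ι).obj G)).mapHomologicalComplex
    (ComplexShape.up ℤ)).obj D, a, b, hxV, fun n => ?_, fun n hn => ?_, fun i => ?_⟩
  · exact Groth.Agent.Lib.Helper18.DegCalc.isCoh_tensorMod (isCoh_of_isFinLocFree (hf n)) hGV
  · exact (DCoh.tensorRightMod _).map_isZero (hab n hn)
  · exact nonempty_HD_restrict_iso_homology V.ι _ _ ⟨e ≪≫ e3⟩ i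

include hK adj in
/-- `RHom(K, G)` has coherent cohomology sheaves -/
theorem isCohD_RHom [IsLocallyNoetherian X] (hP : DCoh.IsPerfect (DerivedCategory.Q.obj K))
    (hG : Coh.IsCoh G) : DCoh.IsCohD (H.obj (DCoh.inD X G)) := by
  intro i
  choose V T a b hxV hTc hTz hiso using exists_local_model_RHom K hK adj G hP hG
  have hcov : ⨆ x : X, V x = ⊤ := by
    rw [eq_top_iff]
    intro x _
    exact TopologicalSpace.Opens.mem_iSup.mpr ⟨x, hxV x⟩
  refine isCoh_of_cover _ V hcov (fun x => ?_)
  haveI : IsLocallyNoetherian (V x : Scheme.{u}) := isLocallyNoetherian_of_isOpenImmersion (V x).ι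
  exact Groth.Agent.Lib.helper7.CohKer.isCoh_of_iso (hiso x i).some.symm
    (isCoh_homology_of_terms (T x) (hTc x) i)

include hK adj in
/-- `RHom(K, G)` is bounded when the support of `G` is closed and quasi-compact -/
theorem exists_bounds_RHom (hP : DCoh.IsPerfect (DerivedCategory.Q.obj K)) (hG : Coh.IsCoh G)
    (hZ : IsClosed (CohB1.support G)) (hc : IsCompact (CohB1.support G)) :
    ∃ a b : ℤ, (H.obj (DCoh.inD X G)).IsGE a ∧ (H.obj (DCoh.inD X G)).IsLE b := by
  choose V T a b hxV hTc hTz hiso using exists_local_model_RHom K hK adj G hP hG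
  obtain ⟨t, ht⟩ := hc.elim_finite_subcover (fun x : X => ((V x : X.Opens) : Set X))
    (fun x => (V x).isOpen) (fun x _ => Set.mem_iUnion.mpr ⟨x, hxV x⟩)
  obtain ⟨a₁, ha₁⟩ := (t.image (fun x => -a x)).exists_le
  obtain ⟨b₁, hb₁⟩ := (t.image (fun x => b x)).exists_le
  have hz : ∀ i : ℤ, i < -a₁ ∨ b₁ < i →
      IsZero ((DerivedCategory.homologyFunctor _ i).obj (H.obj (DCoh.inD X G))) := by
    intro i hi
    change IsZero (DCoh.HD (H.obj (DCoh.inD X G)) i)
    rw [Groth.Agent.Lib.helper7.RestrictSupport.isZero_iff_subsingleton_sections]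
    have hs : CohB1.support (DCoh.HD (H.obj (DCoh.inD X G)) i) ⊆ ((⊤ : X.Opens) : Set X)ᶜ := by
      intro x hx
      exfalso
      have hxZ := support_HD_RHom_subset K hK adj G hZ i hx
      obtain ⟨y, hy⟩ := Set.mem_iUnion.mp (ht hxZ)
      obtain ⟨hyt, hxy⟩ := Set.mem_iUnion.mp hy
      have h0 : IsZero ((restrictFunctor (V y).ι).obj (DCoh.HD (H.obj (DCoh.inD X G)) i)) := by
        refine IsZero.of_iso ?_ (hiso y i).some
        refine HomologicalComplex.ExactAt.isZero_homology (ShortComplex.exact_of_isZero_X₂ _ ?_)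
        refine hTz y i ?_
        have h1 := ha₁ (-a y) (Finset.mem_image_of_mem (fun x => -a x) hyt)
        have h2 := hb₁ (b y) (Finset.mem_image_of_mem (fun x => b x) hyt)
        omega
      exact ((Groth.Agent.Lib.helper7.RestrictSupport.isZero_restrict_iff_support _ (V y)).1 h0 hx) hxy
    intro W
    exact (Groth.Agent.Lib.helper7.RestrictSupport.subsingleton_sections_iff_support _ ⊤).2 hs W le_top
  refine ⟨-a₁, b₁, ?_, ?_⟩
  · rw [DerivedCategory.isGE_iff]
    exact fun i hi => hz i (Or.inl hi)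
  · rw [DerivedCategory.isLE_iff]
    exact fun i hi => hz i (Or.inr hi)

end

end Groth.Agent.Lib.Helper25.DualCx10
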