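import Mathlib
import Groth.Agent.Lib.Helper25.FTDClass
import Groth.Agent.Lib.Helper25.RestrictDNat
import Groth.Agent.Lib.Helper25.LpullRpushAdj
import Groth.Agent.Lib.Helper25.RGZ1
import Groth.Agent.Lib.Helper25.SchKInj
import Groth.Agent.Lib.Helper25.HomVanQcqs
import Groth.Agent.S6511
import Groth.Agent.Lib.Helper25.QCCRpush

/-!
# Mayer–Vietoris over opens of a fixed scheme, for finite tor dimension of direct images (helper25)

* `nonempty_Rpush_restrict_transport`: `R(j₁ ≫ g)_*(P|_{Z₁}) ≅ R(j₂ ≫ g)_*(P|_{Z₂})` for open immersions `j₁`, `j₂` into `X`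
  with the same range.
* `ftd_sup`: Mayer–Vietoris for two opens `V`, `W` of `X` (not necessarily covering `X`).
* `ftd_iSup`: finite unions of quasi-compact opens all of whose quasi-compact open subsets are good
  (`X` quasi-separated).
* `ftd_of_top`: from `⊤` to `X`.
-/

set_option autoImplicit false
universe u
open CategoryTheory CategoryTheory.Limits AlgebraicGeometry Pretriangulated

attribute [local instance] HasDerivedCategory.standard

namespace Groth.Agent.Lib.Helper25.DualCx8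

open DCoh Groth.Agent.Lib.Helper25.FTDClass Groth.Agent.Lib.Helper25.RestrictDNat

variable {X Y : Scheme.{u}}

/-- `Rf_*` only depends on `f` up to equality -/
noncomputable def rpushCongr {f f' : X ⟶ Y} (h : f = f') [DCoh.HasRpush f] [DCoh.HasRpush f'] :
    DCoh.Rpush f ≅ DCoh.Rpush f' := by
  subst h
  exact Iso.refl _

/-- `Rk_* ≅ (k⁻¹)^*` for an isomorphism `k` -/
theorem nonempty_Rpush_iso_restrictD_inv {Z₁ Z₂ : Scheme.{u}} (k : Z₁ ⟶ Z₂) [IsIso k]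
    [DCoh.HasRpush k] : Nonempty (DCoh.Rpush k ≅ DCoh.restrictD (inv k)) := by
  obtain ⟨adj⟩ := Groth.Agent.Lib.Helper25.RGZ1.nonempty_adj k
  exact ⟨adj.rightAdjointUniq (equivOfIso k).toAdjunction⟩

/-- transport between open immersions with the same range -/
theorem nonempty_Rpush_restrict_transport {Z₁ Z₂ : Scheme.{u}} (j₁ : Z₁ ⟶ X) (j₂ : Z₂ ⟶ X)
    [IsOpenImmersion j₁] [IsOpenImmersion j₂] (hr : Set.range j₁ = Set.range j₂) (g : X ⟶ Y)
    [DCoh.HasRpush (j₁ ≫ g)] [DCoh.HasRpush (j₂ ≫ g)] (P : DCoh.D X) :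
    Nonempty ((DCoh.Rpush (j₁ ≫ g)).obj ((DCoh.restrictD j₁).obj P) ≅
      (DCoh.Rpush (j₂ ≫ g)).obj ((DCoh.restrictD j₂).obj P)) := by
  let k : Z₁ ⟶ Z₂ := (IsOpenImmersion.isoOfRangeEq j₁ j₂ hr).hom
  have hk : k ≫ j₂ = j₁ := IsOpenImmersion.isoOfRangeEq_hom_fac j₁ j₂ hr
  haveI := Groth.Agent.Lib.Helper25.SchKInj.hasRpush k
  haveI := Groth.Agent.Lib.Helper25.SchKInj.hasRpush (k ≫ (j₂ ≫ g))
  haveI : DCoh.HasLpull k := Groth.Agent.Lib.Helper25.LpullAdapted.hasLpull _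
  obtain ⟨c⟩ := Groth.Agent.Lib.Helper25.LpullRpushAdj.nonempty_Rpush_comp k (j₂ ≫ g)
  obtain ⟨t⟩ := nonempty_Rpush_iso_restrictD_inv k
  have h1 : j₁ ≫ g = k ≫ (j₂ ≫ g) := by rw [← hk, Category.assoc]
  haveI : IsOpenImmersion (k ≫ j₂) := by rw [hk]; infer_instance
  let e1 : (DCoh.restrictD j₁).obj P ≅ (DCoh.restrictD k).obj ((DCoh.restrictD j₂).obj P) :=
    (congrIso hk.symm).app P ≪≫ (compIso k j₂).app P
  let e2 : (DCoh.Rpush k).obj ((DCoh.restrictD k).obj ((DCoh.restrictD j₂).obj P)) ≅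
      (DCoh.restrictD j₂).obj P :=
    t.app _ ≪≫ ((equivOfIso k).unitIso.app _).symm
  exact ⟨(rpushCongr h1).app _ ≪≫ (c.app _).symm ≪≫
    (DCoh.Rpush (j₂ ≫ g)).mapIso ((DCoh.Rpush k).mapIso e1 ≪≫ e2)⟩

attribute [local instance] Groth.Agent.Lib.Helper25.SchKInj.hasRpush

/-- the direct image of the restriction of `P` to the open `U` has finite tor dimension -/
def Good (g : X ⟶ Y) (P : DCoh.D X) (U : X.Opens) : Prop :=
  FTD ((DCoh.Rpush (U.ι ≫ g)).obj ((DCoh.restrictD U.ι).obj P))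

lemma range_nested (Z V : X.Opens) (h : V ≤ Z) :
    Set.range ((Z.ι ⁻¹ᵁ V).ι ≫ Z.ι) = Set.range V.ι := by
  rw [Scheme.Opens.range_ι]
  ext x
  constructor
  · rintro ⟨y, rfl⟩
    exact y.2
  · intro hx
    exact ⟨⟨⟨x, h hx⟩, hx⟩, rfl⟩

/-- transport of `Good` to a nested open -/
lemma ftd_nested (g : X ⟶ Y) (P : DCoh.D X) (Z V : X.Opens) (h : V ≤ Z) (hV : Good g P V) :
    FTD ((DCoh.Rpush ((Z.ι ⁻¹ᵁ V).ι ≫ (Z.ι ≫ g))).obj
      ((DCoh.restrictD (Z.ι ⁻¹ᵁ V).ι).obj ((DCoh.restrictD Z.ι).obj P))) := by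
  obtain ⟨e⟩ := nonempty_Rpush_restrict_transport ((Z.ι ⁻¹ᵁ V).ι ≫ Z.ι) V.ι
    (range_nested Z V h) g P
  have h1 : (Z.ι ⁻¹ᵁ V).ι ≫ (Z.ι ≫ g) = ((Z.ι ⁻¹ᵁ V).ι ≫ Z.ι) ≫ g := (Category.assoc _ _ _).symm
  exact ftd_of_iso ((rpushCongr h1).app _ ≪≫
    (DCoh.Rpush (((Z.ι ⁻¹ᵁ V).ι ≫ Z.ι) ≫ g)).mapIso ((compIso (Z.ι ⁻¹ᵁ V).ι Z.ι).app P).symm ≪≫
    e).symm hV

/-- **Mayer–Vietoris for two opens** -/
theorem good_sup (g : X ⟶ Y) (P : DCoh.D X) (V W : X.Opens) (hV : Good g P V) (hW : Good g P W)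
    (hVW : Good g P (V ⊓ W)) : Good g P (V ⊔ W) := by
  let Z : X.Opens := V ⊔ W
  have hcov : Z.ι ⁻¹ᵁ V ⊔ Z.ι ⁻¹ᵁ W = ⊤ := by
    rw [eq_top_iff]
    intro x _
    exact x.2
  obtain ⟨a, b, c, hT⟩ := Groth.Agent.S6511.result (Z.ι ≫ g) (Z.ι ⁻¹ᵁ V) (Z.ι ⁻¹ᵁ W) hcov
    ((DCoh.restrictD Z.ι).obj P)
  have h1 := ftd_nested g P Z V le_sup_left hV
  have h2 := ftd_nested g P Z W le_sup_right hW
  have h3 : FTD ((DCoh.Rpush ((Z.ι ⁻¹ᵁ V ⊓ Z.ι ⁻¹ᵁ W).ι ≫ (Z.ι ≫ g))).obj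
      ((DCoh.restrictD (Z.ι ⁻¹ᵁ V ⊓ Z.ι ⁻¹ᵁ W).ι).obj ((DCoh.restrictD Z.ι).obj P))) :=
    ftd_nested g P Z (V ⊓ W) (inf_le_left.trans le_sup_left) hVW
  exact ftd_obj₁ _ hT (ftd_biprod h1 h2) h3

/-- **finite unions**: if every quasi-compact open contained in a member of `𝒮` is good, finite unions of
quasi-compact members of `𝒮` are good (`X` quasi-separated) -/
theorem good_iSup [QuasiSeparatedSpace X] (g : X ⟶ Y) (P : DCoh.D X) (𝒮 : X.Opens → Prop)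
    (h𝒮 : ∀ U, 𝒮 U → ∀ U' : X.Opens, U' ≤ U → IsCompact (U' : Set X) → Good g P U') :
    ∀ (n : ℕ) (U : Fin n → X.Opens), (∀ i, 𝒮 (U i)) → (∀ i, IsCompact (U i : Set X)) →
      Good g P (⨆ i, U i) := by
  intro n
  induction n with
  | zero =>
    intro U _ _
    have h0 : (⨆ i, U i) = ⊥ := iSup_of_empty U
    rw [h0]
    haveI : IsEmpty ((⊥ : X.Opens) : Scheme.{u}) := ⟨fun y => y.2⟩
    haveI := Groth.Agent.Lib.Helper25.QCCRpush.additive_Rpush ((⊥ : X.Opens).ι ≫ g)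
    exact ftd_of_isZero ((DCoh.Rpush ((⊥ : X.Opens).ι ≫ g)).map_isZero
      (Groth.Agent.Lib.Helper25.HomVanQcqs.isZero_of_isEmpty _))
  | succ n ih =>
    intro U hU hUc
    rw [Groth.Agent.Lib.helper27.SerreVan.iSup_fin_succ U]
    set V : X.Opens := ⨆ i : Fin n, U i.castSucc with hVdef
    set W : X.Opens := U (Fin.last n) with hWdef
    have h1 : Good g P V := ih (fun i => U i.castSucc) (fun i => hU _) (fun i => hUc _)
    have h2 : Good g P W := h𝒮 W (hU _) W le_rfl (hUc _)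
    have hVc : IsCompact (V : Set X) := by
      have : (V : Set X) = ⋃ i : Fin n, (U i.castSucc : Set X) := by
        simp [V]
      rw [this]
      exact isCompact_iUnion fun i => hUc i.castSucc
    have hc : IsCompact ((V ⊓ W : X.Opens) : Set X) :=
      hVc.inter_of_isOpen (hUc _) V.isOpen W.isOpen
    have h3 : Good g P (V ⊓ W) := h𝒮 W (hU _) (V ⊓ W) inf_le_right hc
    exact good_sup g P V W h1 h2 h3

/-- from `⊤` to `X` -/
theorem ftd_of_good_top (g : X ⟶ Y) [DCoh.HasRpush g] (P : DCoh.D X) (h : Good g P ⊤) :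
    FTD ((DCoh.Rpush g).obj P) := by
  have hr : Set.range (⊤ : X.Opens).ι = Set.range (𝟙 X : X ⟶ X) := by
    rw [Scheme.Opens.range_ι]
    ext x
    simp
  obtain ⟨e⟩ := nonempty_Rpush_restrict_transport (⊤ : X.Opens).ι (𝟙 X) hr g P
  exact ftd_of_iso (e ≪≫ (rpushCongr (Category.id_comp g)).app _ ≪≫
    (DCoh.Rpush g).mapIso ((idIso X).app P)) h

end Groth.Agent.Lib.Helper25.DualCx8
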