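import Mathlib
import Groth.Agent.Lib.Helper25.FlatPushMV
import Groth.Agent.Lib.Helper25.LTensorModRes
import Groth.Agent.Lib.Helper21.CorepHom1
import Groth.Agent.Lib.Helper2.TensorQCoh
import Groth.Agent.Lib.Helper12.InvDual2
import Groth.Agent.Lib.Helper25.RpushCohProper

/-!
# `Rf_*(E ⊗^L G)` has finite tor dimension (helper25)

`E` perfect, `G` quasi-coherent and flat over the affine base `Y`, source quasi-compact quasi-separated.

* `isFlat_pushforward_of_isFlatOver`, `isFlatOver_of_isZero`, `isFlatOver_restrict`.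
* `ftd_Rpush_tensor_single`, `ftd_Rpush_tensor_of_tg`: affine case.
* `ftd_Rpush_tensor`: Mayer–Vietoris induction.
-/

set_option autoImplicit false
universe u
open CategoryTheory CategoryTheory.Limits AlgebraicGeometry Pretriangulated
attribute [local instance] HasDerivedCategory.standard

namespace Groth.Agent.Lib.Helper25.FlatPushTensor

open DCoh Groth.Agent.Lib.Helper25.FTDClass Scheme.Modules DerivedCategory
  Groth.Agent.Lib.Helper25.RDerRlim Groth.Agent.Lib.Helper25.RDerAcyc
  Groth.Agent.Lib.Helper25.ThomasonTG Groth.Agent.Lib.Helper25.LTensorModRes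
  Groth.Agent.Lib.Helper25.LTensorDCoh Groth.Agent.Lib.Helper25.TensorRightQisAll

variable {X Y : Scheme.{u}} (f : X ⟶ Y)


/-- the direct image along an affine morphism of a quasi-coherent module flat over the base is flat -/
theorem isFlat_pushforward_of_isFlatOver [IsAffineHom f] (M : X.Modules) [M.IsQuasicoherent]
    (hM : FlatMod.IsFlatOver f M) : FlatMod.IsFlat ((Scheme.Modules.pushforward f).obj M) := by
  have h1 : FlatMod.IsFlatOver (f ≫ 𝟙 Y) M :=
    (Groth.Agent.Lib.helper17.FlatOver7.isFlatOver_congr (Category.comp_id f).symm M).1 hM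
  have h2 := (Groth.Agent.Lib.helper17.FlatOver5.isFlatOver_push_iff f (𝟙 Y) M).1 h1
  exact (Groth.Agent.Lib.helper17.FlatOver7.isFlatOver_id_iff _).1 h2

/-- the zero module is flat over any base -/
lemma isFlatOver_of_isZero {Z : X.Modules} (hZ : IsZero Z) : FlatMod.IsFlatOver f Z := by
  intro x
  unfold FlatMod.IsFlatOverAt
  letI := FlatMod.moduleStalkOver f Z x
  haveI : Subsingleton (Z.presheaf.stalk x) := by
    by_contra h
    have h' : x ∈ CohB1.support Z := h
    rw [Groth.Agent.Lib.Helper25.RpushCohProper.support_eq_empty_of_isZero hZ] at h'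
    exact h'
  infer_instance

/-- `Rf_*(M[-a] ⊗^L G)`, `M` finite locally free, `G` quasi-coherent and flat over `Y`, `f` affine -/
theorem ftd_Rpush_tensor_single [IsAffineHom f] [DCoh.HasRpush f] (G : X.Modules)
    [G.IsQuasicoherent] (hG : FlatMod.IsFlatOver f G) [DCoh.HasLTensorMod G] (a : ℤ) (M : X.Modules)
    (hM : FlatMod.IsFinLocFree M) :
    FTD ((DCoh.Rpush f).obj ((DCoh.LTensorMod G).obj
      ((DerivedCategory.singleFunctor X.Modules a).obj M))) := by
  haveI : M.IsQuasicoherent := Groth.Agent.Lib.helper16.FLF.isQuasicoherent_of_isFinLocFree _ hM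
  let Fc : CochainComplex X.Modules ℤ :=
    (HomologicalComplex.single X.Modules (ComplexShape.up ℤ) a).obj M
  have hFcK : DCoh.IsKFlat Fc :=
    Groth.Agent.Lib.helper13.KFlat.dcoh_isKFlat_of_bounded_above Fc a
      (fun q hq => HomologicalComplex.isZero_single_obj_X (ComplexShape.up ℤ) a _ q (by omega))
      (fun n => by
        by_cases hn : n = a
        · subst hn
          exact Groth.Agent.Lib.helper25.FlatClass.isFlat_of_iso
            (HomologicalComplex.singleObjXSelf (ComplexShape.up ℤ) n M).symm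
            (Groth.Agent.Lib.helper16.FLF.isFlat_of_isFinLocFree _ hM)
        · exact Groth.Agent.Lib.helper25.FlatClass.isFlat_of_isZero
            (HomologicalComplex.isZero_single_obj_X (ComplexShape.up ℤ) a _ n hn))
  obtain ⟨t⟩ := nonempty_LTensorMod_iso G (tensorRightQis G) Fc hFcK
  let Tc : CochainComplex X.Modules ℤ :=
    ((DCoh.tensorRightMod G).mapHomologicalComplex (ComplexShape.up ℤ)).obj Fc
  have hTz : ∀ n, n ≠ a → IsZero (Tc.X n) := fun n hn =>
    (DCoh.tensorRightMod G).map_isZero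
      (HomologicalComplex.isZero_single_obj_X (ComplexShape.up ℤ) a _ n hn)
  have eTa : Tc.X a ≅ CohB1.tensorMod M G :=
    (DCoh.tensorRightMod G).mapIso (HomologicalComplex.singleObjXSelf (ComplexShape.up ℤ) a M)
  have hTq : ∀ n, (Tc.X n).IsQuasicoherent := by
    intro n
    by_cases hn : n = a
    · subst hn
      haveI : (CohB1.tensorMod M G).IsQuasicoherent :=
        Groth.Agent.Lib.helper2.TensorQCoh.isQuasicoherent_tensorMod M G
      exact Groth.Agent.Lib.helper16.QCohFibre.isQuasicoherent_of_iso eTa.symm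
    · exact Groth.Agent.Lib.helper7.CohKer.isQuasicoherent_of_isZero (X := X) (hTz n hn)
  have hTf : ∀ n, FlatMod.IsFlatOver f (Tc.X n) := by
    intro n
    by_cases hn : n = a
    · subst hn
      rw [Groth.Agent.Lib.helper17.FlatOver7.isFlatOver_iff_of_iso f
        (eTa ≪≫ Groth.Agent.Lib.helper12.InvDual.tensorModComm M G)]
      exact Groth.Agent.Lib.helper21.CorepHom.isFlatOver_tensorMod_of_isFinLocFree f G M hG hM
    · exact isFlatOver_of_isZero f (hTz n hn)
  haveI : HasInjectiveResolutions X.Modules :=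
    Groth.Agent.Lib.helper21.ModOpenBC.hasInjectiveResolutions_modules _
  have hiso := Groth.Agent.Lib.Helper25.RpushAcyc.isIso_unit_of_acyclic f Tc hTq
    (fun n i hi => Groth.Agent.Lib.Helper25.RpushQC3.isZero_rpush_of_isAffineHom f _ (hTq n) i hi)
  rw [isIso_α_app_iff (pushforward f) (DCoh.Rpush f)] at hiso
  let e := asIso ((uQ (pushforward f) (DCoh.Rpush f)
    ((DCoh.pushKh f).totalRightDerivedUnit DerivedCategory.Qh
      (HomotopyCategory.quasiIso X.Modules (ComplexShape.up ℤ)))).app Tc)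
  refine ftd_of_iso (e ≪≫ (DCoh.Rpush f).mapIso (t.symm ≪≫ (DCoh.LTensorMod G).mapIso
    ((DerivedCategory.singleFunctorIsoCompQ X.Modules a).app M).symm)) ?_
  refine ⟨a, a, le_rfl, ((pushforward f).mapHomologicalComplex _).obj Tc, ?_, ?_, ⟨Iso.refl _⟩⟩
  · intro i hi
    exact (pushforward f).map_isZero (hTz i (by omega))
  · intro i
    haveI := hTq i
    exact isFlat_pushforward_of_isFlatOver f (Tc.X i) (hTf i)

/-- `Rf_*(E ⊗^L G)` for `E` in the thick subcategory generated by `O_X` (`f` affine, `G` flat over `Y`) -/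
theorem ftd_Rpush_tensor_of_tg [IsAffineHom f] [DCoh.HasRpush f] (G : X.Modules)
    [G.IsQuasicoherent] (hG : FlatMod.IsFlatOver f G) [DCoh.HasLTensorMod G] {E : DCoh.D X}
    (hE : TG X E) : FTD ((DCoh.Rpush f).obj ((DCoh.LTensorMod G).obj E)) := by
  induction hE with
  | zero P hP =>
    haveI := Groth.Agent.Lib.Helper25.QCCRpush.additive_Rpush f
    exact ftd_of_isZero ((DCoh.Rpush f).map_isZero (isZero_LTensorMod_obj G P hP))
  | single a M r e =>
    have hfl : FlatMod.IsFinLocFree M :=
      Groth.Agent.Lib.helper16.FLF.isFinLocFree_of_iso e.symm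
        (Groth.Agent.Lib.helper16.FLF.isFinLocFree_freeMod X r)
    exact ftd_Rpush_tensor_single f G hG a M hfl
  | tri T hT _ _ h1 h3 =>
    obtain ⟨c, hc⟩ := exists_distinguished_LTensorMod G T hT
    obtain ⟨c', hc'⟩ := Groth.Agent.Lib.Helper25.RGZ5.exists_distinguished_Rpush f _ hc
    exact ftd_obj₂ _ hc' h1 h3
  | retract P P' i p hip _ h =>
    exact ftd_retract ((DCoh.Rpush f).map ((DCoh.LTensorMod G).map i))
      ((DCoh.Rpush f).map ((DCoh.LTensorMod G).map p))
      (by rw [← Functor.map_comp, ← Functor.map_comp, hip, CategoryTheory.Functor.map_id,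
        CategoryTheory.Functor.map_id]) h

/-- restriction to an open preserves flatness over the base -/
lemma isFlatOver_restrict (G : X.Modules) [G.IsQuasicoherent] (hG : FlatMod.IsFlatOver f G)
    (V : X.Opens) : FlatMod.IsFlatOver (V.ι ≫ f) ((restrictFunctor V.ι).obj G) :=
  (Groth.Agent.Lib.helper17.FlatOver7.isFlatOver_iff_of_iso (V.ι ≫ f)
    ((Scheme.Modules.restrictFunctorIsoPullback V.ι).app G)).2
    (Groth.Agent.Lib.helper17.FlatOver4.isFlatOver_pullback_of_flat V.ι f G hG)

/-- **`Rf_*(E ⊗^L G)` has finite tor dimension**: `E` perfect, `G` quasi-coherent and flat over `Y` affine, `X`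
quasi-compact and quasi-separated -/
theorem ftd_Rpush_tensor (Y : Scheme.{u}) [IsAffine Y] (X : Scheme.{u}) [CompactSpace X]
    [QuasiSeparatedSpace X] :
    ∀ (f : X ⟶ Y) [DCoh.HasRpush f] (G : X.Modules) [G.IsQuasicoherent]
      (_ : FlatMod.IsFlatOver f G) [DCoh.HasLTensorMod G] (E : DCoh.D X), DCoh.IsPerfect E →
      FTD ((DCoh.Rpush f).obj ((DCoh.LTensorMod G).obj E)) := by
  refine Groth.Agent.Lib.Helper25.QcqsInduction.qcqs_induction
    (fun X => ∀ (f : X ⟶ Y) [DCoh.HasRpush f] (G : X.Modules) [G.IsQuasicoherent]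
      (_ : FlatMod.IsFlatOver f G) [DCoh.HasLTensorMod G] (E : DCoh.D X), DCoh.IsPerfect E →
      FTD ((DCoh.Rpush f).obj ((DCoh.LTensorMod G).obj E))) ?_ ?_ X
  · intro X hX f _ G _ hG _ E hE
    haveI : IsAffine X := hX
    exact ftd_Rpush_tensor_of_tg f G hG
      (Groth.Agent.Lib.Helper25.TildePerfect.tg_of_isPerfect_affine X E hE)
  · intro X V W hVW hV hW hVW' f _ G _ hG _ E hE
    haveI := Groth.Agent.Lib.Helper25.SchKInj.hasRpush (V.ι ≫ f)
    haveI := Groth.Agent.Lib.Helper25.SchKInj.hasRpush (W.ι ≫ f)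
    haveI := Groth.Agent.Lib.Helper25.SchKInj.hasRpush ((V ⊓ W).ι ≫ f)
    obtain ⟨a, b, c, hT⟩ := Groth.Agent.S6511.result f V W hVW ((DCoh.LTensorMod G).obj E)
    have key : ∀ (U : X.Opens), (∀ (f : (U : Scheme.{u}) ⟶ Y) [DCoh.HasRpush f]
        (G : (U : Scheme.{u}).Modules) [G.IsQuasicoherent]
        (_ : FlatMod.IsFlatOver f G) [DCoh.HasLTensorMod G] (E : DCoh.D (U : Scheme.{u})),
        DCoh.IsPerfect E → FTD ((DCoh.Rpush f).obj ((DCoh.LTensorMod G).obj E))) →
        ∀ [DCoh.HasRpush (U.ι ≫ f)], FTD ((DCoh.Rpush (U.ι ≫ f)).obj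
          ((DCoh.restrictD U.ι).obj ((DCoh.LTensorMod G).obj E))) := by
      intro U hU _
      haveI : DCoh.HasLTensorMod ((restrictFunctor U.ι).obj G) :=
        hasLTensorMod _ (tensorRightQis _)
      haveI : ((restrictFunctor U.ι).obj G).IsQuasicoherent :=
        inferInstanceAs (G.restrict U.ι).IsQuasicoherent
      obtain ⟨e⟩ := nonempty_restrictD_LTensorMod_iso U G E
      exact ftd_of_iso ((DCoh.Rpush (U.ι ≫ f)).mapIso e.symm)
        (hU (U.ι ≫ f) ((restrictFunctor U.ι).obj G) (isFlatOver_restrict f G hG U) _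
          (Groth.Agent.Lib.Helper25.HomVanQcqs.isPerfect_restrictD U.ι hE))
    exact ftd_obj₁ _ hT (ftd_biprod (key V hV) (key W hW)) (key (V ⊓ W) hVW')

end Groth.Agent.Lib.Helper25.FlatPushTensor
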