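import Mathlib
import Groth.Agent.Lib.Helper25.DualCx7
import Groth.Agent.Lib.Helper25.DualCx8
import Groth.Agent.Lib.Helper25.FlatPushTensor
import Groth.Agent.Lib.Helper25.TildePerfect

/-!
# `Rg_* RHom(K, G)` has finite tor dimension (helper25)

`Y` affine, `X` quasi-compact quasi-separated, `g : X ⟶ Y`, `G` quasi-coherent and flat over `Y`, `K` a K-flat complex
with `Q K` perfect, `H` any right adjoint of `- ⊗^L K`:

* `ftd_Rpush_RHom : FTD (Rg_* (H (G[0])))`.
-/

set_option autoImplicit false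
universe u
open CategoryTheory CategoryTheory.Limits AlgebraicGeometry Pretriangulated

attribute [local instance] HasDerivedCategory.standard

namespace Groth.Agent.Lib.Helper25.DualCx9

open DCoh Scheme.Modules Groth.Agent.Lib.Helper25.FTDClass Groth.Agent.Lib.Helper25.DualCx6
  Groth.Agent.Lib.Helper25.DualCx7 Groth.Agent.Lib.Helper25.DualCx8
  Groth.Agent.Lib.Helper25.FlatPushTensor Groth.Agent.Lib.Helper25.LTensorDCoh
  Groth.Agent.Lib.Helper25.TensorRightQisAll

attribute [local instance] Groth.Agent.Lib.Helper25.SchKInj.hasRpush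
attribute [local instance] Groth.Agent.Lib.Helper25.LTensorRestrict.hasLTensorCx

/-- **`Rg_* RHom(K, G)` has finite tor dimension** -/
theorem ftd_Rpush_RHom (Y : Scheme.{u}) [IsAffine Y] (X : Scheme.{u}) [CompactSpace X]
    [QuasiSeparatedSpace X] (g : X ⟶ Y) [DCoh.HasRpush g] (G : X.Modules) [G.IsQuasicoherent]
    (hG : FlatMod.IsFlatOver g G) (K : CochainComplex X.Modules ℤ) (hK : DCoh.IsKFlat K)
    (hP : DCoh.IsPerfect (DerivedCategory.Q.obj K)) {H : DCoh.D X ⥤ DCoh.D X}
    (adj : DCoh.LTensorCx K ⊣ H) :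
    FTD ((DCoh.Rpush g).obj (H.obj (DCoh.inD X G))) := by
  classical
  apply ftd_of_good_top
  -- small opens
  let 𝒮 : X.Opens → Prop := fun U => SPD ((DCoh.restrictD U.ι).obj (DerivedCategory.Q.obj K))
  have h𝒮 : ∀ U, 𝒮 U → ∀ U' : X.Opens, U' ≤ U → IsCompact (U' : Set X) →
      Good g (H.obj (DCoh.inD X G)) U' := by
    intro U hU U' hle hc
    haveI : CompactSpace ↥(U' : Scheme.{u}) := isCompact_iff_compactSpace.mp hc
    haveI : QuasiSeparatedSpace ↥(U' : Scheme.{u}) :=
      QuasiSeparatedSpace.of_isOpenEmbedding U'.ι.isOpenEmbedding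
    haveI : DCoh.HasLTensorMod ((restrictFunctor U'.ι).obj G) := hasLTensorMod _ (tensorRightQis _)
    haveI : ((restrictFunctor U'.ι).obj G).IsQuasicoherent :=
      inferInstanceAs (G.restrict U'.ι).IsQuasicoherent
    obtain ⟨D, hD, ⟨e⟩⟩ := exists_local_structure K hK adj U' (spd_of_le hle hU) G
    exact ftd_of_iso ((DCoh.Rpush (U'.ι ≫ g)).mapIso e.symm)
      (ftd_Rpush_tensor Y U' (U'.ι ≫ g) ((restrictFunctor U'.ι).obj G)
        (isFlatOver_restrict g G hG U') _
        (Groth.Agent.Lib.Helper25.TildePerfect.isPerfect_Q_of_isStrictlyPerfect D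
          (isStrictlyPerfect_of_isFreeCx hD)))
  -- a finite cover by small affine opens
  choose U hxU haff hUS using fun x : X => exists_spd_of_isPerfect hP x
  obtain ⟨t, ht⟩ := isCompact_univ.elim_finite_subcover (fun y => ((U y : X.Opens) : Set X))
    (fun y => (U y).isOpen) (fun y _ => Set.mem_iUnion.mpr ⟨y, hxU y⟩)
  have hcov : (⨆ i : Fin t.card, U (t.equivFin.symm i).1) = ⊤ := by
    rw [eq_top_iff]
    intro y _
    obtain ⟨z, hz⟩ := Set.mem_iUnion.mp (ht (Set.mem_univ y))
    obtain ⟨hzt, hyz⟩ := Set.mem_iUnion.mp hz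
    refine TopologicalSpace.Opens.mem_iSup.mpr ⟨t.equivFin ⟨z, hzt⟩, ?_⟩
    simpa using hyz
  rw [← hcov]
  exact good_iSup g _ 𝒮 h𝒮 t.card (fun i => U (t.equivFin.symm i).1) (fun i => hUS _)
    (fun i => (haff _).isCompact)

end Groth.Agent.Lib.Helper25.DualCx9
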