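import Mathlib
import Groth.Prelude.Def_DerSch
import Groth.Agent.Lib.Helper16.QCohAss
import Groth.Agent.Lib.Helper7.QCohPushQC

/-!
# A quasi-coherent module with prescribed stalk (helper25)

For a point `x` of a scheme `X` and a module `N` over the local ring `O_{X,x}`:
* `G x N := (Spec O_{X,x} ⟶ X)_* (N~)`, with sections `sec x N U n` (`sec_res`, `sec_add`, `sec_smul`);
* `preimage_eq_top`: the preimage of an open neighbourhood of `x` in `Spec O_{X,x}` is everything;
* `φ x N : N ⟶ G_x` is an isomorphism of `O_{X,x}`-modules, `stalkIso x N : (G x N)_x ≅ N`;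
* `isQuasicoherent_G`: on a quasi-separated scheme `G x N` is quasi-coherent.
-/

set_option autoImplicit false
universe u
open CategoryTheory CategoryTheory.Limits AlgebraicGeometry Opposite TopologicalSpace

namespace Groth.Agent.Lib.Helper25.QCohStalkMod

open Scheme.Modules Groth.Agent.Lib.helper16.QCohAss

variable {X : Scheme.{u}} (x : X) (N : ModuleCat.{u} (X.presheaf.stalk x))

/-- the canonical morphism `Spec O_{X,x} ⟶ X` -/
noncomputable abbrev ix : Spec (X.presheaf.stalk x) ⟶ X := X.fromSpecStalk x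

/-- the quasi-coherent `O_X`-module `(Spec O_{X,x} ⟶ X)_* (N~)` with stalk `N` at `x` -/
noncomputable def G : X.Modules := (pushforward (ix x)).obj (tilde N)

lemma preimage_eq_top (U : X.Opens) (hx : x ∈ U) : (ix x) ⁻¹ᵁ U = ⊤ := by
  rw [eq_top_iff]
  intro y _
  have h1 : (ix x) y ∈ Set.range (X.fromSpecStalk x) := ⟨y, rfl⟩
  rw [Scheme.range_fromSpecStalk] at h1
  exact h1.mem_open U.2 hx

/-- sections of `N~` over an open which is everything are `N` -/
lemma bijective_toOpen (V : (Spec (X.presheaf.stalk x)).Opens) (hV : V = ⊤) :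
    Function.Bijective (tilde.toOpen N V).hom := by
  subst hV
  exact (ConcreteCategory.isIso_iff_bijective (tilde.toOpen N ⊤)).1 inferInstance

/-- the section of `G` over `U ∋ x` attached to `n : N` -/
noncomputable def sec (U : X.Opens) (n : N) : Γ(G x N, U) :=
  (tilde.toOpen N ((ix x) ⁻¹ᵁ U)).hom n

lemma sec_res {U V : X.Opens} (i : V ⟶ U) (n : N) :
    ((G x N).presheaf.map i.op).hom (sec x N U n) = sec x N V n := by
  have := tilde.toOpen_res N ((ix x) ⁻¹ᵁ U) ((ix x) ⁻¹ᵁ V) ((Opens.map (ix x).base).map i)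
  exact congrArg (fun φ => φ.hom n) this

lemma sec_add (U : X.Opens) (n n' : N) : sec x N U (n + n') = sec x N U n + sec x N U n' :=
  map_add (tilde.toOpen N ((ix x) ⁻¹ᵁ U)).hom n n'

lemma sec_smul (U : X.Opens) (hx : x ∈ U) (a : Γ(X, U)) (n : N) :
    (a • sec x N U n : Γ(G x N, U)) = sec x N U ((X.presheaf.germ U x hx).hom a • n) := by
  have h1 : (a • sec x N U n : Γ(G x N, U)) =
      (((ix x).app U).hom a • (show Γ(tilde N, (ix x) ⁻¹ᵁ U) from sec x N U n) :
        Γ(tilde N, (ix x) ⁻¹ᵁ U)) := rfl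
  rw [h1, Scheme.fromSpecStalk_app hx]
  have h2 : sec x N U ((X.presheaf.germ U x hx).hom a • n) =
      (X.presheaf.germ U x hx).hom a • (show Γ(tilde N, (ix x) ⁻¹ᵁ U) from sec x N U n) :=
    map_smul (tilde.toOpen N ((ix x) ⁻¹ᵁ U)).hom _ n
  rw [h2, Scheme.Modules.smul_Spec_def]
  rfl

/-- germ at `x` of the section attached to `n` -/
lemma germ_sec_eq (U : X.Opens) (hx : x ∈ U) (n : N) :
    ((G x N).presheaf.germ U x hx).hom (sec x N U n) =
      ((G x N).presheaf.germ ⊤ x trivial).hom (sec x N ⊤ n) := by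
  have h := TopCat.Presheaf.germ_res_apply (G x N).presheaf (homOfLE (le_top : U ≤ ⊤)) x hx (sec x N ⊤ n)
  rw [← sec_res x N (homOfLE (le_top : U ≤ ⊤)) n]
  exact h

/-- the comparison map `N ⟶ G_x` -/
noncomputable def φ : N ⟶ (DerSch.stalkFunctor X x).obj (G x N) :=
  ModuleCat.ofHom (Y := (DerSch.stalkFunctor X x).obj (G x N))
    { toFun := fun n => ((G x N).presheaf.germ ⊤ x trivial).hom (sec x N ⊤ n)
      map_add' := fun n n' => by
        rw [sec_add]
        exact map_add _ _ _
      map_smul' := fun r n => by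
        obtain ⟨U, hx, a, rfl⟩ := X.presheaf.exists_germ_eq (x := x) r
        rw [← germ_sec_eq x N U hx, ← sec_smul x N U hx a n, germ_smul', germ_sec_eq x N U hx]
        rfl }

lemma φ_apply (U : X.Opens) (hx : x ∈ U) (n : N) :
    (φ x N).hom n = ((G x N).presheaf.germ U x hx).hom (sec x N U n) :=
  (germ_sec_eq x N U hx n).symm

theorem φ_bijective : Function.Bijective (φ x N).hom := by
  constructor
  · rw [injective_iff_map_eq_zero]
    intro n hn
    rw [φ_apply x N ⊤ trivial n] at hn
    obtain ⟨W, hxW, iW, iV, hW⟩ := TopCat.Presheaf.germ_eq (G x N).presheaf (U := ⊤) (V := ⊤) x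
      trivial trivial (sec x N ⊤ n) 0 (hn.trans (map_zero _).symm)
    have h1 : sec x N W n = 0 := by
      have := sec_res x N iW n
      rw [← this]
      exact hW.trans (map_zero _)
    exact (bijective_toOpen x N _ (preimage_eq_top x W hxW)).1 (h1.trans (map_zero _).symm)
  · intro m
    obtain ⟨U, hx, s, rfl⟩ := (G x N).presheaf.exists_germ_eq (x := x) m
    obtain ⟨n, hn⟩ := (bijective_toOpen x N _ (preimage_eq_top x U hx)).2 s
    exact ⟨n, (φ_apply x N U hx n).trans (congrArg _ hn)⟩

instance : IsIso (φ x N) := (ConcreteCategory.isIso_iff_bijective _).2 (φ_bijective x N)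

/-- **`G_x ≅ N`** -/
noncomputable def stalkIso : (DerSch.stalkFunctor X x).obj (G x N) ≅ N := (asIso (φ x N)).symm

/-- on a quasi-separated scheme `G x N` is quasi-coherent -/
theorem isQuasicoherent_G [QuasiSeparatedSpace X] : (G x N).IsQuasicoherent := by
  haveI : QuasiCompact (ix x) := inferInstance
  haveI : QuasiSeparated (ix x) := inferInstance
  exact Groth.Agent.Lib.helper7.QCohPushQC.isQuasicoherent_pushforward (ix x) (tilde N)

end Groth.Agent.Lib.Helper25.QCohStalkMod
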