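import Mathlib
import Groth.Agent.Lib.Helper25.QCohStalkMod
import Groth.Agent.Lib.Helper25.StalkKFlat
import Groth.Agent.Lib.Helper25.TensorRightQisAll
import Groth.Agent.Lib.Helper25.DCohRestrict

/-!
# Tor amplitude can be tested on quasi-coherent modules (helper25)

* `tensorRightStalkIso x F : (- ⊗ F)_x ≅ F_x ⊗ (-)_x` (natural), `tensorRightStalkCongr` (depends only on `F_x`).
* `isZero_homology_stalk_tensor_congr`: acyclicity of `(P ⊗ F)_x` in degree `i` only depends on `F_x`.
* `nonempty_HD_LTensorMod_iso`: `H^i(E ⊗^L F) ≅ H^i(P ⊗ F)` for a K-flat representative `P` of `E`.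
* `hasTorAmplitudeIn_of_qcoh`: on a quasi-separated scheme, `H^i(E ⊗^L F) = 0` outside `[a,b]` for all quasi-coherent `F`
  implies `DCoh.HasTorAmplitudeIn a b E` (test module `QCohStalkMod.G x F_x`; no hypothesis on `E`).
-/

set_option autoImplicit false
universe u
open CategoryTheory CategoryTheory.Limits AlgebraicGeometry Opposite TopologicalSpace MonoidalCategory

attribute [local instance] HasDerivedCategory.standard

namespace Groth.Agent.Lib.Helper25.TorAmpQCoh

open Groth.Agent.Lib.Helper25.StalkPre Groth.Agent.Lib.Helper25.StalkExact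
  Groth.Agent.Lib.Helper25.StalkTensorCx Groth.Agent.Lib.Helper25.StalkKFlat
  Groth.Agent.Lib.Helper25.LTensorDCoh Groth.Agent.Lib.Helper25.TensorRightQisAll
  Groth.Agent.Lib.Helper25.QCohStalkMod

variable {X : Scheme.{u}} (x : X)

/-- `(- ⊗ F)_x ≅ F_x ⊗ (-)_x`, naturally -/
noncomputable def tensorRightStalkIso (F : X.Modules) :
    DCoh.tensorRightMod F ⋙ DerSch.stalkFunctor X x ≅
      DerSch.stalkFunctor X x ⋙ tensorLeft ((DerSch.stalkFunctor X x).obj F) :=
  Functor.isoWhiskerRight (tensorRightModIso F).symm (DerSch.stalkFunctor X x) ≪≫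
    (tensorBiStalkNatIso x).app F

/-- the functors `(- ⊗ F)_x` and `(- ⊗ F')_x` are isomorphic if `F_x ≅ F'_x` -/
noncomputable def tensorRightStalkCongr (F F' : X.Modules)
    (θ : (DerSch.stalkFunctor X x).obj F ≅ (DerSch.stalkFunctor X x).obj F') :
    DCoh.tensorRightMod F ⋙ DerSch.stalkFunctor X x ≅
      DCoh.tensorRightMod F' ⋙ DerSch.stalkFunctor X x :=
  tensorRightStalkIso x F ≪≫
    Functor.isoWhiskerLeft (DerSch.stalkFunctor X x)
      ((curriedTensor (ModuleCat.{u} (X.presheaf.stalk x))).mapIso θ) ≪≫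
    (tensorRightStalkIso x F').symm

/-- acyclicity in degree `i` of `P ⊗ F` at the stalk `x` only depends on `F_x` -/
lemma isZero_homology_stalk_tensor_congr (F F' : X.Modules)
    (θ : (DerSch.stalkFunctor X x).obj F ≅ (DerSch.stalkFunctor X x).obj F')
    (P : CochainComplex X.Modules ℤ) (i : ℤ)
    (h : IsZero (((stalkCx x).obj
      (((DCoh.tensorRightMod F').mapHomologicalComplex (ComplexShape.up ℤ)).obj P)).homology i)) :
    IsZero (((stalkCx x).obj
      (((DCoh.tensorRightMod F).mapHomologicalComplex (ComplexShape.up ℤ)).obj P)).homology i) := by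
  let e := (NatIso.mapHomologicalComplex (tensorRightStalkCongr x F F' θ) (ComplexShape.up ℤ)).app P
  exact h.of_iso ((HomologicalComplex.homologyFunctor _ _ i).mapIso e)

variable {x}

/-- `H^i(E ⊗^L F)` is the cohomology of `P ⊗ F` for a K-flat representative `P` of `E` -/
lemma nonempty_HD_LTensorMod_iso (F : X.Modules) [DCoh.HasLTensorMod F] (E : DCoh.D X)
    (P : CochainComplex X.Modules ℤ) (hP : DCoh.IsKFlat P) (e : DerivedCategory.Q.obj P ≅ E) (i : ℤ) :
    Nonempty (DCoh.HD ((DCoh.LTensorMod F).obj E) i ≅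
      (((DCoh.tensorRightMod F).mapHomologicalComplex (ComplexShape.up ℤ)).obj P).homology i) := by
  obtain ⟨e'⟩ := nonempty_LTensorMod_iso F (tensorRightQis F) P hP
  exact ⟨(DerivedCategory.homologyFunctor X.Modules i).mapIso
    ((DCoh.LTensorMod F).mapIso e.symm ≪≫ e') ≪≫
      (DerivedCategory.homologyFunctorFactors X.Modules i).app _⟩

/-- **Tor amplitude can be tested on quasi-coherent modules** (quasi-separated `X`, any `E`). -/
theorem hasTorAmplitudeIn_of_qcoh [QuasiSeparatedSpace X] (E : DCoh.D X) (a b : ℤ)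
    (h : ∀ (F : X.Modules), Coh.IsQCoh F → ∀ [DCoh.HasLTensorMod F] (i : ℤ), (i < a ∨ b < i) →
        IsZero (DCoh.HD ((DCoh.LTensorMod F).obj E) i)) :
    DCoh.HasTorAmplitudeIn a b E := by
  intro F _ i hi
  obtain ⟨E₀, ⟨a₀⟩⟩ := Groth.Agent.Lib.helper25.DCohRestrict.exists_rep E
  obtain ⟨P, q, hP, hq⟩ := hres₀ E₀
  have hqi : IsIso (DerivedCategory.Q.map q) := by
    rw [DerivedCategory.isIso_Q_map_iff_quasiIso]
    exact hq
  let e : DerivedCategory.Q.obj P ≅ E := asIso (DerivedCategory.Q.map q) ≪≫ a₀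
  obtain ⟨e₁⟩ := nonempty_HD_LTensorMod_iso F E P hP e i
  refine IsZero.of_iso ?_ e₁
  apply isZero_homology_of_forall_stalk
  intro x
  -- the quasi-coherent test module with the same stalk at `x`
  let N := (DerSch.stalkFunctor X x).obj F
  haveI : DCoh.HasLTensorMod (G x N) := hasLTensorMod (G x N) (tensorRightQis (G x N))
  have h1 := h (G x N) (isQuasicoherent_G x N) i hi
  obtain ⟨e₂⟩ := nonempty_HD_LTensorMod_iso (G x N) E P hP e i
  have h2 : IsZero ((((DCoh.tensorRightMod (G x N)).mapHomologicalComplex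
      (ComplexShape.up ℤ)).obj P).homology i) := h1.of_iso e₂.symm
  have h3 := isZero_homology_map (DerSch.stalkFunctor X x) _ i h2
  exact isZero_homology_stalk_tensor_congr x F (G x N) (stalkIso x N).symm P i h3

end Groth.Agent.Lib.Helper25.TorAmpQCoh
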