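import Mathlib
import Groth.Agent.Lib.Helper25.TorAmpQCoh
import Groth.Agent.Lib.Helper25.PullMonoFlat
import Groth.Agent.Lib.Helper25.StalkPullFlat
import Groth.Agent.Lib.Helper25.LpullComp
import Groth.Agent.Lib.Helper11.TensorACocont
import Groth.Agent.Lib.Helper8.ProperOver
import Groth.Agent.Lib.Helper8.DevMaster
import Groth.Agent.Lib.Helper18.DegCalc
import Groth.Agent.Lib.Helper25.RpushCohProper

/-!
# Fourier–Mukai transforms with a coherent kernel flat over the source (helper25, S2224)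

* `tensorLeft_extendScalars_map_injective` (algebra): `K ⊗_S (S ⊗_R -)` preserves injections if `K` is `R`-flat.
* `T₀ g K = g^*(-) ⊗ K`, `T₀StalkIso`, `mono_T₀_map`, `preservesMonomorphisms_T₀`, `preservesHomology_T₀`: for `K` flat over `X`
  (`FlatMod.IsFlatOver g K`) the functor `M ↦ g^*M ⊗ K` is exact.
* `support_T₀_subset`: `Supp(g^*M ⊗ K) ⊆ Supp K`.
* `isProperOver_of_isClosed_subset`: closed subsets of sets proper over `S` are proper over `S`.
* `nonempty_HD_iso`: `H^i(Lg^*M ⊗^L K) ≅ g^*H^i(M) ⊗ K`.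
* `fm_dbCoh`: `Rh_*(Lg^*M ⊗^L K)` is in `D^b_Coh(Y)` for `M ∈ D^b_Coh(X)`, `K` coherent, flat over `X`, with support proper over `Y`
  (`h` locally of finite type, `Y` Noetherian); uses `RpushCohProper.isCohD_Rpush_bounded` (S1001).
-/

set_option autoImplicit false
attribute [local instance] HasDerivedCategory.standard
universe u
open TensorProduct CategoryTheory CategoryTheory.Limits MonoidalCategory AlgebraicGeometry

namespace Groth.Agent.Lib.Helper25.FMFlatKernel

section Algebra

variable {R S : Type u} [CommRing R] [CommRing S] (φ : R →+* S)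

/-- `K ⊗_S (S ⊗_R -)` preserves injections if `K` is flat over `R` -/
theorem tensorLeft_extendScalars_map_injective (K : ModuleCat.{u} S)
    (hK : letI := Module.compHom K φ; Module.Flat R K)
    {A B : ModuleCat.{u} R} (i : A ⟶ B) (hi : Function.Injective i.hom) :
    Function.Injective ((tensorLeft K).map ((ModuleCat.extendScalars.{u, u, u} φ).map i)).hom := by
  algebraize [φ]
  letI : Module R K := Module.compHom K φ
  haveI : IsScalarTower R S K := ⟨fun r s k => by
    change (φ r * s) • k = φ r • (s • k)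
    rw [mul_smul]⟩
  have hflat : Module.Flat R K := hK
  have hinj : Function.Injective (LinearMap.lTensor K i.hom) :=
    Module.Flat.lTensor_preserves_injective_linearMap (R := R) (M := K) i.hom hi
  let eA := AlgebraTensorModule.cancelBaseChange R S S K A
  let eB := AlgebraTensorModule.cancelBaseChange R S S K B
  -- the map in question, as a linear map
  let g : K ⊗[S] (S ⊗[R] A) →ₗ[S] K ⊗[S] (S ⊗[R] B) :=
    ((tensorLeft K).map ((ModuleCat.extendScalars.{u, u, u} φ).map i)).hom
  have hcomm : ∀ t : K ⊗[S] (S ⊗[R] A), eB (g t) = LinearMap.lTensor K i.hom (eA t) := by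
    intro t
    induction t using TensorProduct.induction_on with
    | zero => rw [map_zero, map_zero, map_zero, map_zero]
    | tmul k y =>
      induction y using TensorProduct.induction_on with
      | zero => rw [TensorProduct.tmul_zero, map_zero, map_zero, map_zero, map_zero]
      | tmul s a =>
        have h1 : g (k ⊗ₜ[S] (s ⊗ₜ[R] a)) = k ⊗ₜ[S] (s ⊗ₜ[R] (i.hom a)) := rfl
        rw [h1]
        change (s • k) ⊗ₜ[R] (i.hom a) = LinearMap.lTensor K i.hom ((s • k) ⊗ₜ[R] a)
        rw [LinearMap.lTensor_tmul]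
      | add y₁ y₂ h₁ h₂ =>
        rw [TensorProduct.tmul_add, map_add, map_add, h₁, h₂, map_add, map_add]
    | add t₁ t₂ h₁ h₂ => rw [map_add, map_add, h₁, h₂, map_add, map_add]
  intro t₁ t₂ h
  apply eA.injective
  apply hinj
  have h' : g t₁ = g t₂ := h
  exact (hcomm t₁).symm.trans ((congrArg eB h').trans (hcomm t₂))

end Algebra

section Exact

open Groth.Agent.Lib.Helper25.StalkSky Groth.Agent.Lib.Helper25.StalkExact
  Groth.Agent.Lib.Helper25.TorAmpQCoh

variable {Z X : Scheme.{u}} (g : Z ⟶ X) (K : Z.Modules)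

/-- `M ↦ g^*M ⊗ K` -/
noncomputable abbrev T₀ : X.Modules ⥤ Z.Modules :=
  Scheme.Modules.pullback g ⋙ DCoh.tensorRightMod K

/-- the stalk of `g^*M ⊗ K` at `z` is `K_z ⊗ (O_z ⊗ M_{g z})` -/
noncomputable def T₀StalkIso (z : Z) :
    T₀ g K ⋙ DerSch.stalkFunctor Z z ≅
      DerSch.stalkFunctor X (g z) ⋙ (ModuleCat.extendScalars.{u, u, u} (g.stalkMap z).hom ⋙
        tensorLeft ((DerSch.stalkFunctor Z z).obj K)) :=
  Functor.associator _ _ _ ≪≫
    Functor.isoWhiskerLeft (Scheme.Modules.pullback g) (tensorRightStalkIso z K) ≪≫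
    (Functor.associator _ _ _).symm ≪≫
    Functor.isoWhiskerRight (stalkPullbackIso g z) (tensorLeft ((DerSch.stalkFunctor Z z).obj K)) ≪≫
    Functor.associator _ _ _

variable (hflat : FlatMod.IsFlatOver g K)

include hflat in
/-- `M ↦ g^*M ⊗ K` preserves monomorphisms if `K` is flat over `X` -/
theorem mono_T₀_map {A B : X.Modules} (φ : A ⟶ B) [Mono φ] : Mono ((T₀ g K).map φ) := by
  apply mono_of_forall_stalk
  intro z
  have hnat := (T₀StalkIso g K z).hom.naturality φ
  have hmono : Mono ((DerSch.stalkFunctor X (g z) ⋙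
      (ModuleCat.extendScalars.{u, u, u} (g.stalkMap z).hom ⋙
        tensorLeft ((DerSch.stalkFunctor Z z).obj K))).map φ) := by
    rw [ModuleCat.mono_iff_injective]
    refine tensorLeft_extendScalars_map_injective (g.stalkMap z).hom
      ((DerSch.stalkFunctor Z z).obj K) (hflat z) ((DerSch.stalkFunctor X (g z)).map φ) ?_
    exact (ModuleCat.mono_iff_injective _).1 inferInstance
  have h1 : Mono ((T₀ g K ⋙ DerSch.stalkFunctor Z z).map φ ≫ (T₀StalkIso g K z).hom.app B) := by
    rw [hnat]
    have : Mono ((T₀StalkIso g K z).hom.app A) := IsIso.mono_of_iso _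
    exact mono_comp ((T₀StalkIso g K z).hom.app A) _
  exact @mono_of_mono _ _ _ _ _ ((DerSch.stalkFunctor Z z).map ((T₀ g K).map φ))
    ((T₀StalkIso g K z).hom.app B) h1

end Exact

section ProperOver

variable {X S : Scheme.{u}}

/-- a closed subset of a set proper over `S` is proper over `S` -/
theorem isProperOver_of_isClosed_subset (f : X ⟶ S) {Z Z' : Set X} (hZ : ClSub.IsProperOver f Z)
    (hZ' : IsClosed Z') (hsub : Z' ⊆ Z) : ClSub.IsProperOver f Z' := by
  obtain ⟨hc, hp⟩ := hZ
  refine ⟨hZ', ?_⟩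
  set I := Scheme.IdealSheafData.vanishingIdeal ⟨Z, hc⟩ with hI
  set I' := Scheme.IdealSheafData.vanishingIdeal ⟨Z', hZ'⟩ with hI'
  have H : I.subschemeι.ker ≤ I'.subschemeι.ker := by
    rw [Scheme.IdealSheafData.ker_subschemeι, Scheme.IdealSheafData.ker_subschemeι]
    exact Scheme.IdealSheafData.vanishingIdeal_antimono (S := ⟨Z', hZ'⟩) (T := ⟨Z, hc⟩) hsub
  let l : I'.subscheme ⟶ I.subscheme := IsClosedImmersion.lift I.subschemeι I'.subschemeι H
  have hl : l ≫ I.subschemeι = I'.subschemeι := IsClosedImmersion.lift_fac _ _ H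
  haveI : IsClosedImmersion (l ≫ I.subschemeι) := by rw [hl]; infer_instance
  haveI : IsClosedImmersion l := IsClosedImmersion.of_comp l I.subschemeι
  have : I'.subschemeι ≫ f = l ≫ (I.subschemeι ≫ f) := by rw [← Category.assoc, hl]
  rw [this]
  infer_instance

end ProperOver

section Exact2

open Groth.Agent.Lib.Helper25.StalkSky Groth.Agent.Lib.Helper25.StalkExact
  Groth.Agent.Lib.Helper25.TorAmpQCoh

variable {Z X : Scheme.{u}} (g : Z ⟶ X) (K : Z.Modules) (hflat : FlatMod.IsFlatOver g K)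

include hflat in
theorem preservesMonomorphisms_T₀ : (T₀ g K).PreservesMonomorphisms :=
  ⟨fun φ _ => mono_T₀_map g K hflat φ⟩

include hflat in
theorem preservesHomology_T₀ : (T₀ g K).PreservesHomology := by
  haveI := preservesMonomorphisms_T₀ g K hflat
  haveI : PreservesColimitsOfSize.{u, u} (Scheme.Modules.pullback g) :=
    (Scheme.Modules.pullbackPushforwardAdjunction g).leftAdjoint_preservesColimits
  haveI : PreservesColimitsOfSize.{u, u} (T₀ g K) := inferInstance
  haveI : PreservesFiniteColimits (T₀ g K) := PreservesColimitsOfSize.preservesFiniteColimits _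
  haveI : (T₀ g K).Additive := inferInstance
  exact Functor.preservesHomology_of_preservesMonos_and_cokernels _

/-- the support of `g^*M ⊗ K` is contained in the support of `K` -/
theorem support_T₀_subset (M : X.Modules) :
    CohB1.support ((T₀ g K).obj M) ⊆ CohB1.support K := by
  intro z hz hK
  apply hz
  have e := (tensorRightStalkIso z K).app ((Scheme.Modules.pullback g).obj M)
  have hK' : Subsingleton ((DerSch.stalkFunctor Z z).obj K) := hK
  have hz1 : IsZero ((DerSch.stalkFunctor Z z).obj K) := ModuleCat.isZero_of_subsingleton _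
  have hz2 : IsZero ((DerSch.stalkFunctor Z z ⋙ tensorLeft ((DerSch.stalkFunctor Z z).obj K)).obj
      ((Scheme.Modules.pullback g).obj M)) := by
    have : Subsingleton (TensorProduct (Z.presheaf.stalk z) ((DerSch.stalkFunctor Z z).obj K)
        ((DerSch.stalkFunctor Z z).obj ((Scheme.Modules.pullback g).obj M))) := by
      refine ⟨fun a b => ?_⟩
      have h0 : ∀ t : TensorProduct (Z.presheaf.stalk z) ((DerSch.stalkFunctor Z z).obj K)
          ((DerSch.stalkFunctor Z z).obj ((Scheme.Modules.pullback g).obj M)), t = 0 := by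
        intro t
        induction t using TensorProduct.induction_on with
        | zero => rfl
        | tmul k m => rw [Subsingleton.elim k 0, TensorProduct.zero_tmul]
        | add t₁ t₂ h₁ h₂ => rw [h₁, h₂, add_zero]
      rw [h0 a, h0 b]
    exact @ModuleCat.isZero_of_subsingleton _ _ _ this
  have hz3 := IsZero.of_iso hz2 e
  exact (ModuleCat.subsingleton_of_isZero hz3 :
    Subsingleton ((DerSch.stalkFunctor Z z).obj ((T₀ g K).obj M)))

end Exact2

section Main

open Groth.Agent.Lib.Helper25.LpullAdapted Groth.Agent.Lib.Helper25.LpullComp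
  Groth.Agent.Lib.Helper25.StalkPullFlat Groth.Agent.Lib.Helper25.TorAmpQCoh DerivedCategory

variable {Z X : Scheme.{u}} (g : Z ⟶ X) (K : Z.Modules) (hflat : FlatMod.IsFlatOver g K)
  [DCoh.HasLpull g] [DCoh.HasLTensorMod K]

include hflat in
/-- `H^i(Lg^*M ⊗^L K) ≅ g^*H^i(M) ⊗ K` for `K` flat over `X` -/
theorem nonempty_HD_iso (M : DCoh.D X) (i : ℤ) :
    Nonempty (DCoh.HD ((DCoh.LTensorMod K).obj ((DCoh.Lpull g).obj M)) i ≅
      (T₀ g K).obj (DCoh.HD M i)) := by
  obtain ⟨P, s, hP, hs⟩ := hres₀ (Q.objPreimage M)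
  haveI : IsIso (Q.map s) := by rw [isIso_Q_map_iff_quasiIso]; exact hs
  let eM : Q.obj P ≅ M := asIso (Q.map s) ≪≫ Q.objObjPreimageIso M
  obtain ⟨e1⟩ := nonempty_Lpull_iso g P hP
  have hP' := P₀_pullback g P hP
  obtain ⟨e2⟩ := nonempty_HD_LTensorMod_iso K ((DCoh.Lpull g).obj M)
    (((Scheme.Modules.pullback g).mapHomologicalComplex (ComplexShape.up ℤ)).obj P) hP'.1
    (e1.symm ≪≫ (DCoh.Lpull g).mapIso eM) i
  haveI := preservesHomology_T₀ g K hflat
  haveI : (T₀ g K).Additive := inferInstance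
  let e3 : (((DCoh.tensorRightMod K).mapHomologicalComplex (ComplexShape.up ℤ)).obj
      (((Scheme.Modules.pullback g).mapHomologicalComplex (ComplexShape.up ℤ)).obj P)).homology i ≅
      (T₀ g K).obj (P.homology i) := (P.sc i).mapHomologyIso (T₀ g K)
  let e4 : P.homology i ≅ DCoh.HD M i :=
    ((homologyFunctorFactors X.Modules i).app P).symm ≪≫ (homologyFunctor X.Modules i).mapIso eM
  exact ⟨e2 ≪≫ e3 ≪≫ (T₀ g K).mapIso e4⟩

end Main

section FM

open DerivedCategory

variable {Z X Y : Scheme.{u}} (g : Z ⟶ X) (h : Z ⟶ Y) [LocallyOfFiniteType h]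
  [IsLocallyNoetherian Y] [CompactSpace Y] (K : Z.Modules) (hK : Coh.IsCoh K)
  (hflat : FlatMod.IsFlatOver g K) (hsupp : ClSub.IsProperOver h (CohB1.support K))
  [DCoh.HasLpull g] [DCoh.HasLTensorMod K] [DCoh.HasRpush h]

include hK hflat hsupp in
/-- **Fourier–Mukai with a coherent kernel flat over the source and with proper support preserves `D^b_Coh`** -/
theorem fm_dbCoh (M : DCoh.D X) (hM : DCoh.IsCohD M) (m n : ℤ) [M.IsGE m] [M.IsLE n] :
    DCoh.IsCohD ((DCoh.Rpush h).obj ((DCoh.LTensorMod K).obj ((DCoh.Lpull g).obj M))) ∧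
      ((DCoh.Rpush h).obj ((DCoh.LTensorMod K).obj ((DCoh.Lpull g).obj M))).IsGE m ∧
      ∃ n' : ℤ, ((DCoh.Rpush h).obj ((DCoh.LTensorMod K).obj ((DCoh.Lpull g).obj M))).IsLE n' := by
  haveI : IsLocallyNoetherian Z := LocallyOfFiniteType.isLocallyNoetherian h
  set E := (DCoh.LTensorMod K).obj ((DCoh.Lpull g).obj M) with hE
  have hiso : ∀ i : ℤ, Nonempty (DCoh.HD E i ≅ (T₀ g K).obj (DCoh.HD M i)) :=
    fun i => nonempty_HD_iso g K hflat M i
  haveI : (T₀ g K).Additive := inferInstance
  haveI hGE : E.IsGE m := by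
    rw [DerivedCategory.isGE_iff]
    intro i hi
    obtain ⟨e⟩ := hiso i
    exact IsZero.of_iso ((T₀ g K).map_isZero (isZero_of_isGE M m i hi)) e
  haveI hLE : E.IsLE n := by
    rw [DerivedCategory.isLE_iff]
    intro i hi
    obtain ⟨e⟩ := hiso i
    exact IsZero.of_iso ((T₀ g K).map_isZero (isZero_of_isLE M n i hi)) e
  have hcoh : ∀ i : ℤ, Coh.IsCoh ((T₀ g K).obj (DCoh.HD M i)) := by
    intro i
    haveI : (DCoh.HD M i).IsQuasicoherent := (hM i).1
    have h1 : Coh.IsCoh ((Scheme.Modules.pullback g).obj (DCoh.HD M i)) :=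
      ⟨Groth.Agent.Lib.helper16.QCohPullback.isQuasicoherent_pullback _ _,
        Groth.Agent.Lib.helper16.QCohPullback2.isFiniteType_pullback _ _ (hM i).2⟩
    exact Groth.Agent.Lib.Helper18.DegCalc.isCoh_tensorMod h1 hK
  have hEcoh : DCoh.IsCohD E := by
    intro i
    obtain ⟨e⟩ := hiso i
    exact Groth.Agent.Lib.helper7.CohKer.isCoh_of_iso e.symm (hcoh i)
  have hEsupp : ∀ i : ℤ, ClSub.IsProperOver h (CohB1.support (DCoh.HD E i)) := by
    intro i
    obtain ⟨e⟩ := hiso i
    refine isProperOver_of_isClosed_subset h hsupp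
      (Groth.Agent.Lib.helper8.Dev.isClosed_support_of_isCoh _ (hEcoh i)) ?_
    rw [Groth.Agent.Lib.helper8.StalkLen.support_eq_of_iso e]
    exact support_T₀_subset g K _
  exact Groth.Agent.Lib.Helper25.RpushCohProper.isCohD_Rpush_bounded h E m n hEcoh hEsupp

end FM

end Groth.Agent.Lib.Helper25.FMFlatKernel
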