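import Mathlib
import Groth.Agent.Lib.Helper25.FlatPushTensor
import Groth.Agent.Lib.Helper25.TensorCohSupp
import Groth.Agent.Lib.Helper25.FMFlatKernel
import Groth.Agent.Lib.Helper25.MVSupp
import Groth.Agent.Lib.Helper25.ApproxCover
import Groth.Agent.Lib.Helper25.LpullRpushAdj
import Groth.Agent.Lib.Helper25.FlatProperPerfect

/-!
# `Rf_*(E ⊗^L G)` is perfect (helper25; = S1061)

`S` Noetherian, `f : X ⟶ S` locally of finite type, `E` perfect, `G` coherent, flat over `S`, with support proper over `S`.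
-/

set_option autoImplicit false
universe u
open CategoryTheory CategoryTheory.Limits AlgebraicGeometry Pretriangulated
attribute [local instance] HasDerivedCategory.standard

namespace Groth.Agent.Lib.Helper25.PushTensorPerfect

open DCoh Scheme.Modules Groth.Agent.Lib.Helper25.FTDClass Groth.Agent.Lib.Helper25.FlatPushTensor
  Groth.Agent.Lib.Helper25.TensorCohSupp Groth.Agent.Lib.Helper25.LTensorModRes
  Groth.Agent.Lib.Helper25.LTensorDCoh Groth.Agent.Lib.Helper25.TensorRightQisAll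

/-- flatness over an open subscheme of the base -/
lemma isFlatOver_of_comp_openImmersion {X' V S : Scheme.{u}} (g : X' ⟶ V) (j : V ⟶ S)
    [IsOpenImmersion j] (M : X'.Modules) (h : FlatMod.IsFlatOver (g ≫ j) M) :
    FlatMod.IsFlatOver g M := by
  intro x
  have h1 := (Groth.Agent.Lib.helper17.FlatOver4.isFlatOverAt_comp_iff g j M x).1 (h x)
  unfold FlatMod.IsFlatOverAt
  letI := FlatMod.moduleStalkOver g M x
  have hb : Function.Bijective (j.stalkMap (g.base x)).hom :=
    ConcreteCategory.bijective_of_isIso (j.stalkMap (g.base x))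
  exact (Groth.Agent.Lib.helper17.FlatOver2.flat_compHom_iff_of_bijective
    (j.stalkMap (g.base x)).hom hb).1 h1

/-- a quasi-compact subset of a scheme is contained in a quasi-compact open -/
lemma exists_compact_open_superset (X : Scheme.{u}) (Z : Set X) (hZ : IsCompact Z) :
    ∃ W : X.Opens, IsCompact (W : Set X) ∧ Z ⊆ (W : Set X) := by
  have H : ∀ z : X, ∃ U : X.Opens, IsAffineOpen U ∧ z ∈ U := by
    intro z
    obtain ⟨_, ⟨U, hU, rfl⟩, hz, -⟩ :=
      X.isBasis_affineOpens.exists_subset_of_mem_open (Set.mem_univ z) isOpen_univ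
    exact ⟨U, hU, hz⟩
  choose U hU hzU using H
  obtain ⟨t, ht⟩ := hZ.elim_finite_subcover (fun z : X => ((U z : X.Opens) : Set X))
    (fun z => (U z).isOpen) (fun z _ => Set.mem_iUnion.mpr ⟨z, hzU z⟩)
  refine ⟨⟨⋃ z ∈ t, ((U z : X.Opens) : Set X), isOpen_biUnion (fun z _ => (U z).isOpen)⟩, ?_, ht⟩
  exact t.isCompact_biUnion (fun z _ => (hU z).isCompact)

/-- the part over a quasi-compact open of the base of a closed set proper over the base is quasi-compact -/
lemma isCompact_inter_preimage {X S : Scheme.{u}} (f : X ⟶ S) (Z : Set X)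
    (hZ : ClSub.IsProperOver f Z) (V : S.Opens) (hV : IsCompact (V : Set S)) :
    IsCompact (Z ∩ f.base ⁻¹' (V : Set S)) := by
  obtain ⟨hc, hp⟩ := hZ
  set I := Scheme.IdealSheafData.vanishingIdeal ⟨Z, hc⟩ with hI
  have h1 : IsCompact ((I.subschemeι ≫ f).base ⁻¹' (V : Set S)) :=
    QuasiCompact.isCompact_preimage (f := I.subschemeι ≫ f) _ V.isOpen hV
  have h2 := h1.image I.subschemeι.base.hom.continuous
  have hr : Set.range I.subschemeι = Z := by
    rw [Scheme.IdealSheafData.range_subschemeι, hI,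
      Scheme.IdealSheafData.coe_support_vanishingIdeal]
    rfl
  have heq : Z ∩ f.base ⁻¹' (V : Set S) =
      I.subschemeι.base.hom '' ((I.subschemeι ≫ f).base ⁻¹' (V : Set S)) := by
    ext x
    constructor
    · intro hx
      obtain ⟨hxZ, hxV⟩ := hx
      rw [← hr] at hxZ
      obtain ⟨y, rfl⟩ := hxZ
      exact ⟨y, hxV, rfl⟩
    · intro hx
      obtain ⟨y, hy, rfl⟩ := hx
      exact ⟨hr ▸ Set.mem_range_self y, hy⟩
  rw [heq]
  exact h2

/-- affine base: `Rg_*(E ⊗^L G)` has finite tor dimension when `Supp G` is quasi-compact -/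
theorem ftd_Rpush_LTensorMod_affine_base {X V : Scheme.{u}} [IsAffine V] [IsLocallyNoetherian X]
    (g : X ⟶ V) [DCoh.HasRpush g] (E : DCoh.D X) (hE : DCoh.IsPerfect E) (G : X.Modules)
    (hG : Coh.IsCoh G) (hflat : FlatMod.IsFlatOver g G) (hc : IsCompact (CohB1.support G))
    [DCoh.HasLTensorMod G] : FTD ((DCoh.Rpush g).obj ((DCoh.LTensorMod G).obj E)) := by
  haveI : G.IsQuasicoherent := hG.1
  have hZ : IsClosed (CohB1.support G) := Groth.Agent.Lib.helper8.Dev.isClosed_support_of_isCoh G hG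
  obtain ⟨W, hWc, hZW⟩ := exists_compact_open_superset X _ hc
  haveI : CompactSpace ↥(W : Scheme.{u}) := isCompact_iff_compactSpace.mp hWc
  haveI : IsLocallyNoetherian (W : Scheme.{u}) := isLocallyNoetherian_of_isOpenImmersion W.ι
  haveI : IsNoetherian (W : Scheme.{u}) := {}
  haveI := Groth.Agent.Lib.Helper25.SchKInj.hasRpush W.ι
  haveI := Groth.Agent.Lib.Helper25.SchKInj.hasRpush (W.ι ≫ g)
  obtain ⟨e1⟩ := Groth.Agent.Lib.Helper25.MVSupp.nonempty_iso_Rpush_restrict W (CohB1.support G) hZ hZW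
    ((DCoh.LTensorMod G).obj E) (support_HD_LTensorMod_subset G hZ E)
  haveI : DCoh.HasLpull W.ι := Groth.Agent.Lib.Helper25.LpullAdapted.hasLpull _
  obtain ⟨e2⟩ := Groth.Agent.Lib.Helper25.LpullRpushAdj.nonempty_Rpush_comp W.ι g
  haveI : DCoh.HasLTensorMod ((restrictFunctor W.ι).obj G) := hasLTensorMod _ (tensorRightQis _)
  haveI : ((restrictFunctor W.ι).obj G).IsQuasicoherent :=
    inferInstanceAs (G.restrict W.ι).IsQuasicoherent
  obtain ⟨e3⟩ := nonempty_restrictD_LTensorMod_iso W G E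
  refine ftd_of_iso ((DCoh.Rpush g).mapIso e1 ≪≫ e2.app _ ≪≫
    (DCoh.Rpush (W.ι ≫ g)).mapIso e3).symm ?_
  exact ftd_Rpush_tensor V W (W.ι ≫ g) ((restrictFunctor W.ι).obj G) (isFlatOver_restrict g G hflat W) _
    (Groth.Agent.Lib.Helper25.HomVanQcqs.isPerfect_restrictD W.ι hE)

/-- **S1061** -/
theorem isPerfect_Rpush_LTensorMod {X S : Scheme.{u}} [IsNoetherian S] (f : X ⟶ S)
    [LocallyOfFiniteType f] (E : DCoh.D X) (hE : DCoh.IsPerfect E) (G : X.Modules) (hG : Coh.IsCoh G)
    (hflat : FlatMod.IsFlatOver f G) (hsupp : ClSub.IsProperOver f (CohB1.support G))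
    [DCoh.HasLTensorMod G] [DCoh.HasRpush f] :
    DCoh.IsPerfect ((DCoh.Rpush f).obj ((DCoh.LTensorMod G).obj E)) := by
  haveI : IsLocallyNoetherian X := LocallyOfFiniteType.isLocallyNoetherian f
  haveI : G.IsQuasicoherent := hG.1
  have hZ : IsClosed (CohB1.support G) := hsupp.1
  have hc : IsCompact (CohB1.support G) := by
    have := isCompact_inter_preimage f _ hsupp ⊤ isCompact_univ
    simpa using this
  -- pseudo-coherence of `Rf_* K`
  have hcoh := isCohD_LTensorMod G hG E hE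
  obtain ⟨a, b, hGE, hLE⟩ := exists_bounds_LTensorMod G hG hZ hc E hE
  obtain ⟨h1, -, b'', h3⟩ := Groth.Agent.Lib.Helper25.RpushCohProper.isCohD_Rpush_bounded f
    ((DCoh.LTensorMod G).obj E) a b hcoh
    (fun i => Groth.Agent.Lib.Helper25.FMFlatKernel.isProperOver_of_isClosed_subset f hsupp
      (Groth.Agent.Lib.helper8.Dev.isClosed_support_of_isCoh _ (hcoh i))
      (support_HD_LTensorMod_subset G hZ E i))
  have hq : DCoh.IsQCohD ((DCoh.Rpush f).obj ((DCoh.LTensorMod G).obj E)) := fun i => (h1 i).1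
  have hpc : ∀ m : ℤ, DCoh.IsPseudoCoherentD m ((DCoh.Rpush f).obj ((DCoh.LTensorMod G).obj E)) :=
    fun m => (Groth.Agent.S1039.result S _ hq m).2 ⟨fun i _ => h1 i, b'', h3⟩
  -- localisation on the base
  apply Groth.Agent.Lib.helper25.FlatAmpPerfect.isPerfect_of_restrict
  intro y
  obtain ⟨V, hV, hyV⟩ : ∃ V : S.Opens, IsAffineOpen V ∧ y ∈ V := by
    obtain ⟨_, ⟨V, hV, rfl⟩, hyV, -⟩ :=
      S.isBasis_affineOpens.exists_subset_of_mem_open (Set.mem_univ y) isOpen_univ
    exact ⟨V, hV, hyV⟩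
  refine ⟨V, hyV, ?_⟩
  haveI : IsAffine (V : Scheme.{u}) := hV
  haveI := Groth.Agent.Lib.Helper25.SchKInj.hasRpush (f ∣_ V)
  obtain ⟨e⟩ := Groth.Agent.Lib.Helper25.SchKInj.nonempty_Rpush_restrict_iso f V
  let U : X.Opens := f ⁻¹ᵁ V
  haveI : IsLocallyNoetherian (U : Scheme.{u}) := isLocallyNoetherian_of_isOpenImmersion U.ι
  let G' : (U : Scheme.{u}).Modules := (restrictFunctor U.ι).obj G
  haveI : DCoh.HasLTensorMod G' := hasLTensorMod _ (tensorRightQis _)
  haveI : G'.IsQuasicoherent := inferInstanceAs (G.restrict U.ι).IsQuasicoherent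
  have hG' : Coh.IsCoh G' := Groth.Agent.Lib.helper11.CounitEpi.isCoh_restrict hG U
  have hflat' : FlatMod.IsFlatOver (f ∣_ V) G' := by
    refine isFlatOver_of_comp_openImmersion (f ∣_ V) V.ι G' ?_
    have h0 := isFlatOver_restrict f G hflat U
    exact (Groth.Agent.Lib.helper17.FlatOver7.isFlatOver_congr (morphismRestrict_ι f V).symm G').1 h0
  have hc' : IsCompact (CohB1.support G') := by
    have h0 := isCompact_inter_preimage f _ hsupp V hV.isCompact
    have h2 : CohB1.support G' = U.ι.base ⁻¹' (CohB1.support G ∩ f.base ⁻¹' (V : Set S)) := by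
      ext x
      rw [Groth.Agent.Lib.Helper25.ApproxCover.mem_support_restrict_iff]
      constructor
      · intro hx
        exact ⟨hx, x.2⟩
      · intro hx
        exact hx.1
    rw [h2]
    refine (U.ι.isOpenEmbedding.isInducing.isCompact_preimage_iff ?_).2 h0
    intro x hx
    exact ⟨⟨x, hx.2⟩, rfl⟩
  obtain ⟨e1⟩ := nonempty_restrictD_LTensorMod_iso U G E
  have hftd : FTD ((DCoh.restrictD V.ι).obj ((DCoh.Rpush f).obj ((DCoh.LTensorMod G).obj E))) := by
    refine ftd_of_iso ((e.app _) ≪≫ (DCoh.Rpush (f ∣_ V)).mapIso e1).symm ?_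
    exact ftd_Rpush_LTensorMod_affine_base (f ∣_ V) _
      (Groth.Agent.Lib.Helper25.HomVanQcqs.isPerfect_restrictD U.ι hE) G' hG' hflat' hc'
  obtain ⟨a', b', hab', hfl⟩ := hftd
  exact Groth.Agent.Lib.helper13.PerfAmp2.isPerfect_of_hasPerfectAmplitudeIn _ a' b'
    ((Groth.Agent.Lib.helper13.PerfAmp2.main (V : Scheme.{u}) _ a' b' hab').2
      ⟨Groth.Agent.Lib.helper25.PerfectTor.isPseudoCoherentD_restrictD (hpc (a' - 1)) V, hfl⟩)

end Groth.Agent.Lib.Helper25.PushTensorPerfect
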