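import Mathlib
import Groth.Agent.Lib.Helper25.DualCx9
import Groth.Agent.Lib.Helper25.DualCx10
import Groth.Agent.Lib.Helper25.PushTensorPerfect

/-!
# `Rf_* RHom(K, G)` is perfect (helper25; = S1117)

`S` Noetherian, `f : X ⟶ S` locally of finite type, `K` perfect, `G` coherent, flat over `S`, with support proper over `S`;
`H` any right adjoint of `- ⊗^L K`.

* `ftd_Rpush_RHom_affine_base`: finite tor dimension over an affine base when `Supp G` is quasi-compact.
* `isPerfect_Rpush_RHom`: the theorem for a K-flat `K`; `isPerfect_Rpush_RHom'`: for an arbitrary complex.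
-/

set_option autoImplicit false
universe u
open CategoryTheory CategoryTheory.Limits AlgebraicGeometry Pretriangulated
attribute [local instance] HasDerivedCategory.standard

namespace Groth.Agent.Lib.Helper25.DualCx11

open DCoh Scheme.Modules Groth.Agent.Lib.Helper25.FTDClass Groth.Agent.Lib.Helper25.FlatPushTensor
  Groth.Agent.Lib.Helper25.TensorCohSupp Groth.Agent.Lib.Helper25.LTensorDCoh
  Groth.Agent.Lib.Helper25.TensorRightQisAll Groth.Agent.Lib.Helper25.PushTensorPerfect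
  Groth.Agent.Lib.Helper25.DualCx9 Groth.Agent.Lib.Helper25.DualCx10

attribute [local instance] Groth.Agent.Lib.Helper25.LTensorRestrict.hasLTensorCx

/-- the restriction of `RHom(K, G)` to an open is `RHom(K', G|_U)` for a K-flat perfect `K'` on the open -/
theorem exists_restrict_RHom {X : Scheme.{u}} (K : CochainComplex X.Modules ℤ) (hK : DCoh.IsKFlat K)
    (hP : DCoh.IsPerfect (DerivedCategory.Q.obj K)) {H : DCoh.D X ⥤ DCoh.D X}
    (adj : DCoh.LTensorCx K ⊣ H) (G : X.Modules) (U : X.Opens) :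
    ∃ (K' : CochainComplex (U : Scheme.{u}).Modules ℤ) (_ : DCoh.IsKFlat K')
      (_ : DCoh.IsPerfect (DerivedCategory.Q.obj K'))
      (H' : DCoh.D (U : Scheme.{u}) ⥤ DCoh.D (U : Scheme.{u})) (_ : DCoh.LTensorCx K' ⊣ H'),
      Nonempty ((DCoh.restrictD U.ι).obj (H.obj (DCoh.inD X G)) ≅
        H'.obj (DCoh.inD (U : Scheme.{u}) ((restrictFunctor U.ι).obj G))) := by
  obtain ⟨K', hK', H', adj', ⟨e⟩, hL⟩ :=
    Groth.Agent.Lib.Helper25.RHomQCoh.exists_restrict U.ι K hK adj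
  obtain ⟨i⟩ := hL (DCoh.inD X G)
  exact ⟨K', hK', Groth.Agent.Lib.helper25.DCohPerfect.isPerfect_of_iso e.symm
    (Groth.Agent.Lib.Helper25.HomVanQcqs.isPerfect_restrictD U.ι hP), H', adj',
    ⟨i ≪≫ H'.mapIso (Groth.Agent.Lib.helper25.DCohPC5.restrictD_single_iso G U)⟩⟩

/-- affine base: `Rg_* RHom(K, G)` has finite tor dimension when `Supp G` is quasi-compact -/
theorem ftd_Rpush_RHom_affine_base {X V : Scheme.{u}} [IsAffine V] [IsLocallyNoetherian X]
    (g : X ⟶ V) [DCoh.HasRpush g] (K : CochainComplex X.Modules ℤ) (hK : DCoh.IsKFlat K)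
    (hP : DCoh.IsPerfect (DerivedCategory.Q.obj K)) {H : DCoh.D X ⥤ DCoh.D X}
    (adj : DCoh.LTensorCx K ⊣ H) (G : X.Modules)
    (hG : Coh.IsCoh G) (hflat : FlatMod.IsFlatOver g G) (hc : IsCompact (CohB1.support G)) :
    FTD ((DCoh.Rpush g).obj (H.obj (DCoh.inD X G))) := by
  haveI : G.IsQuasicoherent := hG.1
  have hZ : IsClosed (CohB1.support G) := Groth.Agent.Lib.helper8.Dev.isClosed_support_of_isCoh G hG
  obtain ⟨W, hWc, hZW⟩ := exists_compact_open_superset X _ hc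
  haveI : CompactSpace ↥(W : Scheme.{u}) := isCompact_iff_compactSpace.mp hWc
  haveI : IsLocallyNoetherian (W : Scheme.{u}) := isLocallyNoetherian_of_isOpenImmersion W.ι
  haveI : IsNoetherian (W : Scheme.{u}) := {}
  haveI := Groth.Agent.Lib.Helper25.SchKInj.hasRpush W.ι
  haveI := Groth.Agent.Lib.Helper25.SchKInj.hasRpush (W.ι ≫ g)
  obtain ⟨e1⟩ := Groth.Agent.Lib.Helper25.MVSupp.nonempty_iso_Rpush_restrict W (CohB1.support G) hZ hZW
    (H.obj (DCoh.inD X G)) (support_HD_RHom_subset K hK adj G hZ)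
  haveI : DCoh.HasLpull W.ι := Groth.Agent.Lib.Helper25.LpullAdapted.hasLpull _
  obtain ⟨e2⟩ := Groth.Agent.Lib.Helper25.LpullRpushAdj.nonempty_Rpush_comp W.ι g
  haveI : ((restrictFunctor W.ι).obj G).IsQuasicoherent :=
    inferInstanceAs (G.restrict W.ι).IsQuasicoherent
  obtain ⟨K', hK', hP', H', adj', ⟨e3⟩⟩ := exists_restrict_RHom K hK hP adj G W
  refine ftd_of_iso ((DCoh.Rpush g).mapIso e1 ≪≫ e2.app _ ≪≫
    (DCoh.Rpush (W.ι ≫ g)).mapIso e3).symm ?_
  exact ftd_Rpush_RHom V W (W.ι ≫ g) ((restrictFunctor W.ι).obj G) (isFlatOver_restrict g G hflat W)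
    K' hK' hP' adj'

/-- **`Rf_* RHom(K, G)` is perfect** (`K` K-flat) -/
theorem isPerfect_Rpush_RHom {X S : Scheme.{u}} [IsNoetherian S] (f : X ⟶ S)
    [LocallyOfFiniteType f] (K : CochainComplex X.Modules ℤ) (hK : DCoh.IsKFlat K)
    (hP : DCoh.IsPerfect (DerivedCategory.Q.obj K)) {H : DCoh.D X ⥤ DCoh.D X}
    (adj : DCoh.LTensorCx K ⊣ H) (G : X.Modules) (hG : Coh.IsCoh G)
    (hflat : FlatMod.IsFlatOver f G) (hsupp : ClSub.IsProperOver f (CohB1.support G))
    [DCoh.HasRpush f] :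
    DCoh.IsPerfect ((DCoh.Rpush f).obj (H.obj (DCoh.inD X G))) := by
  haveI : IsLocallyNoetherian X := LocallyOfFiniteType.isLocallyNoetherian f
  haveI : G.IsQuasicoherent := hG.1
  have hZ : IsClosed (CohB1.support G) := hsupp.1
  have hc : IsCompact (CohB1.support G) := by
    have := isCompact_inter_preimage f _ hsupp ⊤ isCompact_univ
    simpa using this
  -- pseudo-coherence of `Rf_* P`
  have hcoh := isCohD_RHom K hK adj G hP hG
  obtain ⟨a, b, hGE, hLE⟩ := exists_bounds_RHom K hK adj G hP hG hZ hc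
  obtain ⟨h1, -, b'', h3⟩ := Groth.Agent.Lib.Helper25.RpushCohProper.isCohD_Rpush_bounded f
    (H.obj (DCoh.inD X G)) a b hcoh
    (fun i => Groth.Agent.Lib.Helper25.FMFlatKernel.isProperOver_of_isClosed_subset f hsupp
      (Groth.Agent.Lib.helper8.Dev.isClosed_support_of_isCoh _ (hcoh i))
      (support_HD_RHom_subset K hK adj G hZ i))
  have hq : DCoh.IsQCohD ((DCoh.Rpush f).obj (H.obj (DCoh.inD X G))) := fun i => (h1 i).1
  have hpc : ∀ m : ℤ, DCoh.IsPseudoCoherentD m ((DCoh.Rpush f).obj (H.obj (DCoh.inD X G))) :=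
    fun m => (Groth.Agent.S1039.result S _ hq m).2 ⟨fun i _ => h1 i, b'', h3⟩
  -- localisation on the base
  apply Groth.Agent.Lib.helper25.FlatAmpPerfect.isPerfect_of_restrict
  intro y
  obtain ⟨V, hV, hyV⟩ : ∃ V : S.Opens, IsAffineOpen V ∧ y ∈ V := by
    obtain ⟨_, ⟨V, hV, rfl⟩, hyV, -⟩ :=
      S.isBasis_affineOpens.exists_subset_of_mem_open (Set.mem_univ y) isOpen_univ
    exact ⟨V, hV, hyV⟩
  refine ⟨V, hyV, ?_⟩
  haveI : IsAffine (V : Scheme.{u}) := hV
  haveI := Groth.Agent.Lib.Helper25.SchKInj.hasRpush (f ∣_ V)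
  obtain ⟨e⟩ := Groth.Agent.Lib.Helper25.SchKInj.nonempty_Rpush_restrict_iso f V
  let U : X.Opens := f ⁻¹ᵁ V
  haveI : IsLocallyNoetherian (U : Scheme.{u}) := isLocallyNoetherian_of_isOpenImmersion U.ι
  let G' : (U : Scheme.{u}).Modules := (restrictFunctor U.ι).obj G
  haveI : G'.IsQuasicoherent := inferInstanceAs (G.restrict U.ι).IsQuasicoherent
  have hG' : Coh.IsCoh G' := Groth.Agent.Lib.helper11.CounitEpi.isCoh_restrict hG U
  have hflat' : FlatMod.IsFlatOver (f ∣_ V) G' := by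
    refine isFlatOver_of_comp_openImmersion (f ∣_ V) V.ι G' ?_
    have h0 := isFlatOver_restrict f G hflat U
    exact (Groth.Agent.Lib.helper17.FlatOver7.isFlatOver_congr (morphismRestrict_ι f V).symm G').1 h0
  have hc' : IsCompact (CohB1.support G') := by
    have h0 := isCompact_inter_preimage f _ hsupp V hV.isCompact
    have h2 : CohB1.support G' = U.ι.base ⁻¹' (CohB1.support G ∩ f.base ⁻¹' (V : Set S)) := by
      ext x
      rw [Groth.Agent.Lib.Helper25.ApproxCover.mem_support_restrict_iff]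
      constructor
      · intro hx
        exact ⟨hx, x.2⟩
      · intro hx
        exact hx.1
    rw [h2]
    refine (U.ι.isOpenEmbedding.isInducing.isCompact_preimage_iff ?_).2 h0
    intro x hx
    exact ⟨⟨x, hx.2⟩, rfl⟩
  obtain ⟨K', hK', hP', H', adj', ⟨e1⟩⟩ := exists_restrict_RHom K hK hP adj G U
  have hftd : FTD ((DCoh.restrictD V.ι).obj ((DCoh.Rpush f).obj (H.obj (DCoh.inD X G)))) := by
    refine ftd_of_iso ((e.app _) ≪≫ (DCoh.Rpush (f ∣_ V)).mapIso e1).symm ?_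
    exact ftd_Rpush_RHom_affine_base (f ∣_ V) K' hK' hP' adj' G' hG' hflat' hc'
  obtain ⟨a', b', hab', hfl⟩ := hftd
  exact Groth.Agent.Lib.helper13.PerfAmp2.isPerfect_of_hasPerfectAmplitudeIn _ a' b'
    ((Groth.Agent.Lib.helper13.PerfAmp2.main (V : Scheme.{u}) _ a' b' hab').2
      ⟨Groth.Agent.Lib.helper25.PerfectTor.isPseudoCoherentD_restrictD (hpc (a' - 1)) V, hfl⟩)

/-- **`Rf_* RHom(E, G)` is perfect** (`E` an arbitrary complex which is perfect in `D(O_X)`) -/
theorem isPerfect_Rpush_RHom' {X S : Scheme.{u}} [IsNoetherian S] (f : X ⟶ S)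
    [LocallyOfFiniteType f] (E : CochainComplex X.Modules ℤ)
    (hE : DCoh.IsPerfect (DerivedCategory.Q.obj E)) {H : DCoh.D X ⥤ DCoh.D X}
    (adj : DCoh.LTensorCx E ⊣ H) (G : X.Modules) (hG : Coh.IsCoh G)
    (hflat : FlatMod.IsFlatOver f G) (hsupp : ClSub.IsProperOver f (CohB1.support G))
    [DCoh.HasRpush f] :
    DCoh.IsPerfect ((DCoh.Rpush f).obj (H.obj (DCoh.inD X G))) := by
  obtain ⟨K, hK, adjK, ⟨e⟩⟩ := Groth.Agent.Lib.Helper25.RHomQCoh.exists_kflat_adj E adj
  exact isPerfect_Rpush_RHom f K hK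
    (Groth.Agent.Lib.helper25.DCohPerfect.isPerfect_of_iso e.symm hE) adjK G hG hflat hsupp

end Groth.Agent.Lib.Helper25.DualCx11
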