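import Mathlib
import Groth.Prelude.Def_SixF1
import Groth.Agent.Lib.Helper25.KInjMain
import Groth.Agent.Lib.Helper25.DerBC
import Groth.Agent.Lib.Helper21.KInjAdj
import Groth.Agent.S0101

/-!
# K-injective resolutions of abelian étale sheaves; comparison maps of right derived functors (helper25)

* `isGrothendieckAbelian X`, `hKinj X`: `EtCoh.Ab X` is Grothendieck abelian (`.{u+1}`), hence has
  K-injective resolutions.
* `isKInjective_push f`: `f_*` preserves K-injective complexes (its left adjoint `f⁻¹` is exact, S0101).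
* `isIso_of_isIso_app_kInjective`: a natural transformation of functors on `D(A)` which is invertible on
  K-injective complexes is invertible.
* `isIso_rightDerivedDesc`: `RΦ.rightDerivedDesc α W G β` is an isomorphism if `β` is invertible on
  K-injective complexes.
-/

set_option autoImplicit false
universe u
open CategoryTheory CategoryTheory.Limits AlgebraicGeometry Opposite
attribute [local instance] HasDerivedCategory.standard

namespace Groth.Agent.Lib.Helper25.EtKInj

theorem isGrothendieckAbelian (X : Scheme.{u}) : IsGrothendieckAbelian.{u + 1} (EtCoh.Ab X) := by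
  have : EssentiallySmall.{u + 1} X.Etale := inferInstance
  exact Sheaf.isGrothendieckAbelian_of_essentiallySmall X.smallEtaleTopology AddCommGrpCat.{u + 1}

theorem hKinj (X : Scheme.{u}) (K : CochainComplex (EtCoh.Ab X) ℤ) :
    ∃ (I : CochainComplex (EtCoh.Ab X) ℤ) (f : K ⟶ I), I.IsKInjective ∧ QuasiIso f := by
  haveI := isGrothendieckAbelian X
  obtain ⟨I, f, hI, hf, -, -⟩ := Groth.Agent.Lib.Helper25.KInjMain.exists_kInjective_resolution K
  exact ⟨I, f, hI, hf⟩

theorem isKInjective_push {X Y : Scheme.{u}} (f : X ⟶ Y) (I : CochainComplex (EtCoh.Ab X) ℤ)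
    [I.IsKInjective] :
    CochainComplex.IsKInjective (((EtCoh.push f).mapHomologicalComplex (ComplexShape.up ℤ)).obj I) := by
  haveI : PreservesFiniteLimits (EtCoh.pull f) := Groth.Agent.S0101.result f
  haveI : PreservesFiniteColimits (EtCoh.pull f) := by
    haveI := (EtCoh.pullPushAdj f).leftAdjoint_preservesColimits
    infer_instance
  haveI : (EtCoh.pull f).Additive := (EtCoh.pullPushAdj f).left_adjoint_additive
  exact Groth.Agent.Lib.Helper21.KInjAdj.isKInjective_obj (EtCoh.pullPushAdj f) I

section Generic

variable {A : Type*} [Category A] [Abelian A] [HasDerivedCategory A] {H : Type*} [Category H]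
  (hKinj : ∀ K : CochainComplex A ℤ, ∃ (I : CochainComplex A ℤ) (f : K ⟶ I),
    I.IsKInjective ∧ QuasiIso f)

include hKinj in
/-- a natural transformation of functors on `D(A)` is an isomorphism as soon as it is one on
K-injective complexes -/
theorem isIso_of_isIso_app_kInjective {G₁ G₂ : DerivedCategory A ⥤ H} (τ : G₁ ⟶ G₂)
    (h : ∀ (I : CochainComplex A ℤ), I.IsKInjective → IsIso (τ.app (DerivedCategory.Qh.obj
      ((HomotopyCategory.quotient A (ComplexShape.up ℤ)).obj I)))) : IsIso τ := by
  obtain ⟨r, e, -, hI⟩ := Groth.Agent.Lib.Helper25.DerAdjK.exists_fibrant hKinj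
  haveI : ∀ E, IsIso (τ.app E) := by
    intro E
    obtain ⟨I, hI₁, hI₂⟩ := hI E
    haveI : IsIso (τ.app (DerivedCategory.Qh.obj (r E))) := by rw [hI₂]; exact h I hI₁
    have hn := τ.naturality (e E).hom
    have : τ.app E = G₁.map (e E).inv ≫ τ.app (DerivedCategory.Qh.obj (r E)) ≫ G₂.map (e E).hom := by
      rw [← hn, ← G₁.map_comp_assoc, Iso.inv_hom_id, G₁.map_id, Category.id_comp]
    rw [this]
    infer_instance
  exact NatIso.isIso_of_isIso_app τ

include hKinj in
/-- the comparison map from a right derived functor is an isomorphism if the target "unit" is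
invertible on K-injective complexes -/
theorem isIso_rightDerivedDesc (Φ : HomotopyCategory A (ComplexShape.up ℤ) ⥤ H)
    (RΦ : DerivedCategory A ⥤ H) (α : Φ ⟶ DerivedCategory.Qh ⋙ RΦ)
    [RΦ.IsRightDerivedFunctor α (HomotopyCategory.quasiIso A (ComplexShape.up ℤ))]
    (G : DerivedCategory A ⥤ H) (β : Φ ⟶ DerivedCategory.Qh ⋙ G)
    (hβ : ∀ (I : CochainComplex A ℤ), I.IsKInjective →
      IsIso (β.app ((HomotopyCategory.quotient A (ComplexShape.up ℤ)).obj I))) :
    IsIso (RΦ.rightDerivedDesc α (HomotopyCategory.quasiIso A (ComplexShape.up ℤ)) G β) := by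
  apply isIso_of_isIso_app_kInjective hKinj
  intro I hI
  haveI : RΦ.IsLeftKanExtension α := Functor.IsRightDerivedFunctor.isLeftKanExtension _ _
    (HomotopyCategory.quasiIso A (ComplexShape.up ℤ))
  haveI := Groth.Agent.Lib.Helper25.DerBC.isIso_unit_app_of_isKInjective hKinj Φ RΦ α I
  haveI := hβ I hI
  have hfac := RΦ.rightDerived_fac_app α (HomotopyCategory.quasiIso A (ComplexShape.up ℤ)) G β
    ((HomotopyCategory.quotient A (ComplexShape.up ℤ)).obj I)
  exact IsIso.of_isIso_fac_left hfac

end Generic

end Groth.Agent.Lib.Helper25.EtKInj
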