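import Mathlib

/-!
# Vanishing of `Ext` into / out of finite direct sums
-/

open CategoryTheory Limits

namespace Groth.Agent.Lib.helper25.ExtSum

universe w v u

variable {C : Type u} [Category.{v} C] [Abelian C] [HasExt.{w} C]

open Abelian

lemma mk₀_sum {ι : Type*} (s : Finset ι) {X Y : C} (f : ι → (X ⟶ Y)) :
    Ext.mk₀ (∑ t ∈ s, f t) = ∑ t ∈ s, Ext.mk₀ (f t) :=
  map_sum (Ext.addEquiv₀ (X := X) (Y := Y)).symm f s

/-- If `𝟙 Z` is a finite sum of maps factoring through objects `W t` with `Ext(X, W t) = 0`, then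
`Ext(X, Z) = 0`. -/
theorem subsingleton_ext_right_of_sum {ι : Type*} (s : Finset ι) {Z : C} (W : ι → C)
    (a : ∀ t, Z ⟶ W t) (b : ∀ t, W t ⟶ Z) (hab : ∑ t ∈ s, a t ≫ b t = 𝟙 Z) (X : C) (p : ℕ)
    (h : ∀ t, Subsingleton (Ext.{w} X (W t) p)) : Subsingleton (Ext.{w} X Z p) := by
  suffices ∀ x : Ext.{w} X Z p, x = 0 from ⟨fun x y => (this x).trans (this y).symm⟩
  intro x
  have h1 : x = x.comp (Ext.mk₀ (𝟙 Z)) (add_zero p) := (Ext.comp_mk₀_id x).symm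
  rw [h1, ← hab, mk₀_sum]
  have h2 : x.comp (∑ t ∈ s, Ext.mk₀ (a t ≫ b t)) (add_zero p) =
      ∑ t ∈ s, x.comp (Ext.mk₀ (a t ≫ b t)) (add_zero p) :=
    map_sum (Ext.bilinearComp X Z Z p 0 p (add_zero p) x) _ s
  rw [h2]
  refine Finset.sum_eq_zero (fun t _ => ?_)
  rw [← Ext.mk₀_comp_mk₀, ← Ext.comp_assoc_of_third_deg_zero,
    (h t).elim (x.comp (Ext.mk₀ (a t)) (add_zero p)) 0, Ext.zero_comp]

/-- If `𝟙 Z` is a finite sum of maps factoring through objects `W t` with `Ext(W t, Y) = 0`, then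
`Ext(Z, Y) = 0`. -/
theorem subsingleton_ext_left_of_sum {ι : Type*} (s : Finset ι) {Z : C} (W : ι → C)
    (a : ∀ t, Z ⟶ W t) (b : ∀ t, W t ⟶ Z) (hab : ∑ t ∈ s, a t ≫ b t = 𝟙 Z) (Y : C) (p : ℕ)
    (h : ∀ t, Subsingleton (Ext.{w} (W t) Y p)) : Subsingleton (Ext.{w} Z Y p) := by
  suffices ∀ x : Ext.{w} Z Y p, x = 0 from ⟨fun x y => (this x).trans (this y).symm⟩
  intro x
  have h1 : x = (Ext.mk₀ (𝟙 Z)).comp x (zero_add p) := (Ext.mk₀_id_comp x).symm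
  rw [h1, ← hab, mk₀_sum]
  have h2 : (∑ t ∈ s, Ext.mk₀ (a t ≫ b t)).comp x (zero_add p) =
      ∑ t ∈ s, (Ext.mk₀ (a t ≫ b t)).comp x (zero_add p) :=
    map_sum ((Ext.bilinearComp Z Z Y 0 p p (zero_add p)).flip x) _ s
  rw [h2]
  refine Finset.sum_eq_zero (fun t _ => ?_)
  rw [← Ext.mk₀_comp_mk₀, Ext.comp_assoc_of_second_deg_zero,
    (h t).elim ((Ext.mk₀ (b t)).comp x (zero_add p)) 0, Ext.comp_zero]

/-- An object isomorphic to a finite coproduct has its identity decomposed as a sum over the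
summands. -/
theorem exists_sum_eq_id_of_iso_sigma {m : ℕ} {Z : C} (W : Fin m → C) (e : Z ≅ ∐ W) :
    ∃ (a : ∀ t, Z ⟶ W t) (b : ∀ t, W t ⟶ Z), ∑ t ∈ Finset.univ, a t ≫ b t = 𝟙 Z := by
  have : HasFiniteBiproducts C := Abelian.hasFiniteBiproducts
  let i := biproduct.isoCoproduct W
  refine ⟨fun t => e.hom ≫ i.inv ≫ biproduct.π W t, fun t => biproduct.ι W t ≫ i.hom ≫ e.inv, ?_⟩
  have h1 : ∀ t, (e.hom ≫ i.inv ≫ biproduct.π W t) ≫ biproduct.ι W t ≫ i.hom ≫ e.inv =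
      (e.hom ≫ i.inv) ≫ (biproduct.π W t ≫ biproduct.ι W t) ≫ (i.hom ≫ e.inv) := fun t => by
    simp only [Category.assoc]
  simp only [h1]
  rw [← Preadditive.comp_sum, ← Preadditive.sum_comp, biproduct.total]
  simp

theorem subsingleton_ext_right_of_iso_sigma {m : ℕ} {Z : C} (W : Fin m → C) (e : Z ≅ ∐ W)
    (X : C) (p : ℕ) (h : ∀ t, Subsingleton (Ext.{w} X (W t) p)) :
    Subsingleton (Ext.{w} X Z p) := by
  obtain ⟨a, b, hab⟩ := exists_sum_eq_id_of_iso_sigma W e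
  exact subsingleton_ext_right_of_sum Finset.univ W a b hab X p h

theorem subsingleton_ext_left_of_iso_sigma {m : ℕ} {Z : C} (W : Fin m → C) (e : Z ≅ ∐ W)
    (Y : C) (p : ℕ) (h : ∀ t, Subsingleton (Ext.{w} (W t) Y p)) :
    Subsingleton (Ext.{w} Z Y p) := by
  obtain ⟨a, b, hab⟩ := exists_sum_eq_id_of_iso_sigma W e
  exact subsingleton_ext_left_of_sum Finset.univ W a b hab Y p h

end Groth.Agent.Lib.helper25.ExtSum
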