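import Mathlib
import Groth.Agent.Lib.Helper25.ExtendPCMain
import Groth.Agent.Lib.Helper25.GlueOpens2
import Groth.Agent.Lib.Helper25.DCohPC4

/-!
# Extending pseudo-coherent objects from an open of a Noetherian scheme (helper25)

* `isPseudoCoherentD_of_openCover`: pseudo-coherence is local for covers by open immersions.
* `PCon T F`: `F|_T` is pseudo-coherent; `PCon.mono`, `PCon.sup`, `PCon.of_iso`.
* `restrictIsoOfLE`: `F|_T ≅ G|_T` gives `F|_W ≅ G|_W` for `W ≤ T`.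
* `exists_step`: extension across one affine open (`ExtendPCMain.exists_pc_extension` + `GlueOpens2.exists_glue'`).
* `exists_pc_extension_noeth`: on a Noetherian scheme `X`, a pseudo-coherent object on an open `U` is the restriction of
  a pseudo-coherent object of `D(O_X)`.
-/

set_option autoImplicit false
universe u
open CategoryTheory CategoryTheory.Limits AlgebraicGeometry Opposite

attribute [local instance] HasDerivedCategory.standard

namespace Groth.Agent.Lib.Helper25.ExtendPCNoeth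

open TopologicalSpace
open Groth.Agent.Lib.helper25.DCohPerfect Groth.Agent.Lib.helper25.DCohRestrict
  Groth.Agent.Lib.helper25.DCohPC Groth.Agent.Lib.helper25.DCohPC2 Groth.Agent.Lib.helper25.DCohPC3
  Groth.Agent.Lib.Helper25.ExtendPCMain Groth.Agent.Lib.Helper25.RestrictDNat

variable {X : Scheme.{u}}

/-- pseudo-coherence is local for covers by open immersions -/
lemma isPseudoCoherentD_of_openCover {m : ℤ} {K : DCoh.D X}
    (h : ∀ x : X, ∃ (U : Scheme.{u}) (j : U ⟶ X) (_ : IsOpenImmersion j),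
      x ∈ Set.range j ∧ DCoh.IsPseudoCoherentD m ((DCoh.restrictD j).obj K)) :
    DCoh.IsPseudoCoherentD m K := by
  refine isPseudoCoherentD_of_local (fun x => ?_)
  obtain ⟨U, j, hj, ⟨y, rfl⟩, hpc⟩ := h x
  obtain ⟨W, hyW, dW⟩ := exists_pcData hpc y
  exact ⟨_, W.ι ≫ j, inferInstance, ⟨⟨y, hyW⟩, rfl⟩, dW.of_iso ((compIso W.ι j).app K).symm⟩

/-- `F|_T` is pseudo-coherent -/
def PCon (T : X.Opens) (F : DCoh.D X) : Prop :=
  ∀ m : ℤ, DCoh.IsPseudoCoherentD m ((DCoh.restrictD T.ι).obj F)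

/-- `(F|_T)|_W ≅ F|_W` -/
noncomputable def restrictRestrictIso {W T : X.Opens} (h : W ≤ T) (F : DCoh.D X) :
    (DCoh.restrictD (X.homOfLE h)).obj ((DCoh.restrictD T.ι).obj F) ≅ (DCoh.restrictD W.ι).obj F :=
  ((compIso (X.homOfLE h) T.ι).app F).symm ≪≫ (congrIso (X.homOfLE_ι h)).app F

/-- an isomorphism over `T` restricts to an isomorphism over `W ≤ T` -/
noncomputable def restrictIsoOfLE {W T : X.Opens} (h : W ≤ T) {F G : DCoh.D X}
    (e : (DCoh.restrictD T.ι).obj F ≅ (DCoh.restrictD T.ι).obj G) :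
    (DCoh.restrictD W.ι).obj F ≅ (DCoh.restrictD W.ι).obj G :=
  (restrictRestrictIso h F).symm ≪≫ (DCoh.restrictD (X.homOfLE h)).mapIso e ≪≫ restrictRestrictIso h G

lemma PCon.mono {W T : X.Opens} (h : W ≤ T) {F : DCoh.D X} (hF : PCon T F) : PCon W F := fun m =>
  isPseudoCoherentD_of_iso (restrictRestrictIso h F)
    (isPseudoCoherentD_restrictD_of_isOpenImmersion (X.homOfLE h) (hF m))

lemma PCon.of_iso {T : X.Opens} {F G : DCoh.D X}
    (e : (DCoh.restrictD T.ι).obj F ≅ (DCoh.restrictD T.ι).obj G) (hF : PCon T F) : PCon T G :=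
  fun m => isPseudoCoherentD_of_iso e (hF m)

lemma PCon.sup {W V : X.Opens} {F : DCoh.D X} (hW : PCon W F) (hV : PCon V F) : PCon (W ⊔ V) F := by
  intro m
  refine isPseudoCoherentD_of_openCover (fun x => ?_)
  have hx : x.1 ∈ (W ⊔ V : X.Opens) := x.2
  rcases hx with hx | hx
  · refine ⟨W, X.homOfLE (le_sup_left : W ≤ W ⊔ V), inferInstance, ⟨⟨x.1, hx⟩, ?_⟩, ?_⟩
    · exact Scheme.homOfLE_apply' _ _ _
    · exact isPseudoCoherentD_of_iso (restrictRestrictIso le_sup_left F).symm (hW m)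
  · refine ⟨V, X.homOfLE (le_sup_right : V ≤ W ⊔ V), inferInstance, ⟨⟨x.1, hx⟩, ?_⟩, ?_⟩
    · exact Scheme.homOfLE_apply' _ _ _
    · exact isPseudoCoherentD_of_iso (restrictRestrictIso le_sup_right F).symm (hV m)

/-- **extension across one affine open** -/
theorem exists_step (W V : X.Opens) (hV : IsAffineOpen V)
    (hWV : IsCompact ((W ⊓ V : X.Opens) : Set X)) (F : DCoh.D X) (hF : PCon W F) :
    ∃ F' : DCoh.D X, Nonempty ((DCoh.restrictD W.ι).obj F' ≅ (DCoh.restrictD W.ι).obj F) ∧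
      PCon (W ⊔ V) F' := by
  haveI : IsAffine (V : Scheme.{u}) := hV
  let WV : (V : Scheme.{u}).Opens := V.ι ⁻¹ᵁ W
  have himg : V.ι ''ᵁ WV = V ⊓ W := by
    rw [Scheme.Hom.image_preimage_eq_opensRange_inf, Scheme.Opens.opensRange_ι]
  have hWVc : IsCompact (WV : Set (V : Scheme.{u})) := by
    rw [V.ι.isOpenEmbedding.isEmbedding.isCompact_iff]
    have : (V.ι.base '' (WV : Set (V : Scheme.{u}))) = ((W ⊓ V : X.Opens) : Set X) := by
      rw [inf_comm, ← himg]; rfl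
    rw [this]
    exact hWV
  have hrk : Set.range (WV.ι ≫ V.ι).base ⊆ Set.range W.ι.base := by
    rintro _ ⟨x, rfl⟩
    rw [Scheme.Opens.range_ι]
    exact x.2
  let k' : (WV : Scheme.{u}) ⟶ (W : Scheme.{u}) := IsOpenImmersion.lift W.ι (WV.ι ≫ V.ι) hrk
  have hk' : k' ≫ W.ι = WV.ι ≫ V.ι := IsOpenImmersion.lift_fac _ _ _
  haveI : IsOpenImmersion (k' ≫ W.ι) := by rw [hk']; infer_instance
  haveI : IsOpenImmersion k' := IsOpenImmersion.of_comp k' W.ι
  have hk'x : ∀ x : (WV : Scheme.{u}), W.ι.base (k'.base x) = V.ι.base (WV.ι.base x) := fun x => by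
    have := congrArg (fun f => f.base x) hk'
    simpa using this
  let A : DCoh.D (W : Scheme.{u}) := (DCoh.restrictD W.ι).obj F
  let E₀ : DCoh.D (WV : Scheme.{u}) := (DCoh.restrictD k').obj A
  have hE₀ : ∀ m : ℤ, DCoh.IsPseudoCoherentD m E₀ := fun m =>
    isPseudoCoherentD_restrictD_of_isOpenImmersion k' (hF m)
  obtain ⟨B, hB, ⟨e⟩⟩ := exists_pc_extension (X := (V : Scheme.{u})) WV hWVc E₀ hE₀
  obtain ⟨F', ⟨eW⟩, ⟨eV⟩⟩ := Groth.Agent.Lib.Helper25.GlueOpens2.exists_glue' W V k' WV.ι hk'.symm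
    (by
      intro x hx
      have hxV : W.ι.base x ∈ V := hx
      have hxW : W.ι.base x ∈ W := x.2
      let y : (WV : Scheme.{u}) := ⟨⟨W.ι.base x, hxV⟩, hxW⟩
      refine ⟨y, W.ι.isOpenEmbedding.injective ?_⟩
      rw [hk'x]
      rfl)
    (by rw [Scheme.Opens.opensRange_ι])
    A B e.symm
  refine ⟨F', ⟨eW⟩, PCon.sup (PCon.of_iso eW.symm hF) (fun m => isPseudoCoherentD_of_iso eV.symm (hB m))⟩

/-- iterating over a list of affine opens -/
theorem exists_list [IsNoetherian X] (l : List X.affineOpens) :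
    ∀ (W : X.Opens) (F : DCoh.D X), PCon W F →
      ∃ F' : DCoh.D X, Nonempty ((DCoh.restrictD W.ι).obj F' ≅ (DCoh.restrictD W.ι).obj F) ∧
        ∀ T : X.Opens, T ≤ W ∨ (∃ V ∈ l, T ≤ (V : X.Opens)) → PCon T F' := by
  induction l with
  | nil =>
    intro W F hF
    refine ⟨F, ⟨Iso.refl _⟩, fun T hT => ?_⟩
    rcases hT with hT | ⟨V, hV, -⟩
    · exact hF.mono hT
    · exact absurd hV (List.not_mem_nil)
  | cons V l ih =>
    intro W F hF
    obtain ⟨F₁, ⟨e₁⟩, hF₁⟩ := exists_step W (V : X.Opens) V.2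
      (TopologicalSpace.NoetherianSpace.isCompact _) F hF
    obtain ⟨F₂, ⟨e₂⟩, hF₂⟩ := ih (W ⊔ (V : X.Opens)) F₁ hF₁
    refine ⟨F₂, ⟨restrictIsoOfLE le_sup_left e₂ ≪≫ e₁⟩, fun T hT => ?_⟩
    rcases hT with hT | ⟨V', hV', hT⟩
    · exact hF₂ T (Or.inl (hT.trans le_sup_left))
    · rcases List.mem_cons.1 hV' with rfl | hV'
      · exact hF₂ T (Or.inl (hT.trans le_sup_right))
      · exact hF₂ T (Or.inr ⟨V', hV', hT⟩)

/-- **extension of pseudo-coherent objects from an open of a Noetherian scheme** -/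
theorem exists_pc_extension_noeth [IsNoetherian X] (U : X.Opens) (E : DCoh.D (U : Scheme.{u}))
    (hE : ∀ m : ℤ, DCoh.IsPseudoCoherentD m E) :
    ∃ L : DCoh.D X, (∀ m : ℤ, DCoh.IsPseudoCoherentD m L) ∧
      Nonempty ((DCoh.restrictD U.ι).obj L ≅ E) := by
  classical
  haveI := Groth.Agent.Lib.Helper25.SchKInj.hasRpush U.ι
  obtain ⟨adj⟩ := Groth.Agent.Lib.Helper25.RGZ1.nonempty_adj U.ι
  let K := (DCoh.Rpush U.ι).obj E
  haveI := Groth.Agent.Lib.Helper25.RGZ1.isIso_counit U.ι adj E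
  let e : (DCoh.restrictD U.ι).obj K ≅ E := asIso (adj.counit.app E)
  have hK : PCon U K := fun m => isPseudoCoherentD_of_iso e.symm (hE m)
  obtain ⟨s, hs, hcov⟩ := (isCompact_iff_finite_and_eq_biUnion_affineOpens (X := X)
    (U := (⊤ : X.Opens))).mp isCompact_univ
  obtain ⟨L, ⟨eL⟩, hL⟩ := exists_list hs.toFinset.toList U K hK
  refine ⟨L, fun m => ?_, ⟨eL ≪≫ e⟩⟩
  refine isPseudoCoherentD_of_openCover (fun x => ?_)
  have hx : x ∈ (⊤ : X.Opens) := trivial
  rw [hcov] at hx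
  simp only [Opens.mem_iSup] at hx
  obtain ⟨V, hVs, hxV⟩ := hx
  exact ⟨(V : X.Opens), (V : X.Opens).ι, inferInstance, by
    rw [Scheme.Opens.range_ι]; exact hxV,
    hL (V : X.Opens) (Or.inr ⟨V, by simpa using hVs, le_rfl⟩) m⟩

end Groth.Agent.Lib.Helper25.ExtendPCNoeth
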