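import Mathlib
import Groth.Agent.Lib.Helper25.ExtendPCNoeth
import Groth.Agent.Lib.Helper25.CohPCNoeth
import Groth.Agent.Lib.Helper25.LocalTorCoh
import Groth.Agent.Lib.Helper25.RpushPCUnbdd
import Groth.Agent.Lib.Helper25.DerivedTrunc
import Groth.Agent.Lib.Helper25.FBCBase1
import Groth.Agent.Lib.Helper25.HomLocPerf
import Groth.Agent.Lib.Helper7.CohKer

/-!
# Extending objects of `D^b_Coh` from an open of a Noetherian scheme (helper25; S1017)

* `isIso_homology_truncGEπ`: `H^i(K) ⟶ H^i(τ_{≥ a} K)` is invertible for `i ≥ a`.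
* `exists_bounded_coh_extension`: `X` Noetherian, `U ⊆ X` open, `F ∈ D^b_Coh(O_U)`; then `F ≅ G|_U` for a complex `G` of
  `O_X`-modules with bounded coherent cohomology: extend `F` as a pseudo-coherent object
  (`ExtendPCNoeth.exists_pc_extension_noeth`) and truncate.
-/

set_option autoImplicit false
universe u
open CategoryTheory CategoryTheory.Limits AlgebraicGeometry Opposite

attribute [local instance] HasDerivedCategory.standard

namespace Groth.Agent.Lib.Helper25.ExtendCohNoeth

open DerivedCategory Groth.Agent.Lib.helper25.DerivedTrunc Pretriangulated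

section trunc

variable {C : Type*} [Category C] [Abelian C] [HasDerivedCategory C]

/-- `H^i(K) ⟶ H^i(τ_{≥ a} K)` is invertible for `i ≥ a` -/
theorem isIso_homology_truncGEπ (a i : ℤ) (hi : a ≤ i) (K : DerivedCategory C) :
    IsIso ((homologyFunctor C i).map (((tD C).truncGEπ a).app K)) := by
  have hT := (tD C).triangleLTGE_distinguished a K
  haveI := epi_homology_truncGEπ a i K
  haveI : Mono ((homologyFunctor C i).map (((tD C).truncGEπ a).app K)) := by
    have h := (HomologySequence.mono_homologyMap_mor₂_iff _ hT i).2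
    apply h
    have hz : IsZero ((homologyFunctor C i).obj (((tD C).triangleLTGE a).obj K).obj₁) :=
      isZero_of_isLE _ (a - 1) i (by omega)
    exact hz.eq_of_src _ _
  exact isIso_of_mono_of_epi _

end trunc

variable {X : Scheme.{u}}

/-- **S1017** -/
theorem exists_bounded_coh_extension [IsNoetherian X] (U : X.Opens) (F : DCoh.D (U : Scheme.{u}))
    (hF : DCoh.IsCohD F) (a b : ℤ) [F.IsGE a] [F.IsLE b] :
    ∃ (G : CochainComplex X.Modules ℤ) (a' b' : ℤ), DCoh.IsCohD (DCoh.toD X G) ∧
      (DCoh.toD X G).IsGE a' ∧ (DCoh.toD X G).IsLE b' ∧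
      Nonempty (DerivedCategory.Q.obj ((DCoh.restrictCx U).obj G) ≅ F) := by
  have hpcF : ∀ m : ℤ, DCoh.IsPseudoCoherentD m F := fun m =>
    Groth.Agent.Lib.Helper25.CohPCNoeth.isPseudoCoherentD_of_isCohD F b hF m
  obtain ⟨L, hL, ⟨eL⟩⟩ := Groth.Agent.Lib.Helper25.ExtendPCNoeth.exists_pc_extension_noeth U F hpcF
  obtain ⟨b', hb'⟩ := Groth.Agent.Lib.Helper25.RpushPCUnbdd.exists_isLE_of_isPseudoCoherentD L (hL 0)
  have hLq : DCoh.IsQCohD L := Groth.Agent.Lib.Helper25.RpushPCUnbdd.isQCohD_of_isPseudoCoherentD L hL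
  have hLc : DCoh.IsCohD L := fun i =>
    Groth.Agent.Lib.Helper25.LocalTorCoh.isCoh_HD_of_isPseudoCoherentD L hLq i (hL i) i le_rfl
  let L' : DCoh.D X := ((tD X.Modules).truncGE a).obj L
  let π : L ⟶ L' := ((tD X.Modules).truncGEπ a).app L
  have hπ : ∀ i : ℤ, a ≤ i → IsIso ((homologyFunctor X.Modules i).map π) := fun i hi =>
    isIso_homology_truncGEπ a i hi L
  haveI : L'.IsGE a := inferInstanceAs ((((tD X.Modules).truncGE a).obj L).IsGE a)
  haveI : L'.IsLE b' := isLE_truncGE a b' L
  have hL'c : DCoh.IsCohD L' := by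
    intro i
    by_cases hi : i < a
    · exact Groth.Agent.Lib.helper7.CohKer.isCoh_of_isZero (isZero_of_isGE L' a i hi)
    · haveI := hπ i (by omega)
      exact Groth.Agent.Lib.helper7.CohKer.isCoh_of_iso
        (asIso ((homologyFunctor X.Modules i).map π)) (hLc i)
  have hres : IsIso ((DCoh.restrictD U.ι).map π) := by
    rw [DerivedCategory.isIso_iff]
    intro i
    by_cases hi : i < a
    · haveI : ((DCoh.restrictD U.ι).obj L).IsGE a := TStructure.t.isGE_of_iso eL.symm a
      have : ((DCoh.restrictD U.ι).obj L').IsGE a :=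
        Groth.Agent.Lib.Helper25.HomLocPerf.isGE_restrictD U.ι L' a inferInstance
      exact ⟨⟨0, (isZero_of_isGE _ a i hi).eq_of_src _ _, (isZero_of_isGE _ a i hi).eq_of_src _ _⟩⟩
    · have := hπ i (by omega)
      have h1 : IsIso ((homologyFunctor X.Modules i ⋙ Scheme.Modules.restrictFunctor U.ι).map π) := by
        rw [Functor.comp_map]
        infer_instance
      exact (NatIso.isIso_map_iff
        (Groth.Agent.Lib.Helper25.FBCBase.homologyNatIso (Scheme.Modules.restrictFunctor U.ι) i) π).2 h1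
  let G : CochainComplex X.Modules ℤ := Q.objPreimage L'
  let e₀ : Q.obj G ≅ L' := Q.objObjPreimageIso L'
  refine ⟨G, a, b', fun i => Groth.Agent.Lib.helper7.CohKer.isCoh_of_iso
      ((homologyFunctor X.Modules i).mapIso e₀.symm) (hL'c i), TStructure.t.isGE_of_iso e₀.symm a, TStructure.t.isLE_of_iso e₀.symm b', ?_⟩
  exact ⟨(Groth.Agent.Lib.helper25.DCohRestrict.resDQIso U.ι G).symm ≪≫ (DCoh.restrictD U.ι).mapIso e₀ ≪≫
    (asIso ((DCoh.restrictD U.ι).map π)).symm ≪≫ eL⟩

end Groth.Agent.Lib.Helper25.ExtendCohNoeth
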