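import Mathlib
import Groth.Agent.Lib.Helper25.MVDual

/-!
# The base change morphism of a square of adjunctions, tested against pulled-back objects (helper25)

Abstract nonsense for `Lg^* Rf_* E ⟶ Rf'_* Lg'^* E`.

Four categories `𝒮, 𝒮', 𝒳, 𝒳'`, functors `Fs : 𝒳 ⥤ 𝒮` (`Rf_*`), `Fs' : 𝒳' ⥤ 𝒮'` (`Rf'_*`), adjunctions
`adjg : Gp ⊣ Gs` (`Lg^* ⊣ Rg_*`), `adjg' : Gp' ⊣ Gs'`, `adjf : Fp ⊣ Fs`, `adjf' : Fp' ⊣ Fs'` and an isomorphism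
`e : Gs' ⋙ Fs ≅ Fs' ⋙ Gs`.

* `bc adjg adjg' e E : Gp (Fs E) ⟶ Fs' (Gp' E)`: the base change morphism (the formula of `DCoh.baseChangeApp`).
* `lam : Gp ⋙ Fp' ≅ Fp ⋙ Gp'`: the conjugate of `e` for the composite adjunctions.
* `key`: for `b : Q ⟶ Fs E`, the `adjf'`-transpose of `Gp b ≫ bc E` is `lam_Q ≫ Gp' (b♭)`.
* `key'`: the same after precomposition with `c : Q' ⟶ Gp Q`.
-/

set_option autoImplicit false
open CategoryTheory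

namespace Groth.Agent.Lib.Helper25.FBCFormal

variable {𝒮 𝒮' 𝒳 𝒳' : Type*} [Category 𝒮] [Category 𝒮'] [Category 𝒳] [Category 𝒳']
  {Fs : 𝒳 ⥤ 𝒮} {Fs' : 𝒳' ⥤ 𝒮'} {Gp : 𝒮 ⥤ 𝒮'} {Gs : 𝒮' ⥤ 𝒮} {Gp' : 𝒳 ⥤ 𝒳'} {Gs' : 𝒳' ⥤ 𝒳}
  {Fp : 𝒮 ⥤ 𝒳} {Fp' : 𝒮' ⥤ 𝒳'}
  (adjg : Gp ⊣ Gs) (adjg' : Gp' ⊣ Gs') (adjf : Fp ⊣ Fs) (adjf' : Fp' ⊣ Fs')
  (e : Gs' ⋙ Fs ≅ Fs' ⋙ Gs)

/-- the base change morphism `Gp (Fs E) ⟶ Fs' (Gp' E)` -/
def bc (E : 𝒳) : Gp.obj (Fs.obj E) ⟶ Fs'.obj (Gp'.obj E) :=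
  (adjg.homEquiv _ _).symm (Fs.map (adjg'.unit.app E) ≫ e.hom.app (Gp'.obj E))

/-- the conjugate of `e` -/
def lam : Gp ⋙ Fp' ≅ Fp ⋙ Gp' :=
  (conjugateIsoEquiv (adjf.comp adjg') (adjg.comp adjf')).symm e

lemma key (Q : 𝒮) (E : 𝒳) (b : Q ⟶ Fs.obj E) :
    (adjf'.homEquiv _ _).symm (Gp.map b ≫ bc adjg adjg' e E) =
      (lam adjg adjg' adjf adjf' e).hom.app Q ≫ Gp'.map ((adjf.homEquiv _ _).symm b) := by
  apply ((adjg.comp adjf').homEquiv _ _).injective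
  have h1 := Groth.Agent.Lib.Helper25.MVDual.homEquiv_conj (adjf.comp adjg') (adjg.comp adjf') e.hom
    (c := Q) (d := Gp'.obj E) (Gp'.map ((adjf.homEquiv _ _).symm b))
  have h2 : (lam adjg adjg' adjf adjf' e).hom =
      (conjugateEquiv (adjf.comp adjg') (adjg.comp adjf')).symm e.hom := rfl
  rw [h2, h1]
  simp only [Adjunction.comp_homEquiv, Equiv.trans_apply, Equiv.apply_symm_apply, bc]
  rw [Adjunction.homEquiv_naturality_left, Equiv.apply_symm_apply]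
  have h3 : adjg'.unit.app (Fp.obj Q) ≫ Gs'.map (Gp'.map ((adjf.homEquiv Q E).symm b)) =
      (adjf.homEquiv Q E).symm b ≫ adjg'.unit.app E := (adjg'.unit.naturality _).symm
  rw [Adjunction.homEquiv_unit (adj := adjg'), h3, Adjunction.homEquiv_naturality_right,
    Equiv.apply_symm_apply, Category.assoc]

/-- `key` after precomposition with `c : Q' ⟶ Gp Q`. -/
lemma key' (Q : 𝒮) (E : 𝒳) (b : Q ⟶ Fs.obj E) {Q' : 𝒮'} (c : Q' ⟶ Gp.obj Q) :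
    (adjf'.homEquiv _ _).symm (c ≫ Gp.map b ≫ bc adjg adjg' e E) =
      Fp'.map c ≫ (lam adjg adjg' adjf adjf' e).hom.app Q ≫ Gp'.map ((adjf.homEquiv _ _).symm b) := by
  rw [Adjunction.homEquiv_naturality_left_symm, key]

end Groth.Agent.Lib.Helper25.FBCFormal
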