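import Mathlib

/-!
# Base change of modules along a ring map, for semilinear additive maps (universe polymorphic; helper25)

`A → B` commutative rings, `N` an `A`-module, `P` a `B`-module (in arbitrary universes), `k : N →+ P`.

* `tl k hk : B ⊗[A] N →ₗ[B] P` for `hk : k (a • n) = algebraMap a • k n`; `tl_tmul`.
* `IsBCu k`: `k` is semilinear and `tl k` is bijective.
* `IsBCu.of_equiv`, `IsBCu.bijective_of_comp` (uniqueness of base changes), `IsBCu.five` (for `A → B` flat).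
-/

set_option autoImplicit false
open TensorProduct

namespace Groth.Agent.Lib.Helper25.FBCAlg

variable {A B : Type*} [CommRing A] [CommRing B] [Algebra A B]

section tl

variable {N P : Type*} [AddCommGroup N] [Module A N] [AddCommGroup P] [Module B P]
  (k : N →+ P) (hk : ∀ (a : A) (n : N), k (a • n) = algebraMap A B a • k n)

/-- the `B`-linear map `B ⊗ N → P` induced by a semilinear map `k : N → P` -/
noncomputable def tl : B ⊗[A] N →ₗ[B] P :=
  letI : Module A P := Module.compHom P (algebraMap A B)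
  haveI : IsScalarTower A B P := ⟨fun r b n => by
    show (r • b) • n = algebraMap A B r • (b • n)
    rw [Algebra.smul_def, mul_smul]⟩
  LinearMap.liftBaseChange B { toFun := k, map_add' := k.map_add, map_smul' := hk }

@[simp]
theorem tl_tmul (b : B) (n : N) : tl k hk (b ⊗ₜ n) = b • k n := by
  letI : Module A P := Module.compHom P (algebraMap A B)
  haveI : IsScalarTower A B P := ⟨fun r b n => by
    show (r • b) • n = algebraMap A B r • (b • n)
    rw [Algebra.smul_def, mul_smul]⟩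
  exact LinearMap.liftBaseChange_tmul _ _ _ _

end tl

/-- `k : N →+ P` exhibits the `B`-module `P` as `B ⊗[A] N`. -/
structure IsBCu {N P : Type*} [AddCommGroup N] [Module A N] [AddCommGroup P] [Module B P]
    (k : N →+ P) : Prop where
  map_smul : ∀ (a : A) (n : N), k (a • n) = algebraMap A B a • k n
  bij : Function.Bijective (tl k map_smul)

section ops

variable {N P : Type*} [AddCommGroup N] [Module A N] [AddCommGroup P] [Module B P] {k : N →+ P}

theorem isBCu_iff (hk : ∀ (a : A) (n : N), k (a • n) = algebraMap A B a • k n) :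
    IsBCu (A := A) (B := B) k ↔ Function.Bijective (tl k hk) :=
  ⟨fun h => h.bij, fun h => ⟨hk, h⟩⟩

/-- transport along equivalences -/
theorem IsBCu.of_equiv (hk : IsBCu (A := A) (B := B) k) {N' P' : Type*} [AddCommGroup N'] [Module A N']
    [AddCommGroup P'] [Module B P'] (eN : N' ≃ₗ[A] N) (eP : P' ≃ₗ[B] P) (k' : N' →+ P')
    (hcomm : ∀ n, eP (k' n) = k (eN n)) : IsBCu (A := A) (B := B) k' := by
  have hk' : ∀ (a : A) (n : N'), k' (a • n) = algebraMap A B a • k' n := by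
    intro a n
    apply eP.injective
    rw [hcomm, eN.map_smul, hk.map_smul, eP.map_smul, hcomm]
  refine ⟨hk', ?_⟩
  have h1 : ∀ t, eP (tl k' hk' t) = tl k hk.map_smul ((LinearEquiv.lTensor B eN) t) := by
    intro t
    induction t with
    | zero => simp
    | tmul b n => simp [hcomm]
    | add x y hx hy => simp only [map_add, hx, hy]
  have h2 : (tl k' hk' : B ⊗[A] N' → P') =
      eP.symm ∘ (tl k hk.map_smul) ∘ (LinearEquiv.lTensor B eN) := by
    funext t
    apply eP.injective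
    rw [h1]
    simp
  rw [h2]
  exact eP.symm.bijective.comp (hk.bij.comp (LinearEquiv.lTensor B eN).bijective)

/-- uniqueness of base changes -/
theorem IsBCu.bijective_of_comp (hk : IsBCu (A := A) (B := B) k) {P' : Type*} [AddCommGroup P']
    [Module B P'] {k' : N →+ P'} (hk' : IsBCu (A := A) (B := B) k') (w : P →+ P')
    (hwB : ∀ (b : B) (p : P), w (b • p) = b • w p) (hw : ∀ n, w (k n) = k' n) :
    Function.Bijective w := by
  have h1 : ∀ t, w (tl k hk.map_smul t) = tl k' hk'.map_smul t := by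
    intro t
    induction t with
    | zero => simp
    | tmul b n => simp [hwB, hw]
    | add x y hx hy => simp only [map_add, hx, hy]
  have h2 : (w : P → P') = (tl k' hk'.map_smul) ∘ (Equiv.ofBijective _ hk.bij).symm := by
    funext p
    obtain ⟨t, rfl⟩ := hk.bij.2 p
    rw [h1]
    simp only [Function.comp_apply]
    congr 1
    exact ((Equiv.ofBijective _ hk.bij).symm_apply_apply t).symm
  rw [h2]
  exact hk'.bij.comp (Equiv.ofBijective _ hk.bij).symm.bijective

end ops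

section sq

variable {N N' P P' : Type*} [AddCommGroup N] [AddCommGroup N'] [Module A N] [Module A N']
  [AddCommGroup P] [AddCommGroup P'] [Module B P] [Module B P']

lemma tl_square (f : N →ₗ[A] N') (g : P →ₗ[B] P')
    (k : N →+ P) (k' : N' →+ P') (hk : ∀ (a : A) (n : N), k (a • n) = algebraMap A B a • k n)
    (hk' : ∀ (a : A) (n : N'), k' (a • n) = algebraMap A B a • k' n)
    (hc : ∀ n, g (k n) = k' (f n)) (t : B ⊗[A] N) :
    g (tl k hk t) = tl k' hk' (f.lTensor B t) := by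
  induction t with
  | zero => simp
  | tmul b n => simp [hc]
  | add x y hx hy => simp only [map_add, hx, hy]

end sq

section five

variable [Module.Flat A B]
variable {N₁ N₂ N₃ N₄ N₅ P₁ P₂ P₃ P₄ P₅ : Type*}
  [AddCommGroup N₁] [AddCommGroup N₂] [AddCommGroup N₃] [AddCommGroup N₄] [AddCommGroup N₅]
  [Module A N₁] [Module A N₂] [Module A N₃] [Module A N₄] [Module A N₅]
  [AddCommGroup P₁] [AddCommGroup P₂] [AddCommGroup P₃] [AddCommGroup P₄] [AddCommGroup P₅]
  [Module B P₁] [Module B P₂] [Module B P₃] [Module B P₄] [Module B P₅]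
  (f₁ : N₁ →ₗ[A] N₂) (f₂ : N₂ →ₗ[A] N₃) (f₃ : N₃ →ₗ[A] N₄) (f₄ : N₄ →ₗ[A] N₅)
  (g₁ : P₁ →ₗ[B] P₂) (g₂ : P₂ →ₗ[B] P₃) (g₃ : P₃ →ₗ[B] P₄) (g₄ : P₄ →ₗ[B] P₅)
  (k₁ : N₁ →+ P₁) (k₂ : N₂ →+ P₂) (k₃ : N₃ →+ P₃) (k₄ : N₄ →+ P₄) (k₅ : N₅ →+ P₅)

/-- **five lemma** for base changes along a flat ring map -/
theorem IsBCu.five (hf₁ : Function.Exact f₁ f₂) (hf₂ : Function.Exact f₂ f₃) (hf₃ : Function.Exact f₃ f₄)
    (hg₁ : Function.Exact g₁ g₂) (hg₂ : Function.Exact g₂ g₃) (hg₃ : Function.Exact g₃ g₄)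
    (hc₁ : ∀ n, g₁ (k₁ n) = k₂ (f₁ n)) (hc₂ : ∀ n, g₂ (k₂ n) = k₃ (f₂ n))
    (hc₃ : ∀ n, g₃ (k₃ n) = k₄ (f₃ n)) (hc₄ : ∀ n, g₄ (k₄ n) = k₅ (f₄ n))
    (h₁ : IsBCu (A := A) (B := B) k₁) (h₂ : IsBCu (A := A) (B := B) k₂)
    (h₄ : IsBCu (A := A) (B := B) k₄) (h₅ : IsBCu (A := A) (B := B) k₅)
    (hk₃ : ∀ (a : A) (n : N₃), k₃ (a • n) = algebraMap A B a • k₃ n) :
    IsBCu (A := A) (B := B) k₃ := by
  refine ⟨hk₃, ?_⟩
  exact AddMonoidHom.bijective_of_surjective_of_bijective_of_bijective_of_injective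
    (f₁.lTensor B).toAddMonoidHom (f₂.lTensor B).toAddMonoidHom (f₃.lTensor B).toAddMonoidHom
    (f₄.lTensor B).toAddMonoidHom
    g₁.toAddMonoidHom g₂.toAddMonoidHom g₃.toAddMonoidHom g₄.toAddMonoidHom
    (tl k₁ h₁.map_smul).toAddMonoidHom (tl k₂ h₂.map_smul).toAddMonoidHom (tl k₃ hk₃).toAddMonoidHom
    (tl k₄ h₄.map_smul).toAddMonoidHom (tl k₅ h₅.map_smul).toAddMonoidHom
    (by ext t; exact tl_square f₁ g₁ k₁ k₂ h₁.map_smul h₂.map_smul hc₁ t)
    (by ext t; exact tl_square f₂ g₂ k₂ k₃ h₂.map_smul hk₃ hc₂ t)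
    (by ext t; exact tl_square f₃ g₃ k₃ k₄ hk₃ h₄.map_smul hc₃ t)
    (by ext t; exact tl_square f₄ g₄ k₄ k₅ h₄.map_smul h₅.map_smul hc₄ t)
    (Module.Flat.lTensor_exact B hf₁) (Module.Flat.lTensor_exact B hf₂) (Module.Flat.lTensor_exact B hf₃)
    hg₁ hg₂ hg₃ h₁.bij.2 h₂.bij h₄.bij h₅.bij.1

end five

end Groth.Agent.Lib.Helper25.FBCAlg
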