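import Mathlib
import Groth.Agent.Lib.Helper25.FBCAlg

/-!
# Hom groups as modules through a ring action on the source; localisation of base change statements (helper25)

`𝒞` preadditive, `Q : 𝒞`, `α : A →+* End Q` (`A` commutative).

* `Hm α F`: the group `Q ⟶ F` with the `A`-module structure `a • y = α a ≫ y`; `Hm.smul_def`.
* `mapAct G α : A →+* End (G.obj Q)` for an additive functor `G`.
* `kap T c`: the additive map `(Q ⟶ E) → (Q' ⟶ T E)`, `y ↦ c ≫ T y`, for `c : Q' ⟶ T Q`.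
* `isBCu_kap_of_iso`: invariance of `IsBCu (kap T c)` under equivariant isomorphisms of `Q`, `Q'`.
* `isBCu_kap_of_local`: localisation: adjunctions `Ks ⊣ Kr`, `Ks' ⊣ Kr'` with invertible units at `P₀`, `P₀'`,
  `ν : T ⋙ Kr' ≅ Kr ⋙ TV`; if `Kr' c` is invertible then `IsBCu (kap T c)` at `E` follows from
  `IsBCu (TV.map)` at `Kr E`.
-/

set_option autoImplicit false
open CategoryTheory

namespace Groth.Agent.Lib.Helper25.FBCHom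

open Groth.Agent.Lib.Helper25.FBCAlg

section Hm

variable {A : Type*} [CommRing A] {𝒞 : Type*} [Category 𝒞] [Preadditive 𝒞] {Q : 𝒞}

/-- `Q ⟶ F` with the action of `A` through `α : A →+* End Q` -/
def Hm (_ : A →+* End Q) (F : 𝒞) : Type _ := Q ⟶ F

instance (α : A →+* End Q) (F : 𝒞) : AddCommGroup (Hm α F) := inferInstanceAs (AddCommGroup (Q ⟶ F))

instance (α : A →+* End Q) (F : 𝒞) : Module A (Hm α F) where
  smul a y := (α a : Q ⟶ Q) ≫ (y : Q ⟶ F)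
  one_smul y := by
    show (α 1 : Q ⟶ Q) ≫ (y : Q ⟶ F) = y
    rw [map_one]
    exact Category.id_comp _
  mul_smul a b y := by
    show (α (a * b) : Q ⟶ Q) ≫ (y : Q ⟶ F) = (α a : Q ⟶ Q) ≫ (α b : Q ⟶ Q) ≫ (y : Q ⟶ F)
    rw [mul_comm, map_mul, End.mul_def, Category.assoc]
  smul_zero a := by
    show (α a : Q ⟶ Q) ≫ (0 : Q ⟶ F) = 0
    exact Limits.comp_zero
  smul_add a y z := by
    show (α a : Q ⟶ Q) ≫ ((y : Q ⟶ F) + (z : Q ⟶ F)) = _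
    exact Preadditive.comp_add _ _ _ _ _ _
  add_smul a b y := by
    show (α (a + b) : Q ⟶ Q) ≫ (y : Q ⟶ F) = (α a : Q ⟶ Q) ≫ (y : Q ⟶ F) + (α b : Q ⟶ Q) ≫ (y : Q ⟶ F)
    rw [map_add]
    exact Preadditive.add_comp _ _ _ _ _ _
  zero_smul y := by
    show (α 0 : Q ⟶ Q) ≫ (y : Q ⟶ F) = 0
    rw [map_zero]
    exact Limits.zero_comp

lemma Hm.smul_def (α : A →+* End Q) {F : 𝒞} (a : A) (y : Hm α F) :
    a • y = ((α a : Q ⟶ Q) ≫ (y : Q ⟶ F) : Q ⟶ F) := rfl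

/-- the action on `G Q` induced by an additive functor -/
def mapAct {𝒟 : Type*} [Category 𝒟] [Preadditive 𝒟] (G : 𝒞 ⥤ 𝒟) [G.Additive] (α : A →+* End Q) :
    A →+* End (G.obj Q) where
  toFun a := G.map (α a : Q ⟶ Q)
  map_one' := by rw [map_one]; exact G.map_id _
  map_mul' a b := by
    rw [map_mul, End.mul_def, End.mul_def]
    exact G.map_comp _ _
  map_zero' := by rw [map_zero]; exact G.map_zero _ _
  map_add' a b := by rw [map_add]; exact G.map_add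

lemma mapAct_apply {𝒟 : Type*} [Category 𝒟] [Preadditive 𝒟] (G : 𝒞 ⥤ 𝒟) [G.Additive] (α : A →+* End Q)
    (a : A) : (mapAct G α a : G.obj Q ⟶ G.obj Q) = G.map (α a : Q ⟶ Q) := rfl

/-- post-composition, as a linear map -/
def postL (α : A →+* End Q) {F F' : 𝒞} (u : F ⟶ F') : Hm α F →ₗ[A] Hm α F' where
  toFun y := ((y : Q ⟶ F) ≫ u : Q ⟶ F')
  map_add' y z := Preadditive.add_comp _ _ _ _ _ _
  map_smul' a y := by
    show ((α a : Q ⟶ Q) ≫ (y : Q ⟶ F)) ≫ u = (α a : Q ⟶ Q) ≫ ((y : Q ⟶ F) ≫ u)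
    exact Category.assoc _ _ _

/-- pre-composition with an equivariant morphism, as a linear map -/
def preL {Q₁ : 𝒞} (α : A →+* End Q) (α₁ : A →+* End Q₁) (v : Q₁ ⟶ Q)
    (hv : ∀ a, (α₁ a : Q₁ ⟶ Q₁) ≫ v = v ≫ (α a : Q ⟶ Q)) (F : 𝒞) : Hm α F →ₗ[A] Hm α₁ F where
  toFun y := (v ≫ (y : Q ⟶ F) : Q₁ ⟶ F)
  map_add' y z := Preadditive.comp_add _ _ _ _ _ _
  map_smul' a y := by
    show v ≫ ((α a : Q ⟶ Q) ≫ (y : Q ⟶ F)) = (α₁ a : Q₁ ⟶ Q₁) ≫ (v ≫ (y : Q ⟶ F))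
    rw [← Category.assoc, ← hv, Category.assoc]

/-- a linear equivalence from an equivariant additive equivalence of the underlying groups -/
def mkEquiv {𝒟 : Type*} [Category 𝒟] [Preadditive 𝒟] {Q₁ : 𝒟} (α : A →+* End Q) (α₁ : A →+* End Q₁)
    {F : 𝒞} {F₁ : 𝒟} (e : (Q ⟶ F) ≃+ (Q₁ ⟶ F₁))
    (he : ∀ (a : A) (y : Q ⟶ F), e ((α a : Q ⟶ Q) ≫ y) = (α₁ a : Q₁ ⟶ Q₁) ≫ e y) :
    Hm α F ≃ₗ[A] Hm α₁ F₁ :=
  { e with
    map_smul' := fun a y => he a y }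

lemma mkEquiv_apply {𝒟 : Type*} [Category 𝒟] [Preadditive 𝒟] {Q₁ : 𝒟} (α : A →+* End Q)
    (α₁ : A →+* End Q₁) {F : 𝒞} {F₁ : 𝒟} (e : (Q ⟶ F) ≃+ (Q₁ ⟶ F₁))
    (he : ∀ (a : A) (y : Q ⟶ F), e ((α a : Q ⟶ Q) ≫ y) = (α₁ a : Q₁ ⟶ Q₁) ≫ e y) (y : Hm α F) :
    (mkEquiv α α₁ e he y : Q₁ ⟶ F₁) = e (y : Q ⟶ F) := rfl

/-- post-composition with an isomorphism -/
def postIso (Q : 𝒞) {F F' : 𝒞} (i : F ≅ F') : (Q ⟶ F) ≃+ (Q ⟶ F') where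
  toFun y := y ≫ i.hom
  invFun z := z ≫ i.inv
  left_inv y := by simp
  right_inv z := by simp
  map_add' y z := Preadditive.add_comp _ _ _ _ _ _

/-- pre-composition with an isomorphism -/
def preIso {Q₁ : 𝒞} (i : Q₁ ≅ Q) (F : 𝒞) : (Q ⟶ F) ≃+ (Q₁ ⟶ F) where
  toFun y := i.hom ≫ y
  invFun z := i.inv ≫ z
  left_inv y := by simp
  right_inv z := by simp
  map_add' y z := Preadditive.comp_add _ _ _ _ _ _

end Hm

section kap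

variable {A B : Type*} [CommRing A] [CommRing B] [Algebra A B]
  {𝒴 𝒴' : Type*} [Category 𝒴] [Category 𝒴'] [Preadditive 𝒴] [Preadditive 𝒴']
  (T : 𝒴 ⥤ 𝒴') [T.Additive] {Q : 𝒴} {Q' : 𝒴'} (c : Q' ⟶ T.obj Q)
  (α : A →+* End Q) (β : B →+* End Q')

/-- `y ↦ c ≫ T y` -/
def kap (E : 𝒴) : Hm α E →+ Hm β (T.obj E) :=
  ((Preadditive.leftComp (T.obj E) c).comp (T.mapAddHom (X := Q) (Y := E)) :
    (Q ⟶ E) →+ (Q' ⟶ T.obj E))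

omit [Algebra A B] in
lemma kap_apply (E : 𝒴) (y : Hm α E) :
    (kap T c α β E y : Q' ⟶ T.obj E) = c ≫ T.map (y : Q ⟶ E) := rfl

/-- invariance under equivariant isomorphisms -/
theorem isBCu_kap_of_iso {Q₁ : 𝒴} {Q₁' : 𝒴'} (α₁ : A →+* End Q₁) (β₁ : B →+* End Q₁')
    (ψ : Q ≅ Q₁) (ψ' : Q' ≅ Q₁')
    (hψ : ∀ a, (α a : Q ⟶ Q) ≫ ψ.hom = ψ.hom ≫ (α₁ a : Q₁ ⟶ Q₁))
    (hψ' : ∀ b, (β b : Q' ⟶ Q') ≫ ψ'.hom = ψ'.hom ≫ (β₁ b : Q₁' ⟶ Q₁'))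
    (E : 𝒴)
    (h : IsBCu (A := A) (B := B) (kap T (ψ'.inv ≫ c ≫ T.map ψ.hom) α₁ β₁ E)) :
    IsBCu (A := A) (B := B) (kap T c α β E) := by
  have hψi : ∀ a, (α₁ a : Q₁ ⟶ Q₁) ≫ ψ.inv = ψ.inv ≫ (α a : Q ⟶ Q) := by
    intro a
    rw [← cancel_mono ψ.hom, Category.assoc, Category.assoc, hψ, Iso.inv_hom_id_assoc, Iso.inv_hom_id,
      Category.comp_id]
  have hψi' : ∀ b, (β₁ b : Q₁' ⟶ Q₁') ≫ ψ'.inv = ψ'.inv ≫ (β b : Q' ⟶ Q') := by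
    intro b
    rw [← cancel_mono ψ'.hom, Category.assoc, Category.assoc, hψ', Iso.inv_hom_id_assoc, Iso.inv_hom_id,
      Category.comp_id]
  let eN : Hm α E ≃ₗ[A] Hm α₁ E :=
    LinearEquiv.ofLinearMap (preL α α₁ ψ.inv hψi E) (preL α₁ α ψ.hom hψ E)
      (by
        ext y
        show ψ.inv ≫ ψ.hom ≫ (y : Q₁ ⟶ E) = y
        rw [Iso.inv_hom_id_assoc])
      (by
        ext y
        show ψ.hom ≫ ψ.inv ≫ (y : Q ⟶ E) = y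
        rw [Iso.hom_inv_id_assoc])
  let eP : Hm β (T.obj E) ≃ₗ[B] Hm β₁ (T.obj E) :=
    LinearEquiv.ofLinearMap (preL β β₁ ψ'.inv hψi' _) (preL β₁ β ψ'.hom hψ' _)
      (by
        ext y
        show ψ'.inv ≫ ψ'.hom ≫ (y : Q₁' ⟶ T.obj E) = y
        rw [Iso.inv_hom_id_assoc])
      (by
        ext y
        show ψ'.hom ≫ ψ'.inv ≫ (y : Q' ⟶ T.obj E) = y
        rw [Iso.hom_inv_id_assoc])
  refine h.of_equiv eN eP _ (fun y => ?_)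
  show ψ'.inv ≫ c ≫ T.map (y : Q ⟶ E) = (ψ'.inv ≫ c ≫ T.map ψ.hom) ≫ T.map (ψ.inv ≫ (y : Q ⟶ E))
  rw [T.map_comp, Category.assoc, Category.assoc, ← T.map_comp_assoc, Iso.hom_inv_id, T.map_id,
    Category.id_comp]

end kap

section local_

variable {A B : Type*} [CommRing A] [CommRing B] [Algebra A B]
  {𝒴 𝒴' 𝒱 𝒱' : Type*} [Category 𝒴] [Category 𝒴'] [Category 𝒱] [Category 𝒱']
  [Preadditive 𝒴] [Preadditive 𝒴'] [Preadditive 𝒱] [Preadditive 𝒱']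
  (T : 𝒴 ⥤ 𝒴') [T.Additive] (TV : 𝒱 ⥤ 𝒱') [TV.Additive]
  {Ks : 𝒱 ⥤ 𝒴} {Kr : 𝒴 ⥤ 𝒱} {Ks' : 𝒱' ⥤ 𝒴'} {Kr' : 𝒴' ⥤ 𝒱'}
  [Ks.Additive] [Kr.Additive] [Ks'.Additive] [Kr'.Additive]
  (adjk : Ks ⊣ Kr) (adjk' : Ks' ⊣ Kr') (ν : T ⋙ Kr' ≅ Kr ⋙ TV)
  {P₀ : 𝒱} {P₀' : 𝒱'} (α₀ : A →+* End P₀) (β₀ : B →+* End P₀') (β₁ : B →+* End (TV.obj P₀))
  (c : Ks'.obj P₀' ⟶ T.obj (Ks.obj P₀))
  [IsIso (adjk.unit.app P₀)] [IsIso (adjk'.unit.app P₀')] [IsIso (Kr'.map c)]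

/-- the localisation of `c` -/
noncomputable def c₀ : P₀' ⟶ TV.obj P₀ :=
  adjk'.unit.app P₀' ≫ Kr'.map c ≫ ν.hom.app (Ks.obj P₀) ≫ inv (TV.map (adjk.unit.app P₀))

instance : IsIso (c₀ T TV adjk adjk' ν c) := by
  unfold c₀
  infer_instance

include adjk adjk' ν in
/-- **localisation** of base change statements along adjunctions `Ks ⊣ Kr`, `Ks' ⊣ Kr'` -/
theorem isBCu_kap_of_local
    (hint : ∀ (u : P₀' ⟶ TV.obj P₀) (b : B), (β₀ b : P₀' ⟶ P₀') ≫ u = u ≫ (β₁ b : TV.obj P₀ ⟶ TV.obj P₀))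
    (E : 𝒴) (h : IsBCu (A := A) (B := B) (kap TV (𝟙 (TV.obj P₀)) α₀ β₁ (Kr.obj E))) :
    IsBCu (A := A) (B := B) (kap T c (mapAct Ks α₀) (mapAct Ks' β₀) E) := by
  let eN : Hm (mapAct Ks α₀) E ≃ₗ[A] Hm α₀ (Kr.obj E) :=
    mkEquiv (mapAct Ks α₀) α₀ (adjk.homAddEquiv P₀ E) (fun a y => by
      show adjk.homEquiv _ _ (Ks.map (α₀ a : P₀ ⟶ P₀) ≫ y) = (α₀ a : P₀ ⟶ P₀) ≫ adjk.homEquiv _ _ y
      rw [Adjunction.homEquiv_naturality_left])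
  have hc₀ : ∀ b : B, (β₁ b : TV.obj P₀ ⟶ TV.obj P₀) ≫ inv (c₀ T TV adjk adjk' ν c) =
      inv (c₀ T TV adjk adjk' ν c) ≫ (β₀ b : P₀' ⟶ P₀') := by
    intro b
    rw [← cancel_mono (c₀ T TV adjk adjk' ν c), Category.assoc, Category.assoc, IsIso.inv_hom_id,
      Category.comp_id, hint, IsIso.inv_hom_id_assoc]
  let eP : Hm (mapAct Ks' β₀) (T.obj E) ≃ₗ[B] Hm β₁ (TV.obj (Kr.obj E)) :=
    mkEquiv (mapAct Ks' β₀) β₁
      (((adjk'.homAddEquiv P₀' (T.obj E)).trans (postIso P₀' (ν.app E))).trans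
        (preIso (asIso (c₀ T TV adjk adjk' ν c)).symm _)) (fun b x => by
      show inv (c₀ T TV adjk adjk' ν c) ≫
          adjk'.homEquiv _ _ (Ks'.map (β₀ b : P₀' ⟶ P₀') ≫ x) ≫ ν.hom.app E =
        (β₁ b : TV.obj P₀ ⟶ TV.obj P₀) ≫ inv (c₀ T TV adjk adjk' ν c) ≫
          adjk'.homEquiv _ _ x ≫ ν.hom.app E
      rw [Adjunction.homEquiv_naturality_left, ← Category.assoc (β₁ b : TV.obj P₀ ⟶ TV.obj P₀), hc₀,
        Category.assoc, Category.assoc])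
  refine h.of_equiv eN eP _ (fun y => ?_)
  obtain ⟨y, rfl⟩ : ∃ y' : Ks.obj P₀ ⟶ E, y = y' := ⟨y, rfl⟩
  show inv (c₀ T TV adjk adjk' ν c) ≫ adjk'.homEquiv _ _ (c ≫ T.map y) ≫ ν.hom.app E =
    𝟙 _ ≫ TV.map (adjk.homEquiv _ _ y)
  rw [Category.id_comp, Adjunction.homEquiv_unit, Adjunction.homEquiv_unit, Functor.map_comp,
    Functor.map_comp, Category.assoc, Category.assoc]
  have h1 : Kr'.map (T.map y) ≫ ν.hom.app E =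
      ν.hom.app (Ks.obj P₀) ≫ TV.map (Kr.map y) := ν.hom.naturality _
  rw [h1, IsIso.inv_comp_eq]
  unfold c₀
  simp only [Category.assoc, IsIso.inv_hom_id_assoc]

end local_

end Groth.Agent.Lib.Helper25.FBCHom
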