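import Mathlib
import Groth.Agent.Lib.Helper25.FBCFormal
import Groth.Agent.Lib.Helper25.FBCHom

/-!
# Bijectivity of composition with the base change morphism from two base change statements (helper25)

Setting of `FBCFormal` (all categories preadditive, all functors additive), `Q : 𝒮`, `Q' : 𝒮'`, `c : Q' ⟶ Gp Q`,
actions `α : A →+* End Q`, `β : B →+* End Q'`.

`bijective_comp_bc`: if `y ↦ c ≫ Gp y`, `(Q ⟶ Fs E) → (Q' ⟶ Gp (Fs E))`, and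
`z ↦ (Fp' c ≫ lam_Q) ≫ Gp' z`, `(Fp Q ⟶ E) → (Fp' Q' ⟶ Gp' E)`, are base changes along `A → B`, then composition with
the base change morphism `Gp (Fs E) ⟶ Fs' (Gp' E)` is bijective on `Hom(Q', -)`.
-/

set_option autoImplicit false
open CategoryTheory

namespace Groth.Agent.Lib.Helper25.FBCAbs

open Groth.Agent.Lib.Helper25.FBCAlg Groth.Agent.Lib.Helper25.FBCHom Groth.Agent.Lib.Helper25.FBCFormal

variable {A B : Type*} [CommRing A] [CommRing B] [Algebra A B]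
  {𝒮 𝒮' 𝒳 𝒳' : Type*} [Category 𝒮] [Category 𝒮'] [Category 𝒳] [Category 𝒳']
  [Preadditive 𝒮] [Preadditive 𝒮'] [Preadditive 𝒳] [Preadditive 𝒳']
  {Fs : 𝒳 ⥤ 𝒮} {Fs' : 𝒳' ⥤ 𝒮'} {Gp : 𝒮 ⥤ 𝒮'} {Gs : 𝒮' ⥤ 𝒮} {Gp' : 𝒳 ⥤ 𝒳'} {Gs' : 𝒳' ⥤ 𝒳}
  {Fp : 𝒮 ⥤ 𝒳} {Fp' : 𝒮' ⥤ 𝒳'}
  [Gp.Additive] [Gp'.Additive] [Fp.Additive] [Fp'.Additive] [Fs.Additive] [Fs'.Additive]
  (adjg : Gp ⊣ Gs) (adjg' : Gp' ⊣ Gs') (adjf : Fp ⊣ Fs) (adjf' : Fp' ⊣ Fs')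
  (e : Gs' ⋙ Fs ≅ Fs' ⋙ Gs)
  {Q : 𝒮} {Q' : 𝒮'} (c : Q' ⟶ Gp.obj Q) (α : A →+* End Q) (β : B →+* End Q')

theorem bijective_comp_bc (E : 𝒳)
    (hS : IsBCu (A := A) (B := B) (kap Gp c α β (Fs.obj E)))
    (hX : IsBCu (A := A) (B := B) (kap Gp' (Fp'.map c ≫ (lam adjg adjg' adjf adjf' e).hom.app Q)
      (mapAct Fp α) (mapAct Fp' β) E)) :
    Function.Bijective (fun x : Q' ⟶ Gp.obj (Fs.obj E) => x ≫ bc adjg adjg' e E) := by
  let eN : Hm α (Fs.obj E) ≃ₗ[A] Hm (mapAct Fp α) E :=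
    mkEquiv α (mapAct Fp α) (adjf.homAddEquiv Q E).symm (fun a y => by
      show (adjf.homEquiv _ _).symm ((α a : Q ⟶ Q) ≫ y) =
        Fp.map (α a : Q ⟶ Q) ≫ (adjf.homEquiv _ _).symm y
      rw [Adjunction.homEquiv_naturality_left_symm])
  let eP : Hm β (Fs'.obj (Gp'.obj E)) ≃ₗ[B] Hm (mapAct Fp' β) (Gp'.obj E) :=
    mkEquiv β (mapAct Fp' β) (adjf'.homAddEquiv Q' (Gp'.obj E)).symm (fun b y => by
      show (adjf'.homEquiv _ _).symm ((β b : Q' ⟶ Q') ≫ y) =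
        Fp'.map (β b : Q' ⟶ Q') ≫ (adjf'.homEquiv _ _).symm y
      rw [Adjunction.homEquiv_naturality_left_symm])
  let κT : Hm α (Fs.obj E) →+ Hm β (Fs'.obj (Gp'.obj E)) :=
    (eP.symm.toLinearMap.toAddMonoidHom.comp
      (kap Gp' (Fp'.map c ≫ (lam adjg adjg' adjf adjf' e).hom.app Q) (mapAct Fp α) (mapAct Fp' β) E)).comp
      eN.toLinearMap.toAddMonoidHom
  have hκT : IsBCu (A := A) (B := B) κT :=
    hX.of_equiv eN eP κT (fun y => eP.apply_symm_apply _)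
  let w : Hm β (Gp.obj (Fs.obj E)) →ₗ[B] Hm β (Fs'.obj (Gp'.obj E)) := postL β (bc adjg adjg' e E)
  have hw : ∀ y, w (kap Gp c α β (Fs.obj E) y) = κT y := by
    intro y
    obtain ⟨y, rfl⟩ : ∃ y' : Q ⟶ Fs.obj E, y = y' := ⟨y, rfl⟩
    apply eP.injective
    show (adjf'.homEquiv _ _).symm ((c ≫ Gp.map y) ≫ bc adjg adjg' e E) = eP (κT y)
    have h1 : eP (κT y) = (Fp'.map c ≫ (lam adjg adjg' adjf adjf' e).hom.app Q) ≫
        Gp'.map ((adjf.homEquiv _ _).symm y) := eP.apply_symm_apply _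
    rw [h1, Category.assoc, Category.assoc, key']
  exact hS.bijective_of_comp hκT w.toAddMonoidHom (fun b p => w.map_smul b p) hw

end Groth.Agent.Lib.Helper25.FBCAbs
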