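import Mathlib
import Groth.Agent.Lib.Helper25.FBCHom

/-!
# Objects satisfying base change for `Hom`: closure properties (abstract; helper25)

`𝒴` an `A`-linear category, `𝒴'` a `B`-linear category, `A → B` flat, `T : 𝒴 ⥤ 𝒴'` additive and semilinear
(`T (a • x) = algebraMap a • T x`).  `InC A B T E Q` says that `T : Hom(Q, E) → Hom(T Q, T E)` is a base change along
`A → B` (`FBCAlg.IsBCu`).

* `leftAdj_map_smul_id`: a left adjoint of a linear functor maps `a • 𝟙` to `a • 𝟙`.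
* `inC_of_iso`, `inC_of_isZero`, `inC_five` (abstract five-term form), `inC_biprod`, `inC_of_triangle`
  (third vertex of a distinguished triangle, `T` triangulated).
* `cLoc`, `isIso_map_cLoc`, `isIso_of_isIso_map`, `inC_of_local`: localisation along adjunctions `Ks ⊣ Kr`, `Ks' ⊣ Kr'`
  with invertible units.
-/

set_option autoImplicit false
open CategoryTheory CategoryTheory.Limits

namespace Groth.Agent.Lib.Helper25.FBCClass

open Groth.Agent.Lib.Helper25.FBCAlg Groth.Agent.Lib.Helper25.FBCHom Pretriangulated ZeroObject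

section adjlin

variable {R : Type*} [CommRing R] {C D : Type*} [Category C] [Category D] [Preadditive C] [Preadditive D]
  [Linear R C] [Linear R D] {L : C ⥤ D} {G : D ⥤ C} (adj : L ⊣ G) [G.Additive] [G.Linear R]

include adj in
/-- a left adjoint of a linear functor maps `a • 𝟙` to `a • 𝟙` -/
lemma leftAdj_map_smul_id (a : R) (X : C) : L.map (a • 𝟙 X) = a • 𝟙 (L.obj X) := by
  apply (adj.homEquiv _ _).injective
  rw [Adjunction.homEquiv_unit, Adjunction.homEquiv_unit, G.map_smul, G.map_id, Linear.comp_smul]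
  have h := adj.unit.naturality (a • 𝟙 X)
  simp only [Functor.id_obj, Functor.id_map, Functor.comp_obj, Functor.comp_map] at h
  rw [← h, Linear.smul_comp, Category.id_comp]
  congr 1
  exact (Category.comp_id _).symm

end adjlin

section act

variable {R : Type*} [CommRing R] {C : Type*} [Category C] [Preadditive C] [Linear R C]

lemma act_apply (Q : C) (a : R) : (algebraMap R (End Q) a : Q ⟶ Q) = a • 𝟙 Q := by
  rw [Algebra.algebraMap_eq_smul_one]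
  rfl

lemma act_comp {Q Q' : C} (a : R) (x : Q ⟶ Q') :
    (algebraMap R (End Q) a : Q ⟶ Q) ≫ x = a • x := by
  rw [act_apply, Linear.smul_comp, Category.id_comp]

lemma comp_act {Q Q' : C} (a : R) (x : Q ⟶ Q') :
    x ≫ (algebraMap R (End Q') a : Q' ⟶ Q') = a • x := by
  rw [act_apply, Linear.comp_smul, Category.comp_id]

lemma act_comm {Q Q' : C} (a : R) (x : Q ⟶ Q') :
    (algebraMap R (End Q) a : Q ⟶ Q) ≫ x = x ≫ (algebraMap R (End Q') a : Q' ⟶ Q') := by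
  rw [act_comp, comp_act]

end act

section cls

variable (A B : Type*) [CommRing A] [CommRing B] [Algebra A B]
  {𝒴 𝒴' : Type*} [Category 𝒴] [Category 𝒴'] [Preadditive 𝒴] [Preadditive 𝒴'] [Linear A 𝒴] [Linear B 𝒴']
  (T : 𝒴 ⥤ 𝒴') [T.Additive]

/-- `T` is semilinear over `A → B` -/
def SemiLin : Prop :=
  ∀ {X Y : 𝒴} (a : A) (x : X ⟶ Y), T.map (a • x) = algebraMap A B a • T.map x

/-- `T : Hom(Q, E) → Hom(T Q, T E)` is a base change along `A → B` -/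
def InC (E Q : 𝒴) : Prop :=
  IsBCu (A := A) (B := B)
    (kap T (𝟙 (T.obj Q)) (algebraMap A (End Q)) (algebraMap B (End (T.obj Q))) E)

variable {A B T}

theorem inC_of_iso {E Q Q₁ : 𝒴} (ψ : Q ≅ Q₁) (h : InC A B T E Q₁) : InC A B T E Q := by
  refine isBCu_kap_of_iso T (𝟙 _) _ _ (algebraMap A (End Q₁)) (algebraMap B (End (T.obj Q₁))) ψ
    (T.mapIso ψ) (fun a => act_comm a _) (fun b => act_comm b _) E ?_
  have e : (T.mapIso ψ).inv ≫ 𝟙 (T.obj Q) ≫ T.map ψ.hom = 𝟙 (T.obj Q₁) := by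
    rw [Category.id_comp, Functor.mapIso_inv, ← T.map_comp, Iso.inv_hom_id, T.map_id]
  rw [e]
  exact h

lemma subsingleton_hm_of_isZero {R : Type*} [CommRing R] {𝒞 : Type*} [Category 𝒞] [Preadditive 𝒞]
    {Q : 𝒞} (hQ : IsZero Q) (α : R →+* End Q) (F : 𝒞) : Subsingleton (Hm α F) :=
  ⟨fun x y => hQ.eq_of_src (x : Q ⟶ F) y⟩

theorem inC_of_isZero (hT : SemiLin A B T) {E Q : 𝒴} (hQ : IsZero Q) : InC A B T E Q := by
  have hTQ : IsZero (T.obj Q) := T.map_isZero hQ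
  have := subsingleton_hm_of_isZero hQ (algebraMap A (End Q)) E
  have := subsingleton_hm_of_isZero hTQ (algebraMap B (End (T.obj Q))) (T.obj E)
  refine ⟨fun a n => Subsingleton.elim _ _, ?_⟩
  haveI : Subsingleton (TensorProduct A B (Hm (algebraMap A (End Q)) E)) := by
    refine ⟨fun x y => ?_⟩
    have h0 : ∀ z : TensorProduct A B (Hm (algebraMap A (End Q)) E), z = 0 := by
      intro z
      induction z with
      | zero => rfl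
      | tmul b n => rw [Subsingleton.elim n 0, TensorProduct.tmul_zero]
      | add x y hx hy => rw [hx, hy, add_zero]
    rw [h0 x, h0 y]
  exact ⟨fun x y _ => Subsingleton.elim _ _, fun p => ⟨0, Subsingleton.elim _ _⟩⟩

/-- semilinearity of `kap T 𝟙` -/
lemma kap_smul (hT : SemiLin A B T) {E Q : 𝒴} (a : A) (n : Hm (algebraMap A (End Q)) E) :
    kap T (𝟙 (T.obj Q)) (algebraMap A (End Q)) (algebraMap B (End (T.obj Q))) E (a • n) =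
      algebraMap A B a •
        kap T (𝟙 (T.obj Q)) (algebraMap A (End Q)) (algebraMap B (End (T.obj Q))) E n := by
  obtain ⟨n, rfl⟩ : ∃ n' : Q ⟶ E, n = n' := ⟨n, rfl⟩
  show 𝟙 (T.obj Q) ≫ T.map ((algebraMap A (End Q) a : Q ⟶ Q) ≫ n) =
    (algebraMap B (End (T.obj Q)) (algebraMap A B a) : T.obj Q ⟶ T.obj Q) ≫ 𝟙 (T.obj Q) ≫ T.map n
  rw [act_comp, act_comp, Category.id_comp, Category.id_comp, hT]

/-- **five lemma** form of the closure of `InC` -/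
theorem inC_five [Module.Flat A B] (hT : SemiLin A B T) {E Z₁ Z₂ Z₃ Z₄ Z₅ : 𝒴}
    (m₁ : Z₂ ⟶ Z₁) (m₂ : Z₃ ⟶ Z₂) (m₃ : Z₄ ⟶ Z₃) (m₄ : Z₅ ⟶ Z₄)
    (z₁ : m₂ ≫ m₁ = 0) (z₂ : m₃ ≫ m₂ = 0) (z₃ : m₄ ≫ m₃ = 0)
    (e₂ : ∀ y : Z₂ ⟶ E, m₂ ≫ y = 0 → ∃ z : Z₁ ⟶ E, y = m₁ ≫ z)
    (e₃ : ∀ y : Z₃ ⟶ E, m₃ ≫ y = 0 → ∃ z : Z₂ ⟶ E, y = m₂ ≫ z)
    (e₄ : ∀ y : Z₄ ⟶ E, m₄ ≫ y = 0 → ∃ z : Z₃ ⟶ E, y = m₃ ≫ z)
    (e₂' : ∀ y : T.obj Z₂ ⟶ T.obj E, T.map m₂ ≫ y = 0 → ∃ z : T.obj Z₁ ⟶ T.obj E, y = T.map m₁ ≫ z)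
    (e₃' : ∀ y : T.obj Z₃ ⟶ T.obj E, T.map m₃ ≫ y = 0 → ∃ z : T.obj Z₂ ⟶ T.obj E, y = T.map m₂ ≫ z)
    (e₄' : ∀ y : T.obj Z₄ ⟶ T.obj E, T.map m₄ ≫ y = 0 → ∃ z : T.obj Z₃ ⟶ T.obj E, y = T.map m₃ ≫ z)
    (h₁ : InC A B T E Z₁) (h₂ : InC A B T E Z₂) (h₄ : InC A B T E Z₄) (h₅ : InC A B T E Z₅) :
    InC A B T E Z₃ := by
  have z₁' : T.map m₂ ≫ T.map m₁ = 0 := by rw [← T.map_comp, z₁, T.map_zero]
  have z₂' : T.map m₃ ≫ T.map m₂ = 0 := by rw [← T.map_comp, z₂, T.map_zero]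
  have z₃' : T.map m₄ ≫ T.map m₃ = 0 := by rw [← T.map_comp, z₃, T.map_zero]
  refine IsBCu.five
    (preL (algebraMap A (End Z₁)) (algebraMap A (End Z₂)) m₁ (fun a => act_comm a _) E)
    (preL (algebraMap A (End Z₂)) (algebraMap A (End Z₃)) m₂ (fun a => act_comm a _) E)
    (preL (algebraMap A (End Z₃)) (algebraMap A (End Z₄)) m₃ (fun a => act_comm a _) E)
    (preL (algebraMap A (End Z₄)) (algebraMap A (End Z₅)) m₄ (fun a => act_comm a _) E)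
    (preL (algebraMap B (End (T.obj Z₁))) (algebraMap B (End (T.obj Z₂))) (T.map m₁)
      (fun a => act_comm a _) (T.obj E))
    (preL (algebraMap B (End (T.obj Z₂))) (algebraMap B (End (T.obj Z₃))) (T.map m₂)
      (fun a => act_comm a _) (T.obj E))
    (preL (algebraMap B (End (T.obj Z₃))) (algebraMap B (End (T.obj Z₄))) (T.map m₃)
      (fun a => act_comm a _) (T.obj E))
    (preL (algebraMap B (End (T.obj Z₄))) (algebraMap B (End (T.obj Z₅))) (T.map m₄)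
      (fun a => act_comm a _) (T.obj E))
    _ _ _ _ _ ?_ ?_ ?_ ?_ ?_ ?_ ?_ ?_ ?_ ?_ h₁ h₂ h₄ h₅ (kap_smul hT)
  · intro y
    obtain ⟨y, rfl⟩ : ∃ y' : Z₂ ⟶ E, y = y' := ⟨y, rfl⟩
    constructor
    · intro hy
      obtain ⟨z, hz⟩ := e₂ y hy
      exact ⟨z, hz.symm⟩
    · rintro ⟨z, rfl⟩
      obtain ⟨z, rfl⟩ : ∃ z' : Z₁ ⟶ E, z = z' := ⟨z, rfl⟩
      show m₂ ≫ m₁ ≫ z = 0
      rw [← Category.assoc, z₁, zero_comp]
  · intro y
    obtain ⟨y, rfl⟩ : ∃ y' : Z₃ ⟶ E, y = y' := ⟨y, rfl⟩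
    constructor
    · intro hy
      obtain ⟨z, hz⟩ := e₃ y hy
      exact ⟨z, hz.symm⟩
    · rintro ⟨z, rfl⟩
      obtain ⟨z, rfl⟩ : ∃ z' : Z₂ ⟶ E, z = z' := ⟨z, rfl⟩
      show m₃ ≫ m₂ ≫ z = 0
      rw [← Category.assoc, z₂, zero_comp]
  · intro y
    obtain ⟨y, rfl⟩ : ∃ y' : Z₄ ⟶ E, y = y' := ⟨y, rfl⟩
    constructor
    · intro hy
      obtain ⟨z, hz⟩ := e₄ y hy
      exact ⟨z, hz.symm⟩
    · rintro ⟨z, rfl⟩
      obtain ⟨z, rfl⟩ : ∃ z' : Z₃ ⟶ E, z = z' := ⟨z, rfl⟩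
      show m₄ ≫ m₃ ≫ z = 0
      rw [← Category.assoc, z₃, zero_comp]
  · intro y
    obtain ⟨y, rfl⟩ : ∃ y' : T.obj Z₂ ⟶ T.obj E, y = y' := ⟨y, rfl⟩
    constructor
    · intro hy
      obtain ⟨z, hz⟩ := e₂' y hy
      exact ⟨z, hz.symm⟩
    · rintro ⟨z, rfl⟩
      obtain ⟨z, rfl⟩ : ∃ z' : T.obj Z₁ ⟶ T.obj E, z = z' := ⟨z, rfl⟩
      show T.map m₂ ≫ T.map m₁ ≫ z = 0
      rw [← Category.assoc, z₁', zero_comp]
  · intro y
    obtain ⟨y, rfl⟩ : ∃ y' : T.obj Z₃ ⟶ T.obj E, y = y' := ⟨y, rfl⟩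
    constructor
    · intro hy
      obtain ⟨z, hz⟩ := e₃' y hy
      exact ⟨z, hz.symm⟩
    · rintro ⟨z, rfl⟩
      obtain ⟨z, rfl⟩ : ∃ z' : T.obj Z₂ ⟶ T.obj E, z = z' := ⟨z, rfl⟩
      show T.map m₃ ≫ T.map m₂ ≫ z = 0
      rw [← Category.assoc, z₂', zero_comp]
  · intro y
    obtain ⟨y, rfl⟩ : ∃ y' : T.obj Z₄ ⟶ T.obj E, y = y' := ⟨y, rfl⟩
    constructor
    · intro hy
      obtain ⟨z, hz⟩ := e₄' y hy
      exact ⟨z, hz.symm⟩
    · rintro ⟨z, rfl⟩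
      obtain ⟨z, rfl⟩ : ∃ z' : T.obj Z₃ ⟶ T.obj E, z = z' := ⟨z, rfl⟩
      show T.map m₄ ≫ T.map m₃ ≫ z = 0
      rw [← Category.assoc, z₃', zero_comp]
  · intro n
    obtain ⟨n, rfl⟩ : ∃ n' : Z₁ ⟶ E, n = n' := ⟨n, rfl⟩
    show T.map m₁ ≫ 𝟙 _ ≫ T.map n = 𝟙 _ ≫ T.map (m₁ ≫ n)
    rw [Category.id_comp, Category.id_comp, T.map_comp]
  · intro n
    obtain ⟨n, rfl⟩ : ∃ n' : Z₂ ⟶ E, n = n' := ⟨n, rfl⟩
    show T.map m₂ ≫ 𝟙 _ ≫ T.map n = 𝟙 _ ≫ T.map (m₂ ≫ n)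
    rw [Category.id_comp, Category.id_comp, T.map_comp]
  · intro n
    obtain ⟨n, rfl⟩ : ∃ n' : Z₃ ⟶ E, n = n' := ⟨n, rfl⟩
    show T.map m₃ ≫ 𝟙 _ ≫ T.map n = 𝟙 _ ≫ T.map (m₃ ≫ n)
    rw [Category.id_comp, Category.id_comp, T.map_comp]
  · intro n
    obtain ⟨n, rfl⟩ : ∃ n' : Z₄ ⟶ E, n = n' := ⟨n, rfl⟩
    show T.map m₄ ≫ 𝟙 _ ≫ T.map n = 𝟙 _ ≫ T.map (m₄ ≫ n)
    rw [Category.id_comp, Category.id_comp, T.map_comp]

/-- binary biproducts -/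
theorem inC_biprod [Module.Flat A B] [HasZeroObject 𝒴] (hT : SemiLin A B T) {E Q₁ Q₂ : 𝒴}
    [HasBinaryBiproduct Q₁ Q₂] (h₁ : InC A B T E Q₁) (h₂ : InC A B T E Q₂) :
    InC A B T E (Q₁ ⊞ Q₂) := by
  have hdec : biprod.fst ≫ biprod.inl + biprod.snd ≫ biprod.inr = 𝟙 (Q₁ ⊞ Q₂) := biprod.total
  have hdec' : T.map (biprod.fst : Q₁ ⊞ Q₂ ⟶ Q₁) ≫ T.map biprod.inl +
      T.map (biprod.snd : Q₁ ⊞ Q₂ ⟶ Q₂) ≫ T.map biprod.inr = 𝟙 (T.obj (Q₁ ⊞ Q₂)) := by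
    rw [← T.map_comp, ← T.map_comp, ← T.map_add, hdec, T.map_id]
  refine inC_five hT (0 : Q₂ ⟶ (0 : 𝒴)) (biprod.snd : Q₁ ⊞ Q₂ ⟶ Q₂) (biprod.inl : Q₁ ⟶ Q₁ ⊞ Q₂)
    (0 : (0 : 𝒴) ⟶ Q₁) comp_zero biprod.inl_snd zero_comp ?_ ?_ ?_ ?_ ?_ ?_
    (inC_of_isZero hT (isZero_zero _)) h₂ h₁ (inC_of_isZero hT (isZero_zero _))
  · intro y hy
    refine ⟨0, ?_⟩
    have e : y = (biprod.inr : Q₂ ⟶ Q₁ ⊞ Q₂) ≫ biprod.snd ≫ y := by
      rw [biprod.inr_snd_assoc]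
    rw [comp_zero, e, hy, comp_zero]
  · intro y hy
    refine ⟨biprod.inr ≫ y, ?_⟩
    have e : y = (biprod.fst ≫ biprod.inl + biprod.snd ≫ biprod.inr) ≫ y := by
      rw [hdec, Category.id_comp]
    rw [Preadditive.add_comp, Category.assoc, Category.assoc, hy, comp_zero, zero_add] at e
    exact e
  · intro y _
    refine ⟨biprod.fst ≫ y, ?_⟩
    rw [biprod.inl_fst_assoc]
  · intro y hy
    refine ⟨0, ?_⟩
    have e : T.map (biprod.inr : Q₂ ⟶ Q₁ ⊞ Q₂) ≫ T.map biprod.snd = 𝟙 _ := by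
      rw [← T.map_comp, biprod.inr_snd, T.map_id]
    rw [comp_zero, ← Category.id_comp y, ← e, Category.assoc, hy, comp_zero]
  · intro y hy
    refine ⟨T.map biprod.inr ≫ y, ?_⟩
    have e : y = (T.map (biprod.fst : Q₁ ⊞ Q₂ ⟶ Q₁) ≫ T.map biprod.inl +
        T.map (biprod.snd : Q₁ ⊞ Q₂ ⟶ Q₂) ≫ T.map biprod.inr) ≫ y := by
      rw [hdec', Category.id_comp]
    rw [Preadditive.add_comp, Category.assoc, Category.assoc, hy, comp_zero, zero_add] at e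
    exact e
  · intro y _
    refine ⟨T.map biprod.fst ≫ y, ?_⟩
    rw [← T.map_comp_assoc, biprod.inl_fst, T.map_id, Category.id_comp]

end cls

section tri

variable {A B : Type*} [CommRing A] [CommRing B] [Algebra A B] [Module.Flat A B]
  {𝒴 𝒴' : Type*} [Category 𝒴] [Category 𝒴'] [Preadditive 𝒴] [Preadditive 𝒴'] [Linear A 𝒴] [Linear B 𝒴']
  [HasZeroObject 𝒴] [HasZeroObject 𝒴'] [HasShift 𝒴 ℤ] [HasShift 𝒴' ℤ]
  [∀ n : ℤ, (shiftFunctor 𝒴 n).Additive] [∀ n : ℤ, (shiftFunctor 𝒴' n).Additive]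
  [Pretriangulated 𝒴] [Pretriangulated 𝒴']
  {T : 𝒴 ⥤ 𝒴'} [T.Additive] [T.CommShift ℤ] [T.IsTriangulated]

/-- the third vertex of a distinguished triangle -/
theorem inC_of_triangle (hT : SemiLin A B T) (t : Triangle 𝒴) (ht : t ∈ distTriang 𝒴) (E : 𝒴)
    (h₁ : InC A B T E t.obj₁) (h₂ : InC A B T E t.obj₂)
    (h₁' : InC A B T E (t.obj₁⟦(1 : ℤ)⟧)) (h₂' : InC A B T E (t.obj₂⟦(1 : ℤ)⟧)) :
    InC A B T E t.obj₃ := by
  have hr := rot_of_distTriang _ ht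
  have ht' := T.map_distinguished _ ht
  have hr' := T.map_distinguished _ hr
  refine inC_five hT (t.rotate.mor₃) t.mor₃ t.mor₂ t.mor₁ (comp_distTriang_mor_zero₂₃ _ hr)
    (comp_distTriang_mor_zero₂₃ _ ht) (comp_distTriang_mor_zero₁₂ _ ht) ?_ ?_ ?_ ?_ ?_ ?_ h₂' h₁' h₂ h₁
  · intro y hy
    exact Triangle.yoneda_exact₃ _ hr y hy
  · intro y hy
    exact Triangle.yoneda_exact₃ _ ht y hy
  · intro y hy
    exact Triangle.yoneda_exact₂ _ ht y hy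
  · intro y hy
    obtain ⟨z, hz⟩ := Triangle.yoneda_exact₃ _ hr' y hy
    refine ⟨(T.commShiftIso (1 : ℤ)).hom.app _ ≫ z, ?_⟩
    rw [hz]
    exact Category.assoc _ _ _
  · intro y hy
    obtain ⟨z, hz⟩ := Triangle.yoneda_exact₃ _ ht' y hy
    refine ⟨(T.commShiftIso (1 : ℤ)).hom.app _ ≫ z, ?_⟩
    rw [hz]
    exact Category.assoc _ _ _
  · intro y hy
    exact Triangle.yoneda_exact₂ _ ht' y hy

end tri

section loc

variable {A B : Type*} [CommRing A] [CommRing B] [Algebra A B]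
  {𝒴 𝒴' 𝒱 𝒱' : Type*} [Category 𝒴] [Category 𝒴'] [Category 𝒱] [Category 𝒱']
  [Preadditive 𝒴] [Preadditive 𝒴'] [Preadditive 𝒱] [Preadditive 𝒱']
  [Linear A 𝒴] [Linear B 𝒴'] [Linear A 𝒱] [Linear B 𝒱']
  (T : 𝒴 ⥤ 𝒴') [T.Additive] (TV : 𝒱 ⥤ 𝒱') [TV.Additive]
  {Ks : 𝒱 ⥤ 𝒴} {Kr : 𝒴 ⥤ 𝒱} {Ks' : 𝒱' ⥤ 𝒴'} {Kr' : 𝒴' ⥤ 𝒱'}
  [Ks.Additive] [Kr.Additive] [Ks'.Additive] [Kr'.Additive]
  (adjk : Ks ⊣ Kr) (adjk' : Ks' ⊣ Kr') (ν : T ⋙ Kr' ≅ Kr ⋙ TV) (P₀ : 𝒱)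

/-- the canonical map `Ks' (TV P₀) ⟶ T (Ks P₀)` -/
noncomputable def cLoc : Ks'.obj (TV.obj P₀) ⟶ T.obj (Ks.obj P₀) :=
  (adjk'.homEquiv _ _).symm (TV.map (adjk.unit.app P₀) ≫ ν.inv.app (Ks.obj P₀))

lemma unit_map_cLoc :
    adjk'.unit.app (TV.obj P₀) ≫ Kr'.map (cLoc T TV adjk adjk' ν P₀) =
      TV.map (adjk.unit.app P₀) ≫ ν.inv.app (Ks.obj P₀) := by
  have h := (adjk'.homEquiv _ _).apply_symm_apply
    (TV.map (adjk.unit.app P₀) ≫ ν.inv.app (Ks.obj P₀))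
  rw [Adjunction.homEquiv_unit] at h
  exact h

instance isIso_map_cLoc [IsIso (adjk.unit.app P₀)] [IsIso (adjk'.unit.app (TV.obj P₀))] :
    IsIso (Kr'.map (cLoc T TV adjk adjk' ν P₀)) := by
  have h := unit_map_cLoc T TV adjk adjk' ν P₀
  have h2 : Kr'.map (cLoc T TV adjk adjk' ν P₀) =
      inv (adjk'.unit.app (TV.obj P₀)) ≫ TV.map (adjk.unit.app P₀) ≫ ν.inv.app (Ks.obj P₀) := by
    rw [← h, IsIso.inv_hom_id_assoc]
  rw [h2]
  infer_instance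

omit [Preadditive 𝒴'] in
include adjk' in
/-- a morphism `Ks' P' ⟶ M` with `M` in the essential image of `Ks'` is invertible if its image under `Kr'` is -/
lemma isIso_of_isIso_map [∀ P', IsIso (adjk'.unit.app P')] {P' P₁ : 𝒱'} {M : 𝒴'}
    (c : Ks'.obj P' ⟶ M) (i : M ≅ Ks'.obj P₁) [IsIso (Kr'.map c)] : IsIso c := by
  have : IsIso adjk'.unit := NatIso.isIso_of_isIso_app _
  let ff : Ks'.FullyFaithful := adjk'.fullyFaithfulLOfIsIsoUnit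
  obtain ⟨d, hd⟩ : ∃ d : P' ⟶ P₁, Ks'.map d = c ≫ i.hom := ⟨ff.preimage (c ≫ i.hom), ff.map_preimage _⟩
  have h1 : IsIso (Kr'.map (Ks'.map d)) := by
    rw [hd, Functor.map_comp]
    infer_instance
  have h2 : IsIso d := by
    have hn := adjk'.unit.naturality d
    simp only [Functor.id_obj, Functor.id_map, Functor.comp_obj, Functor.comp_map] at hn
    have h3 : d = adjk'.unit.app P' ≫ Kr'.map (Ks'.map d) ≫ inv (adjk'.unit.app P₁) := by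
      rw [← Category.assoc, ← hn, Category.assoc, IsIso.hom_inv_id, Category.comp_id]
    rw [h3]
    infer_instance
  have h4 : IsIso (c ≫ i.hom) := by
    rw [← hd]
    infer_instance
  exact IsIso.of_isIso_comp_right c i.hom

include adjk adjk' ν in
/-- **localisation** of `InC` along `Ks ⊣ Kr`, `Ks' ⊣ Kr'` -/
theorem inC_of_local [Kr.Linear A] [Kr'.Linear B]
    [∀ P, IsIso (adjk.unit.app P)] [∀ P', IsIso (adjk'.unit.app P')]
    (hΞ : ∃ P₁ : 𝒱', Nonempty (T.obj (Ks.obj P₀) ≅ Ks'.obj P₁))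
    (E : 𝒴) (h : InC A B TV (Kr.obj E) P₀) : InC A B T E (Ks.obj P₀) := by
  obtain ⟨P₁, ⟨i⟩⟩ := hΞ
  haveI : IsIso (cLoc T TV adjk adjk' ν P₀) := isIso_of_isIso_map adjk' _ i
  have h1 := isBCu_kap_of_local T TV adjk adjk' ν (algebraMap A (End P₀))
    (algebraMap B (End (TV.obj P₀))) (algebraMap B (End (TV.obj P₀))) (cLoc T TV adjk adjk' ν P₀)
    (fun u b => by rw [act_comp, comp_act]) E h
  refine isBCu_kap_of_iso T (𝟙 _) _ _ (mapAct Ks (algebraMap A (End P₀)))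
    (mapAct Ks' (algebraMap B (End (TV.obj P₀)))) (Iso.refl _)
    (asIso (cLoc T TV adjk adjk' ν P₀)).symm ?_ ?_ E ?_
  · intro a
    rw [Iso.refl_hom, Category.comp_id, Category.id_comp, mapAct_apply, act_apply, act_apply,
      leftAdj_map_smul_id adjk]
  · intro b
    rw [mapAct_apply, act_apply, act_apply, leftAdj_map_smul_id adjk', Linear.smul_comp,
      Linear.comp_smul, Category.id_comp, Category.comp_id]
  · have e : (asIso (cLoc T TV adjk adjk' ν P₀)).symm.inv ≫ 𝟙 _ ≫ T.map (Iso.refl (Ks.obj P₀)).hom =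
        cLoc T TV adjk adjk' ν P₀ := by
      rw [Iso.refl_hom, T.map_id, Category.comp_id, Category.comp_id]
      rfl
    rw [e]
    exact h1

end loc

end Groth.Agent.Lib.Helper25.FBCClass
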