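import Mathlib
import Groth.Prelude.Def_KLin
import Groth.Prelude.Def_DCoh2
import Groth.Agent.Lib.Helper25.PullFlatExact

/-!
# Semilinearity of `h^*` over a ring map `A → B` (helper25)

* `pushforward_map_smulModΓ`, `pullback_map_smulModΓ`: `h_*` and `h^*` map multiplication by a global function to
  multiplication by (the pullback of) that function.
* `appTop_toGlobal`: for `h : X ⟶ Y` over `Spec B ⟶ Spec A`, `h^♯ ā = (algebraMap a)‾`.
* `pullback_map_smul`: `h^* (a • x) = algebraMap A B a • h^* x` on modules.
* `mapDerivedCategory_map_smul`: the same for `(h^*).mapDerivedCategory` on `D(O_Y)`, `h` flat.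
-/

set_option autoImplicit false
universe u
open CategoryTheory AlgebraicGeometry Opposite
attribute [local instance] HasDerivedCategory.standard

namespace Groth.Agent.Lib.Helper25.FBCLin

open Scheme.Modules

section Mod

variable {X Y : Scheme.{u}} (h : X ⟶ Y)

lemma pushforward_map_smulModΓ (N : X.Modules) (r : Coh.Γtop Y) :
    (pushforward h).map (Formal.smulModΓ N (h.appTop.hom r)) =
      Formal.smulModΓ ((pushforward h).obj N) r := by
  refine Scheme.Modules.hom_ext _ _ fun U => ?_
  ext m
  rw [Scheme.Modules.pushforward_map_app]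
  change (Formal.smulModΓ N (h.appTop.hom r)).app (h ⁻¹ᵁ U) m =
    (Formal.smulModΓ ((pushforward h).obj N) r).app U m
  rw [KLin.smulModΓ_app_apply, KLin.smulModΓ_app_apply]
  have h2 := congrArg (fun φ => φ.hom r) (h.naturality (homOfLE (le_top : U ≤ ⊤)).op)
  simp only [CommRingCat.hom_comp, RingHom.coe_comp, Function.comp_apply] at h2
  have h3 : X.presheaf.map (homOfLE (le_top : h ⁻¹ᵁ U ≤ ⊤)).op (h.appTop.hom r) =
      (h.app U).hom (Y.presheaf.map (homOfLE (le_top : U ≤ ⊤)).op r) := h2.symm
  rw [h3]
  rfl

lemma pullback_map_smulModΓ (M : Y.Modules) (r : Coh.Γtop Y) :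
    (pullback h).map (Formal.smulModΓ M r) =
      Formal.smulModΓ ((pullback h).obj M) (h.appTop.hom r) := by
  apply ((pullbackPushforwardAdjunction h).homEquiv _ _).injective
  rw [Adjunction.homEquiv_unit, Adjunction.homEquiv_unit, pushforward_map_smulModΓ]
  have hn := (pullbackPushforwardAdjunction h).unit.naturality (Formal.smulModΓ M r)
  simp only [Functor.id_obj, Functor.id_map, Functor.comp_obj, Functor.comp_map] at hn
  rw [← hn]
  exact (KLin.comp_smulModΓ _ r).symm

end Mod

section Semi

variable {A B : Type u} [CommRing A] [CommRing B] [Algebra A B] {X Y : Scheme.{u}}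
  [Y.Over (Spec (CommRingCat.of A))] [X.Over (Spec (CommRingCat.of B))] (h : X ⟶ Y)
  (hcomm : h ≫ (Y ↘ Spec (CommRingCat.of A)) =
    (X ↘ Spec (CommRingCat.of B)) ≫ Spec.map (CommRingCat.ofHom (algebraMap A B)))

include hcomm in
lemma appTop_toGlobal (a : A) :
    h.appTop.hom (Coh.toGlobal (Y ↘ Spec (CommRingCat.of A)) a) =
      Coh.toGlobal (X ↘ Spec (CommRingCat.of B)) (algebraMap A B a) := by
  have h1 : (Scheme.ΓSpecIso (CommRingCat.of A)).inv ≫ (h ≫ (Y ↘ Spec (CommRingCat.of A))).appTop =
      CommRingCat.ofHom (algebraMap A B) ≫ (Scheme.ΓSpecIso (CommRingCat.of B)).inv ≫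
        (X ↘ Spec (CommRingCat.of B)).appTop := by
    rw [hcomm, Scheme.Hom.comp_appTop, ← Category.assoc, ← Scheme.ΓSpecIso_inv_naturality,
      Category.assoc]
  exact congr($(h1).hom a)

include hcomm in
lemma pullback_map_smul_id (a : A) (M : Y.Modules) :
    (pullback h).map (a • 𝟙 M) = algebraMap A B a • 𝟙 ((pullback h).obj M) := by
  rw [KLin.smul_id, KLin.smul_id]
  unfold Formal.smulMod
  rw [pullback_map_smulModΓ, appTop_toGlobal h hcomm]

include hcomm in
lemma pullback_map_smul (a : A) {M N : Y.Modules} (x : M ⟶ N) :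
    (pullback h).map (a • x) = algebraMap A B a • (pullback h).map x := by
  have e : a • x = (a • 𝟙 M) ≫ x := by rw [Linear.smul_comp, Category.id_comp]
  rw [e, Functor.map_comp, pullback_map_smul_id h hcomm, Linear.smul_comp, Category.id_comp]

variable [Flat h]

include hcomm in
/-- `(h^*).mapDerivedCategory` is semilinear over `A → B` -/
theorem mapDerivedCategory_map_smul {E F : DCoh.D Y} (a : A) (x : E ⟶ F) :
    (pullback h).mapDerivedCategory.map (a • x) =
      algebraMap A B a • (pullback h).mapDerivedCategory.map x := by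
  have key : ∀ E : DCoh.D Y, (pullback h).mapDerivedCategory.map (a • 𝟙 E) =
      algebraMap A B a • 𝟙 ((pullback h).mapDerivedCategory.obj E) := by
    intro E
    obtain ⟨K, ⟨e⟩⟩ : ∃ K : CochainComplex Y.Modules ℤ, Nonempty (DerivedCategory.Q.obj K ≅ E) :=
      ⟨_, ⟨DerivedCategory.Q.objObjPreimageIso E⟩⟩
    have h1 : a • 𝟙 E = e.inv ≫ DerivedCategory.Q.map (a • 𝟙 K) ≫ e.hom := by
      rw [Functor.map_smul, CategoryTheory.Functor.map_id, Linear.smul_comp, Linear.comp_smul,
        Category.id_comp, Iso.inv_hom_id]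
    have h2 : ((pullback h).mapHomologicalComplex (ComplexShape.up ℤ)).map (a • 𝟙 K) =
        algebraMap A B a • 𝟙 _ := by
      refine HomologicalComplex.hom_ext _ _ (fun i => ?_)
      simp only [Functor.mapHomologicalComplex_map_f, HomologicalComplex.smul_f_apply,
        HomologicalComplex.id_f]
      exact pullback_map_smul_id h hcomm a (K.X i)
    have h3 := (pullback h).mapDerivedCategoryFactors.hom.naturality (a • 𝟙 K)
    simp only [Functor.comp_map] at h3
    have h4 : (pullback h).mapDerivedCategory.map (DerivedCategory.Q.map (a • 𝟙 K)) =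
        algebraMap A B a • 𝟙 _ := by
      rw [← cancel_mono ((pullback h).mapDerivedCategoryFactors.hom.app K), h3, h2, Functor.map_smul,
        CategoryTheory.Functor.map_id, Linear.comp_smul, Linear.smul_comp]
      congr 1
      exact (Category.comp_id _).trans (Category.id_comp _).symm
    rw [h1, Functor.map_comp, Functor.map_comp, h4, Linear.smul_comp, Linear.comp_smul,
      Category.id_comp, ← Functor.map_comp, Iso.inv_hom_id, CategoryTheory.Functor.map_id]
  have e : a • x = (a • 𝟙 E) ≫ x := by rw [Linear.smul_comp, Category.id_comp]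
  rw [e, Functor.map_comp, key, Linear.smul_comp, Category.id_comp]

end Semi

end Groth.Agent.Lib.Helper25.FBCLin
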