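import Mathlib
import Groth.Agent.Lib.Helper25.FBCBase1
import Groth.Agent.Lib.Helper25.FBCIso
import Groth.Agent.Lib.Helper25.FBCLin
import Groth.Agent.Lib.Helper25.FBCClass
import Groth.Agent.Lib.Helper25.QCCRpush
import Groth.Agent.Lib.Helper25.ApproxAffine
import Groth.Agent.Lib.Helper25.KLinRestrict
import Groth.Agent.Lib.Helper8.FlatCohBC4

/-!
# Flat base change for `Hom(O[-n], E)` on affine schemes (helper25)

`h : Y' ⟶ Y` a flat morphism of affine schemes, `T = (h^*).mapDerivedCategory`.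

* `s2 h n`: the section `θ⁻¹ (ρ gen)` of `H^n (T O_Y[-n])`; `isUniv_s2`; `bijective_ev2`: evaluation of `H^n(y)` at `s2` is a
  bijection `Hom(T O_Y[-n], K) → Γ(Y', H^n K)` for `K ∈ D_QCoh(Y')`.
* `isQCohD_mapDC`: `T` preserves `D_QCoh`.
* `isBCu_ρt`: for `Y' = Y ×_A B`, `ρ : Γ(Y, M) → Γ(Y', h^* M)` is a base change along `A → B` (`M` quasi-coherent).
* `inC_Sp_of_isAffine`: the base case of flat base change: `T : Hom(O_Y[-n], E) → Hom(T O_Y[-n], T E)` is a base change
  along `A → B` for `E ∈ D_QCoh(Y)`.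
-/

set_option autoImplicit false
universe u
open CategoryTheory AlgebraicGeometry Opposite
attribute [local instance] HasDerivedCategory.standard

namespace Groth.Agent.Lib.Helper25.FBCBase

open Groth.Agent.Lib.Helper25.QCCEv Groth.Agent.Lib.Helper25.FBCIso DerivedCategory
  Groth.Agent.Lib.Helper25.FBCAlg Groth.Agent.Lib.Helper25.FBCHom Groth.Agent.Lib.Helper25.FBCClass

lemma isQCohD_of_iso {X : Scheme.{u}} {K K' : DCoh.D X} (e : K ≅ K') (hK : DCoh.IsQCohD K) :
    DCoh.IsQCohD K' := by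
  intro i
  haveI : (DCoh.HD K i).IsQuasicoherent := hK i
  exact Groth.Agent.Lib.helper16.QCohFibre.isQuasicoherent_of_iso
    ((homologyFunctor X.Modules i).mapIso e)

lemma isUniv_gen (Z : Scheme.{u}) (n : ℤ) : IsUniv (DCoh.HD (Sp Z n) n) (gen Z n) :=
  isUniv_one.of_iso ((singleFunctorCompHomologyFunctorIso Z.Modules n).symm.app (Coh.structureModule Z))

section ev2

variable {Y' Y : Scheme.{u}} (h : Y' ⟶ Y) [Flat h] (n : ℤ)

/-- `T` preserves `D_QCoh` -/
lemma isQCohD_mapDC (E : DCoh.D Y) (hE : DCoh.IsQCohD E) :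
    DCoh.IsQCohD ((Scheme.Modules.pullback h).mapDerivedCategory.obj E) := by
  intro i
  haveI : (DCoh.HD E i).IsQuasicoherent := hE i
  have h2 : ((Scheme.Modules.pullback h).obj (DCoh.HD E i)).IsQuasicoherent :=
    Groth.Agent.Lib.helper16.QCohPullback.isQuasicoherent_pullback h (DCoh.HD E i)
  exact Groth.Agent.Lib.helper16.QCohFibre.isQuasicoherent_of_iso (hA := h2)
    ((homologyNatIso (Scheme.Modules.pullback h) i).symm.app E)

/-- the universal section of `H^n (T O_Y[-n])` -/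
noncomputable def s2 :
    (DCoh.HD ((Scheme.Modules.pullback h).mapDerivedCategory.obj (Sp Y n)) n).val.obj (op ⊤) :=
  ((homologyNatIso (Scheme.Modules.pullback h) n).inv.app (Sp Y n)).val.app (op ⊤)
    (ρt h (DCoh.HD (Sp Y n) n) (gen Y n))

lemma isUniv_s2 :
    IsUniv (DCoh.HD ((Scheme.Modules.pullback h).mapDerivedCategory.obj (Sp Y n)) n) (s2 h n) :=
  ((isUniv_gen Y n).pull h).of_iso ((homologyNatIso (Scheme.Modules.pullback h) n).symm.app (Sp Y n))

lemma isIso_of_isZero {C : Type*} [Category C] [Limits.HasZeroMorphisms C] {P Q : C} (f : P ⟶ Q)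
    (hP : Limits.IsZero P) (hQ : Limits.IsZero Q) : IsIso f :=
  ⟨0, hP.eq_of_src _ _, hQ.eq_of_src _ _⟩

variable [IsAffine Y']

/-- evaluation at `s2` is bijective on `D_QCoh(Y')` -/
theorem bijective_ev2 (K : DCoh.D Y') (hK : DCoh.IsQCohD K) :
    Function.Bijective (fun y : (Scheme.Modules.pullback h).mapDerivedCategory.obj (Sp Y n) ⟶ K =>
      ((homologyFunctor Y'.Modules n).map y).val.app (op ⊤) (s2 h n)) := by
  obtain ⟨ι⟩ := nonempty_mapDC_Sp_iso h n
  have hTS : DCoh.IsQCohD ((Scheme.Modules.pullback h).mapDerivedCategory.obj (Sp Y n)) :=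
    isQCohD_of_iso ι.symm (Groth.Agent.Lib.Helper25.ApproxAffine.isQCohD_of_isPerfect
      (Groth.Agent.Lib.Helper25.QCCRpush.isPerfect_Sp Y' n))
  obtain ⟨y₀, hy₀⟩ := (bijective_ev n _ hTS).2 (s2 h n)
  have h1 : IsIso ((homologyFunctor Y'.Modules n).map y₀) :=
    IsUniv.isIso_of_map (isUniv_gen Y' n) (isUniv_s2 h n) _ hy₀
  have h2 : IsIso y₀ := by
    rw [DerivedCategory.isIso_iff]
    intro m
    by_cases hm : m = n
    · subst hm
      exact h1
    · have hz : Limits.IsZero ((homologyFunctor Y'.Modules m).obj (Sp Y' n)) := by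
        rcases lt_or_gt_of_ne hm with hlt | hgt
        · exact isZero_of_isGE _ n m hlt
        · exact isZero_of_isLE _ n m hgt
      exact isIso_of_isZero _ hz
        (Limits.IsZero.of_iso hz ((homologyFunctor Y'.Modules m).mapIso ι))
  have h3 : (fun y : (Scheme.Modules.pullback h).mapDerivedCategory.obj (Sp Y n) ⟶ K =>
      ((homologyFunctor Y'.Modules n).map y).val.app (op ⊤) (s2 h n)) =
      (ev n (K := K)) ∘ (fun y => y₀ ≫ y) := by
    funext y
    rw [← hy₀]
    exact (ev_comp n y₀ y).symm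
  rw [h3]
  exact (bijective_ev n K hK).comp
    ⟨fun a b hab => (cancel_epi y₀).1 hab, fun z => ⟨inv y₀ ≫ z, by simp⟩⟩

end ev2

section main

open Groth.Agent.Lib.helper8.PullbackUnit Groth.Agent.Lib.helper8.FlatCohBC
  Groth.Agent.Lib.helper8.FlatBC

variable {A B : Type u} [CommRing A] [CommRing B] [Algebra A B]
  {Y Y' : Scheme.{u}} [Y.Over (Spec (CommRingCat.of A))] [Y'.Over (Spec (CommRingCat.of B))] (h : Y' ⟶ Y)
  (hpb : IsPullback h (Y' ↘ Spec (CommRingCat.of B)) (Y ↘ Spec (CommRingCat.of A))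
    (Spec.map (CommRingCat.ofHom (algebraMap A B))))

lemma secAlg_top {R : Type u} [CommRing R] {Z : Scheme.{u}} (fZ : Z ⟶ Spec (CommRingCat.of R)) (r : R) :
    secAlg fZ ⊤ r = Coh.toGlobal fZ r := by
  show (Z.ringCatSheaf.obj.map (homOfLE (le_top : (⊤ : Z.Opens) ≤ ⊤)).op).hom (Coh.toGlobal fZ r) = _
  rw [show (homOfLE (le_top : (⊤ : Z.Opens) ≤ ⊤)).op = 𝟙 (op ⊤) from rfl, Z.ringCatSheaf.obj.map_id]
  rfl

include hpb in
/-- **base case of flat base change** (affine schemes) -/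
theorem inC_Sp_of_isAffine [IsAffine Y] [IsAffine Y'] [Flat h] (n : ℤ) (E : DCoh.D Y)
    (hE : DCoh.IsQCohD E) :
    InC A B (Scheme.Modules.pullback h).mapDerivedCategory E (Sp Y n) := by
  haveI hMq : (DCoh.HD E n).IsQuasicoherent := hE n
  letI mA : Module A Γ(DCoh.HD E n, ⊤) :=
    Module.compHom Γ(DCoh.HD E n, ⊤) (secAlg (Y ↘ Spec (CommRingCat.of A)) ⊤)
  letI mB : Module B Γ((Scheme.Modules.pullback h).obj (DCoh.HD E n), ⊤) :=
    Module.compHom Γ((Scheme.Modules.pullback h).obj (DCoh.HD E n), ⊤)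
      (secAlg (Y' ↘ Spec (CommRingCat.of B)) ⊤)
  -- the module level statement
  have hρ : IsBCu (A := A) (B := B) (ρt h (DCoh.HD E n)) := by
    have hK := isBC_ρ h (isAffineOpen_top Y) (isAffineOpen_top Y') le_top (DCoh.HD E n)
    have hpo : IsPushout (CommRingCat.ofHom (algebraMap A B))
        (CommRingCat.ofHom (secAlg (Y ↘ Spec (CommRingCat.of A)) ⊤))
        (CommRingCat.ofHom (secAlg (Y' ↘ Spec (CommRingCat.of B)) ⊤))
        (CommRingCat.ofHom (h.appLE ⊤ ⊤ le_top).hom) :=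
      isPushout_sections (Y ↘ Spec (CommRingCat.of A)) (Y' ↘ Spec (CommRingCat.of B)) h hpb ⊤
        (isAffineOpen_top Y)
    have h2 := @IsBC.cancel' _ _ _ _ _ _ _ _ _ _ _ _ hpo Γ(DCoh.HD E n, ⊤)
      Γ((Scheme.Modules.pullback h).obj (DCoh.HD E n), ⊤) _ _ mA _ _ mB (fun r n => rfl)
      (fun r p => rfl) _ hK
    exact ⟨h2.map_smul, (isBC_iff_bijective_tlift _ h2.map_smul).mp h2⟩
  let θ := homologyNatIso (Scheme.Modules.pullback h) n
  -- the equivalence on `Y`
  let ev1 : (Sp Y n ⟶ E) → Γ(DCoh.HD E n, ⊤) := fun σ => ev n σ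
  have ev1_smul : ∀ (a : A) (σ : Sp Y n ⟶ E),
      ev1 (a • σ) = secAlg (Y ↘ Spec (CommRingCat.of A)) ⊤ a • ev1 σ := by
    intro a σ
    rw [secAlg_top]
    exact Groth.Agent.Lib.Helper25.KLinRestrict.ev_smul A n a σ
  let eN0 : Hm (algebraMap A (End (Sp Y n))) E →ₗ[A] Γ(DCoh.HD E n, ⊤) :=
    { toFun := fun σ => ev1 σ
      map_add' := fun σ τ => ev_add n (σ : Sp Y n ⟶ E) (τ : Sp Y n ⟶ E)
      map_smul' := fun a σ => by
        show ev1 ((algebraMap A (End (Sp Y n)) a : Sp Y n ⟶ Sp Y n) ≫ (σ : Sp Y n ⟶ E)) = _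
        rw [act_comp]
        exact ev1_smul a σ }
  let eN : Hm (algebraMap A (End (Sp Y n))) E ≃ₗ[A] Γ(DCoh.HD E n, ⊤) :=
    LinearEquiv.ofBijective eN0 (bijective_ev n E hE)
  -- the equivalence on `Y'`
  let ev2 : ((Scheme.Modules.pullback h).mapDerivedCategory.obj (Sp Y n) ⟶
      (Scheme.Modules.pullback h).mapDerivedCategory.obj E) →
      Γ((Scheme.Modules.pullback h).obj (DCoh.HD E n), ⊤) := fun y =>
    (θ.hom.app E).val.app (op ⊤) (((homologyFunctor Y'.Modules n).map y).val.app (op ⊤) (s2 h n))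
  have hbij : Function.Bijective ev2 :=
    (bijective_app_of_isIso (θ.hom.app E) ⊤).comp
      (bijective_ev2 h n _ (isQCohD_mapDC h E hE))
  have ev2_add : ∀ y z, ev2 (y + z) = ev2 y + ev2 z := by
    intro y z
    show (θ.hom.app E).val.app (op ⊤) (((homologyFunctor Y'.Modules n).map (y + z)).val.app
      (op ⊤) (s2 h n)) = _
    rw [Functor.map_add]
    exact map_add ((θ.hom.app E).val.app (op ⊤)).hom _ _
  have ev2_smul : ∀ (b : B) y, ev2 (b • y) = secAlg (Y' ↘ Spec (CommRingCat.of B)) ⊤ b • ev2 y := by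
    intro b y
    show (θ.hom.app E).val.app (op ⊤) (((homologyFunctor Y'.Modules n).map (b • y)).val.app
      (op ⊤) (s2 h n)) = _
    rw [Functor.map_smul]
    have h1 := KLin.smul_app_apply b ((homologyFunctor Y'.Modules n).map y) ⊤ (s2 h n)
    have h3 : ((b • (homologyFunctor Y'.Modules n).map y).val.app (op ⊤)) (s2 h n) =
        (show Γ(Y', ⊤) from secAlg (Y' ↘ Spec (CommRingCat.of B)) ⊤ b) •
          (show Γ(DCoh.HD ((Scheme.Modules.pullback h).mapDerivedCategory.obj E) n, ⊤) from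
            ((homologyFunctor Y'.Modules n).map y).val.app (op ⊤) (s2 h n)) := h1
    rw [h3]
    exact map_smul ((θ.hom.app E).val.app (op ⊤)).hom _ _
  let eP0 : Hm (algebraMap B (End ((Scheme.Modules.pullback h).mapDerivedCategory.obj (Sp Y n))))
      ((Scheme.Modules.pullback h).mapDerivedCategory.obj E) →ₗ[B]
      Γ((Scheme.Modules.pullback h).obj (DCoh.HD E n), ⊤) :=
    { toFun := fun y => ev2 y
      map_add' := fun y z => ev2_add y z
      map_smul' := fun b y => by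
        show ev2 ((algebraMap B (End ((Scheme.Modules.pullback h).mapDerivedCategory.obj (Sp Y n))) b :
          (Scheme.Modules.pullback h).mapDerivedCategory.obj (Sp Y n) ⟶ _) ≫
            (y : (Scheme.Modules.pullback h).mapDerivedCategory.obj (Sp Y n) ⟶
              (Scheme.Modules.pullback h).mapDerivedCategory.obj E)) = _
        rw [act_comp]
        exact ev2_smul b y }
  let eP : Hm (algebraMap B (End ((Scheme.Modules.pullback h).mapDerivedCategory.obj (Sp Y n))))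
      ((Scheme.Modules.pullback h).mapDerivedCategory.obj E) ≃ₗ[B]
      Γ((Scheme.Modules.pullback h).obj (DCoh.HD E n), ⊤) :=
    LinearEquiv.ofBijective eP0 hbij
  refine hρ.of_equiv eN eP _ (fun x => ?_)
  obtain ⟨x, rfl⟩ : ∃ x' : Sp Y n ⟶ E, x = x' := ⟨x, rfl⟩
  show (θ.hom.app E).val.app (op ⊤) (((homologyFunctor Y'.Modules n).map
      (𝟙 _ ≫ (Scheme.Modules.pullback h).mapDerivedCategory.map x)).val.app (op ⊤) (s2 h n)) =
    ρt h (DCoh.HD E n) (ev n x)
  rw [Category.id_comp]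
  have hnat := θ.hom.naturality x
  have h4 : (θ.hom.app E).val.app (op ⊤) (((homologyFunctor Y'.Modules n).map
      ((Scheme.Modules.pullback h).mapDerivedCategory.map x)).val.app (op ⊤) (s2 h n)) =
      ((Scheme.Modules.pullback h).map ((homologyFunctor Y.Modules n).map x)).val.app (op ⊤)
        ((θ.hom.app (Sp Y n)).val.app (op ⊤) (s2 h n)) :=
    congrArg (fun k : (DCoh.HD ((Scheme.Modules.pullback h).mapDerivedCategory.obj (Sp Y n)) n) ⟶
      (Scheme.Modules.pullback h).obj (DCoh.HD E n) => k.val.app (op ⊤) (s2 h n)) hnat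
  rw [h4]
  have h5 : (θ.hom.app (Sp Y n)).val.app (op ⊤) (s2 h n) =
      ρt h (DCoh.HD (Sp Y n) n) (gen Y n) :=
    congrArg (fun k : (Scheme.Modules.pullback h).obj (DCoh.HD (Sp Y n) n) ⟶
      (Scheme.Modules.pullback h).obj (DCoh.HD (Sp Y n) n) =>
        k.val.app (op ⊤) (ρt h (DCoh.HD (Sp Y n) n) (gen Y n))) (θ.inv_hom_id_app (Sp Y n))
  rw [h5]
  exact ρt_naturality h ((homologyFunctor Y.Modules n).map x) (gen Y n)

end main

end Groth.Agent.Lib.Helper25.FBCBase
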