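import Mathlib
import Groth.Agent.Lib.Helper25.FBCIso
import Groth.Agent.Lib.Helper25.DetectBasis
import Groth.Agent.Lib.Helper25.QCCRpush

/-!
# Detecting isomorphisms in `D(O_S)` by the objects `j_{V!} O_V[-n]` (helper25)

`isIso_of_bijective_comp`: a morphism `φ : T₁ ⟶ T₂` of `D(O_S)` such that composition with `φ` is bijective on
`Hom(j_{V!} O_V[-n], -)` for all `V` in a basis of opens and all `n` is an isomorphism (no quasi-coherence needed:
`DetectBasis.isZero_of_basis` applied to the cone).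
-/

set_option autoImplicit false
universe u
open CategoryTheory AlgebraicGeometry Opposite
attribute [local instance] HasDerivedCategory.standard

namespace Groth.Agent.Lib.Helper25.FBCDet

open Groth.Agent.Lib.Helper25.QCCEv Groth.Agent.Lib.Helper25.FBCIso DerivedCategory Pretriangulated
  Groth.Agent.Lib.Helper25.QCCRpush TopologicalSpace

lemma bijective_comp_of_iso {C : Type*} [Category C] {X X' T₁ T₂ : C} (φ : T₁ ⟶ T₂) (ε : X ≅ X')
    (h : Function.Bijective (fun y : X' ⟶ T₁ => y ≫ φ)) :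
    Function.Bijective (fun y : X ⟶ T₁ => y ≫ φ) := by
  have h1 : Function.Bijective (fun y : X ⟶ T₁ => ε.inv ≫ y) :=
    ⟨fun a b hab => (cancel_epi ε.inv).1 hab, fun z => ⟨ε.hom ≫ z, by simp⟩⟩
  have h2 : Function.Bijective (fun y : X' ⟶ T₂ => ε.hom ≫ y) :=
    ⟨fun a b hab => (cancel_epi ε.hom).1 hab, fun z => ⟨ε.inv ≫ z, by simp⟩⟩
  have h3 : (fun y : X ⟶ T₁ => y ≫ φ) =
      (fun y : X' ⟶ T₂ => ε.hom ≫ y) ∘ (fun y : X' ⟶ T₁ => y ≫ φ) ∘ (fun y : X ⟶ T₁ => ε.inv ≫ y) := by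
    funext y
    simp
  rw [h3]
  exact h2.comp (h.comp h1)

variable {S : Scheme.{u}}

/-- **detection of isomorphisms** -/
theorem isIso_of_bijective_comp {T₁ T₂ : DCoh.D S} (φ : T₁ ⟶ T₂) (𝓑 : Set S.Opens)
    (h𝓑 : Opens.IsBasis 𝓑)
    (hb : ∀ V ∈ 𝓑, ∀ n : ℤ,
      haveI := Groth.Agent.Lib.Helper25.MVSupp.preservesFiniteLimits_extZero V
      Function.Bijective (fun y : (CxOX.extZeroD V.ι).obj (Sp V n) ⟶ T₁ => y ≫ φ)) :
    IsIso φ := by
  obtain ⟨C, c, d, hT⟩ := distinguished_cocone_triangle φ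
  have hC0 : Limits.IsZero C := by
    apply Groth.Agent.Lib.Helper25.DetectBasis.isZero_of_basis 𝓑 h𝓑 C
    intro V hV n ψ
    haveI := Groth.Agent.Lib.Helper25.MVSupp.preservesFiniteLimits_extZero V
    let adjV : CxOX.extZeroD V.ι ⊣ DCoh.restrictD V.ι := adjExt V
    let G := (CxOX.extZeroD V.ι).obj (Sp V n)
    suffices hφ : ∀ χ : G ⟶ C, χ = 0 by
      have h2 := congrArg (adjV.homEquiv _ _) (hφ ((adjV.homEquiv _ _).symm ψ))
      rw [Equiv.apply_symm_apply] at h2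
      rw [h2]
      exact homEquiv_zero adjV _ _
    intro χ
    have hb0 := hb V hV n
    obtain ⟨s⟩ := nonempty_shift_Sp_iso V n (-1) (n + 1) (by omega)
    have hb1 : Function.Bijective
        (fun y : (CxOX.extZeroD V.ι).obj ((Sp V n)⟦(-1 : ℤ)⟧) ⟶ T₁ => y ≫ φ) :=
      bijective_comp_of_iso φ ((CxOX.extZeroD V.ι).mapIso s) (hb V hV (n + 1))
    have h1 : χ ≫ d = 0 := by
      let adjS : shiftFunctor (DCoh.D S) (-1 : ℤ) ⊣ shiftFunctor (DCoh.D S) (1 : ℤ) :=
        (shiftEquiv' (DCoh.D S) (-1 : ℤ) 1 (by omega)).toAdjunction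
      let y' : G⟦(-1 : ℤ)⟧ ⟶ T₁ := (adjS.homEquiv G T₁).symm (χ ≫ d)
      have hy' : y' ≫ φ = 0 := by
        have h3 := adjS.homEquiv_naturality_right_symm (χ ≫ d) φ
        have h4 : (χ ≫ d) ≫ (shiftFunctor (DCoh.D S) (1 : ℤ)).map φ = 0 := by
          rw [Category.assoc]
          have h6 : d ≫ (shiftFunctor (DCoh.D S) (1 : ℤ)).map φ = 0 :=
            comp_distTriang_mor_zero₃₁ _ hT
          rw [h6, Limits.comp_zero]
        rw [← h3, h4]
        exact homEquiv_symm_zero adjS _ _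
      let eG : (CxOX.extZeroD V.ι).obj ((Sp V n)⟦(-1 : ℤ)⟧) ≅ G⟦(-1 : ℤ)⟧ :=
        ((CxOX.extZeroD V.ι).commShiftIso (-1 : ℤ)).app (Sp V n)
      have h0 : eG.hom ≫ y' = 0 := hb1.1 (by
        change (eG.hom ≫ y') ≫ φ = 0 ≫ φ
        rw [Category.assoc, hy', Limits.comp_zero, Limits.zero_comp])
      have hy0 : y' = 0 := by
        rw [← cancel_epi eG.hom, h0, Limits.comp_zero]
      have h5 := congrArg (adjS.homEquiv G T₁) hy0
      rw [Equiv.apply_symm_apply] at h5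
      rw [h5]
      exact homEquiv_zero adjS _ _
    obtain ⟨z, hz⟩ := Triangle.coyoneda_exact₃ _ hT χ h1
    obtain ⟨y, hy⟩ := hb0.2 z
    have h12 : φ ≫ c = 0 := comp_distTriang_mor_zero₁₂ _ hT
    have hz' : χ = z ≫ c := hz
    have hy' : y ≫ φ = z := hy
    exact hz'.trans ((congrArg (fun w => w ≫ c) hy'.symm).trans ((Category.assoc y φ c).trans
      ((congrArg (fun w => y ≫ w) h12).trans Limits.comp_zero)))
  exact (Triangle.isZero₃_iff_isIso₁ _ hT).1 hC0

end Groth.Agent.Lib.Helper25.FBCDet
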