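import Mathlib
import Groth.Agent.Lib.Helper25.FBCBase2
import Groth.Agent.Lib.Helper25.QcqsInduction
import Groth.Agent.Lib.Helper25.RGZ4
import Groth.Agent.Lib.Helper25.MVShriek

/-!
# Flat base change for `Hom(O[-n], E)` on quasi-compact quasi-separated schemes (helper25)

`A → B` flat, `Y` quasi-compact quasi-separated over `Spec A`, `h : Y' ⟶ Y` exhibiting `Y' = Y ×_A B`,
`T = (h^*).mapDerivedCategory`.  Then for `E ∈ D_QCoh(Y)` the map `T : Hom(O_Y[-n], E) → Hom(T O_Y[-n], T E)` is a base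
change along `A → B` (`inC_Sp`).  Mayer–Vietoris induction (`QcqsInduction.qcqs_induction`) from the affine case
`FBCBase.inC_Sp_of_isAffine`, with the closure properties of `FBCClass`.
-/

set_option autoImplicit false
universe u
open CategoryTheory AlgebraicGeometry Opposite
attribute [local instance] HasDerivedCategory.standard

namespace Groth.Agent.Lib.Helper25.FBCHyp

open Groth.Agent.Lib.Helper25.QCCEv Groth.Agent.Lib.Helper25.FBCIso DerivedCategory
  Groth.Agent.Lib.Helper25.FBCAlg Groth.Agent.Lib.Helper25.FBCHom Groth.Agent.Lib.Helper25.FBCClass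
  Groth.Agent.Lib.Helper25.FBCBase Pretriangulated

attribute [local instance] Groth.Agent.Lib.Helper25.SchKInj.hasRpush
  Groth.Agent.Lib.Helper25.LpullAdapted.hasLpull

/-- the statement of the induction -/
def Pr (Y : Scheme.{u}) : Prop :=
  ∀ (A B : Type u) [CommRing A] [CommRing B] [Algebra A B] [Module.Flat A B]
    [Y.Over (Spec (CommRingCat.of A))] (Y' : Scheme.{u}) [Y'.Over (Spec (CommRingCat.of B))]
    (h : Y' ⟶ Y) [Flat h]
    (_ : IsPullback h (Y' ↘ Spec (CommRingCat.of B)) (Y ↘ Spec (CommRingCat.of A))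
      (Spec.map (CommRingCat.ofHom (algebraMap A B))))
    (n : ℤ) (P : DCoh.D Y) (_ : Nonempty (P ≅ Sp Y n)) (E : DCoh.D Y), DCoh.IsQCohD E →
    InC A B (Scheme.Modules.pullback h).mapDerivedCategory E P

theorem pr_of_isAffine (Y : Scheme.{u}) (hY : IsAffine Y) : Pr Y := by
  intro A B _ _ _ _ _ Y' _ h _ hpb n P hP E hE
  obtain ⟨e⟩ := hP
  haveI : IsAffineHom h := MorphismProperty.of_isPullback hpb.flip inferInstance
  haveI : IsAffine Y' := isAffine_of_isAffineHom h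
  exact inC_of_iso e (inC_Sp_of_isAffine h hpb n E hE)

section step

variable {A B : Type u} [CommRing A] [CommRing B] [Algebra A B] [Module.Flat A B]
  {Y Y' : Scheme.{u}} [Y.Over (Spec (CommRingCat.of A))] [Y'.Over (Spec (CommRingCat.of B))]
  (h : Y' ⟶ Y) [Flat h]
  (hpb : IsPullback h (Y' ↘ Spec (CommRingCat.of B)) (Y ↘ Spec (CommRingCat.of A))
    (Spec.map (CommRingCat.ofHom (algebraMap A B))))

include hpb in
lemma semiLin : SemiLin A B (Scheme.Modules.pullback h).mapDerivedCategory :=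
  fun a x => Groth.Agent.Lib.Helper25.FBCLin.mapDerivedCategory_map_smul h hpb.w a x

include hpb in
/-- extension by zero from an open on which the statement holds -/
theorem inC_extZeroD (W : Y.Opens) (hW : Pr W) (m : ℤ) (P' : DCoh.D Y) (hP' : Nonempty (P' ≅ Sp Y m))
    [Limits.PreservesFiniteLimits (CxOX.extZero W.ι)]
    (E : DCoh.D Y) (hE : DCoh.IsQCohD E) :
    InC A B (Scheme.Modules.pullback h).mapDerivedCategory E
      ((CxOX.extZeroD W.ι).obj ((DCoh.restrictD W.ι).obj P')) := by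
  obtain ⟨e⟩ := hP'
  haveI := Groth.Agent.Lib.Helper25.MVSupp.preservesFiniteLimits_extZero (h ⁻¹ᵁ W)
  have hpbW : IsPullback (h.resLE W (h ⁻¹ᵁ W) le_rfl) ((h ⁻¹ᵁ W : Y'.Opens).toScheme ↘ Spec (CommRingCat.of B))
      (W.toScheme ↘ Spec (CommRingCat.of A)) (Spec.map (CommRingCat.ofHom (algebraMap A B))) := by
    rw [Scheme.Hom.resLE_eq_morphismRestrict]
    exact (isPullback_morphismRestrict h W).paste_vert hpb
  obtain ⟨s⟩ := nonempty_restrictD_Sp_iso W.ι m
  have h0 := hW A B (h ⁻¹ᵁ W : Y'.Opens).toScheme (h.resLE W (h ⁻¹ᵁ W) le_rfl) hpbW m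
    ((DCoh.restrictD W.ι).obj P') ⟨(DCoh.restrictD W.ι).mapIso e ≪≫ s⟩
    ((DCoh.restrictD W.ι).obj E) (Groth.Agent.Lib.Helper25.RGZ4.isQCohD_restrictD W.ι E hE)
  obtain ⟨ν⟩ := nonempty_mapDC_restrictD h W (h ⁻¹ᵁ W) le_rfl
  obtain ⟨τ⟩ := nonempty_mapDC_iso_Lpull h
  obtain ⟨ξ⟩ := nonempty_extZeroD_Lpull h W
  haveI : (W.ι).IsOver (Spec (CommRingCat.of A)) := ⟨rfl⟩
  haveI : ((h ⁻¹ᵁ W : Y'.Opens).ι).IsOver (Spec (CommRingCat.of B)) := ⟨rfl⟩
  refine inC_of_local (A := A) (B := B) (Scheme.Modules.pullback h).mapDerivedCategory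
    (Scheme.Modules.pullback (h.resLE W (h ⁻¹ᵁ W) le_rfl)).mapDerivedCategory
    (adjExt W) (adjExt (h ⁻¹ᵁ W)) ν _ ⟨_, ⟨τ.app _ ≪≫ ξ.app _⟩⟩ E h0

include hpb in
/-- the shifted version -/
theorem inC_extZeroD_shift (W : Y.Opens) (hW : Pr W) (m : ℤ) (P' : DCoh.D Y)
    (hP' : Nonempty (P' ≅ Sp Y m)) [Limits.PreservesFiniteLimits (CxOX.extZero W.ι)]
    (E : DCoh.D Y) (hE : DCoh.IsQCohD E) :
    InC A B (Scheme.Modules.pullback h).mapDerivedCategory E
      (((CxOX.extZeroD W.ι).obj ((DCoh.restrictD W.ι).obj P'))⟦(1 : ℤ)⟧) := by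
  obtain ⟨e⟩ := hP'
  obtain ⟨s⟩ := nonempty_shift_Sp_iso Y m 1 (m - 1) (by omega)
  have h1 := inC_extZeroD h hpb W hW (m - 1) (P'⟦(1 : ℤ)⟧)
    ⟨(shiftFunctor (DCoh.D Y) (1 : ℤ)).mapIso e ≪≫ s⟩ E hE
  refine inC_of_iso ?_ h1
  exact (((CxOX.extZeroD W.ι).commShiftIso (1 : ℤ)).app _).symm ≪≫
    (CxOX.extZeroD W.ι).mapIso (((DCoh.restrictD W.ι).commShiftIso (1 : ℤ)).app P').symm

end step

/-- the Mayer–Vietoris step -/
theorem pr_mv (Y : Scheme.{u}) (U V : Y.Opens) (hUV : U ⊔ V = ⊤) (hU : Pr U) (hV : Pr V)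
    (hW : Pr (U ⊓ V : Y.Opens)) : Pr Y := by
  intro A B _ _ _ _ _ Y' _ h _ hpb n P hP E hE
  haveI := Groth.Agent.Lib.Helper25.MVSupp.preservesFiniteLimits_extZero U
  haveI := Groth.Agent.Lib.Helper25.MVSupp.preservesFiniteLimits_extZero V
  haveI := Groth.Agent.Lib.Helper25.MVSupp.preservesFiniteLimits_extZero (U ⊓ V)
  obtain ⟨a, b, c, ht⟩ := Groth.Agent.Lib.Helper25.MVShriek.exists_shriek_mv_triangle hUV P
  have hT : SemiLin A B (Scheme.Modules.pullback h).mapDerivedCategory := semiLin h hpb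
  haveI := Limits.preservesBinaryBiproducts_of_preservesBiproducts (shiftFunctor (DCoh.D Y) (1 : ℤ))
  exact inC_of_triangle hT (Triangle.mk a b c) ht E
    (inC_extZeroD h hpb (U ⊓ V) hW n P hP E hE)
    (inC_biprod hT (inC_extZeroD h hpb U hU n P hP E hE) (inC_extZeroD h hpb V hV n P hP E hE))
    (inC_extZeroD_shift h hpb (U ⊓ V) hW n P hP E hE)
    (inC_of_iso ((shiftFunctor (DCoh.D Y) (1 : ℤ)).mapBiprod _ _)
      (inC_biprod hT (inC_extZeroD_shift h hpb U hU n P hP E hE)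
        (inC_extZeroD_shift h hpb V hV n P hP E hE)))

/-- **flat base change for `Hom(O[-n], E)`** on a quasi-compact quasi-separated scheme over an affine base -/
theorem inC_Sp {A B : Type u} [CommRing A] [CommRing B] [Algebra A B] [Module.Flat A B]
    {Y Y' : Scheme.{u}} [Y.Over (Spec (CommRingCat.of A))] [Y'.Over (Spec (CommRingCat.of B))]
    [CompactSpace Y] [QuasiSeparatedSpace Y] (h : Y' ⟶ Y) [Flat h]
    (hpb : IsPullback h (Y' ↘ Spec (CommRingCat.of B)) (Y ↘ Spec (CommRingCat.of A))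
      (Spec.map (CommRingCat.ofHom (algebraMap A B))))
    (n : ℤ) (P : DCoh.D Y) (hP : Nonempty (P ≅ Sp Y n)) (E : DCoh.D Y) (hE : DCoh.IsQCohD E) :
    InC A B (Scheme.Modules.pullback h).mapDerivedCategory E P :=
  Groth.Agent.Lib.Helper25.QcqsInduction.qcqs_induction Pr pr_of_isAffine pr_mv Y A B Y' h hpb n P hP
    E hE

end Groth.Agent.Lib.Helper25.FBCHyp
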