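import Mathlib
import Groth.Agent.Lib.Helper25.FBCHyp
import Groth.Agent.Lib.Helper13.CurveDual7

/-!
# Flat base change for `Hom(j_{W!} O_W[-n], F)` localised to an open `W` lying over an affine base (helper25)

`h : Y' ⟶ Y`, opens `W ⊆ Y`, `W' ⊆ h⁻¹ W` such that `W` is quasi-compact quasi-separated over `Spec A`, `W' = W ×_A B` with
`A → B` flat.  For `c : j_{W'!} P₀' ⟶ Lh^* j_{W!} P₀` invertible over `W'`, `P₀ ≅ O_W[-n]` and `F ∈ D_QCoh(Y)`, the map
`y ↦ c ≫ Lh^* y`, `Hom(j_{W!} P₀, F) → Hom(j_{W'!} P₀', Lh^* F)`, is a base change along `A → B`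
(`isBCu_local`): `FBCHom.isBCu_kap_of_local` applied to `FBCHyp.inC_Sp`.
-/

set_option autoImplicit false
universe u
open CategoryTheory AlgebraicGeometry Opposite
attribute [local instance] HasDerivedCategory.standard

namespace Groth.Agent.Lib.Helper25.FBCLoc

open Groth.Agent.Lib.Helper25.QCCEv Groth.Agent.Lib.Helper25.FBCIso DerivedCategory
  Groth.Agent.Lib.Helper25.FBCAlg Groth.Agent.Lib.Helper25.FBCHom Groth.Agent.Lib.Helper25.FBCClass

attribute [local instance] Groth.Agent.Lib.Helper25.SchKInj.hasRpush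
  Groth.Agent.Lib.Helper25.LpullAdapted.hasLpull

variable {A B : Type u} [CommRing A] [CommRing B] [Algebra A B] [Module.Flat A B]
  {Y Y' : Scheme.{u}} (h : Y' ⟶ Y) (W : Y.Opens) (W' : Y'.Opens) (e : W' ≤ h ⁻¹ᵁ W)
  [Flat (h.resLE W W' e)]
  [W.toScheme.Over (Spec (CommRingCat.of A))] [W'.toScheme.Over (Spec (CommRingCat.of B))]
  [CompactSpace W] [QuasiSeparatedSpace W]
  (hpb : IsPullback (h.resLE W W' e) (W'.toScheme ↘ Spec (CommRingCat.of B))
    (W.toScheme ↘ Spec (CommRingCat.of A)) (Spec.map (CommRingCat.ofHom (algebraMap A B))))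
  [Limits.PreservesFiniteLimits (CxOX.extZero W.ι)] [Limits.PreservesFiniteLimits (CxOX.extZero W'.ι)]
  (ν : DCoh.Lpull h ⋙ DCoh.restrictD W'.ι ≅
    DCoh.restrictD W.ι ⋙ (Scheme.Modules.pullback (h.resLE W W' e)).mapDerivedCategory)

include hpb ν in
theorem isBCu_local (n : ℤ) (P₀ : DCoh.D W.toScheme) (hP : Nonempty (P₀ ≅ Sp W.toScheme n))
    (P₀' : DCoh.D W'.toScheme)
    (c : (CxOX.extZeroD W'.ι).obj P₀' ⟶ (DCoh.Lpull h).obj ((CxOX.extZeroD W.ι).obj P₀))
    [IsIso ((DCoh.restrictD W'.ι).map c)]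
    (F : DCoh.D Y) (hF : DCoh.IsQCohD F) :
    haveI : (DCoh.Lpull h).Additive := Groth.Agent.Lib.helper13.CurveDual.additive_Lpull h
    IsBCu (A := A) (B := B) (kap (DCoh.Lpull h) c
      (mapAct (CxOX.extZeroD W.ι) (algebraMap A (End P₀)))
      (mapAct (CxOX.extZeroD W'.ι) (algebraMap B (End P₀'))) F) := by
  haveI : (DCoh.Lpull h).Additive := Groth.Agent.Lib.helper13.CurveDual.additive_Lpull h
  exact isBCu_kap_of_local (DCoh.Lpull h)
    (Scheme.Modules.pullback (h.resLE W W' e)).mapDerivedCategory (adjExt W) (adjExt W') ν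
    (algebraMap A (End P₀)) (algebraMap B (End P₀'))
    (algebraMap B (End ((Scheme.Modules.pullback (h.resLE W W' e)).mapDerivedCategory.obj P₀))) c
    (fun u b => act_comm b u) F
    (Groth.Agent.Lib.Helper25.FBCHyp.inC_Sp (h.resLE W W' e) hpb n P₀ hP _
      (Groth.Agent.Lib.Helper25.RGZ4.isQCohD_restrictD W.ι F hF))

end Groth.Agent.Lib.Helper25.FBCLoc
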