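import Mathlib
import Groth.Agent.Lib.Helper25.FBCLoc
import Groth.Agent.Lib.Helper25.FBCAbs
import Groth.Agent.Lib.Helper25.FBCDet
import Groth.Agent.Lib.Helper25.RpushQC
import Groth.Agent.Lib.Helper13.CurveDual6

/-!
# Flat base change: composition with the base change morphism is bijective on `Hom(j_{W'!} O_{W'}[-n], -)` (helper25)

Square `g' ≫ f = f' ≫ g`; opens `W ⊆ S`, `W' ⊆ g⁻¹ W`, `W` over `Spec A`, `W' = W ×_A B`, `f⁻¹ W` quasi-compact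
quasi-separated, `f'⁻¹ W' = f⁻¹ W ×_A B`, `A → B` flat.  Then for every identification
`ε : Rg'_* ⋙ Rf_* ≅ Rf'_* ⋙ Rg_*`, all adjunctions `Lg^* ⊣ Rg_*`, `Lg'^* ⊣ Rg'_*` and `E ∈ D_QCoh(X)`, composition with the
base change morphism `Lg^* Rf_* E ⟶ Rf'_* Lg'^* E` is bijective on `Hom(j_{W'!} O_{W'}[-n], -)`
(`bijective_comp_bc_local`).
-/

set_option autoImplicit false
universe u
open CategoryTheory AlgebraicGeometry Opposite
attribute [local instance] HasDerivedCategory.standard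

namespace Groth.Agent.Lib.Helper25.FBCMain

open Groth.Agent.Lib.Helper25.QCCEv Groth.Agent.Lib.Helper25.FBCIso DerivedCategory
  Groth.Agent.Lib.Helper25.FBCAlg Groth.Agent.Lib.Helper25.FBCHom Groth.Agent.Lib.Helper25.FBCClass
  Groth.Agent.Lib.Helper25.FBCFormal Groth.Agent.Lib.Helper25.FBCLoc

attribute [local instance] Groth.Agent.Lib.Helper25.SchKInj.hasRpush
  Groth.Agent.Lib.Helper25.LpullAdapted.hasLpull

section lin

variable {A : Type u} [CommRing A] {X Y : Scheme.{u}} [X.Over (Spec (CommRingCat.of A))]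
  [Y.Over (Spec (CommRingCat.of A))] (f : X ⟶ Y) [f.IsOver (Spec (CommRingCat.of A))]

/-- `Lf^*` maps multiplication by `a` to multiplication by `a`, for `f` a morphism over `Spec A` -/
lemma Lpull_map_act (a : A) (P : DCoh.D Y) :
    (DCoh.Lpull f).map (algebraMap A (End P) a : P ⟶ P) =
      (algebraMap A (End ((DCoh.Lpull f).obj P)) a : (DCoh.Lpull f).obj P ⟶ (DCoh.Lpull f).obj P) := by
  haveI : (DCoh.Rpush f).Additive := Groth.Agent.Lib.Helper25.QCCRpush.additive_Rpush f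
  haveI : (DCoh.Rpush f).Linear A :=
    ⟨fun φ a => Groth.Agent.Lib.helper13.CurveDual.Rpush_map_smul f a φ⟩
  rw [act_apply, act_apply]
  exact leftAdj_map_smul_id (Groth.Agent.Lib.Helper25.LpullRpushAdj.adj f) a P

end lin

section main

variable {A B : Type u} [CommRing A] [CommRing B] [Algebra A B] [Module.Flat A B]
  {X S S' X' : Scheme.{u}} (f : X ⟶ S) (g : S' ⟶ S) (f' : X' ⟶ S') (g' : X' ⟶ X)
  (W : S.Opens) (W' : S'.Opens) (e : W' ≤ g ⁻¹ᵁ W) (eX : f' ⁻¹ᵁ W' ≤ g' ⁻¹ᵁ (f ⁻¹ᵁ W))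
  [Flat (g.resLE W W' e)] [Flat (g'.resLE (f ⁻¹ᵁ W) (f' ⁻¹ᵁ W') eX)]
  [W.toScheme.Over (Spec (CommRingCat.of A))] [W'.toScheme.Over (Spec (CommRingCat.of B))]
  [(f ⁻¹ᵁ W).toScheme.Over (Spec (CommRingCat.of A))]
  [(f' ⁻¹ᵁ W').toScheme.Over (Spec (CommRingCat.of B))]
  [(f ∣_ W).IsOver (Spec (CommRingCat.of A))] [(f' ∣_ W').IsOver (Spec (CommRingCat.of B))]
  [CompactSpace W] [QuasiSeparatedSpace W] [CompactSpace (f ⁻¹ᵁ W)] [QuasiSeparatedSpace (f ⁻¹ᵁ W)]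
  [QuasiCompact f] [QuasiSeparated f]
  (hpbS : IsPullback (g.resLE W W' e) (W'.toScheme ↘ Spec (CommRingCat.of B))
    (W.toScheme ↘ Spec (CommRingCat.of A)) (Spec.map (CommRingCat.ofHom (algebraMap A B))))
  (hpbX : IsPullback (g'.resLE (f ⁻¹ᵁ W) (f' ⁻¹ᵁ W') eX)
    ((f' ⁻¹ᵁ W').toScheme ↘ Spec (CommRingCat.of B))
    ((f ⁻¹ᵁ W).toScheme ↘ Spec (CommRingCat.of A)) (Spec.map (CommRingCat.ofHom (algebraMap A B))))

include hpbS hpbX in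
theorem bijective_comp_bc_local (adjg : DCoh.Lpull g ⊣ DCoh.Rpush g)
    (adjg' : DCoh.Lpull g' ⊣ DCoh.Rpush g')
    (ε : DCoh.Rpush g' ⋙ DCoh.Rpush f ≅ DCoh.Rpush f' ⋙ DCoh.Rpush g)
    (n : ℤ) (E : DCoh.D X) (hE : DCoh.IsQCohD E)
    [Limits.PreservesFiniteLimits (CxOX.extZero W'.ι)] :
    Function.Bijective (fun y : (CxOX.extZeroD W'.ι).obj (Sp W'.toScheme n) ⟶
      (DCoh.Lpull g).obj ((DCoh.Rpush f).obj E) => y ≫ bc adjg adjg' ε E) := by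
  haveI := Groth.Agent.Lib.Helper25.MVSupp.preservesFiniteLimits_extZero W
  haveI := Groth.Agent.Lib.Helper25.MVSupp.preservesFiniteLimits_extZero (f ⁻¹ᵁ W)
  haveI := Groth.Agent.Lib.Helper25.MVSupp.preservesFiniteLimits_extZero (f' ⁻¹ᵁ W')
  haveI : (DCoh.Lpull g).Additive := Groth.Agent.Lib.helper13.CurveDual.additive_Lpull g
  haveI : (DCoh.Lpull g').Additive := Groth.Agent.Lib.helper13.CurveDual.additive_Lpull g'
  haveI : (DCoh.Lpull f).Additive := Groth.Agent.Lib.helper13.CurveDual.additive_Lpull f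
  haveI : (DCoh.Lpull f').Additive := Groth.Agent.Lib.helper13.CurveDual.additive_Lpull f'
  haveI : (DCoh.Rpush f).Additive := Groth.Agent.Lib.Helper25.QCCRpush.additive_Rpush f
  haveI : (DCoh.Rpush f').Additive := Groth.Agent.Lib.Helper25.QCCRpush.additive_Rpush f'
  obtain ⟨νS⟩ := nonempty_Lpull_restrictD_flat g W W' e
  obtain ⟨νX⟩ := nonempty_Lpull_restrictD_flat g' (f ⁻¹ᵁ W) (f' ⁻¹ᵁ W') eX
  obtain ⟨Ξf⟩ := nonempty_extZeroD_Lpull f W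
  obtain ⟨Ξf'⟩ := nonempty_extZeroD_Lpull f' W'
  obtain ⟨μ⟩ := nonempty_Lpull_restrictD f' W' (f' ⁻¹ᵁ W') le_rfl
  let TVS := (Scheme.Modules.pullback (g.resLE W W' e)).mapDerivedCategory
  let P₀ : DCoh.D W.toScheme := Sp W.toScheme n
  let cS : (CxOX.extZeroD W'.ι).obj (TVS.obj P₀) ⟶ (DCoh.Lpull g).obj ((CxOX.extZeroD W.ι).obj P₀) :=
    cLoc (DCoh.Lpull g) TVS (adjExt W) (adjExt W') νS P₀
  haveI : IsIso ((DCoh.restrictD W'.ι).map cS) := isIso_map_cLoc (DCoh.Lpull g) TVS (adjExt W) (adjExt W') νS P₀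
  have hS := isBCu_local (A := A) (B := B) g W W' e hpbS νS n P₀ ⟨Iso.refl _⟩ (TVS.obj P₀) cS
    ((DCoh.Rpush f).obj E) (Groth.Agent.Lib.Helper25.RpushQC.isQCohD_Rpush f E hE)
  let adjf := Groth.Agent.Lib.Helper25.LpullRpushAdj.adj f
  let adjf' := Groth.Agent.Lib.Helper25.LpullRpushAdj.adj f'
  let ψ : (DCoh.Lpull f).obj ((CxOX.extZeroD W.ι).obj P₀) ≅
      (CxOX.extZeroD (f ⁻¹ᵁ W).ι).obj ((DCoh.Lpull (f ∣_ W)).obj P₀) := Ξf.app P₀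
  let ψ' : (DCoh.Lpull f').obj ((CxOX.extZeroD W'.ι).obj (TVS.obj P₀)) ≅
      (CxOX.extZeroD (f' ⁻¹ᵁ W').ι).obj ((DCoh.Lpull (f' ∣_ W')).obj (TVS.obj P₀)) := Ξf'.app (TVS.obj P₀)
  let c₁ : (DCoh.Lpull f').obj ((CxOX.extZeroD W'.ι).obj (TVS.obj P₀)) ⟶
      (DCoh.Lpull g').obj ((DCoh.Lpull f).obj ((CxOX.extZeroD W.ι).obj P₀)) :=
    (DCoh.Lpull f').map cS ≫ (lam adjg adjg' adjf adjf' ε).hom.app ((CxOX.extZeroD W.ι).obj P₀)
  let cX : (CxOX.extZeroD (f' ⁻¹ᵁ W').ι).obj ((DCoh.Lpull (f' ∣_ W')).obj (TVS.obj P₀)) ⟶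
      (DCoh.Lpull g').obj ((CxOX.extZeroD (f ⁻¹ᵁ W).ι).obj ((DCoh.Lpull (f ∣_ W)).obj P₀)) :=
    ψ'.inv ≫ c₁ ≫ (DCoh.Lpull g').map ψ.hom
  haveI : IsIso ((DCoh.restrictD (f' ⁻¹ᵁ W').ι).map ((DCoh.Lpull f').map cS)) := by
    have h1 : IsIso ((DCoh.restrictD W'.ι ⋙ DCoh.Lpull (f'.resLE W' (f' ⁻¹ᵁ W') le_rfl)).map cS) := by
      rw [Functor.comp_map]
      infer_instance
    exact (NatIso.isIso_map_iff μ cS).2 h1
  haveI : IsIso ((DCoh.restrictD (f' ⁻¹ᵁ W').ι).map cX) := by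
    show IsIso ((DCoh.restrictD (f' ⁻¹ᵁ W').ι).map
      (ψ'.inv ≫ ((DCoh.Lpull f').map cS ≫
        (lam adjg adjg' adjf adjf' ε).hom.app ((CxOX.extZeroD W.ι).obj P₀)) ≫ (DCoh.Lpull g').map ψ.hom))
    rw [Functor.map_comp, Functor.map_comp, Functor.map_comp]
    infer_instance
  obtain ⟨sX⟩ := nonempty_Lpull_Sp_iso (f ∣_ W) n
  have hX0 := isBCu_local (A := A) (B := B) g' (f ⁻¹ᵁ W) (f' ⁻¹ᵁ W') eX hpbX νX n
    ((DCoh.Lpull (f ∣_ W)).obj P₀) ⟨sX⟩ ((DCoh.Lpull (f' ∣_ W')).obj (TVS.obj P₀)) cX E hE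
  have hX : IsBCu (A := A) (B := B) (kap (DCoh.Lpull g') c₁
      (mapAct (DCoh.Lpull f) (mapAct (CxOX.extZeroD W.ι) (algebraMap A (End P₀))))
      (mapAct (DCoh.Lpull f') (mapAct (CxOX.extZeroD W'.ι) (algebraMap B (End (TVS.obj P₀))))) E) := by
    refine isBCu_kap_of_iso (DCoh.Lpull g') c₁ _ _ _ _ ψ ψ' ?_ ?_ E hX0
    · intro a
      rw [mapAct_apply, mapAct_apply, mapAct_apply, ← Lpull_map_act (f ∣_ W) a P₀]
      exact Ξf.hom.naturality _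
    · intro b
      rw [mapAct_apply, mapAct_apply, mapAct_apply, ← Lpull_map_act (f' ∣_ W') b (TVS.obj P₀)]
      exact Ξf'.hom.naturality _
  have hbij := Groth.Agent.Lib.Helper25.FBCAbs.bijective_comp_bc adjg adjg' adjf adjf' ε cS
    (mapAct (CxOX.extZeroD W.ι) (algebraMap A (End P₀)))
    (mapAct (CxOX.extZeroD W'.ι) (algebraMap B (End (TVS.obj P₀)))) E hS hX
  obtain ⟨s'⟩ := nonempty_mapDC_Sp_iso (g.resLE W W' e) n
  exact Groth.Agent.Lib.Helper25.FBCDet.bijective_comp_of_iso _ ((CxOX.extZeroD W'.ι).mapIso s'.symm) hbij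

end main

end Groth.Agent.Lib.Helper25.FBCMain
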