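import Mathlib
import Groth.Agent.Lib.Helper25.FBCMain

/-!
# Flat base change for derived direct images (helper25)

`f : X ⟶ S` quasi-compact quasi-separated, `g : S' ⟶ S` flat, a pullback square `g' ≫ f = f' ≫ g`.  For all adjunctions
`Lg^* ⊣ Rg_*`, `Lg'^* ⊣ Rg'_*`, every identification `ε : Rg'_* ⋙ Rf_* ≅ Rf'_* ⋙ Rg_*` and `E ∈ D_QCoh(X)`, the base
change morphism `Lg^* Rf_* E ⟶ Rf'_* Lg'^* E` is an isomorphism (`isIso_bc`).  `nonempty_Rpush_square` provides an `ε`.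
-/

set_option autoImplicit false
universe u
open CategoryTheory AlgebraicGeometry Opposite
attribute [local instance] HasDerivedCategory.standard

namespace Groth.Agent.Lib.Helper25.FBCFinal

open Groth.Agent.Lib.Helper25.QCCEv Groth.Agent.Lib.Helper25.FBCIso DerivedCategory
  Groth.Agent.Lib.Helper25.FBCFormal Groth.Agent.Lib.Helper25.FBCMain TopologicalSpace

attribute [local instance] Groth.Agent.Lib.Helper25.SchKInj.hasRpush
  Groth.Agent.Lib.Helper25.LpullAdapted.hasLpull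

variable {X S S' X' : Scheme.{u}} (f : X ⟶ S) (g : S' ⟶ S) (f' : X' ⟶ S') (g' : X' ⟶ X)

/-- affine opens of `S'` lying over an affine open of `S` -/
def 𝓑 : Set S'.Opens := {W' | IsAffineOpen W' ∧ ∃ W : S.Opens, IsAffineOpen W ∧ W' ≤ g ⁻¹ᵁ W}

lemma isBasis_𝓑 : Opens.IsBasis (𝓑 g) := by
  rw [Opens.isBasis_iff_nbhd]
  intro U' x hx
  obtain ⟨_, ⟨V, hV, rfl⟩, hgx, -⟩ := S.isBasis_affineOpens.exists_subset_of_mem_open
    (Set.mem_univ (g.base x)) isOpen_univ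
  have hx' : x ∈ (g ⁻¹ᵁ V ⊓ U' : S'.Opens) := ⟨hgx, hx⟩
  obtain ⟨_, ⟨V', hV', rfl⟩, hxV', hV'U⟩ := S'.isBasis_affineOpens.exists_subset_of_mem_open
    hx' (g ⁻¹ᵁ V ⊓ U' : S'.Opens).isOpen
  exact ⟨V', ⟨hV', V, hV, fun y hy => (hV'U hy).1⟩, hxV', fun y hy => (hV'U hy).2⟩

variable {f g f' g'}

/-- the local statement for `W'` affine over an affine `W` -/
theorem bijective_comp_bc_affine (H : IsPullback g' f' f g) [QuasiCompact f] [QuasiSeparated f] [Flat g]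
    (W : S.Opens) (hW : IsAffineOpen W) (W' : S'.Opens) (hW' : IsAffineOpen W') (e : W' ≤ g ⁻¹ᵁ W)
    (adjg : DCoh.Lpull g ⊣ DCoh.Rpush g) (adjg' : DCoh.Lpull g' ⊣ DCoh.Rpush g')
    (ε : DCoh.Rpush g' ⋙ DCoh.Rpush f ≅ DCoh.Rpush f' ⋙ DCoh.Rpush g)
    (n : ℤ) (E : DCoh.D X) (hE : DCoh.IsQCohD E)
    [Limits.PreservesFiniteLimits (CxOX.extZero W'.ι)] :
    Function.Bijective (fun y : (CxOX.extZeroD W'.ι).obj (Sp W'.toScheme n) ⟶
      (DCoh.Lpull g).obj ((DCoh.Rpush f).obj E) => y ≫ bc adjg adjg' ε E) := by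
  haveI : IsAffine W.toScheme := hW
  haveI : IsAffine W'.toScheme := hW'
  have eX : f' ⁻¹ᵁ W' ≤ g' ⁻¹ᵁ (f ⁻¹ᵁ W) := by
    intro x hx
    have h1 : f'.base x ∈ g ⁻¹ᵁ W := e hx
    show f.base (g'.base x) ∈ W
    have h2 : f.base (g'.base x) = g.base (f'.base x) := by
      rw [← Scheme.Hom.comp_apply, ← Scheme.Hom.comp_apply, H.w]
    rw [h2]
    exact h1
  haveI : Flat g' := MorphismProperty.of_isPullback H.flip inferInstance
  haveI : Flat (g.resLE W W' e) := IsZariskiLocalAtSource.resLE e inferInstance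
  haveI : Flat (g'.resLE (f ⁻¹ᵁ W) (f' ⁻¹ᵁ W') eX) := IsZariskiLocalAtSource.resLE eX inferInstance
  letI : Algebra Γ(W.toScheme, ⊤) Γ(W'.toScheme, ⊤) := (g.resLE W W' e).appTop.hom.toAlgebra
  haveI : Module.Flat Γ(W.toScheme, ⊤) Γ(W'.toScheme, ⊤) :=
    (HasRingHomProperty.iff_of_isAffine (P := @Flat)).1 (inferInstance : Flat (g.resLE W W' e))
  letI : W.toScheme.Over (Spec (CommRingCat.of Γ(W.toScheme, ⊤))) := ⟨W.toScheme.isoSpec.hom⟩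
  letI : W'.toScheme.Over (Spec (CommRingCat.of Γ(W'.toScheme, ⊤))) := ⟨W'.toScheme.isoSpec.hom⟩
  letI : (f ⁻¹ᵁ W).toScheme.Over (Spec (CommRingCat.of Γ(W.toScheme, ⊤))) :=
    ⟨(f ∣_ W) ≫ W.toScheme.isoSpec.hom⟩
  letI : (f' ⁻¹ᵁ W').toScheme.Over (Spec (CommRingCat.of Γ(W'.toScheme, ⊤))) :=
    ⟨(f' ∣_ W') ≫ W'.toScheme.isoSpec.hom⟩
  haveI : (f ∣_ W).IsOver (Spec (CommRingCat.of Γ(W.toScheme, ⊤))) := ⟨rfl⟩
  haveI : (f' ∣_ W').IsOver (Spec (CommRingCat.of Γ(W'.toScheme, ⊤))) := ⟨rfl⟩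
  haveI : CompactSpace ((f ⁻¹ᵁ W : X.Opens) : Scheme.{u}) :=
    QuasiCompact.compactSpace_of_compactSpace (f ∣_ W)
  haveI : QuasiSeparatedSpace ((f ⁻¹ᵁ W : X.Opens) : Scheme.{u}) :=
    quasiSeparatedSpace_of_quasiSeparated (f ∣_ W)
  have hpbS : IsPullback (g.resLE W W' e) (W'.toScheme ↘ Spec (CommRingCat.of Γ(W'.toScheme, ⊤)))
      (W.toScheme ↘ Spec (CommRingCat.of Γ(W.toScheme, ⊤)))
      (Spec.map (CommRingCat.ofHom (algebraMap Γ(W.toScheme, ⊤) Γ(W'.toScheme, ⊤)))) := by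
    haveI : IsIso (W'.toScheme ↘ Spec (CommRingCat.of Γ(W'.toScheme, ⊤))) :=
      inferInstanceAs (IsIso W'.toScheme.isoSpec.hom)
    haveI : IsIso (W.toScheme ↘ Spec (CommRingCat.of Γ(W.toScheme, ⊤))) :=
      inferInstanceAs (IsIso W.toScheme.isoSpec.hom)
    exact IsPullback.of_vert_isIso ⟨(Scheme.isoSpec_hom_naturality (g.resLE W W' e)).symm⟩
  have h1 : IsPullback (g'.resLE (f ⁻¹ᵁ W) (f' ⁻¹ᵁ W') eX) (f' ∣_ W') (f ∣_ W) (g.resLE W W' e) := by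
    have h0 := Scheme.Hom.isPullback_resLE H e (le_refl (f ⁻¹ᵁ W)) (UY := f' ⁻¹ᵁ W')
      (inf_eq_right.2 eX).symm
    rw [Scheme.Hom.resLE_eq_morphismRestrict, Scheme.Hom.resLE_eq_morphismRestrict] at h0
    exact h0
  have hpbX : IsPullback (g'.resLE (f ⁻¹ᵁ W) (f' ⁻¹ᵁ W') eX)
      ((f' ⁻¹ᵁ W').toScheme ↘ Spec (CommRingCat.of Γ(W'.toScheme, ⊤)))
      ((f ⁻¹ᵁ W).toScheme ↘ Spec (CommRingCat.of Γ(W.toScheme, ⊤)))
      (Spec.map (CommRingCat.ofHom (algebraMap Γ(W.toScheme, ⊤) Γ(W'.toScheme, ⊤)))) :=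
    h1.paste_vert hpbS
  exact bijective_comp_bc_local (A := Γ(W.toScheme, ⊤)) (B := Γ(W'.toScheme, ⊤)) f g f' g' W W' e eX
    hpbS hpbX adjg adjg' ε n E hE

/-- **flat base change**: the base change morphism is an isomorphism on `D_QCoh`, for every identification `ε` -/
theorem isIso_bc (H : IsPullback g' f' f g) [QuasiCompact f] [QuasiSeparated f] [Flat g]
    (adjg : DCoh.Lpull g ⊣ DCoh.Rpush g) (adjg' : DCoh.Lpull g' ⊣ DCoh.Rpush g')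
    (ε : DCoh.Rpush g' ⋙ DCoh.Rpush f ≅ DCoh.Rpush f' ⋙ DCoh.Rpush g)
    (E : DCoh.D X) (hE : DCoh.IsQCohD E) : IsIso (bc adjg adjg' ε E) := by
  refine Groth.Agent.Lib.Helper25.FBCDet.isIso_of_bijective_comp _ (𝓑 g) (isBasis_𝓑 g) ?_
  rintro W' ⟨hW', W, hW, e⟩ n
  haveI := Groth.Agent.Lib.Helper25.MVSupp.preservesFiniteLimits_extZero W'
  exact bijective_comp_bc_affine H W hW W' hW' e adjg adjg' ε n E hE

lemma nonempty_Rpush_congr {Y Z : Scheme.{u}} {p q : Y ⟶ Z} (h : p = q) :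
    Nonempty (DCoh.Rpush p ≅ DCoh.Rpush q) := by
  subst h
  exact ⟨Iso.refl _⟩

/-- an identification `Rg'_* ⋙ Rf_* ≅ Rf'_* ⋙ Rg_*` for a commutative square -/
theorem nonempty_Rpush_square (w : g' ≫ f = f' ≫ g) :
    Nonempty (DCoh.Rpush g' ⋙ DCoh.Rpush f ≅ DCoh.Rpush f' ⋙ DCoh.Rpush g) := by
  obtain ⟨a⟩ := Groth.Agent.Lib.Helper25.LpullRpushAdj.nonempty_Rpush_comp g' f
  obtain ⟨b⟩ := Groth.Agent.Lib.Helper25.LpullRpushAdj.nonempty_Rpush_comp f' g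
  obtain ⟨c⟩ := nonempty_Rpush_congr w
  exact ⟨a ≪≫ c ≪≫ b.symm⟩

end Groth.Agent.Lib.Helper25.FBCFinal
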