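import Groth.Agent.Lib.Helper25.PFTri3
import Groth.Agent.Lib.Helper25.RGZ4

/-!
# The projection formula `Rf_*E ⊗^L K ≅ Rf_*(E ⊗^L Lf^*K)` for `D_QCoh` (helper25)

`f : X ⟶ Y` quasi-compact quasi-separated.

* `isIso_m_of_isQCohD` : `PFDer1.m f I P` is invertible for `I` K-injective with quasi-coherent cohomology and `P` K-flat
  with quasi-coherent cohomology (localization on `Y` of `PFTri3.isIso_m_of_isQCohD`).
* `nonempty_projection_iso_DQCoh` (= S1118).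
-/

set_option autoImplicit false
universe u
open CategoryTheory CategoryTheory.Limits AlgebraicGeometry HomologicalComplex

attribute [local instance] HasDerivedCategory.standard

namespace Groth.Agent.Lib.Helper25.PFMain

open Scheme.Modules Groth.Agent.Lib.Helper25.PullTensorCx
  Groth.Agent.Lib.Helper25.PFCx1 Groth.Agent.Lib.Helper25.PFDer1 Groth.Agent.Lib.Helper25.PFDer2
  Groth.Agent.Lib.Helper25.DualCx6 Groth.Agent.Lib.Helper25.LTensorComp
  Groth.Agent.Lib.helper25.DCohRestrict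

variable {X Y : Scheme.{u}} (f : X ⟶ Y) [DCoh.HasRpush f] [QuasiCompact f] [QuasiSeparated f]

/-- **the derived projection morphism is invertible for K-flat complexes with quasi-coherent cohomology** -/
theorem isIso_m_of_isQCohD (I : CochainComplex X.Modules ℤ) [I.IsKInjective]
    (hI : DCoh.IsQCohD (DerivedCategory.Q.obj I))
    (P : CochainComplex Y.Modules ℤ) (hP : DCoh.IsKFlat P)
    (hPq : DCoh.IsQCohD (DerivedCategory.Q.obj P)) : IsIso (m f I P) := by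
  refine isIso_m_of_locally f I P (fun y => ?_)
  obtain ⟨V, hV, hyV, -⟩ : ∃ V : Y.Opens, V ∈ Y.affineOpens ∧ y ∈ V ∧ V ≤ ⊤ :=
    TopologicalSpace.Opens.isBasis_iff_nbhd.mp Y.isBasis_affineOpens
      (TopologicalSpace.Opens.mem_top y)
  refine ⟨V, hyV, ?_⟩
  intro _
  haveI : ((resCx (f ⁻¹ᵁ V).ι).obj I).IsKInjective :=
    Groth.Agent.Lib.Helper25.SchKInj.isKInjective_restrict _ I inferInstance
  haveI : IsAffine (V : Scheme.{u}) := hV
  have hI' : DCoh.IsQCohD (DerivedCategory.Q.obj ((resCx (f ⁻¹ᵁ V).ι).obj I)) :=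
    Groth.Agent.Lib.Helper25.LiftCover.isQCohD_of_iso (resDQIso (f ⁻¹ᵁ V).ι I)
      (Groth.Agent.Lib.Helper25.RGZ4.isQCohD_restrictD (f ⁻¹ᵁ V).ι _ hI)
  have hP' : DCoh.IsQCohD (DerivedCategory.Q.obj ((resCx V.ι).obj P)) :=
    Groth.Agent.Lib.Helper25.LiftCover.isQCohD_of_iso (resDQIso V.ι P)
      (Groth.Agent.Lib.Helper25.RGZ4.isQCohD_restrictD V.ι _ hPq)
  exact Groth.Agent.Lib.Helper25.PFTri3.isIso_m_of_isQCohD (f ∣_ V) _ hI' _
    (Groth.Agent.Lib.helper13.RestrKFlat.dcoh_isKFlat_restrict V P hP) hP'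

attribute [local instance] Groth.Agent.Lib.Helper25.LTensorRestrict.hasLTensorCx

/-- **the projection formula** `Rf_*E ⊗^L K ≅ Rf_*(E ⊗^L Lf^*K)` for `E ∈ D_QCoh(O_X)`, `K ∈ D_QCoh(O_Y)` and `f`
quasi-compact quasi-separated (= S1118) -/
theorem nonempty_projection_iso_DQCoh [DCoh.HasLpull f]
    (E : DCoh.D X) (hE : DCoh.IsQCohD E) (K : CochainComplex Y.Modules ℤ)
    (hK : DCoh.IsQCohD (DCoh.toD Y K)) [DCoh.HasLTensorCx K]
    (M : CochainComplex X.Modules ℤ)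
    (hM : Nonempty (DCoh.toD X M ≅ (DCoh.Lpull f).obj (DCoh.toD Y K))) [DCoh.HasLTensorCx M] :
    Nonempty ((DCoh.LTensorCx K).obj ((DCoh.Rpush f).obj E) ≅
      (DCoh.Rpush f).obj ((DCoh.LTensorCx M).obj E)) := by
  obtain ⟨P, hP₀, ⟨eP⟩⟩ := Groth.Agent.Lib.helper13.LpullQCoh.exists_P₀_rep (DCoh.toD Y K)
  have hP : DCoh.IsKFlat P := hP₀.1
  obtain ⟨b⟩ := Groth.Agent.Lib.Helper25.StalkPullFlat.nonempty_Lpull_iso f P hP₀
  obtain ⟨eM⟩ := hM
  let eMP : DerivedCategory.Q.obj M ≅ DerivedCategory.Q.obj ((pullCx f).obj P) :=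
    eM ≪≫ (DCoh.Lpull f).mapIso eP.symm ≪≫ b
  obtain ⟨t₁⟩ := nonempty_LTensorCx_iso_of_Q_iso K P eP.symm
  obtain ⟨t₂⟩ := nonempty_LTensorCx_iso_of_Q_iso M ((pullCx f).obj P) eMP
  obtain ⟨E', ⟨eE⟩⟩ : ∃ F : CochainComplex X.Modules ℤ, Nonempty (DerivedCategory.Q.obj F ≅ E) :=
    ⟨DerivedCategory.Q.objPreimage E, ⟨DerivedCategory.Q.objObjPreimageIso E⟩⟩
  obtain ⟨J, i, hJ, hi⟩ := Groth.Agent.Lib.Helper25.SchKInj.hKinj X E'
  haveI : IsIso (DerivedCategory.Q.map i) := inferInstance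
  let eI : DerivedCategory.Q.obj J ≅ E := (asIso (DerivedCategory.Q.map i)).symm ≪≫ eE
  have hP' : DCoh.IsKFlat ((pullCx f).obj P) :=
    Groth.Agent.Lib.Helper25.PullKFlat.isKFlat_pullback f P hP
  haveI h1 := isIso_ε_of_isKFlat P hP
  haveI h2 := isIso_ε_of_isKFlat ((pullCx f).obj P) hP'
  haveI h3 := isIso_m_of_isQCohD f J
    (Groth.Agent.Lib.Helper25.LiftCover.isQCohD_of_iso eI.symm hE) P hP
    (Groth.Agent.Lib.Helper25.LiftCover.isQCohD_of_iso eP.symm hK)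
  haveI h4 := isIso_ηQ_of_isKInjective f J
  let e1 : (DCoh.LTensorCx P).obj (DerivedCategory.Q.obj ((pushCx f).obj J)) ≅
      DerivedCategory.Q.obj ((DCoh.tensorCx.obj ((pushCx f).obj J)).obj P) :=
    asIso ((ε P).app ((pushCx f).obj J))
  let e2 : (DCoh.LTensorCx ((pullCx f).obj P)).obj (DerivedCategory.Q.obj J) ≅
      DerivedCategory.Q.obj ((DCoh.tensorCx.obj J).obj ((pullCx f).obj P)) :=
    asIso ((ε ((pullCx f).obj P)).app J)
  exact ⟨t₁.app _ ≪≫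
    (DCoh.LTensorCx P).mapIso ((DCoh.Rpush f).mapIso eI.symm ≪≫ (asIso (ηQ f J)).symm) ≪≫
    e1 ≪≫ asIso (m f J P) ≪≫
    (DCoh.Rpush f).mapIso (e2.symm ≪≫ (DCoh.LTensorCx ((pullCx f).obj P)).mapIso eI ≪≫
      (t₂.app E).symm)⟩

end Groth.Agent.Lib.Helper25.PFMain
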