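import Groth.Agent.Lib.Helper25.LTensorTri
import Groth.Agent.Lib.Helper25.PFMain
import Groth.Agent.Lib.Helper25.RGZ5

/-!
# `RΓ_Z(F) ⊗^L E ≅ RΓ_Z(F ⊗^L E)` on a Noetherian scheme (helper25; S14367)

* `exists_triangle'`: the localization triangle `RΓ_Z(B) ⟶ B ⟶ Rj_* D' ⟶` of `RGZ3.exists_triangle`, together with
  `D' ≅ B|_W`.
* `LTensor_RgammaZ`: for `F`, `E` with quasi-coherent cohomology, `(RΓ_Z F) ⊗^L E ⟶ F ⊗^L E` factors through
  `RΓ_Z(F ⊗^L E)`, and every such factorization is an isomorphism (the third vertex `Rj_*(F|_U) ⊗^L E` is of the form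
  `Rj_*(-)` by the projection formula `PFMain.nonempty_projection_iso_DQCoh`).
-/

set_option autoImplicit false
universe u
open CategoryTheory CategoryTheory.Limits AlgebraicGeometry Pretriangulated
attribute [local instance] HasDerivedCategory.standard

namespace Groth.Agent.Lib.Helper25.RGZTensor

open AlgebraicGeometry.Scheme.Modules Groth.Agent.Lib.Helper25.SchKInj Groth.Agent.Lib.Helper25.RGZ1
  Groth.Agent.Lib.Helper25.RGZ3 Groth.Agent.Lib.Helper25.RGZ4 Groth.Agent.Lib.Helper25.RGZ5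
  Groth.Agent.Lib.Helper25.LTensorTri DerivedCategory

variable {X : Scheme.{u}}

/-- the localization triangle, with the identification of the third vertex -/
theorem exists_triangle' (W : X.Opens) [CxOX.HasRgammaZ W.ι] [DCoh.HasRpush W.ι] (B : DCoh.D X) :
    ∃ (D' : DCoh.D (W : Scheme.{u})) (v : B ⟶ (DCoh.Rpush W.ι).obj D')
      (w : (DCoh.Rpush W.ι).obj D' ⟶ ((CxOX.RgammaZ W.ι).obj B)⟦(1 : ℤ)⟧),
      Triangle.mk ((CxOX.RgammaZToId W.ι).app B) v w ∈ distTriang (DCoh.D X) ∧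
      Nonempty (D' ≅ (DCoh.restrictD W.ι).obj B) := by
  obtain ⟨I, hI, hinj, ⟨e⟩⟩ := MVDer.exists_kInjective_injective B
  have hT := DerivedCategory.triangleOfSES_distinguished (ses_shortExact W I hinj)
  haveI := hI
  have hiso := RDerRlim.isIso_uQ_app (DCoh.gammaZ W.ι) (CxOX.RgammaZ W.ι)
      ((CxOX.gammaZKh W.ι).totalRightDerivedUnit DerivedCategory.Qh
        (HomotopyCategory.quasiIso X.Modules (ComplexShape.up ℤ)))
      (MVDer.isIso_totalRightDerivedUnit (DCoh.gammaZ W.ι)) I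
  obtain ⟨e₃⟩ := MVDer.nonempty_iso_totalRightDerived (pushforward W.ι)
    (Q.obj (((restrictFunctor W.ι).mapHomologicalComplex (ComplexShape.up ℤ)).obj I))
    (((restrictFunctor W.ι).mapHomologicalComplex (ComplexShape.up ℤ)).obj I)
    (isKInjective_restrict W I hI) (Iso.refl _)
  obtain ⟨v, w, h⟩ := exists_distinguished_of_isos' _ hT
    (@asIso _ _ _ _ _ hiso ≪≫
      (CxOX.RgammaZ W.ι).mapIso e.symm) e.symm e₃ ((CxOX.RgammaZToId W.ι).app B) (by
    have hnat := (CxOX.RgammaZToId W.ι).naturality e.inv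
    simp only [Functor.id_obj, Functor.id_map] at hnat
    have hu := uQ_RgammaZToId W.ι I
    exact ((congrArg (· ≫ e.inv) hu).symm.trans (Category.assoc _ _ _)).trans
      (((congrArg (_ ≫ ·) hnat).symm).trans (Category.assoc _ _ _).symm))
  exact ⟨_, v, w, h, ⟨((restrictFunctor W.ι).mapDerivedCategoryFactors.app I).symm ≪≫
    (DCoh.restrictD W.ι).mapIso e.symm⟩⟩

variable [IsNoetherian X] (U : X.Opens) [CxOX.HasRgammaZ U.ι]

/-- **`RΓ_Z(F) ⊗^L E ≅ RΓ_Z(F ⊗^L E)`** (S14367) -/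
theorem LTensor_RgammaZ (F : DCoh.D X) (hF : DCoh.IsQCohD F)
    (E : CochainComplex X.Modules ℤ) (hE : DCoh.IsQCohD (DCoh.toD X E)) [DCoh.HasLTensorCx E] :
    (∃ φ : (DCoh.LTensorCx E).obj ((CxOX.RgammaZ U.ι).obj F) ⟶
        (CxOX.RgammaZ U.ι).obj ((DCoh.LTensorCx E).obj F),
        φ ≫ (CxOX.RgammaZToId U.ι).app ((DCoh.LTensorCx E).obj F) =
          (DCoh.LTensorCx E).map ((CxOX.RgammaZToId U.ι).app F)) ∧
    ∀ φ : (DCoh.LTensorCx E).obj ((CxOX.RgammaZ U.ι).obj F) ⟶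
        (CxOX.RgammaZ U.ι).obj ((DCoh.LTensorCx E).obj F),
        φ ≫ (CxOX.RgammaZToId U.ι).app ((DCoh.LTensorCx E).obj F) =
          (DCoh.LTensorCx E).map ((CxOX.RgammaZToId U.ι).app F) → IsIso φ := by
  haveI := hasRpush U.ι
  haveI : DCoh.HasLpull U.ι := Groth.Agent.Lib.Helper25.LpullAdapted.hasLpull U.ι
  have hA : IsZero ((DCoh.restrictD U.ι).obj
      ((DCoh.LTensorCx E).obj ((CxOX.RgammaZ U.ι).obj F))) :=
    isZero_restrictD_LTensorCx U.ι E _ (isZero_restrictD_RgammaZ U.ι F)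
  have hA' := isZero_restrictD_RgammaZ U.ι ((DCoh.LTensorCx E).obj F)
  refine ⟨exists_lift_RgammaZ U _ hA _ _, fun α hα => ?_⟩
  obtain ⟨D₁, v₁, w₁, hT₁⟩ := exists_triangle U ((DCoh.LTensorCx E).obj F)
  obtain ⟨D₂, v₂, w₂, hT₂, ⟨eD⟩⟩ := exists_triangle' U F
  obtain ⟨c, hT₃⟩ := exists_distinguished_LTensorCx E _ hT₂
  have hD₂ : DCoh.IsQCohD D₂ :=
    Groth.Agent.Lib.Helper25.LiftCover.isQCohD_of_iso eD.symm (isQCohD_restrictD U.ι F hF)
  obtain ⟨M, hM⟩ : ∃ M : CochainComplex (U : Scheme.{u}).Modules ℤ,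
      Nonempty (DCoh.toD _ M ≅ (DCoh.Lpull U.ι).obj (DCoh.toD X E)) :=
    ⟨Q.objPreimage _, ⟨Q.objObjPreimageIso _⟩⟩
  haveI := Groth.Agent.Lib.Helper25.LTensorRestrict.hasLTensorCx M
  obtain ⟨pf⟩ := Groth.Agent.Lib.Helper25.PFMain.nonempty_projection_iso_DQCoh U.ι D₂ hD₂ E hE M hM
  exact isIso_of_bij U _ _ hA hA'
    (fun Z hZ => bij_of_orth U _ hT₃ (orth_of_iso U pf.symm (orth_Rpush U _)) Z hZ)
    (fun Z hZ => bij_of_orth U _ hT₁ (orth_Rpush U _) Z hZ) α hα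

end Groth.Agent.Lib.Helper25.RGZTensor
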