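import Mathlib
import Groth.Agent.Lib.Helper25.FBCFinal
import Groth.Agent.Lib.Helper25.RGZTensor

/-!
# `Lf^* RΓ_Z ≅ RΓ_{f⁻¹Z} Lf^*` for flat `f` (helper25; S14365)

* `exists_distinguished_Lpull`: for flat `f`, `Lf^*` sends a distinguished triangle to a distinguished triangle with
  first map `Lf^*(mor₁)` and the same vertices.
* `Lpull_RgammaZ`: for `f` flat, `Y` Noetherian and `K ∈ D_QCoh(Y)`, `Lf^*(RΓ_Z K ⟶ K)` factors through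
  `RΓ_{Z'}(Lf^* K) ⟶ Lf^* K` and every such factorisation is an isomorphism: the third vertex `Lf^* Rj_*(K|_U)` of the
  pulled back localization triangle is of the form `Rj'_*(-)` by flat base change (`FBCFinal.isIso_bc`).
-/

set_option autoImplicit false
universe u
open CategoryTheory CategoryTheory.Limits AlgebraicGeometry Pretriangulated
attribute [local instance] HasDerivedCategory.standard

namespace Groth.Agent.Lib.Helper25.FBCRgammaZ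

open Groth.Agent.Lib.Helper25.SchKInj Groth.Agent.Lib.Helper25.RGZ1
  Groth.Agent.Lib.Helper25.RGZ3 Groth.Agent.Lib.Helper25.RGZ4 Groth.Agent.Lib.Helper25.RGZ5
  Groth.Agent.Lib.Helper25.RGZTensor Groth.Agent.Lib.Helper25.FBCIso DerivedCategory

attribute [local instance] Groth.Agent.Lib.Helper25.SchKInj.hasRpush
  Groth.Agent.Lib.Helper25.LpullAdapted.hasLpull

variable {X Y : Scheme.{u}}

theorem exists_distinguished_Lpull (f : X ⟶ Y) [Flat f] (T : Triangle (DCoh.D Y))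
    (hT : T ∈ distTriang _) :
    ∃ (b : (DCoh.Lpull f).obj T.obj₂ ⟶ (DCoh.Lpull f).obj T.obj₃)
      (c : (DCoh.Lpull f).obj T.obj₃ ⟶ ((DCoh.Lpull f).obj T.obj₁)⟦(1 : ℤ)⟧),
      Triangle.mk ((DCoh.Lpull f).map T.mor₁) b c ∈ distTriang (DCoh.D X) := by
  obtain ⟨τ⟩ := nonempty_mapDC_iso_Lpull f
  exact exists_distinguished_of_isos'
    ((Scheme.Modules.pullback f).mapDerivedCategory.mapTriangle.obj T)
    ((Scheme.Modules.pullback f).mapDerivedCategory.map_distinguished T hT)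
    (τ.app T.obj₁) (τ.app T.obj₂) (τ.app T.obj₃) ((DCoh.Lpull f).map T.mor₁)
    (τ.hom.naturality T.mor₁)

/-- **`Lf^* RΓ_Z ≅ RΓ_{f⁻¹ Z} Lf^*`** for flat `f` (S14365) -/
theorem Lpull_RgammaZ [IsNoetherian Y] (f : X ⟶ Y) [Flat f] (U : Y.Opens)
    [CxOX.HasRgammaZ U.ι] [CxOX.HasRgammaZ (f ⁻¹ᵁ U).ι] (K : DCoh.D Y) (hK : DCoh.IsQCohD K) :
    (∃ β : (DCoh.Lpull f).obj ((CxOX.RgammaZ U.ι).obj K) ⟶
        (CxOX.RgammaZ (f ⁻¹ᵁ U).ι).obj ((DCoh.Lpull f).obj K),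
        β ≫ (CxOX.RgammaZToId (f ⁻¹ᵁ U).ι).app ((DCoh.Lpull f).obj K) =
          (DCoh.Lpull f).map ((CxOX.RgammaZToId U.ι).app K)) ∧
    ∀ β : (DCoh.Lpull f).obj ((CxOX.RgammaZ U.ι).obj K) ⟶
        (CxOX.RgammaZ (f ⁻¹ᵁ U).ι).obj ((DCoh.Lpull f).obj K),
        β ≫ (CxOX.RgammaZToId (f ⁻¹ᵁ U).ι).app ((DCoh.Lpull f).obj K) =
          (DCoh.Lpull f).map ((CxOX.RgammaZToId U.ι).app K) → IsIso β := by
  obtain ⟨μ⟩ := nonempty_Lpull_restrictD f U (f ⁻¹ᵁ U) le_rfl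
  haveI : (DCoh.Lpull (f.resLE U (f ⁻¹ᵁ U) le_rfl)).Additive :=
    Groth.Agent.Lib.helper13.CurveDual.additive_Lpull _
  have hA : IsZero ((DCoh.restrictD (f ⁻¹ᵁ U).ι).obj
      ((DCoh.Lpull f).obj ((CxOX.RgammaZ U.ι).obj K))) :=
    IsZero.of_iso (Functor.map_isZero _ (isZero_restrictD_RgammaZ U.ι K)) (μ.app _)
  have hA' := isZero_restrictD_RgammaZ (f ⁻¹ᵁ U).ι ((DCoh.Lpull f).obj K)
  refine ⟨exists_lift_RgammaZ (f ⁻¹ᵁ U) _ hA _ _, fun α hα => ?_⟩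
  obtain ⟨D₁, v₁, w₁, hT₁⟩ := exists_triangle (f ⁻¹ᵁ U) ((DCoh.Lpull f).obj K)
  obtain ⟨D₂, v₂, w₂, hT₂, ⟨eD⟩⟩ := exists_triangle' U K
  obtain ⟨b, c, hT₃⟩ := exists_distinguished_Lpull f _ hT₂
  have hD₂ : DCoh.IsQCohD D₂ :=
    Groth.Agent.Lib.Helper25.LiftCover.isQCohD_of_iso eD.symm (isQCohD_restrictD U.ι K hK)
  obtain ⟨ε⟩ := Groth.Agent.Lib.Helper25.FBCFinal.nonempty_Rpush_square (f := U.ι) (g := f)
    (f' := (f ⁻¹ᵁ U).ι) (g' := f ∣_ U) (isPullback_morphismRestrict f U).w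
  have := Groth.Agent.Lib.Helper25.FBCFinal.isIso_bc (isPullback_morphismRestrict f U)
    (Groth.Agent.Lib.Helper25.LpullRpushAdj.adj f) (Groth.Agent.Lib.Helper25.LpullRpushAdj.adj (f ∣_ U))
    ε D₂ hD₂
  have pf : (DCoh.Lpull f).obj ((DCoh.Rpush U.ι).obj D₂) ≅
      (DCoh.Rpush (f ⁻¹ᵁ U).ι).obj ((DCoh.Lpull (f ∣_ U)).obj D₂) :=
    asIso (Groth.Agent.Lib.Helper25.FBCFormal.bc (Groth.Agent.Lib.Helper25.LpullRpushAdj.adj f)
      (Groth.Agent.Lib.Helper25.LpullRpushAdj.adj (f ∣_ U)) ε D₂)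
  exact isIso_of_bij (f ⁻¹ᵁ U) _ _ hA hA'
    (fun Z hZ => bij_of_orth (f ⁻¹ᵁ U) _ hT₃ (orth_of_iso (f ⁻¹ᵁ U) pf.symm (orth_Rpush (f ⁻¹ᵁ U) _)) Z hZ)
    (fun Z hZ => bij_of_orth (f ⁻¹ᵁ U) _ hT₁ (orth_Rpush (f ⁻¹ᵁ U) _) Z hZ) α hα

end Groth.Agent.Lib.Helper25.FBCRgammaZ
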