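import Mathlib
import Groth.Agent.Lib.Helper25.LocalTorCoh
import Groth.Agent.Lib.Helper25.RegPerfect
import Groth.Agent.Lib.Helper25.LpullPerfect
import Groth.Agent.Lib.Helper25.RpushCohProper
import Groth.Agent.Lib.Helper25.FMFlatKernel
import Groth.Agent.Lib.Helper13.RestrKFlat2
import Groth.Agent.S0796

/-!
# Fourier–Mukai with a `D^b_Coh` kernel on a regular source preserves `D^b_Coh` (helper25; = S2232)

* `isZero_tensorCx_X`: vanishing of the terms of `P ⊗ F` (`DCoh.tensorCx`).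
* `nonempty_restrict_homology_tensor_iso`: `H^i(P ⊗ K)|_V ≅ H^i(P' ⊗ K')` when `P|_V ≅ P'`, `K|_V ≅ K'` in `D(V)`
  (`P`, `P'` K-flat).
* `exists_lower_bound_ltensor`: on a quasi-compact scheme, `N ⊗^L K` is bounded below for `N` perfect and `K` bounded below.
* `support_HD_ltensor_subset`: `Supp H^i(N ⊗^L K) ⊆ W` if `W` is closed and contains all `Supp H^j(K)`.
* `isProperOver_biUnion`: finite unions of closed subsets proper over the base (helper8's `isProperOver_union`).
* `main` (= S2232).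
-/

set_option autoImplicit false
universe u
open CategoryTheory CategoryTheory.Limits AlgebraicGeometry Opposite
open ZeroObject

attribute [local instance] HasDerivedCategory.standard

namespace Groth.Agent.Lib.Helper25.FMRegular

open Groth.Agent.Lib.Helper25.LpullAdapted Groth.Agent.Lib.Helper25.LTensorComp
  Groth.Agent.Lib.helper13.KFlat Groth.Agent.Lib.helper13.LTensorQCoh
  Groth.Agent.Lib.helper25.DCohRestrict Groth.Agent.Lib.helper25.DCohHomology
  Groth.Agent.Lib.helper13.RestrKFlat Groth.Agent.Lib.Helper25.LTensorCoh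
  Groth.Agent.Lib.Helper25.LocalTorCoh Scheme.Modules

variable {Z : Scheme.{u}}

/-- vanishing of the terms of a tensor product of complexes -/
theorem isZero_tensorCx_X (P F : CochainComplex Z.Modules ℤ) (k : ℤ)
    (h : ∀ i j : ℤ, i + j = k → IsZero (P.X i) ∨ IsZero (F.X j)) :
    IsZero (((DCoh.tensorCx.obj P).obj F).X k) := by
  change IsZero (∐ fun (i : (ComplexShape.π (ComplexShape.up ℤ) (ComplexShape.up ℤ)
      (ComplexShape.up ℤ)) ⁻¹' {k}) =>
    ((DCoh.tensorBi (X := Z)).obj (P.X i.1.1)).obj (F.X i.1.2))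
  refine Groth.Agent.Lib.Helper25.SiteLTensor.isZero_sigma _ (fun i => ?_)
  rcases h i.1.1 i.1.2 i.2 with h1 | h2
  · exact ((DCoh.tensorBi (X := Z)).map_isZero h1).obj _
  · exact ((DCoh.tensorBi (X := Z)).obj (P.X i.1.1)).map_isZero h2

lemma isZero_homology_of_isZero_X (C : CochainComplex Z.Modules ℤ) (i : ℤ) (hz : IsZero (C.X i)) :
    IsZero (C.homology i) :=
  HomologicalComplex.ExactAt.isZero_homology (ShortComplex.exact_of_isZero_X₂ _ hz)

/-- the comparison used twice below: `H^i(P ⊗ K)|_V ≅ H^i(P' ⊗ K')` when `P|_V ≅ P'`, `K|_V ≅ K'` in `D(V)` -/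
lemma nonempty_restrict_homology_tensor_iso (V : Z.Opens) (P K : CochainComplex Z.Modules ℤ)
    (hP : DCoh.IsKFlat P) (P' K' : CochainComplex (V : Scheme.{u}).Modules ℤ) (hP' : DCoh.IsKFlat P')
    (e : DCoh.toD _ ((DCoh.restrictCx V).obj P) ≅ DCoh.toD _ P')
    (e' : DCoh.toD _ ((DCoh.restrictCx V).obj K) ≅ DCoh.toD _ K') (i : ℤ) :
    Nonempty ((restrictFunctor V.ι).obj (((DCoh.tensorCx.obj P).obj K).homology i) ≅
      ((DCoh.tensorCx.obj P').obj K').homology i) := by
  have hPV := dcoh_isKFlat_restrict (W := V) P hP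
  obtain ⟨e3⟩ := nonempty_tensor_congr hPV hP' e e'
  exact ⟨(homologyResIso V.ι ((DCoh.tensorCx.obj P).obj K) i).symm ≪≫
    (HomologicalComplex.homologyFunctor _ _ i).mapIso (resTensorCxIso V.ι P K) ≪≫
    ((DerivedCategory.homologyFunctorFactors _ i).app _).symm ≪≫
    (DerivedCategory.homologyFunctor _ i).mapIso e3 ≪≫
    (DerivedCategory.homologyFunctorFactors _ i).app _⟩


/-- **lower bound**: a perfect object tensored with a bounded below complex is bounded below (quasi-compact scheme) -/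
theorem exists_lower_bound_ltensor [CompactSpace Z] (K : CochainComplex Z.Modules ℤ) [DCoh.HasLTensorCx K]
    (k : ℤ) [K.IsGE k] (N : DCoh.D Z) (hN : DCoh.IsPerfect N) :
    ∃ c : ℤ, ∀ i, i < c → IsZero (DCoh.HD ((DCoh.LTensorCx K).obj N) i) := by
  obtain ⟨P, hP, ⟨e⟩⟩ := Groth.Agent.Lib.helper13.LpullQCoh.exists_P₀_rep N
  haveI := isIso_ε_app K P hP.1
  have eT : ∀ i, DCoh.HD ((DCoh.LTensorCx K).obj N) i ≅ ((DCoh.tensorCx.obj P).obj K).homology i :=
    fun i => (DerivedCategory.homologyFunctor _ i).mapIso ((DCoh.LTensorCx K).mapIso e.symm ≪≫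
        asIso ((ε K).app P)) ≪≫ (DerivedCategory.homologyFunctorFactors _ i).app _
  -- local strictly perfect models
  have H : ∀ x : Z, ∃ (V : Z.Opens) (S : CochainComplex (V : Scheme.{u}).Modules ℤ) (a b : ℤ), x ∈ V ∧
      DCoh.IsStrictlyPerfect S ∧ DCoh.VanishesOutside S a b ∧
      Nonempty (DCoh.toD _ ((DCoh.restrictCx V).obj P) ≅ DCoh.toD _ S) := by
    intro x
    obtain ⟨V, hxV, hV⟩ := hN x
    obtain ⟨S, hS, ⟨eS⟩⟩ := hV P ⟨e⟩
    obtain ⟨a, b, hab⟩ := hS.1
    exact ⟨V, S, a, b, hxV, hS, hab, ⟨eS⟩⟩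
  choose V S a b hxV hS hab eS using H
  obtain ⟨t, ht⟩ := isCompact_univ.elim_finite_subcover (fun x : Z => ((V x : Z.Opens) : Set Z))
    (fun x => (V x).isOpen) (fun x _ => Set.mem_iUnion.mpr ⟨x, hxV x⟩)
  have hcov : ⨆ x : t, V x.1 = ⊤ := by
    rw [eq_top_iff]
    intro x _
    obtain ⟨y, hy⟩ := Set.mem_iUnion.mp (ht (Set.mem_univ x))
    obtain ⟨hyt, hxy⟩ := Set.mem_iUnion.mp hy
    exact TopologicalSpace.Opens.mem_iSup.mpr ⟨⟨y, hyt⟩, hxy⟩
  obtain ⟨a₁, ha₁⟩ := (t.image (fun x => -a x)).exists_le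
  refine ⟨-a₁ + k, fun i hi => IsZero.of_iso ?_ (eT i)⟩
  -- replace `K` by its truncation
  have hq : QuasiIso (K.πTruncGE k) := inferInstance
  refine isZero_of_cover _ (fun x : t => V x.1) hcov (fun x => ?_)
  have e' : DCoh.toD _ ((DCoh.restrictCx (V x.1)).obj K) ≅
      DCoh.toD _ ((DCoh.restrictCx (V x.1)).obj (K.truncGE k)) := by
    haveI : QuasiIso ((DCoh.restrictCx (V x.1)).map (K.πTruncGE k)) :=
      HomologicalComplex.quasiIso_map_of_preservesHomology _ _
    haveI : IsIso (DerivedCategory.Q.map ((DCoh.restrictCx (V x.1)).map (K.πTruncGE k))) :=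
      (DerivedCategory.isIso_Q_map_iff_quasiIso _ _).2 inferInstance
    exact asIso (DerivedCategory.Q.map ((DCoh.restrictCx (V x.1)).map (K.πTruncGE k)))
  obtain ⟨e4⟩ := nonempty_restrict_homology_tensor_iso (V x.1) P K hP.1 (S x.1) _
    (Groth.Agent.Lib.Helper25.LpullPerfect.P₀_of_isStrictlyPerfect _ (hS x.1)).1 (eS x.1).some e' i
  refine IsZero.of_iso ?_ e4
  refine isZero_homology_of_isZero_X _ i (isZero_tensorCx_X _ _ i (fun p q hpq => ?_))
  by_cases hp : p < a x.1
  · exact Or.inl (hab x.1 p (Or.inl hp))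
  · right
    have ha' := ha₁ (-a x.1) (Finset.mem_image_of_mem (fun x => -a x) x.2)
    have hq' : q < k := by omega
    exact (restrictFunctor (V x.1).ι).map_isZero ((K.truncGE k).isZero_of_isStrictlyGE k q hq')

/-- **supports**: the cohomology sheaves of `N ⊗^L K` are supported where those of `K` are -/
theorem support_HD_ltensor_subset (K : CochainComplex Z.Modules ℤ) [DCoh.HasLTensorCx K]
    (W : Set Z) (hW : IsClosed W) (hKW : ∀ j : ℤ, CohB1.support (K.homology j) ⊆ W)
    (N : DCoh.D Z) (i : ℤ) : CohB1.support (DCoh.HD ((DCoh.LTensorCx K).obj N) i) ⊆ W := by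
  obtain ⟨P, hP, ⟨e⟩⟩ := Groth.Agent.Lib.helper13.LpullQCoh.exists_P₀_rep N
  haveI := isIso_ε_app K P hP.1
  have eT : DCoh.HD ((DCoh.LTensorCx K).obj N) i ≅ ((DCoh.tensorCx.obj P).obj K).homology i :=
    (DerivedCategory.homologyFunctor _ i).mapIso ((DCoh.LTensorCx K).mapIso e.symm ≪≫
        asIso ((ε K).app P)) ≪≫ (DerivedCategory.homologyFunctorFactors _ i).app _
  rw [Groth.Agent.Lib.helper8.StalkLen.support_eq_of_iso eT]
  let V : Z.Opens := ⟨Wᶜ, hW.isOpen_compl⟩
  have hVc : ((V : Z.Opens) : Set Z)ᶜ = W := compl_compl W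
  rw [← hVc]
  rw [← Groth.Agent.Lib.helper7.RestrictSupport.isZero_restrict_iff_support]
  -- `K|_V` is acyclic
  have hac : ∀ j, IsZero (((DCoh.restrictCx V).obj K).homology j) := fun j =>
    IsZero.of_iso ((Groth.Agent.Lib.helper7.RestrictSupport.isZero_restrict_iff_support _ V).2
      (by rw [hVc]; exact hKW j)) (homologyResIso V.ι K j)
  let O₀ : CochainComplex (V : Scheme.{u}).Modules ℤ := 0
  have e' : DCoh.toD _ ((DCoh.restrictCx V).obj K) ≅ DCoh.toD _ O₀ := by
    have hq : QuasiIso (0 : (DCoh.restrictCx V).obj K ⟶ O₀) := by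
      rw [quasiIso_iff]
      intro j
      rw [quasiIsoAt_iff_exactAt _ _ ((HomologicalComplex.exactAt_iff_isZero_homology _ _).2 (hac j))]
      exact (HomologicalComplex.exactAt_iff_isZero_homology _ _).2
        (isZero_homology_of_isZero_X _ j ((HomologicalComplex.eval _ _ j).map_isZero (isZero_zero _)))
    haveI : IsIso (DerivedCategory.Q.map (0 : (DCoh.restrictCx V).obj K ⟶ O₀)) :=
      (DerivedCategory.isIso_Q_map_iff_quasiIso _ _).2 hq
    exact asIso (DerivedCategory.Q.map (0 : (DCoh.restrictCx V).obj K ⟶ O₀))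
  obtain ⟨e4⟩ := nonempty_restrict_homology_tensor_iso V P K hP.1 _ O₀
    (dcoh_isKFlat_restrict (W := V) P hP.1) (Iso.refl _) e' i
  refine IsZero.of_iso ?_ e4
  exact isZero_homology_of_isZero_X _ i (isZero_tensorCx_X _ _ i (fun p q _ =>
    Or.inr ((HomologicalComplex.eval _ _ q).map_isZero (isZero_zero _))))


lemma isProperOver_biUnion {X S : Scheme.{u}} (f : X ⟶ S) [LocallyOfFiniteType f] (A : ℤ → Set X)
    (hA : ∀ j, ClSub.IsProperOver f (A j)) (s : Finset ℤ) :
    ClSub.IsProperOver f (⋃ j ∈ s, A j) := by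
  classical
  induction s using Finset.induction_on with
  | empty =>
    simp only [Finset.notMem_empty, Set.iUnion_of_empty, Set.iUnion_empty]
    exact Groth.Agent.Lib.Helper25.RpushCohProper.isProperOver_empty f
  | insert a s _ ih =>
    rw [Finset.set_biUnion_insert]
    exact Groth.Agent.S0796.isProperOver_union f (hA a) ih

open DerivedCategory in
/-- **S2232**: Fourier–Mukai with a `D^b_Coh` kernel of proper support, regular source -/
theorem main {S X Y : Scheme.{u}} [IsNoetherian S]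
    (a : X ⟶ S) (b : Y ⟶ S) [LocallyOfFiniteType a] [QuasiCompact a] [LocallyOfFiniteType b]
    [QuasiCompact b] (hreg : Models.IsRegularScheme X)
    (K : CochainComplex (Limits.pullback a b).Modules ℤ)
    (hKcoh : DCoh.IsCohD (DCoh.toD (Limits.pullback a b) K)) (kₗ kᵤ : ℤ)
    (hKge : DerivedCategory.IsGE (DCoh.toD (Limits.pullback a b) K) kₗ)
    (hKle : DerivedCategory.IsLE (DCoh.toD (Limits.pullback a b) K) kᵤ)
    (hsupp : ∀ i : ℤ, ClSub.IsProperOver (Limits.pullback.snd a b)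
      (CohB1.support (DCoh.HD (DCoh.toD (Limits.pullback a b) K) i)))
    [DCoh.HasLpull (Limits.pullback.fst a b)] [DCoh.HasLTensorCx K]
    [DCoh.HasRpush (Limits.pullback.snd a b)]
    (M : DCoh.D X) (hM : DCoh.IsCohD M) (m n : ℤ) (hMge : DerivedCategory.IsGE M m)
    (hMle : DerivedCategory.IsLE M n) :
    DCoh.IsCohD ((DCoh.Rpush (Limits.pullback.snd a b)).obj
        ((DCoh.LTensorCx K).obj ((DCoh.Lpull (Limits.pullback.fst a b)).obj M))) ∧
      ∃ m' n' : ℤ, DerivedCategory.IsGE ((DCoh.Rpush (Limits.pullback.snd a b)).obj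
        ((DCoh.LTensorCx K).obj ((DCoh.Lpull (Limits.pullback.fst a b)).obj M))) m' ∧
        DerivedCategory.IsLE ((DCoh.Rpush (Limits.pullback.snd a b)).obj
        ((DCoh.LTensorCx K).obj ((DCoh.Lpull (Limits.pullback.fst a b)).obj M))) n' := by
  haveI : IsLocallyNoetherian X := LocallyOfFiniteType.isLocallyNoetherian a
  haveI : IsLocallyNoetherian Y := LocallyOfFiniteType.isLocallyNoetherian b
  haveI : IsLocallyNoetherian (Limits.pullback a b) :=
    LocallyOfFiniteType.isLocallyNoetherian (Limits.pullback.snd a b)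
  haveI : CompactSpace S := inferInstance
  haveI : CompactSpace Y := QuasiCompact.compactSpace_of_compactSpace b
  haveI : CompactSpace ↥(Limits.pullback a b) :=
    QuasiCompact.compactSpace_of_compactSpace (Limits.pullback.snd a b)
  -- `M` is perfect
  have hMperf : DCoh.IsPerfect M :=
    Groth.Agent.Lib.Helper25.RegPerfect.isPerfect_of_regular hreg M hM m n
      (fun i hi => isZero_of_isGE M m i hi) (fun i hi => isZero_of_isLE M n i hi)
  set N := (DCoh.Lpull (Limits.pullback.fst a b)).obj M with hN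
  have hNperf : DCoh.IsPerfect N :=
    Groth.Agent.Lib.Helper25.LpullPerfect.isPerfect_Lpull _ M hMperf
  have hMz : ∀ i, n < i → IsZero (DCoh.HD M i) := fun i hi => isZero_of_isLE M n i hi
  have hNcoh : DCoh.IsCohD N := isCohD_Lpull _ M hM n hMz
  have hNz : ∀ i, n < i → IsZero (DCoh.HD N i) := isZero_HD_Lpull _ M n hMz
  have hKz : ∀ i, kᵤ < i → IsZero (DCoh.HD (DCoh.toD _ K) i) := fun i hi =>
    isZero_of_isLE _ kᵤ i hi
  obtain ⟨hTcoh, hTz⟩ := Groth.Agent.Lib.Helper25.LTensorCoh.main K N hNcoh n hNz hKcoh kᵤ hKz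
  set T := (DCoh.LTensorCx K).obj N with hT
  haveI : K.IsGE kₗ := by
    refine (K.isGE_iff kₗ).2 (fun i hi => ?_)
    rw [HomologicalComplex.exactAt_iff_isZero_homology]
    exact (isZero_of_isGE (DCoh.toD _ K) kₗ i hi).of_iso
      ((DerivedCategory.homologyFunctorFactors _ i).app K).symm
  obtain ⟨c, hc⟩ := exists_lower_bound_ltensor K kₗ N hNperf
  haveI : T.IsGE c := (isGE_iff T c).2 hc
  haveI : T.IsLE (n + kᵤ) := (isLE_iff T (n + kᵤ)).2 hTz
  -- supports
  let A : ℤ → Set ↥(Limits.pullback a b) := fun j => CohB1.support (DCoh.HD (DCoh.toD _ K) j)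
  let W : Set ↥(Limits.pullback a b) := ⋃ j ∈ Finset.Icc kₗ kᵤ, A j
  have hWp : ClSub.IsProperOver (Limits.pullback.snd a b) W :=
    isProperOver_biUnion _ A hsupp (Finset.Icc kₗ kᵤ)
  have hKW : ∀ j : ℤ, CohB1.support (K.homology j) ⊆ W := by
    intro j
    have ej : DCoh.HD (DCoh.toD _ K) j ≅ K.homology j :=
      (DerivedCategory.homologyFunctorFactors _ j).app K
    rw [← Groth.Agent.Lib.helper8.StalkLen.support_eq_of_iso ej]
    by_cases hj : j ∈ Finset.Icc kₗ kᵤ
    · exact Set.subset_biUnion_of_mem (u := A) hj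
    · have hz : IsZero (DCoh.HD (DCoh.toD _ K) j) := by
        rw [Finset.mem_Icc, not_and_or, not_le, not_le] at hj
        rcases hj with hj | hj
        · exact isZero_of_isGE _ kₗ j hj
        · exact isZero_of_isLE _ kᵤ j hj
      rw [Groth.Agent.Lib.Helper25.RpushCohProper.support_eq_empty_of_isZero hz]
      exact Set.empty_subset _
  have hTsupp : ∀ i : ℤ, ClSub.IsProperOver (Limits.pullback.snd a b)
      (CohB1.support (DCoh.HD T i)) := by
    intro i
    refine Groth.Agent.Lib.Helper25.FMFlatKernel.isProperOver_of_isClosed_subset _ hWp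
      (Groth.Agent.Lib.helper8.Dev.isClosed_support_of_isCoh _ (hTcoh i)) ?_
    exact support_HD_ltensor_subset K W hWp.1 hKW N i
  obtain ⟨h1, h2, n', h3⟩ := Groth.Agent.Lib.Helper25.RpushCohProper.isCohD_Rpush_bounded
    (Limits.pullback.snd a b) T c (n + kᵤ) hTcoh hTsupp
  exact ⟨h1, c, n', h2, h3⟩

end Groth.Agent.Lib.Helper25.FMRegular
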