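import Groth.Agent.Lib.Helper25.PushKInjAcyc

/-!
# `RΓ(Y, Rf_* E) ≅ RΓ(X, E)` on unbounded derived categories (helper25, S6509)

* `gammaPushIso f : pushforward f ⋙ gammaAb Y ≅ gammaAb X` (identity components).
* `uΓ`, `isIso_uΓ_app`, `isIso_η_app`: units of `RΓ`, `Rf_*` are invertible at K-injective complexes.
* `nonempty_Rpush_RΓ_iso f : Nonempty (Rpush f ⋙ RΓ Y ≅ RΓ X)` (uses `PushKInjAcyc.isIso_unit_pushforward`).
* `nonempty_restrict_RΓ_iso f V : Nonempty (restrictD (f⁻¹V).ι ⋙ RΓ (f⁻¹V) ≅ Rpush f ⋙ restrictD V.ι ⋙ RΓ V)`.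
-/

set_option autoImplicit false
universe u
open CategoryTheory CategoryTheory.Limits AlgebraicGeometry Opposite

attribute [local instance] HasDerivedCategory.standard

namespace Groth.Agent.Lib.Helper25.RGammaPush

open Groth.Agent.Lib.Helper25.LpullComp Groth.Agent.Lib.Helper25.LpullRpushAdj
  Groth.Agent.Lib.Helper25.PushKInjAcyc Groth.Agent.Lib.Helper25.SchKInj

variable {X Y : Scheme.{u}} (f : X ⟶ Y)

/-- `Γ(Y, f_* -) = Γ(X, -)` -/
noncomputable def gammaPushIso : Scheme.Modules.pushforward f ⋙ DCoh.gammaAb Y ≅ DCoh.gammaAb X :=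
  NatIso.ofComponents (fun M => Iso.refl _) (by
    intro M N g
    rfl)

section

variable [DCoh.HasRpush f] [DCoh.HasRΓ X] [DCoh.HasRΓ Y]

/-- the unit of `RΓ(Y, -)` -/
noncomputable abbrev uΓ (Y : Scheme.{u}) [DCoh.HasRΓ Y] :
    DCoh.gammaKh Y ⟶ DerivedCategory.Qh ⋙ DCoh.RΓ Y :=
  (DCoh.gammaKh Y).totalRightDerivedUnit DerivedCategory.Qh (Wh Y)

lemma isIso_uΓ_app (Y : Scheme.{u}) [DCoh.HasRΓ Y] (I : CochainComplex Y.Modules ℤ)
    [I.IsKInjective] : IsIso ((uΓ Y).app ((HomotopyCategory.quotient _ _).obj I)) := by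
  haveI : (DCoh.RΓ Y).IsLeftKanExtension (uΓ Y) :=
    Functor.IsRightDerivedFunctor.isLeftKanExtension _ _ (Wh Y)
  exact Groth.Agent.Lib.Helper25.DerBC.isIso_unit_app_of_isKInjective (hKinj Y) _ (DCoh.RΓ Y) _ I

omit [DCoh.HasRΓ X] [DCoh.HasRΓ Y] in
lemma isIso_η_app (I : CochainComplex X.Modules ℤ)
    [I.IsKInjective] : IsIso ((η f).app ((HomotopyCategory.quotient _ _).obj I)) := by
  haveI : (DCoh.Rpush f).IsLeftKanExtension (η f) :=
    Functor.IsRightDerivedFunctor.isLeftKanExtension _ _ (Wh X)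
  exact Groth.Agent.Lib.Helper25.DerBC.isIso_unit_app_of_isKInjective (hKinj X) _ (DCoh.Rpush f) _ I

/-- **`RΓ(Y, Rf_* -) ≅ RΓ(X, -)`** -/
theorem nonempty_Rpush_RΓ_iso : Nonempty (DCoh.Rpush f ⋙ DCoh.RΓ Y ≅ DCoh.RΓ X) := by
  refine Groth.Agent.Lib.Helper25.DerBC.nonempty_iso_of_isIso_units (hKinj X)
    (Φ₁ := (Scheme.Modules.pushforward f).mapHomotopyCategory (ComplexShape.up ℤ) ⋙ DCoh.gammaKh Y)
    (Φ₂ := DCoh.gammaKh X)
    ((Functor.associator _ _ _).symm ≪≫ Functor.isoWhiskerRight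
      (Functor.mapHomotopyCategoryCompIso (gammaPushIso f) (ComplexShape.up ℤ)) DerivedCategory.Qh)
    (DCoh.Rpush f ⋙ DCoh.RΓ Y) (DCoh.RΓ X)
    (Functor.whiskerLeft _ (uΓ Y) ≫ (Functor.associator _ _ _).inv ≫
      Functor.whiskerRight (η f) (DCoh.RΓ Y) ≫ (Functor.associator _ _ _).hom)
    (uΓ X) ?_ ?_
  · intro I hI
    have h1 := isIso_unit_pushforward f I
    have h2 := isIso_η_app f I
    simp only [NatTrans.comp_app, Functor.whiskerLeft_app, Functor.associator_inv_app,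
      Functor.whiskerRight_app, Functor.associator_hom_app, Category.id_comp, Category.comp_id]
    have h3 : IsIso ((DCoh.RΓ Y).map ((η f).app ((HomotopyCategory.quotient _ _).obj I))) :=
      inferInstance
    exact @IsIso.comp_isIso _ _ _ _ _ _ _ h1 h3
  · intro I hI
    exact isIso_uΓ_app X I

end

/-- **`RΓ(f⁻¹V, E|) ≅ RΓ(V, (Rf_*E)|_V)`** -/
theorem nonempty_restrict_RΓ_iso (V : Y.Opens) [DCoh.HasRpush f]
    [DCoh.HasRΓ (V : Scheme.{u})] [DCoh.HasRΓ (f ⁻¹ᵁ V : Scheme.{u})]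
    [PreservesFiniteLimits (Scheme.Modules.restrictFunctor V.ι)]
    [PreservesFiniteLimits (Scheme.Modules.restrictFunctor (f ⁻¹ᵁ V).ι)] :
    Nonempty (DCoh.restrictD (f ⁻¹ᵁ V).ι ⋙ DCoh.RΓ (f ⁻¹ᵁ V : Scheme.{u}) ≅
      DCoh.Rpush f ⋙ DCoh.restrictD V.ι ⋙ DCoh.RΓ (V : Scheme.{u})) := by
  haveI : DCoh.HasRpush (f ∣_ V) := hasRpush _
  obtain ⟨e₁⟩ := nonempty_Rpush_restrict_iso f V
  obtain ⟨e₂⟩ := nonempty_Rpush_RΓ_iso (f ∣_ V)
  exact ⟨(Functor.isoWhiskerLeft (DCoh.restrictD (f ⁻¹ᵁ V).ι) e₂).symm ≪≫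
    (Functor.associator _ _ _).symm ≪≫
    Functor.isoWhiskerRight e₁.symm (DCoh.RΓ (V : Scheme.{u})) ≪≫ Functor.associator _ _ _⟩

end Groth.Agent.Lib.Helper25.RGammaPush
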