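import Groth.Agent.Lib.Helper25.PFMain
import Groth.Agent.Lib.Helper25.RGammaPush
import Groth.Agent.Lib.Helper13.KFlat14

/-!
# Exchanging the two Fourier–Mukai transforms under `RΓ` (helper25; S16375)

* `braidCx A B : A ⊗ B ≅ B ⊗ A` and `swapCx A P B : A ⊗ (P ⊗ B) ≅ B ⊗ (P ⊗ A)` for complexes of modules on a scheme.
* `nonempty_side`: for `f : W ⟶ X`, `g : W ⟶ Y`, a kernel `P` on `W`, `E` perfect on `X` and `F` on `Y`, with K-flat
  representatives `E'`, `F'`: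
  `RΓ(X, Rf_*(Lg^*F ⊗^L P) ⊗^L E) ≅ RΓ(W, g^*F' ⊗ (P ⊗ f^*E'))` (projection formula for the perfect complex `E`,
  `RΓ(X, Rf_* -) ≅ RΓ(W, -)`, and `(- ⊗^L P) ⊗^L f^*E' ≅ - ⊗^L (P ⊗ f^*E')`).
* `nonempty_swap`: `RΓ(X, Rf_*(Lg^*F ⊗^L P) ⊗^L E) ≅ RΓ(Y, Rg_*(Lf^*E ⊗^L P) ⊗^L F)` for `E`, `F` perfect.
-/

set_option autoImplicit false
universe u
open CategoryTheory CategoryTheory.Limits AlgebraicGeometry HomologicalComplex

attribute [local instance] HasDerivedCategory.standard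

namespace Groth.Agent.Lib.Helper25.FMSwap

open Groth.Agent.Lib.Helper25.PullTensorCx Groth.Agent.Lib.Helper25.LTensorComp

attribute [local instance] Groth.Agent.Lib.Helper25.LTensorRestrict.hasLTensorCx

section BraidSite

variable {C : Type u} [SmallCategory C] {J : GrothendieckTopology C} (O : Sheaf J CommRingCat.{u})

/-- the symmetry of the tensor product of complexes of modules on a ringed site -/
noncomputable def braidCxSite (A B : CochainComplex (ModSite.Mod O) ℤ) :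
    ((ModSite.tensorCx O).obj A).obj B ≅ ((ModSite.tensorCx O).obj B).obj A :=
  Groth.Agent.Lib.helper13.KFlat.mapBifunctorNatIso A B (ComplexShape.up ℤ)
      (Groth.Agent.Lib.helper13.KFlat.tensorBiBraiding O) ≪≫
    mapBifunctorFlipIso B A (ModSite.tensorBi O) (ComplexShape.up ℤ)

end BraidSite

section Braid

variable {X : Scheme.{u}}

/-- the symmetry of the tensor product of complexes of modules on a scheme -/
noncomputable def braidCx (A B : CochainComplex X.Modules ℤ) :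
    (DCoh.tensorCx.obj A).obj B ≅ (DCoh.tensorCx.obj B).obj A :=
  braidCxSite X.sheaf A B

/-- `A ⊗ (P ⊗ B) ≅ B ⊗ (P ⊗ A)` -/
noncomputable def swapCx (A P B : CochainComplex X.Modules ℤ) :
    (DCoh.tensorCx.obj A).obj ((DCoh.tensorCx.obj P).obj B) ≅
      (DCoh.tensorCx.obj B).obj ((DCoh.tensorCx.obj P).obj A) :=
  (Groth.Agent.Lib.Helper25.TensorAssoc2.tensorCxAssoc X.sheaf A P B).symm ≪≫
    braidCx ((DCoh.tensorCx.obj A).obj P) B ≪≫ (DCoh.tensorCx.obj B).mapIso (braidCx A P)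

end Braid

section Side

variable {W X Y : Scheme.{u}} (f : W ⟶ X) (g : W ⟶ Y)
  [DCoh.HasRpush f] [DCoh.HasLpull g] [DCoh.HasRΓ X] [DCoh.HasRΓ W]

theorem nonempty_side (P : CochainComplex W.Modules ℤ) [DCoh.HasLTensorCx P]
    (E : CochainComplex X.Modules ℤ) [DCoh.HasLTensorCx E] (hE : DCoh.IsPerfect (DCoh.toD X E))
    (E' : CochainComplex X.Modules ℤ) (hE' : DCoh.IsKFlat E') (eE : DCoh.toD X E' ≅ DCoh.toD X E)
    (F : CochainComplex Y.Modules ℤ) (F' : CochainComplex Y.Modules ℤ)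
    (hF' : Groth.Agent.Lib.Helper25.LpullAdapted.P₀ Y F') (eF : DCoh.toD Y F' ≅ DCoh.toD Y F) :
    Nonempty ((DCoh.RΓ X).obj ((DCoh.LTensorCx E).obj ((DCoh.Rpush f).obj
        ((DCoh.LTensorCx P).obj ((DCoh.Lpull g).obj (DCoh.toD Y F))))) ≅
      (DCoh.RΓ W).obj (DerivedCategory.Q.obj ((DCoh.tensorCx.obj ((pullCx g).obj F')).obj
        ((DCoh.tensorCx.obj P).obj ((pullCx f).obj E'))))) := by
  obtain ⟨t⟩ := Groth.Agent.Lib.Helper25.DualCx6.nonempty_LTensorCx_iso_of_Q_iso E E' eE.symm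
  have hperf : DCoh.IsPerfect (DerivedCategory.Q.obj E') :=
    Groth.Agent.Lib.helper25.DCohPerfect.isPerfect_of_iso eE.symm hE
  obtain ⟨pf⟩ := Groth.Agent.Lib.Helper25.PFDer3.nonempty_projection_iso f E' hE' hperf
    ((DCoh.LTensorCx P).obj ((DCoh.Lpull g).obj (DCoh.toD Y F)))
  obtain ⟨rg⟩ := Groth.Agent.Lib.Helper25.RGammaPush.nonempty_Rpush_RΓ_iso f
  obtain ⟨b⟩ := Groth.Agent.Lib.Helper25.StalkPullFlat.nonempty_Lpull_iso g F' hF'
  have hK : DCoh.IsKFlat ((pullCx f).obj E') :=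
    Groth.Agent.Lib.Helper25.PullKFlat.isKFlat_pullback f E' hE'
  have hA : DCoh.IsKFlat ((pullCx g).obj F') :=
    Groth.Agent.Lib.Helper25.PullKFlat.isKFlat_pullback g F' hF'.1
  haveI := isIso_ε_app ((DCoh.tensorCx.obj P).obj ((pullCx f).obj E')) ((pullCx g).obj F') hA
  let i1 : (DCoh.LTensorCx P).obj ((DCoh.Lpull g).obj (DCoh.toD Y F)) ≅
      (DCoh.LTensorCx P).obj (DerivedCategory.Q.obj ((pullCx g).obj F')) :=
    (DCoh.LTensorCx P).mapIso ((DCoh.Lpull g).mapIso eF.symm ≪≫ b)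
  exact ⟨(DCoh.RΓ X).mapIso (t.app _ ≪≫ pf) ≪≫ rg.app _ ≪≫
    (DCoh.RΓ W).mapIso ((DCoh.LTensorCx ((pullCx f).obj E')).mapIso i1 ≪≫
      (LTensorCxCompIso P ((pullCx f).obj E') hK).app _ ≪≫
      asIso ((ε ((DCoh.tensorCx.obj P).obj ((pullCx f).obj E'))).app ((pullCx g).obj F')))⟩

end Side

section Swap

variable {W X Y : Scheme.{u}} (f : W ⟶ X) (g : W ⟶ Y)
  [DCoh.HasRpush f] [DCoh.HasLpull g] [DCoh.HasRpush g] [DCoh.HasLpull f] [DCoh.HasRΓ X] [DCoh.HasRΓ Y]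

/-- **exchange of the two integral transforms with kernel `P` under `RΓ`** -/
theorem nonempty_swap (P : CochainComplex W.Modules ℤ) [DCoh.HasLTensorCx P]
    (E : CochainComplex X.Modules ℤ) [DCoh.HasLTensorCx E] (hE : DCoh.IsPerfect (DCoh.toD X E))
    (F : CochainComplex Y.Modules ℤ) [DCoh.HasLTensorCx F] (hF : DCoh.IsPerfect (DCoh.toD Y F)) :
    Nonempty ((DCoh.RΓ X).obj ((DCoh.LTensorCx E).obj ((DCoh.Rpush f).obj
        ((DCoh.LTensorCx P).obj ((DCoh.Lpull g).obj (DCoh.toD Y F))))) ≅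
      (DCoh.RΓ Y).obj ((DCoh.LTensorCx F).obj ((DCoh.Rpush g).obj
        ((DCoh.LTensorCx P).obj ((DCoh.Lpull f).obj (DCoh.toD X E)))))) := by
  haveI : DCoh.HasRΓ W :=
    Groth.Agent.Lib.Helper25.DerBC.hasRightDerivedFunctor (Groth.Agent.Lib.Helper25.SchKInj.hKinj W) _
  obtain ⟨E', hE', ⟨eE⟩⟩ := Groth.Agent.Lib.helper13.LpullQCoh.exists_P₀_rep (DCoh.toD X E)
  obtain ⟨F', hF', ⟨eF⟩⟩ := Groth.Agent.Lib.helper13.LpullQCoh.exists_P₀_rep (DCoh.toD Y F)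
  obtain ⟨s1⟩ := nonempty_side f g P E hE E' hE'.1 eE F F' hF' eF
  obtain ⟨s2⟩ := nonempty_side g f P F hF F' hF'.1 eF E E' hE' eE
  exact ⟨s1 ≪≫ (DCoh.RΓ W).mapIso (DerivedCategory.Q.mapIso
    (swapCx ((pullCx g).obj F') P ((pullCx f).obj E'))) ≪≫ s2.symm⟩

end Swap

end Groth.Agent.Lib.Helper25.FMSwap
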