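import Mathlib
import Groth.Prelude.Def_FilD

/-!
# `Fil^f(A)` has binary biproducts
-/

open CategoryTheory CategoryTheory.Limits Opposite

namespace Groth.Agent.Lib.helper25.FilDBiprod

universe v u

variable {A : Type u} [Category.{v} A] [Abelian A]

section

variable (X Y : ℤᵒᵖ ⥤ A)

lemma total_app (c : ℤᵒᵖ) :
    (biprod.fst : X ⊞ Y ⟶ X).app c ≫ (biprod.inl : X ⟶ X ⊞ Y).app c +
      (biprod.snd : X ⊞ Y ⟶ Y).app c ≫ (biprod.inr : Y ⟶ X ⊞ Y).app c = 𝟙 _ := by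
  have h : (biprod.fst ≫ biprod.inl + biprod.snd ≫ biprod.inr : X ⊞ Y ⟶ X ⊞ Y).app c =
      (𝟙 (X ⊞ Y) : X ⊞ Y ⟶ X ⊞ Y).app c := by rw [biprod.total]
  simpa only [NatTrans.app_add, NatTrans.comp_app, NatTrans.id_app] using h

lemma eq_zero_of_comp_fst_snd {c : ℤᵒᵖ} {T : A} (t : T ⟶ (X ⊞ Y).obj c)
    (h1 : t ≫ (biprod.fst : X ⊞ Y ⟶ X).app c = 0)
    (h2 : t ≫ (biprod.snd : X ⊞ Y ⟶ Y).app c = 0) : t = 0 := by
  rw [← Category.comp_id t, ← total_app X Y c, Preadditive.comp_add, reassoc_of% h1,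
    reassoc_of% h2, zero_comp, zero_comp, add_zero]

lemma eq_zero_of_inl_inr_comp {c : ℤᵒᵖ} {T : A} (t : (X ⊞ Y).obj c ⟶ T)
    (h1 : (biprod.inl : X ⟶ X ⊞ Y).app c ≫ t = 0)
    (h2 : (biprod.inr : Y ⟶ X ⊞ Y).app c ≫ t = 0) : t = 0 := by
  rw [← Category.id_comp t, ← total_app X Y c, Preadditive.add_comp, Category.assoc,
    Category.assoc, h1, h2, comp_zero, comp_zero, add_zero]

lemma mono_map {c c' : ℤᵒᵖ} (f : c ⟶ c') (hX : Mono (X.map f)) (hY : Mono (Y.map f)) :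
    Mono ((X ⊞ Y).map f) := by
  apply Preadditive.mono_of_cancel_zero
  intro T t ht
  apply eq_zero_of_comp_fst_snd
  · rw [← cancel_mono (X.map f), zero_comp, Category.assoc,
      ← (biprod.fst : X ⊞ Y ⟶ X).naturality, reassoc_of% ht, zero_comp]
  · rw [← cancel_mono (Y.map f), zero_comp, Category.assoc,
      ← (biprod.snd : X ⊞ Y ⟶ Y).naturality, reassoc_of% ht, zero_comp]

lemma epi_map {c c' : ℤᵒᵖ} (f : c ⟶ c') (hX : Epi (X.map f)) (hY : Epi (Y.map f)) :
    Epi ((X ⊞ Y).map f) := by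
  apply Preadditive.epi_of_cancel_zero
  intro T t ht
  apply eq_zero_of_inl_inr_comp
  · rw [← cancel_epi (X.map f), comp_zero,
      (biprod.inl : X ⟶ X ⊞ Y).naturality_assoc, ht, comp_zero]
  · rw [← cancel_epi (Y.map f), comp_zero,
      (biprod.inr : Y ⟶ X ⊞ Y).naturality_assoc, ht, comp_zero]

lemma isZero_obj (c : ℤᵒᵖ) (hX : IsZero (X.obj c)) (hY : IsZero (Y.obj c)) :
    IsZero ((X ⊞ Y).obj c) := by
  rw [IsZero.iff_id_eq_zero]
  apply eq_zero_of_comp_fst_snd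
  · exact hX.eq_of_tgt _ _
  · exact hY.eq_of_tgt _ _

theorem isFinFil_biprod (hX : FilD.IsFinFil A X) (hY : FilD.IsFinFil A Y) :
    FilD.IsFinFil A (X ⊞ Y) := by
  obtain ⟨hX1, ⟨bX, hbX⟩, ⟨aX, haX⟩⟩ := hX
  obtain ⟨hY1, ⟨bY, hbY⟩, ⟨aY, haY⟩⟩ := hY
  refine ⟨fun c c' f => mono_map X Y f (hX1 f) (hY1 f), ⟨max bX bY, fun p hp => ?_⟩,
    ⟨min aX aY, fun c c' f hc => ?_⟩⟩
  · exact isZero_obj X Y _ (hbX p ((le_max_left _ _).trans hp)) (hbY p ((le_max_right _ _).trans hp))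
  · have h1 : IsIso (X.map f) := haX f (hc.trans (min_le_left _ _))
    have h2 : IsIso (Y.map f) := haY f (hc.trans (min_le_right _ _))
    have := mono_map X Y f inferInstance inferInstance
    have := epi_map X Y f inferInstance inferInstance
    exact isIso_of_mono_of_epi _

end

/-- The binary bicone in `Fil^f(A)`. -/
noncomputable def bicone (X Y : FilD.FilF A) : BinaryBicone X Y where
  pt := ⟨X.obj ⊞ Y.obj, isFinFil_biprod _ _ X.property Y.property⟩
  fst := ObjectProperty.homMk biprod.fst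
  snd := ObjectProperty.homMk biprod.snd
  inl := ObjectProperty.homMk biprod.inl
  inr := ObjectProperty.homMk biprod.inr
  inl_fst := by ext1; exact biprod.inl_fst
  inl_snd := by ext1; exact biprod.inl_snd
  inr_fst := by ext1; exact biprod.inr_fst
  inr_snd := by ext1; exact biprod.inr_snd

noncomputable instance : HasBinaryBiproducts (FilD.FilF A) where
  has_binary_biproduct X Y := HasBinaryBiproduct.mk
    { bicone := bicone X Y
      isBilimit := isBinaryBilimitOfTotal _ (by ext1; exact biprod.total) }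

end Groth.Agent.Lib.helper25.FilDBiprod
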