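import Mathlib
import Groth.Prelude.Def_FilD
import Groth.Agent.Lib.Helper25.ImageLemmas
import Groth.Agent.Lib.Helper25.NoethSerre

/-!
# Filtered objects `ℤᵒᵖ ⥤ A`: graded pieces, levelwise exactness and strictness via refinements
-/

open CategoryTheory CategoryTheory.Limits Opposite

namespace Groth.Agent.Lib.helper25.FilDLib

universe v u

variable {A : Type u} [Category.{v} A] [Abelian A]

/-- The transition map `F q ⟶ F p` for `p ≤ q`. -/
noncomputable abbrev tr (F : ℤᵒᵖ ⥤ A) {p q : ℤ} (h : p ≤ q) : F.obj (op q) ⟶ F.obj (op p) :=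
  F.map (homOfLE h).op

lemma tr_comp (F : ℤᵒᵖ ⥤ A) {p q r : ℤ} (h₁ : p ≤ q) (h₂ : q ≤ r) :
    tr F h₂ ≫ tr F h₁ = tr F (h₁.trans h₂) := by
  rw [← F.map_comp]
  rfl

lemma tr_refl (F : ℤᵒᵖ ⥤ A) (p : ℤ) : tr F (le_refl p) = 𝟙 _ := by
  have : (homOfLE (le_refl p)).op = 𝟙 (op p) := rfl
  rw [tr, this, F.map_id]

lemma tr_step (F : ℤᵒᵖ ⥤ A) (p : ℤ) :
    tr F (Int.le_add_one le_rfl : p ≤ p + 1) = F.map (FilD.stepHom p) := rfl

@[reassoc]
lemma tr_naturality {F G : ℤᵒᵖ ⥤ A} (φ : F ⟶ G) {p q : ℤ} (h : p ≤ q) :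
    tr F h ≫ φ.app (op p) = φ.app (op q) ≫ tr G h :=
  φ.naturality _

/-- The projection `F p ⟶ gr^p F`. -/
noncomputable def grπ (F : ℤᵒᵖ ⥤ A) (p : ℤ) : F.obj (op p) ⟶ (FilD.gr A p).obj F :=
  cokernel.π (F.map (FilD.stepHom p))

instance (F : ℤᵒᵖ ⥤ A) (p : ℤ) : Epi (grπ F p) :=
  coequalizer.π_epi

@[reassoc (attr := simp)]
lemma step_grπ (F : ℤᵒᵖ ⥤ A) (p : ℤ) : F.map (FilD.stepHom p) ≫ grπ F p = 0 :=
  cokernel.condition _

lemma grπ_exact (F : ℤᵒᵖ ⥤ A) (p : ℤ) :
    (ShortComplex.mk _ _ (step_grπ F p)).Exact :=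
  ShortComplex.exact_cokernel _

@[reassoc]
lemma grπ_naturality {F G : ℤᵒᵖ ⥤ A} (φ : F ⟶ G) (p : ℤ) :
    φ.app (op p) ≫ grπ G p = grπ F p ≫ (FilD.gr A p).map φ := by
  simp [grπ, FilD.gr]

section Chases

variable {X Y Z : ℤᵒᵖ ⥤ A} (f : X ⟶ Y) (g : Y ⟶ Z)

/-- Inductive step: levelwise exactness at `p + 1` and `gr^p`-exactness give exactness at `p`. -/
theorem exact_step (w : f ≫ g = 0) (p : ℤ) (hZ : Mono (Z.map (FilD.stepHom p)))
    (hgr : ∀ ⦃T : A⦄ (y : T ⟶ (FilD.gr A p).obj Y), y ≫ (FilD.gr A p).map g = 0 →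
      ∃ (T' : A) (π : T' ⟶ T) (_ : Epi π) (x : T' ⟶ (FilD.gr A p).obj X),
        π ≫ y = x ≫ (FilD.gr A p).map f)
    (hex : ∀ ⦃T : A⦄ (y : T ⟶ Y.obj (op (p + 1))), y ≫ g.app (op (p + 1)) = 0 →
      ∃ (T' : A) (π : T' ⟶ T) (_ : Epi π) (x : T' ⟶ X.obj (op (p + 1))),
        π ≫ y = x ≫ f.app (op (p + 1)))
    ⦃T : A⦄ (y : T ⟶ Y.obj (op p)) (hy : y ≫ g.app (op p) = 0) :
    ∃ (T' : A) (π : T' ⟶ T) (_ : Epi π) (x : T' ⟶ X.obj (op p)), π ≫ y = x ≫ f.app (op p) := by
  have wp : ∀ q : ℤ, f.app (op q) ≫ g.app (op q) = 0 := fun q => by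
    rw [← NatTrans.comp_app, w]; rfl
  -- step 1
  obtain ⟨T₁, π₁, _, xb, h1⟩ := hgr (y ≫ grπ Y p) (by
    rw [Category.assoc, ← grπ_naturality, reassoc_of% hy, zero_comp])
  -- step 2
  obtain ⟨T₂, π₂, _, x, h2⟩ := surjective_up_to_refinements_of_epi (grπ X p) xb
  -- step 3
  have h3 : (π₂ ≫ π₁ ≫ y - x ≫ f.app (op p)) ≫ grπ Y p = 0 := by
    rw [Preadditive.sub_comp, Category.assoc, Category.assoc, Category.assoc, h1,
      grπ_naturality, ← reassoc_of% h2, sub_self]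
  obtain ⟨T₃, π₃, _, y', h4⟩ := (grπ_exact Y p).exact_up_to_refinements _ h3
  dsimp at y' h4
  -- step 4
  have h5 : y' ≫ g.app (op (p + 1)) = 0 := by
    rw [← cancel_mono (Z.map (FilD.stepHom p)), zero_comp, Category.assoc, ← g.naturality,
      ← reassoc_of% h4, Preadditive.sub_comp, Category.assoc, Category.assoc, Category.assoc,
      hy, wp, comp_zero, comp_zero, comp_zero, sub_self, comp_zero]
  -- step 5
  obtain ⟨T₄, π₄, _, x', h6⟩ := hex y' h5
  refine ⟨T₄, π₄ ≫ π₃ ≫ π₂ ≫ π₁, inferInstance, x' ≫ X.map (FilD.stepHom p) + π₄ ≫ π₃ ≫ x, ?_⟩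
  have h7 : π₃ ≫ π₂ ≫ π₁ ≫ y = y' ≫ Y.map (FilD.stepHom p) + π₃ ≫ x ≫ f.app (op p) := by
    rw [← h4, Preadditive.comp_sub]
    abel
  rw [Category.assoc, Category.assoc, Category.assoc, h7, Preadditive.comp_add,
    reassoc_of% h6, Preadditive.add_comp, Category.assoc, Category.assoc, Category.assoc,
    f.naturality]

lemma app_w (w : f ≫ g = 0) (q : ℤ) : f.app (op q) ≫ g.app (op q) = 0 := by
  rw [← NatTrans.comp_app, w]; rfl

lemma gr_w (w : f ≫ g = 0) (q : ℤ) : (FilD.gr A q).map f ≫ (FilD.gr A q).map g = 0 := by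
  rw [← Functor.map_comp, w, Functor.map_zero]

/-- `gr`-exactness for all `p` implies levelwise exactness, for a filtration vanishing in large
degrees and a target with injective transition maps. -/
theorem levelwise_exact (w : f ≫ g = 0) (hZ : ∀ p : ℤ, Mono (Z.map (FilD.stepHom p)))
    (b : ℤ) (hb : ∀ p : ℤ, b ≤ p → IsZero (Y.obj (op p)))
    (hgr : ∀ p : ℤ, (ShortComplex.mk _ _ (gr_w f g w p)).Exact) (p : ℤ) :
    (ShortComplex.mk _ _ (app_w f g w p)).Exact := by
  suffices H : ∀ (k : ℕ) (p : ℤ), b ≤ p + k → (ShortComplex.mk _ _ (app_w f g w p)).Exact from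
    H (b - p).toNat p (by omega)
  intro k
  induction k with
  | zero =>
    intro p hp
    exact ShortComplex.exact_of_isZero_X₂ _ (hb p (by simpa using hp))
  | succ k ih =>
    intro p hp
    rw [ShortComplex.exact_iff_exact_up_to_refinements]
    intro T y hy
    exact exact_step f g w p (hZ p)
      (fun T y hy => (hgr p).exact_up_to_refinements y hy)
      (fun T y hy => (ih (p + 1) (by push_cast at hp ⊢; omega)).exact_up_to_refinements y hy) y hy

/-- Strictness of the first map, in refinement form, from levelwise exactness. -/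
theorem strict_left (w : f ≫ g = 0) {p q : ℤ} (h : p ≤ q) (hZ : Mono (tr Z h))
    (hex : (ShortComplex.mk _ _ (app_w f g w q)).Exact)
    ⦃T : A⦄ (x : T ⟶ X.obj (op p)) (y : T ⟶ Y.obj (op q))
    (hxy : x ≫ f.app (op p) = y ≫ tr Y h) :
    ∃ (T' : A) (π : T' ⟶ T) (_ : Epi π) (x' : T' ⟶ X.obj (op q)),
      π ≫ y = x' ≫ f.app (op q) := by
  have h1 : y ≫ g.app (op q) = 0 := by
    rw [← cancel_mono (tr Z h), zero_comp, Category.assoc, ← tr_naturality, ← reassoc_of% hxy,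
      app_w f g w, comp_zero]
  exact hex.exact_up_to_refinements y h1

/-- Strictness of the second map, in refinement form, from `gr`-exactness. -/
theorem strict_right (w : f ≫ g = 0) (hZ : ∀ p : ℤ, Mono (Z.map (FilD.stepHom p)))
    (hgr : ∀ p : ℤ, (ShortComplex.mk _ _ (gr_w f g w p)).Exact) (k : ℕ) :
    ∀ (p q : ℤ) (h : p ≤ q), q = p + k → ∀ ⦃T : A⦄ (y : T ⟶ Y.obj (op p)) (z : T ⟶ Z.obj (op q)),
      y ≫ g.app (op p) = z ≫ tr Z h →
      ∃ (T' : A) (π : T' ⟶ T) (_ : Epi π) (y' : T' ⟶ Y.obj (op q)),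
        π ≫ z = y' ≫ g.app (op q) := by
  induction k with
  | zero =>
    intro p q h hq T y z hyz
    obtain rfl : q = p := by simpa using hq
    refine ⟨T, 𝟙 T, inferInstance, y, ?_⟩
    rw [Category.id_comp, hyz, tr_refl, Category.comp_id]
  | succ k ih =>
    intro p q h hq T y z hyz
    have hpq : p + 1 ≤ q := by push_cast at hq; omega
    have hstep : tr Z hpq ≫ Z.map (FilD.stepHom p) = tr Z h := tr_comp Z _ hpq
    -- the class of `y` in `gr^p Y` is killed by `gr g`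
    have h0 : (y ≫ grπ Y p) ≫ (FilD.gr A p).map g = 0 := by
      rw [Category.assoc, ← grπ_naturality, reassoc_of% hyz, ← hstep, Category.assoc,
        step_grπ, comp_zero, comp_zero]
    obtain ⟨T₁, π₁, _, xb, h1⟩ := (hgr p).exact_up_to_refinements _ h0
    dsimp at xb h1
    obtain ⟨T₂, π₂, _, x, h2⟩ := surjective_up_to_refinements_of_epi (grπ X p) xb
    have h3 : (π₂ ≫ π₁ ≫ y - x ≫ f.app (op p)) ≫ grπ Y p = 0 := by
      rw [Preadditive.sub_comp, Category.assoc, Category.assoc, Category.assoc, h1,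
        grπ_naturality, ← reassoc_of% h2, sub_self]
    obtain ⟨T₃, π₃, _, y'', h4⟩ := (grπ_exact Y p).exact_up_to_refinements _ h3
    dsimp at y'' h4
    have h5 : y'' ≫ g.app (op (p + 1)) = (π₃ ≫ π₂ ≫ π₁ ≫ z) ≫ tr Z hpq := by
      have := hZ p
      rw [← cancel_mono (Z.map (FilD.stepHom p)), Category.assoc, ← g.naturality,
        ← reassoc_of% h4, Preadditive.sub_comp, Category.assoc, Category.assoc, Category.assoc,
        app_w f g w, comp_zero, sub_zero, hyz, Category.assoc, hstep]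
      simp only [Category.assoc]
    obtain ⟨T₄, π₄, _, y', h6⟩ := ih (p + 1) q hpq (by push_cast at hq ⊢; omega) y'' _ h5
    exact ⟨T₄, π₄ ≫ π₃ ≫ π₂ ≫ π₁, inferInstance, y', by simpa using h6⟩

end Chases

section Strict

variable {F G : FilD.FilF A} (φ : F ⟶ G)

/-- A subobject through which its arrow lifts (after refinement) to `f` lies in the image of `f`. -/
lemma le_imageSubobject_of_refinement {B W : A} (P : Subobject B) (f : W ⟶ B) {T : A}
    (π : T ⟶ (P : A)) [Epi π] (w : T ⟶ W) (h : π ≫ P.arrow = w ≫ f) : P ≤ imageSubobject f := by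
  have := imageSubobject_le_of_refinement P.arrow f π w h
  rwa [imageSubobject_mono, Subobject.mk_arrow] at this

/-- Strictness from its refinement form. -/
theorem isStrict_of_refinement
    (H : ∀ (p q : ℤ) (h : p ≤ q) ⦃T : A⦄ (x : T ⟶ F.obj.obj (op p)) (y : T ⟶ G.obj.obj (op q)),
      x ≫ φ.hom.app (op p) = y ≫ tr G.obj h →
      ∃ (T' : A) (π : T' ⟶ T) (_ : Epi π) (x' : T' ⟶ F.obj.obj (op q)),
        π ≫ y = x' ≫ φ.hom.app (op q)) :
    FilD.IsStrict φ := by
  intro p q h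
  have hm : Mono (G.obj.map (homOfLE h).op) := G.property.1 _
  apply le_antisymm
  · apply le_inf
    · exact imageSubobject_le_of_refinement _ (φ.hom.app (op p)) (𝟙 _)
        (F.obj.map (homOfLE h).op) (by rw [Category.id_comp]; exact (φ.hom.naturality _).symm)
    · refine (imageSubobject_comp_le _ _).trans ?_
      rw [imageSubobject_mono]
  · set P := imageSubobject (φ.hom.app (op p)) ⊓ Subobject.mk (G.obj.map (homOfLE h).op) with hP
    have h1 : imageSubobject P.arrow ≤ imageSubobject (φ.hom.app (op p)) := by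
      rw [imageSubobject_mono, Subobject.mk_arrow]
      exact inf_le_left
    obtain ⟨T₁, π₁, _, x, hx⟩ := exists_refinement_of_imageSubobject_le _ _ h1
    have h2 : P ≤ Subobject.mk (G.obj.map (homOfLE h).op) := inf_le_right
    let y₀ : (P : A) ⟶ G.obj.obj (op q) :=
      Subobject.ofLE _ _ h2 ≫ (Subobject.underlyingIso (G.obj.map (homOfLE h).op)).hom
    have hy₀ : y₀ ≫ G.obj.map (homOfLE h).op = P.arrow := by
      simp only [y₀, Category.assoc, Subobject.underlyingIso_hom_comp_eq_mk, Subobject.ofLE_arrow]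
    obtain ⟨T₂, π₂, _, x', hx'⟩ := H p q h x (π₁ ≫ y₀) (by rw [← hx, Category.assoc, hy₀])
    refine le_imageSubobject_of_refinement P _ (π₂ ≫ π₁) x' ?_
    rw [Category.assoc, ← hy₀, ← Category.assoc π₁, ← Category.assoc π₂, hx', Category.assoc]

/-- The refinement form of strictness. -/
theorem refinement_of_isStrict (hφ : FilD.IsStrict φ) (p q : ℤ) (h : p ≤ q) ⦃T : A⦄
    (x : T ⟶ F.obj.obj (op p)) (y : T ⟶ G.obj.obj (op q))
    (hxy : x ≫ φ.hom.app (op p) = y ≫ tr G.obj h) :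
    ∃ (T' : A) (π : T' ⟶ T) (_ : Epi π) (x' : T' ⟶ F.obj.obj (op q)),
      π ≫ y = x' ≫ φ.hom.app (op q) := by
  have hm : Mono (G.obj.map (homOfLE h).op) := G.property.1 _
  have h1 : imageSubobject (x ≫ φ.hom.app (op p)) ≤
      imageSubobject (φ.hom.app (op q) ≫ G.obj.map (homOfLE h).op) := by
    rw [hφ p q h]
    apply le_inf
    · exact imageSubobject_comp_le _ _
    · rw [hxy]
      refine (imageSubobject_comp_le _ _).trans ?_
      rw [imageSubobject_mono]
  obtain ⟨T', π, hπ, x', hx'⟩ := exists_refinement_of_imageSubobject_le _ _ h1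
  refine ⟨T', π, hπ, x', ?_⟩
  rw [← cancel_mono (G.obj.map (homOfLE h).op), Category.assoc, Category.assoc, ← hx', hxy]

end Strict

end Groth.Agent.Lib.helper25.FilDLib
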