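import Mathlib
import Groth.Prelude.Def_FilD
import Groth.Agent.Lib.Helper25.FilDLib

/-!
# Filtered injective objects: extension of morphisms along strict morphisms
-/

open CategoryTheory CategoryTheory.Limits Opposite

namespace Groth.Agent.Lib.helper25.FilDInj

open Groth.Agent.Lib.helper25.FilDLib

universe v u

variable {A : Type u} [Category.{v} A] [Abelian A]

/-- The levels of a filtered injective object are injective objects. -/
theorem injective_obj (I : FilD.FilF A) (hI : FilD.IsFilteredInjective I) (p : ℤ) :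
    Injective (I.obj.obj (op p)) := by
  obtain ⟨b, hb⟩ := I.property.2.1
  suffices H : ∀ (k : ℕ) (p : ℤ), b ≤ p + k → Injective (I.obj.obj (op p)) from
    H (b - p).toNat p (by omega)
  intro k
  induction k with
  | zero =>
    intro p hp
    exact (hb p (by simpa using hp)).injective
  | succ k ih =>
    intro p hp
    have h1 : Injective (I.obj.obj (op (p + 1))) := ih (p + 1) (by push_cast at hp ⊢; omega)
    have h2 : Injective (cokernel (I.obj.map (FilD.stepHom p))) := hI p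
    have hm : Mono (I.obj.map (FilD.stepHom p)) := I.property.1 _
    let S : ShortComplex A := ShortComplex.mk (I.obj.map (FilD.stepHom p))
      (cokernel.π (I.obj.map (FilD.stepHom p))) (cokernel.condition _)
    have hS : S.ShortExact :=
      { exact := ShortComplex.exact_cokernel _
        mono_f := hm
        epi_g := by dsimp [S]; infer_instance }
    have : Injective S.X₁ := h1
    have : Injective S.X₃ := h2
    exact Injective.of_iso (hS.splittingOfInjective.isoBinaryBiproduct).symm inferInstance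

section Step

omit [Abelian A] in
lemma comp_biprod_desc [Preadditive A] [HasBinaryBiproducts A] {K P Q Z : A} (t : K ⟶ P ⊞ Q)
    (a : P ⟶ Z) (b : Q ⟶ Z) :
    t ≫ biprod.desc a b = (t ≫ biprod.fst) ≫ a + (t ≫ biprod.snd) ≫ b := by
  calc t ≫ biprod.desc a b
      = (t ≫ (biprod.fst ≫ biprod.inl + biprod.snd ≫ biprod.inr)) ≫ biprod.desc a b := by
        rw [biprod.total, Category.comp_id]
    _ = _ := by
        simp only [Preadditive.comp_add, Preadditive.add_comp, Category.assoc, biprod.inl_desc,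
          biprod.inr_desc]

variable {X Y I : ℤᵒᵖ ⥤ A} (d : X ⟶ Y) (f : X ⟶ I)

/-- One step of the extension of a morphism to a filtered injective object. -/
theorem step_exists (p : ℤ)
    (hstrict : ∀ ⦃T : A⦄ (x : T ⟶ X.obj (op p)) (y : T ⟶ Y.obj (op (p + 1))),
      x ≫ d.app (op p) = y ≫ Y.map (FilD.stepHom p) →
      ∃ (T' : A) (π : T' ⟶ T) (_ : Epi π) (x' : T' ⟶ X.obj (op (p + 1))),
        π ≫ y = x' ≫ d.app (op (p + 1)))
    (hker : ∀ ⦃T : A⦄ (t : T ⟶ X.obj (op p)), t ≫ d.app (op p) = 0 → t ≫ f.app (op p) = 0)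
    [Injective (I.obj (op p))]
    (g' : Y.obj (op (p + 1)) ⟶ I.obj (op (p + 1)))
    (hg' : d.app (op (p + 1)) ≫ g' = f.app (op (p + 1))) :
    ∃ g : Y.obj (op p) ⟶ I.obj (op p), d.app (op p) ≫ g = f.app (op p) ∧
      Y.map (FilD.stepHom p) ≫ g = g' ≫ I.map (FilD.stepHom p) := by
  let δ : Y.obj (op (p + 1)) ⊞ X.obj (op p) ⟶ Y.obj (op p) :=
    biprod.desc (Y.map (FilD.stepHom p)) (d.app (op p))
  let ψ : Y.obj (op (p + 1)) ⊞ X.obj (op p) ⟶ I.obj (op p) :=
    biprod.desc (g' ≫ I.map (FilD.stepHom p)) (f.app (op p))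
  have hS : (ShortComplex.mk (kernel.ι δ) δ (kernel.condition δ)).Exact :=
    ShortComplex.exact_kernel δ
  have hψ : kernel.ι δ ≫ ψ = 0 := by
    obtain ⟨y, hy⟩ : ∃ y : kernel δ ⟶ Y.obj (op (p + 1)), y = kernel.ι δ ≫ biprod.fst := ⟨_, rfl⟩
    obtain ⟨x, hx⟩ : ∃ x : kernel δ ⟶ X.obj (op p), x = kernel.ι δ ≫ biprod.snd := ⟨_, rfl⟩
    have ht0 : y ≫ Y.map (FilD.stepHom p) + x ≫ d.app (op p) = 0 := by
      rw [hy, hx, ← comp_biprod_desc]
      exact kernel.condition δ
    have h1 : x ≫ d.app (op p) = (-y) ≫ Y.map (FilD.stepHom p) := by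
      rw [Preadditive.neg_comp, eq_neg_iff_add_eq_zero]
      exact (add_comm _ _).trans ht0
    obtain ⟨T', π, _, x', h2⟩ := hstrict _ _ h1
    have h3 : (π ≫ x - x' ≫ X.map (FilD.stepHom p)) ≫ d.app (op p) = 0 := by
      rw [Preadditive.sub_comp, Category.assoc, Category.assoc, d.naturality,
        ← reassoc_of% h2, h1, sub_self]
    have h4 := hker _ h3
    rw [Preadditive.sub_comp, sub_eq_zero, Category.assoc, Category.assoc,
      f.naturality, ← reassoc_of% hg'] at h4
    rw [← cancel_epi π, comp_zero]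
    have h5 : kernel.ι δ ≫ ψ = y ≫ g' ≫ I.map (FilD.stepHom p) + x ≫ f.app (op p) := by
      rw [hy, hx]
      exact comp_biprod_desc _ _ _
    rw [h5, Preadditive.comp_add, h4, ← reassoc_of% h2]
    simp
  refine ⟨hS.descToInjective ψ hψ, ?_, ?_⟩
  · have := hS.comp_descToInjective ψ hψ
    dsimp at this
    have h := congrArg (fun z => biprod.inr ≫ z) this
    simpa [δ, ψ] using h
  · have := hS.comp_descToInjective ψ hψ
    dsimp at this
    have h := congrArg (fun z => biprod.inl ≫ z) this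
    simpa [δ, ψ] using h

end Step

section Rec

variable {X Y I : ℤᵒᵖ ⥤ A} (d : X ⟶ Y) (f : X ⟶ I)

/-- Partial solutions at level `p`. -/
def Sol (p : ℤ) : Type v :=
  {g : Y.obj (op p) ⟶ I.obj (op p) // d.app (op p) ≫ g = f.app (op p)}

/-- The hypotheses for the extension of `f` along `d`. -/
structure Hyp : Prop where
  strict : ∀ (p : ℤ) ⦃T : A⦄ (x : T ⟶ X.obj (op p)) (y : T ⟶ Y.obj (op (p + 1))),
      x ≫ d.app (op p) = y ≫ Y.map (FilD.stepHom p) →
      ∃ (T' : A) (π : T' ⟶ T) (_ : Epi π) (x' : T' ⟶ X.obj (op (p + 1))),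
        π ≫ y = x' ≫ d.app (op (p + 1))
  ker : ∀ (p : ℤ) ⦃T : A⦄ (t : T ⟶ X.obj (op p)), t ≫ d.app (op p) = 0 → t ≫ f.app (op p) = 0
  inj : ∀ p : ℤ, Injective (I.obj (op p))

variable {d f}

theorem Hyp.step_exists' (h : Hyp d f) (p : ℤ) (g' : Sol d f (p + 1)) :
    ∃ g : Sol d f p, Y.map (FilD.stepHom p) ≫ g.1 = g'.1 ≫ I.map (FilD.stepHom p) := by
  have := h.inj p
  obtain ⟨g, h1, h2⟩ := step_exists d f p (h.strict p) (h.ker p) g'.1 g'.2
  exact ⟨⟨g, h1⟩, h2⟩

/-- The chosen solution at level `p` extending a solution at level `p + 1`. -/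
noncomputable def Hyp.stepSol (h : Hyp d f) (p : ℤ) (g' : Sol d f (p + 1)) : Sol d f p :=
  (h.step_exists' p g').choose

lemma Hyp.stepSol_spec (h : Hyp d f) (p : ℤ) (g' : Sol d f (p + 1)) :
    Y.map (FilD.stepHom p) ≫ (h.stepSol p g').1 = g'.1 ≫ I.map (FilD.stepHom p) :=
  (h.step_exists' p g').choose_spec

/-- Solutions by downward recursion. -/
noncomputable def Hyp.solRec (h : Hyp d f) (b : ℤ)
    (hb : ∀ p : ℤ, b ≤ p → IsZero (I.obj (op p))) :
    ∀ (k : ℕ) (p : ℤ), b ≤ p + k → Sol d f p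
  | 0, p, hp => ⟨0, (hb p (by simpa using hp)).eq_of_tgt _ _⟩
  | k + 1, p, hp => h.stepSol p (Hyp.solRec h b hb k (p + 1) (by push_cast at hp; omega))

/-- The solution at level `p`. -/
noncomputable def Hyp.sol (h : Hyp d f) (b : ℤ) (hb : ∀ p : ℤ, b ≤ p → IsZero (I.obj (op p)))
    (p : ℤ) : Sol d f p :=
  h.solRec b hb (b - p).toNat p (by omega)

lemma Hyp.sol_step (h : Hyp d f) (b : ℤ) (hb : ∀ p : ℤ, b ≤ p → IsZero (I.obj (op p))) (p : ℤ) :
    Y.map (FilD.stepHom p) ≫ (h.sol b hb p).1 =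
      (h.sol b hb (p + 1)).1 ≫ I.map (FilD.stepHom p) := by
  by_cases hp : b ≤ p
  · exact (hb p hp).eq_of_tgt _ _
  · have key : ∀ (k k' : ℕ) (_ : k = k') (h1 : b ≤ p + k) (h2 : b ≤ p + k'),
        h.solRec b hb k p h1 = h.solRec b hb k' p h2 := by
      intro k k' hk
      subst hk
      intros
      rfl
    have e : h.sol b hb p = h.stepSol p (h.sol b hb (p + 1)) := by
      unfold Hyp.sol
      rw [key (b - p).toNat ((b - (p + 1)).toNat + 1) (by omega) _ (by push_cast; omega)]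
      rfl
    rw [e]
    exact h.stepSol_spec p _

end Rec

section NatTrans

lemma naturality_of_steps {Y I : ℤᵒᵖ ⥤ A} (g : ∀ p : ℤ, Y.obj (op p) ⟶ I.obj (op p))
    (hg : ∀ p, Y.map (FilD.stepHom p) ≫ g p = g (p + 1) ≫ I.map (FilD.stepHom p)) (k : ℕ) :
    ∀ (p q : ℤ) (h : p ≤ q), q = p + k → tr Y h ≫ g p = g q ≫ tr I h := by
  induction k with
  | zero =>
    intro p q h hq
    obtain rfl : q = p := by simpa using hq
    rw [tr_refl, tr_refl, Category.id_comp, Category.comp_id]
  | succ k ih =>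
    intro p q h hq
    have hpq : p + 1 ≤ q := by push_cast at hq; omega
    have h1 : tr Y h = tr Y hpq ≫ Y.map (FilD.stepHom p) :=
      (tr_comp Y (Int.le_add_one le_rfl) hpq).symm
    have h2 : tr I h = tr I hpq ≫ I.map (FilD.stepHom p) :=
      (tr_comp I (Int.le_add_one le_rfl) hpq).symm
    rw [h1, h2, Category.assoc, hg p, ← Category.assoc,
      ih (p + 1) q hpq (by push_cast at hq ⊢; omega), Category.assoc]

/-- A natural transformation of functors on `ℤᵒᵖ` from components compatible with the steps. -/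
noncomputable def natTransOfSteps {Y I : ℤᵒᵖ ⥤ A} (g : ∀ p : ℤ, Y.obj (op p) ⟶ I.obj (op p))
    (hg : ∀ p, Y.map (FilD.stepHom p) ≫ g p = g (p + 1) ≫ I.map (FilD.stepHom p)) : Y ⟶ I where
  app q := g q.unop
  naturality q q' φ := by
    have h : q'.unop ≤ q.unop := leOfHom φ.unop
    have hφ : φ = (homOfLE h).op := Subsingleton.elim _ _
    subst hφ
    exact naturality_of_steps g hg (q.unop - q'.unop).toNat q'.unop q.unop h (by omega)

theorem Hyp.exists_desc {X Y I : ℤᵒᵖ ⥤ A} {d : X ⟶ Y} {f : X ⟶ I} (h : Hyp d f) (b : ℤ)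
    (hb : ∀ p : ℤ, b ≤ p → IsZero (I.obj (op p))) :
    ∃ g : Y ⟶ I, d ≫ g = f := by
  refine ⟨natTransOfSteps (fun p => (h.sol b hb p).1) (h.sol_step b hb), ?_⟩
  ext q
  exact (h.sol b hb q.unop).2

end NatTrans

section FilF

/-- Extension of a morphism to a filtered injective object along a strict morphism, assuming the
kernel is killed. -/
theorem exists_desc_of_isStrict {X Y I : FilD.FilF A} (d : X ⟶ Y) (hd : FilD.IsStrict d)
    (hI : FilD.IsFilteredInjective I) (f : X ⟶ I)
    (hker : ∀ (p : ℤ) ⦃T : A⦄ (t : T ⟶ X.obj.obj (op p)),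
      t ≫ d.hom.app (op p) = 0 → t ≫ f.hom.app (op p) = 0) :
    ∃ g : Y ⟶ I, d ≫ g = f := by
  obtain ⟨b, hb⟩ := I.property.2.1
  have H : Hyp d.hom f.hom :=
    { strict := fun p T x y hxy =>
        refinement_of_isStrict d hd p (p + 1) (Int.le_add_one le_rfl) x y hxy
      ker := hker
      inj := injective_obj I hI }
  obtain ⟨g, hg⟩ := H.exists_desc b hb
  exact ⟨ObjectProperty.homMk g, by ext1; exact hg⟩

lemma kernel_app_exact {F G : ℤᵒᵖ ⥤ A} (φ : F ⟶ G) (c : ℤᵒᵖ) :
    (ShortComplex.mk ((kernel.ι φ).app c) (φ.app c)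
      (by rw [← NatTrans.comp_app, kernel.condition]; rfl)).Exact :=
  (ShortComplex.exact_kernel φ).map ((evaluation ℤᵒᵖ A).obj c)

/-- The levelwise kernel of a morphism of finite filtered objects is a finite filtered object. -/
theorem isFinFil_kernel {X Y : FilD.FilF A} (u : X ⟶ Y) : FilD.IsFinFil A (kernel u.hom) := by
  have hι : ∀ c : ℤᵒᵖ, Mono ((kernel.ι u.hom).app c) := fun c => inferInstance
  have hnat : ∀ {c c' : ℤᵒᵖ} (φ : c ⟶ c'), (kernel u.hom).map φ ≫ (kernel.ι u.hom).app c' =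
      (kernel.ι u.hom).app c ≫ X.obj.map φ := fun φ => (kernel.ι u.hom).naturality φ
  have hmono : ∀ ⦃c c' : ℤᵒᵖ⦄ (φ : c ⟶ c'), Mono ((kernel u.hom).map φ) := by
    intro c c' φ
    have := X.property.1 φ
    have : Mono ((kernel.ι u.hom).app c ≫ X.obj.map φ) := mono_comp _ _
    exact mono_of_mono_fac (hnat φ)
  refine ⟨hmono, ?_, ?_⟩
  · obtain ⟨b, hb⟩ := X.property.2.1
    exact ⟨b, fun p hp => IsZero.of_mono ((kernel.ι u.hom).app (op p)) (hb p hp)⟩
  · obtain ⟨a₁, ha₁⟩ := X.property.2.2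
    obtain ⟨a₂, ha₂⟩ := Y.property.2.2
    refine ⟨min a₁ a₂, fun c c' φ hc => ?_⟩
    have h1 : IsIso (X.obj.map φ) := ha₁ φ (hc.trans (min_le_left _ _))
    have h2 : IsIso (Y.obj.map φ) := ha₂ φ (hc.trans (min_le_right _ _))
    have := hmono φ
    have : Epi ((kernel u.hom).map φ) := by
      rw [epi_iff_surjective_up_to_refinements]
      intro T t
      have hs : (t ≫ (kernel.ι u.hom).app c' ≫ inv (X.obj.map φ)) ≫ u.hom.app c = 0 := by
        rw [← cancel_mono (Y.obj.map φ), zero_comp, Category.assoc, Category.assoc,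
          Category.assoc, ← u.hom.naturality, IsIso.inv_hom_id_assoc, ← NatTrans.comp_app,
          kernel.condition]
        simp
      obtain ⟨T', π, hπ, κ, hκ⟩ := (kernel_app_exact u.hom c).exact_up_to_refinements _ hs
      dsimp at κ hκ
      refine ⟨T', π, hπ, κ, ?_⟩
      rw [← cancel_mono ((kernel.ι u.hom).app c'), Category.assoc, Category.assoc, hnat,
        ← reassoc_of% hκ]
      simp
    exact isIso_of_mono_of_epi _

/-- A monomorphism of finite filtered objects is a monomorphism at each level. -/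
theorem mono_app_of_mono {X Y : FilD.FilF A} (u : X ⟶ Y) [Mono u] (c : ℤᵒᵖ) :
    Mono (u.hom.app c) := by
  let K : FilD.FilF A := ⟨kernel u.hom, isFinFil_kernel u⟩
  let ι' : K ⟶ X := ObjectProperty.homMk (kernel.ι u.hom)
  have h0 : ι' ≫ u = 0 ≫ u := by
    rw [zero_comp]
    ext1
    exact kernel.condition u.hom
  have h1 : ι' = 0 := (cancel_mono u).1 h0
  have h2 : kernel.ι u.hom = 0 := congrArg (fun φ => φ.hom) h1
  apply Preadditive.mono_of_cancel_zero
  intro T t ht
  obtain ⟨T', π, hπ, κ, hκ⟩ := (kernel_app_exact u.hom c).exact_up_to_refinements t ht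
  dsimp at κ hκ
  rw [← cancel_epi π, comp_zero, hκ, h2]
  simp

end FilF

end Groth.Agent.Lib.helper25.FilDInj
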