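import Mathlib
import Groth.Prelude.Def_FilD
import Groth.Agent.Lib.Helper25.FilDLib
import Groth.Agent.Lib.Helper25.FilDInj

/-!
# Embedding a finite filtered object in a filtered injective object
-/

open CategoryTheory CategoryTheory.Limits Opposite

namespace Groth.Agent.Lib.helper25.FilDEmb

open Groth.Agent.Lib.helper25.FilDLib

universe v u

variable {A : Type u} [Category.{v} A] [Abelian A]

section Rho

variable (X : ℤᵒᵖ ⥤ A) (a : ℤ)
  (ha : ∀ ⦃p q : ℤᵒᵖ⦄ (f : p ⟶ q), p.unop ≤ a → IsIso (X.map f))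

include ha in
lemma isIso_tr {p q : ℤ} (h : p ≤ q) (hq : q ≤ a) : IsIso (tr X h) := ha _ hq

/-- The canonical map `X p ⟶ X a` (`X a` being "the whole object"). -/
noncomputable def rho (p : ℤ) : X.obj (op p) ⟶ X.obj (op a) :=
  haveI : IsIso (tr X (min_le_left a p)) := isIso_tr X a ha _ le_rfl
  tr X (min_le_right a p) ≫ inv (tr X (min_le_left a p))

lemma rho_comp_tr (p : ℤ) :
    rho X a ha p ≫ tr X (min_le_left a p) = tr X (min_le_right a p) := by
  haveI : IsIso (tr X (min_le_left a p)) := isIso_tr X a ha _ le_rfl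
  simp [rho]

lemma tr_rho {p' p : ℤ} (h : p' ≤ p) : tr X h ≫ rho X a ha p' = rho X a ha p := by
  haveI : IsIso (tr X (min_le_left a p')) := isIso_tr X a ha _ le_rfl
  have hm : min a p' ≤ min a p := min_le_min le_rfl h
  rw [← cancel_mono (tr X (min_le_left a p')), Category.assoc, rho_comp_tr, tr_comp,
    ← tr_comp X hm (min_le_left a p), ← Category.assoc, rho_comp_tr, tr_comp]

lemma rho_mono (hX : ∀ ⦃p q : ℤᵒᵖ⦄ (f : p ⟶ q), Mono (X.map f)) (p : ℤ) :
    Mono (rho X a ha p) := by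
  haveI : IsIso (tr X (min_le_left a p)) := isIso_tr X a ha _ le_rfl
  have : Mono (tr X (min_le_right a p)) := hX _
  unfold rho
  infer_instance

end Rho

section Constr

variable [EnoughInjectives A] (X : ℤᵒᵖ ⥤ A) (a b : ℤ)
  (ha : ∀ ⦃p q : ℤᵒᵖ⦄ (f : p ⟶ q), p.unop ≤ a → IsIso (X.map f))

/-- The injective object receiving `X a / X (b - i)`. -/
noncomputable def E (i : ℕ) : A := Injective.under (cokernel (rho X a ha (b - i)))

instance (i : ℕ) : Injective (E X a b ha i) := by
  unfold E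
  infer_instance

/-- The map `X a ⟶ E i` with kernel `X (b - i)`. -/
noncomputable def eps (i : ℕ) : X.obj (op a) ⟶ E X a b ha i :=
  cokernel.π (rho X a ha (b - i)) ≫ Injective.ι _

lemma rho_eps (i : ℕ) : rho X a ha (b - i) ≫ eps X a b ha i = 0 := by
  simp [eps]

lemma eps_exact (i : ℕ) ⦃T : A⦄ (t : T ⟶ X.obj (op a)) (ht : t ≫ eps X a b ha i = 0) :
    ∃ (T' : A) (π : T' ⟶ T) (_ : Epi π) (x : T' ⟶ X.obj (op (b - i))),
      π ≫ t = x ≫ rho X a ha (b - i) := by
  have h1 : t ≫ cokernel.π (rho X a ha (b - i)) = 0 := by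
    rw [← cancel_mono (Injective.ι (cokernel (rho X a ha (b - i)))), zero_comp, Category.assoc]
    exact ht
  exact (ShortComplex.exact_cokernel (rho X a ha (b - i))).exact_up_to_refinements t h1

open ZeroObject in
/-- The partial sums `E 0 ⊞ ⋯ ⊞ E (k - 1)`. -/
noncomputable def P : ℕ → A
  | 0 => (0 : A)
  | k + 1 => P k ⊞ E X a b ha k

/-- The inclusions of the partial sums. -/
noncomputable def Pinl (k : ℕ) : P X a b ha k ⟶ P X a b ha (k + 1) := biprod.inl

lemma Pinl_mono (k : ℕ) : Mono (Pinl X a b ha k) := by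
  show Mono (biprod.inl : P X a b ha k ⟶ P X a b ha k ⊞ E X a b ha k)
  infer_instance

/-- The functor `ℕ ⥤ A` of partial sums. -/
noncomputable def F : ℕ ⥤ A := Functor.ofSequence (Pinl X a b ha)

/-- The map from `X a` to the partial sums. -/
noncomputable def Γ : ∀ k : ℕ, X.obj (op a) ⟶ P X a b ha k
  | 0 => 0
  | k + 1 => biprod.lift (Γ k) (eps X a b ha k)

lemma F_obj (k : ℕ) : (F X a b ha).obj k = P X a b ha k := rfl

lemma F_map_succ (k : ℕ) : (F X a b ha).map (homOfLE (Nat.le_add_right k 1)) = Pinl X a b ha k :=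
  Functor.ofSequence_map_homOfLE_succ _ _

lemma F_map_mono : ∀ (k k' : ℕ) (h : k ≤ k'), Mono ((F X a b ha).map (homOfLE h)) := by
  intro k k' h
  induction k', h using Nat.le_induction with
  | base =>
    have : homOfLE (le_refl k) = 𝟙 k := rfl
    rw [this, CategoryTheory.Functor.map_id]
    infer_instance
  | succ k' h ih =>
    have : homOfLE (h.trans (Nat.le_add_right k' 1)) = homOfLE h ≫ homOfLE (Nat.le_add_right k' 1) :=
      rfl
    rw [this, CategoryTheory.Functor.map_comp, F_map_succ]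
    exact mono_comp' ih (Pinl_mono X a b ha k')

lemma F_map_isIso_of_eq (k k' : ℕ) (φ : k ⟶ k') (h : k = k') : IsIso ((F X a b ha).map φ) := by
  subst h
  have : φ = 𝟙 k := Subsingleton.elim _ _
  rw [this, CategoryTheory.Functor.map_id]
  infer_instance

lemma F_coker_injective (k k' : ℕ) (φ : k ⟶ k') (h : k' ≤ k + 1) :
    Injective (cokernel ((F X a b ha).map φ)) := by
  have hk : k ≤ k' := leOfHom φ
  obtain ⟨d, rfl⟩ : ∃ d, k' = k + d := ⟨k' - k, by omega⟩
  obtain rfl | rfl : d = 0 ∨ d = 1 := by omega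
  · have hiso : IsIso ((F X a b ha).map φ) := F_map_isIso_of_eq X a b ha k (k + 0) φ rfl
    have hepi : Epi ((F X a b ha).map φ) := IsIso.epi_of_iso _
    have hz : IsZero (cokernel ((F X a b ha).map φ)) := isZero_cokernel_of_epi _
    exact hz.injective
  · have : φ = homOfLE (Nat.le_add_right k 1) := Subsingleton.elim _ _
    rw [this, F_map_succ]
    show Injective (cokernel (biprod.inl : P X a b ha k ⟶ P X a b ha k ⊞ E X a b ha k))
    exact Injective.of_iso (cokernelBiprodInlIso (X := P X a b ha k) (Y := E X a b ha k)).symm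
      inferInstance

lemma Γ_succ (k : ℕ) : Γ X a b ha (k + 1) = biprod.lift (Γ X a b ha k) (eps X a b ha k) := rfl

lemma Γ_compat {T : A} (t : T ⟶ X.obj (op a)) (k k' : ℕ) (h : k ≤ k')
    (ht : ∀ i, k ≤ i → i < k' → t ≫ eps X a b ha i = 0) :
    (t ≫ Γ X a b ha k) ≫ (F X a b ha).map (homOfLE h) = t ≫ Γ X a b ha k' := by
  induction k', h using Nat.le_induction with
  | base =>
    have : homOfLE (le_refl k) = 𝟙 k := rfl
    rw [this, CategoryTheory.Functor.map_id]
    exact Category.comp_id _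
  | succ k' h ih =>
    have e : homOfLE (h.trans (Nat.le_add_right k' 1)) =
        homOfLE h ≫ homOfLE (Nat.le_add_right k' 1) := rfl
    have e2 : (t ≫ Γ X a b ha k) ≫ (F X a b ha).map (homOfLE (h.trans (Nat.le_add_right k' 1))) =
        (t ≫ Γ X a b ha k') ≫ Pinl X a b ha k' := by
      rw [e, CategoryTheory.Functor.map_comp, ← F_map_succ, ← ih (fun i hi hi' => ht i hi (by omega))]
      exact (Category.assoc _ _ _).symm
    refine e2.trans ?_
    show (t ≫ Γ X a b ha k') ≫
      (biprod.inl : P X a b ha k' ⟶ P X a b ha k' ⊞ E X a b ha k') =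
        t ≫ biprod.lift (Γ X a b ha k') (eps X a b ha k')
    apply biprod.hom_ext
    · simp
    · simp [ht k' h (by omega)]

lemma Γ_succ_snd {T : A} (t : T ⟶ X.obj (op a)) (k k' : ℕ) (h : k ≤ k') (hk : k' = k + 1)
    (y : T ⟶ P X a b ha k) (hy : t ≫ Γ X a b ha k' = y ≫ (F X a b ha).map (homOfLE h)) :
    t ≫ eps X a b ha k = 0 := by
  subst hk
  have e : (F X a b ha).map (homOfLE h) = Pinl X a b ha k := F_map_succ X a b ha k
  have hy' : t ≫ biprod.lift (Γ X a b ha k) (eps X a b ha k) =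
      y ≫ (biprod.inl : P X a b ha k ⟶ P X a b ha k ⊞ E X a b ha k) := by
    rw [← Γ_succ]
    exact hy.trans (congrArg (fun z => y ≫ z) e)
  have := congrArg (fun z => z ≫ (biprod.snd : P X a b ha k ⊞ E X a b ha k ⟶ _)) hy'
  simpa using this

end Constr

section Obj

variable [EnoughInjectives A] (X : ℤᵒᵖ ⥤ A) (a b : ℤ)
  (ha : ∀ ⦃p q : ℤᵒᵖ⦄ (f : p ⟶ q), p.unop ≤ a → IsIso (X.map f))

/-- The clamped index. -/
def c (p : ℤ) : ℕ := min (b - p).toNat (b - a).toNat

lemma c_anti {p p' : ℤ} (h : p' ≤ p) : c a b p ≤ c a b p' := by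
  unfold c
  omega

/-- The clamp functor. -/
def cF : ℤᵒᵖ ⥤ ℕ where
  obj q := c a b q.unop
  map φ := homOfLE (c_anti a b (leOfHom φ.unop))
  map_id _ := Subsingleton.elim _ _
  map_comp _ _ := Subsingleton.elim _ _

/-- The filtered injective object. -/
noncomputable def I : ℤᵒᵖ ⥤ A := cF a b ⋙ F X a b ha

lemma I_map_step (p : ℤ) : (I X a b ha).map (FilD.stepHom p) =
    (F X a b ha).map (homOfLE (c_anti a b (Int.le_add_one le_rfl : p ≤ p + 1))) := rfl

open ZeroObject in
theorem isFinFil_I : FilD.IsFinFil A (I X a b ha) := by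
  refine ⟨fun q q' φ => F_map_mono X a b ha _ _ (c_anti a b (leOfHom φ.unop)), ⟨b, fun p hp => ?_⟩,
    ⟨a, fun q q' φ hq => ?_⟩⟩
  · have h0 : c a b p = 0 := by
      unfold c
      omega
    show IsZero ((F X a b ha).obj (c a b p))
    rw [h0]
    exact isZero_zero A
  · have h1 : q'.unop ≤ q.unop := leOfHom φ.unop
    exact F_map_isIso_of_eq X a b ha _ _ ((cF a b).map φ) (by
      show c a b q.unop = c a b q'.unop
      unfold c
      omega)

theorem I_gr_injective (p : ℤ) : Injective ((FilD.gr A p).obj (I X a b ha)) := by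
  show Injective (cokernel ((I X a b ha).map (FilD.stepHom p)))
  rw [I_map_step]
  exact F_coker_injective X a b ha _ _ _ (by
    unfold c
    omega)

/-- The components of the embedding. -/
noncomputable def g (p : ℤ) : X.obj (op p) ⟶ (I X a b ha).obj (op p) :=
  rho X a ha p ≫ Γ X a b ha (c a b p)

lemma g_step (p : ℤ) : X.map (FilD.stepHom p) ≫ g X a b ha p =
    g X a b ha (p + 1) ≫ (I X a b ha).map (FilD.stepHom p) := by
  have h1 : X.map (FilD.stepHom p) ≫ rho X a ha p = rho X a ha (p + 1) :=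
    tr_rho X a ha (Int.le_add_one le_rfl)
  have h2 := Γ_compat X a b ha (rho X a ha (p + 1)) (c a b (p + 1)) (c a b p)
    (c_anti a b (Int.le_add_one le_rfl)) (fun i hi hi' => by
      have hle : b - (i : ℤ) ≤ p + 1 := by
        unfold c at hi hi'
        omega
      rw [← tr_rho X a ha hle, Category.assoc, rho_eps, comp_zero])
  unfold g
  rw [← Category.assoc, h1]
  exact h2.symm

/-- The embedding. -/
noncomputable def u : X ⟶ I X a b ha :=
  Groth.Agent.Lib.helper25.FilDInj.natTransOfSteps (g X a b ha) (g_step X a b ha)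

lemma u_app (p : ℤ) : (u X a b ha).app (op p) = rho X a ha p ≫ Γ X a b ha (c a b p) := rfl

lemma transport_rho (q q' : ℤ) (hq : q = q') {T : A} (x : T ⟶ X.obj (op q)) :
    ∃ x' : T ⟶ X.obj (op q'), x ≫ rho X a ha q = x' ≫ rho X a ha q' := by
  subst hq
  exact ⟨x, rfl⟩

theorem gr_u_mono (hX1 : ∀ ⦃p q : ℤᵒᵖ⦄ (f : p ⟶ q), Mono (X.map f))
    (hXb : ∀ p : ℤ, b ≤ p → IsZero (X.obj (op p))) (p : ℤ) :
    Mono ((FilD.gr A p).map (u X a b ha)) := by
  apply Preadditive.mono_of_cancel_zero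
  intro T xb hxb
  obtain ⟨T₁, π₁, _, x, h1⟩ := surjective_up_to_refinements_of_epi (grπ X p) xb
  have h2 : (x ≫ (u X a b ha).app (op p)) ≫ grπ (I X a b ha) p = 0 := by
    rw [Category.assoc, grπ_naturality, ← reassoc_of% h1, hxb, comp_zero]
  obtain ⟨T₂, π₂, _, y, h3⟩ := (grπ_exact (I X a b ha) p).exact_up_to_refinements _ h2
  dsimp at y h3
  obtain ⟨T₃, π₃, _, x', h4⟩ : ∃ (T₃ : A) (π₃ : T₃ ⟶ T₂) (_ : Epi π₃)
      (x' : T₃ ⟶ X.obj (op (p + 1))), π₃ ≫ π₂ ≫ x = x' ≫ X.map (FilD.stepHom p) := by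
    by_cases hpb : b ≤ p
    · exact ⟨T₂, 𝟙 _, inferInstance, 0, (hXb p hpb).eq_of_tgt _ _⟩
    by_cases hpa : p < a
    · have : IsIso (X.map (FilD.stepHom p)) := ha _ (by
        show p + 1 ≤ a
        omega)
      exact ⟨T₂, 𝟙 _, inferInstance, (π₂ ≫ x) ≫ inv (X.map (FilD.stepHom p)), by simp⟩
    · have hk : c a b p = c a b (p + 1) + 1 := by
        unfold c
        omega
      have h5 := Γ_succ_snd X a b ha (π₂ ≫ x ≫ rho X a ha p) (c a b (p + 1)) (c a b p)
        (c_anti a b (Int.le_add_one le_rfl)) hk y (by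
          rw [Category.assoc, Category.assoc]
          exact h3)
      obtain ⟨T₃, π₃, hπ₃, x'', h6⟩ := eps_exact X a b ha _ _ h5
      have hq : b - (c a b (p + 1) : ℤ) = p + 1 := by
        unfold c
        omega
      obtain ⟨x', hx'⟩ := transport_rho X a ha _ _ hq x''
      refine ⟨T₃, π₃, hπ₃, x', ?_⟩
      have := rho_mono X a ha hX1 p
      have h7 : X.map (FilD.stepHom p) ≫ rho X a ha p = rho X a ha (p + 1) :=
        tr_rho X a ha (Int.le_add_one le_rfl)
      rw [← cancel_mono (rho X a ha p), Category.assoc, Category.assoc, h6, hx', Category.assoc,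
        h7]
  rw [← cancel_epi (π₃ ≫ π₂ ≫ π₁), comp_zero, Category.assoc, Category.assoc, h1,
    ← Category.assoc π₂, ← Category.assoc π₃, h4, Category.assoc, step_grπ, comp_zero]

end Obj

end Groth.Agent.Lib.helper25.FilDEmb
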