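import Mathlib
import Groth.Prelude.Def_FilD
import Groth.Agent.Lib.Helper25.FilDLib
import Groth.Agent.Lib.Helper25.FilDInj

/-!
# Cokernels of strict monomorphisms of finite filtered objects, and graded pieces
-/

open CategoryTheory CategoryTheory.Limits Opposite

namespace Groth.Agent.Lib.helper25.FilDRes

open Groth.Agent.Lib.helper25.FilDLib

universe v u

variable {A : Type u} [Category.{v} A] [Abelian A]

section Coker

variable {Y I : FilD.FilF A} (u : Y ⟶ I)

lemma coker_app_exact (c : ℤᵒᵖ) :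
    (ShortComplex.mk (u.hom.app c) ((cokernel.π u.hom).app c)
      (by rw [← NatTrans.comp_app, cokernel.condition]; rfl)).Exact :=
  (ShortComplex.exact_cokernel u.hom).map ((evaluation ℤᵒᵖ A).obj c)

instance (c : ℤᵒᵖ) : Epi ((cokernel.π u.hom).app c) := inferInstance

lemma coker_naturality {c c' : ℤᵒᵖ} (f : c ⟶ c') :
    (cokernel.π u.hom).app c ≫ (cokernel u.hom).map f =
      I.obj.map f ≫ (cokernel.π u.hom).app c' :=
  ((cokernel.π u.hom).naturality f).symm

variable (hstr : FilD.IsStrict u)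

include hstr in
lemma coker_map_mono {c c' : ℤᵒᵖ} (f : c ⟶ c') : Mono ((cokernel u.hom).map f) := by
  have h : c'.unop ≤ c.unop := leOfHom f.unop
  have hf : f = (homOfLE h).op := Subsingleton.elim _ _
  apply Preadditive.mono_of_cancel_zero
  intro T t ht
  obtain ⟨T₁, π₁, _, t', h1⟩ :=
    surjective_up_to_refinements_of_epi ((cokernel.π u.hom).app c) t
  have h2 : (t' ≫ I.obj.map f) ≫ (cokernel.π u.hom).app c' = 0 := by
    rw [Category.assoc, ← coker_naturality, ← reassoc_of% h1, ht, comp_zero]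
  obtain ⟨T₂, π₂, _, y, h3⟩ := (coker_app_exact u c').exact_up_to_refinements _ h2
  dsimp at y h3
  obtain ⟨T₃, π₃, _, x', h4⟩ := refinement_of_isStrict u hstr c'.unop c.unop h y (π₂ ≫ t') (by
    rw [← h3, Category.assoc, hf])
  have h5 : (cokernel.π u.hom).app c = (cokernel.π u.hom).app (op c.unop) := rfl
  have h6 : u.hom.app (op c.unop) ≫ (cokernel.π u.hom).app c = 0 := by
    rw [← NatTrans.comp_app, cokernel.condition]
    rfl
  rw [← cancel_epi (π₃ ≫ π₂ ≫ π₁), comp_zero, Category.assoc, Category.assoc, h1,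
    ← Category.assoc π₂, ← Category.assoc π₃, h4, Category.assoc, h6, comp_zero]

include hstr in
/-- The levelwise cokernel of a strict morphism of finite filtered objects is a finite filtered
object. -/
theorem isFinFil_cokernel : FilD.IsFinFil A (cokernel u.hom) := by
  refine ⟨fun c c' f => coker_map_mono u hstr f, ?_, ?_⟩
  · obtain ⟨b, hb⟩ := I.property.2.1
    exact ⟨b, fun p hp => IsZero.of_epi ((cokernel.π u.hom).app (op p)) (hb p hp)⟩
  · obtain ⟨a, ha⟩ := I.property.2.2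
    refine ⟨a, fun c c' f hc => ?_⟩
    have h1 : IsIso (I.obj.map f) := ha f hc
    have := coker_map_mono u hstr f
    have : Epi ((cokernel u.hom).map f) := by
      have : Epi ((cokernel.π u.hom).app c ≫ (cokernel u.hom).map f) := by
        rw [coker_naturality]
        infer_instance
      exact epi_of_epi ((cokernel.π u.hom).app c) _
    exact isIso_of_mono_of_epi _

/-- The cokernel object. -/
noncomputable def cokerObj : FilD.FilF A := ⟨cokernel u.hom, isFinFil_cokernel u hstr⟩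

/-- The projection to the cokernel object. -/
noncomputable def cokerπ : I ⟶ cokerObj u hstr := ObjectProperty.homMk (cokernel.π u.hom)

@[reassoc]
lemma comp_cokerπ : u ≫ cokerπ u hstr = 0 := by
  ext1
  exact cokernel.condition u.hom

end Coker

section Gr

variable {Y I : FilD.FilF A} (u : Y ⟶ I)

/-- A strict, levelwise monic morphism induces monomorphisms on graded pieces. -/
theorem gr_mono (hstr : FilD.IsStrict u) (hmono : ∀ c, Mono (u.hom.app c)) (p : ℤ) :
    Mono ((FilD.gr A p).map u.hom) := by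
  apply Preadditive.mono_of_cancel_zero
  intro T tb htb
  obtain ⟨T₁, π₁, _, t, h1⟩ := surjective_up_to_refinements_of_epi (grπ Y.obj p) tb
  have h2 : (t ≫ u.hom.app (op p)) ≫ grπ I.obj p = 0 := by
    rw [Category.assoc, grπ_naturality, ← reassoc_of% h1, htb, comp_zero]
  obtain ⟨T₂, π₂, _, z, h3⟩ := (grπ_exact I.obj p).exact_up_to_refinements _ h2
  dsimp at z h3
  obtain ⟨T₃, π₃, _, x', h4⟩ := refinement_of_isStrict u hstr p (p + 1)
    (Int.le_add_one le_rfl) (π₂ ≫ t) z (by rw [Category.assoc, h3]; rfl)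
  have := hmono (op p)
  have h5 : π₃ ≫ π₂ ≫ t = x' ≫ Y.obj.map (FilD.stepHom p) := by
    rw [← cancel_mono (u.hom.app (op p)), Category.assoc, Category.assoc, h3, reassoc_of% h4,
      Category.assoc, u.hom.naturality]
  rw [← cancel_epi (π₃ ≫ π₂ ≫ π₁), comp_zero, Category.assoc, Category.assoc, h1,
    ← Category.assoc π₂, ← Category.assoc π₃, h5, Category.assoc, step_grπ, comp_zero]

lemma gr_w (p : ℤ) :
    (FilD.gr A p).map u.hom ≫ (FilD.gr A p).map (cokernel.π u.hom) = 0 := by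
  rw [← Functor.map_comp, cokernel.condition, Functor.map_zero]

theorem gr_epi (p : ℤ) : Epi ((FilD.gr A p).map (cokernel.π u.hom)) := by
  have : Epi (grπ I.obj p ≫ (FilD.gr A p).map (cokernel.π u.hom)) := by
    rw [← grπ_naturality]
    infer_instance
  exact epi_of_epi (grπ I.obj p) _

theorem gr_exact (p : ℤ) :
    (ShortComplex.mk _ _ (gr_w u p)).Exact := by
  rw [ShortComplex.exact_iff_exact_up_to_refinements]
  intro T xb hxb
  dsimp at xb hxb ⊢
  obtain ⟨T₁, π₁, _, x, h1⟩ := surjective_up_to_refinements_of_epi (grπ I.obj p) xb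
  have h2 : (x ≫ (cokernel.π u.hom).app (op p)) ≫ grπ (cokernel u.hom) p = 0 := by
    rw [Category.assoc, grπ_naturality, ← reassoc_of% h1, hxb, comp_zero]
  obtain ⟨T₂, π₂, _, q', h3⟩ := (grπ_exact (cokernel u.hom) p).exact_up_to_refinements _ h2
  dsimp at q' h3
  obtain ⟨T₃, π₃, _, x₁, h4⟩ :=
    surjective_up_to_refinements_of_epi ((cokernel.π u.hom).app (op (p + 1))) q'
  have h5 : (π₃ ≫ π₂ ≫ x - x₁ ≫ I.obj.map (FilD.stepHom p)) ≫
      (cokernel.π u.hom).app (op p) = 0 := by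
    rw [Preadditive.sub_comp, Category.assoc, Category.assoc, Category.assoc, h3,
      reassoc_of% h4, (cokernel.π u.hom).naturality, sub_self]
  obtain ⟨T₄, π₄, _, y, h6⟩ := (coker_app_exact u (op p)).exact_up_to_refinements _ h5
  dsimp at y h6
  refine ⟨T₄, π₄ ≫ π₃ ≫ π₂ ≫ π₁, inferInstance, y ≫ grπ Y.obj p, ?_⟩
  have h7 : (π₃ ≫ π₂ ≫ x) ≫ grπ I.obj p =
      (π₃ ≫ π₂ ≫ x - x₁ ≫ I.obj.map (FilD.stepHom p)) ≫ grπ I.obj p := by
    rw [Preadditive.sub_comp, Category.assoc x₁, step_grπ, comp_zero, sub_zero]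
  rw [Category.assoc, Category.assoc, Category.assoc, h1]
  calc π₄ ≫ π₃ ≫ π₂ ≫ x ≫ grπ I.obj p = π₄ ≫ (π₃ ≫ π₂ ≫ x) ≫ grπ I.obj p := by
        simp only [Category.assoc]
    _ = (π₄ ≫ (π₃ ≫ π₂ ≫ x - x₁ ≫ I.obj.map (FilD.stepHom p))) ≫ grπ I.obj p := by
        rw [h7, Category.assoc]
    _ = (y ≫ grπ Y.obj p) ≫ (FilD.gr A p).map u.hom := by
        rw [h6, Category.assoc, Category.assoc, grπ_naturality]

end Gr

section QuasiIsoCriterion

lemma exactAt_of_isZero {B : Type u} [Category.{v} B] [Abelian B] (M : CochainComplex B ℤ) (n : ℤ)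
    (h : IsZero (M.X n)) : M.ExactAt n := by
  rw [HomologicalComplex.exactAt_iff]
  exact ShortComplex.exact_of_isZero_X₂ _ h

/-- A morphism from a complex concentrated in degree `0` to a complex concentrated in nonnegative
degrees which is a "resolution" is a quasi-isomorphism. -/
theorem quasiIso_of_resolution {B : Type u} [Category.{v} B] [Abelian B]
    {M L : CochainComplex B ℤ} (ψ : M ⟶ L)
    (hM : ∀ n : ℤ, n ≠ 0 → IsZero (M.X n)) (hL0 : ∀ n : ℤ, n < 0 → IsZero (L.X n))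
    (hLex : ∀ n : ℤ, 0 < n → L.ExactAt n) (hmono : Mono (ψ.f 0))
    (w : ψ.f 0 ≫ L.d 0 1 = 0)
    (hex0 : (ShortComplex.mk (ψ.f 0) (L.d 0 1) w).Exact) :
    QuasiIso ψ := by
  rw [quasiIso_iff]
  intro n
  by_cases hn : n = 0
  · subst hn
    rw [quasiIsoAt_iff' ψ (-1) 0 1 (by simp) (by simp),
      ShortComplex.quasiIso_iff_of_zeros _ ((hM (-1) (by simp)).eq_of_src _ _)
        ((hM 1 (by simp)).eq_of_tgt _ _) ((hL0 (-1) (by simp)).eq_of_src _ _)]
    exact ⟨hex0, hmono⟩
  · have hMn : M.ExactAt n := exactAt_of_isZero M n (hM n hn)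
    rw [quasiIsoAt_iff_exactAt ψ n hMn]
    by_cases h0 : 0 < n
    · exact hLex n h0
    · exact exactAt_of_isZero L n (hL0 n (by omega))

end QuasiIsoCriterion

section Seq

variable (emb : ∀ Y : FilD.FilF A, ∃ (I : FilD.FilF A) (u : Y ⟶ I),
  FilD.IsFilteredInjective I ∧ Mono u ∧ FilD.IsStrict u)

/-- The chosen filtered injective object containing `Y`. -/
noncomputable def Iof (Y : FilD.FilF A) : FilD.FilF A := (emb Y).choose

/-- The chosen strict monomorphism. -/
noncomputable def uof (Y : FilD.FilF A) : Y ⟶ Iof emb Y := (emb Y).choose_spec.choose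

lemma Iof_inj (Y : FilD.FilF A) : FilD.IsFilteredInjective (Iof emb Y) :=
  (emb Y).choose_spec.choose_spec.1

lemma uof_mono (Y : FilD.FilF A) : Mono (uof emb Y) := (emb Y).choose_spec.choose_spec.2.1

lemma uof_strict (Y : FilD.FilF A) : FilD.IsStrict (uof emb Y) :=
  (emb Y).choose_spec.choose_spec.2.2

lemma uof_mono_app (Y : FilD.FilF A) (c : ℤᵒᵖ) : Mono ((uof emb Y).hom.app c) := by
  have := uof_mono emb Y
  exact Groth.Agent.Lib.helper25.FilDInj.mono_app_of_mono (uof emb Y) c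

/-- The cokernel of the chosen embedding. -/
noncomputable def Qof (Y : FilD.FilF A) : FilD.FilF A := cokerObj (uof emb Y) (uof_strict emb Y)

/-- The projection to the cokernel of the chosen embedding. -/
noncomputable def πof (Y : FilD.FilF A) : Iof emb Y ⟶ Qof emb Y :=
  cokerπ (uof emb Y) (uof_strict emb Y)

lemma uof_πof (Y : FilD.FilF A) : uof emb Y ≫ πof emb Y = 0 := comp_cokerπ _ _

variable (X : FilD.FilF A)

/-- The successive cokernels. -/
noncomputable def Cseq : ℕ → FilD.FilF A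
  | 0 => X
  | n + 1 => Qof emb (Cseq n)

/-- The terms of the resolution. -/
noncomputable abbrev Iseq (n : ℕ) : FilD.FilF A := Iof emb (Cseq emb X n)

/-- The embeddings `C n ⟶ I n`. -/
noncomputable def useq (n : ℕ) : Cseq emb X n ⟶ Iseq emb X n := uof emb (Cseq emb X n)

/-- The projections `I n ⟶ C (n + 1)`. -/
noncomputable def πseq (n : ℕ) : Iseq emb X n ⟶ Cseq emb X (n + 1) := πof emb (Cseq emb X n)

@[reassoc]
lemma useq_πseq (n : ℕ) : useq emb X n ≫ πseq emb X n = 0 := uof_πof emb _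

lemma gr_useq_mono (n : ℕ) (p : ℤ) : Mono ((FilD.gr A p).map (useq emb X n).hom) :=
  gr_mono (uof emb (Cseq emb X n)) (uof_strict emb _) (uof_mono_app emb _) p

lemma gr_πseq_epi (n : ℕ) (p : ℤ) : Epi ((FilD.gr A p).map (πseq emb X n).hom) :=
  gr_epi (uof emb (Cseq emb X n)) p

lemma gr_seq_w (n : ℕ) (p : ℤ) :
    (FilD.gr A p).map (useq emb X n).hom ≫ (FilD.gr A p).map (πseq emb X n).hom = 0 :=
  gr_w (uof emb (Cseq emb X n)) p

lemma gr_seq_exact (n : ℕ) (p : ℤ) : (ShortComplex.mk _ _ (gr_seq_w emb X n p)).Exact :=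
  gr_exact (uof emb (Cseq emb X n)) p

/-- The differentials of the resolution. -/
noncomputable def dseq (n : ℕ) : Iseq emb X n ⟶ Iseq emb X (n + 1) :=
  πseq emb X n ≫ useq emb X (n + 1)

lemma dseq_hom (n : ℕ) : (dseq emb X n).hom = (πseq emb X n).hom ≫ (useq emb X (n + 1)).hom := rfl

lemma dseq_sq (n : ℕ) : dseq emb X n ≫ dseq emb X (n + 1) = 0 := by
  unfold dseq
  rw [Category.assoc, useq_πseq_assoc, zero_comp, comp_zero]

/-- The augmentation. -/
noncomputable def εseq : X ⟶ Iseq emb X 0 := useq emb X 0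

lemma εseq_dseq : εseq emb X ≫ dseq emb X 0 = 0 := by
  have h := useq_πseq_assoc emb X 0 (useq emb X (0 + 1))
  rw [zero_comp] at h
  exact h

lemma gr_εseq_mono (p : ℤ) : Mono ((FilD.gr A p).map (εseq emb X).hom) :=
  gr_useq_mono emb X 0 p

/-- Refinement form of the graded exactness of `C n ⟶ I n ⟶ I (n + 1)`. -/
lemma gr_exact_aux (n : ℕ) (p : ℤ) ⦃T : A⦄ (x : T ⟶ (FilD.gr A p).obj (Iseq emb X n).obj)
    (hx : x ≫ (FilD.gr A p).map (dseq emb X n).hom = 0) :
    ∃ (T' : A) (π : T' ⟶ T) (_ : Epi π) (y : T' ⟶ (FilD.gr A p).obj (Cseq emb X n).obj),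
      π ≫ x = y ≫ (FilD.gr A p).map (useq emb X n).hom := by
  have := gr_useq_mono emb X (n + 1) p
  have h1 : x ≫ (FilD.gr A p).map (πseq emb X n).hom = 0 := by
    rw [← cancel_mono ((FilD.gr A p).map (useq emb X (n + 1)).hom), zero_comp,
      Category.assoc, ← Functor.map_comp, ← dseq_hom]
    exact hx
  exact (gr_seq_exact emb X n p).exact_up_to_refinements x h1

lemma gr_d_w (n : ℕ) (p : ℤ) : (FilD.gr A p).map (dseq emb X n).hom ≫
    (FilD.gr A p).map (dseq emb X (n + 1)).hom = 0 := by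
  rw [← Functor.map_comp, ← ObjectProperty.FullSubcategory.comp_hom, dseq_sq]
  exact Functor.map_zero _ _ _

lemma gr_ε_w (p : ℤ) : (FilD.gr A p).map (εseq emb X).hom ≫
    (FilD.gr A p).map (dseq emb X 0).hom = 0 := by
  rw [← Functor.map_comp, ← ObjectProperty.FullSubcategory.comp_hom, εseq_dseq]
  exact Functor.map_zero _ _ _

lemma gr_exact_zero (p : ℤ) : (ShortComplex.mk _ _ (gr_ε_w emb X p)).Exact := by
  rw [ShortComplex.exact_iff_exact_up_to_refinements]
  intro T x hx
  exact gr_exact_aux emb X 0 p x hx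

lemma gr_exact_succ (n : ℕ) (p : ℤ) : (ShortComplex.mk _ _ (gr_d_w emb X n p)).Exact := by
  rw [ShortComplex.exact_iff_exact_up_to_refinements]
  intro T x hx
  obtain ⟨T₁, π₁, _, y, h1⟩ := gr_exact_aux emb X (n + 1) p x hx
  have := gr_πseq_epi emb X n p
  obtain ⟨T₂, π₂, _, z, h2⟩ := surjective_up_to_refinements_of_epi
    ((FilD.gr A p).map (πseq emb X n).hom) y
  refine ⟨T₂, π₂ ≫ π₁, inferInstance, z, ?_⟩
  dsimp only
  rw [dseq_hom, Functor.map_comp, ← Category.assoc z, ← h2, Category.assoc, Category.assoc, h1]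

end Seq

section Res

variable (emb : ∀ Y : FilD.FilF A, ∃ (I : FilD.FilF A) (u : Y ⟶ I),
  FilD.IsFilteredInjective I ∧ Mono u ∧ FilD.IsStrict u) (X : FilD.FilF A)

/-- The resolution, indexed by `ℕ`. -/
noncomputable def Kcx : CochainComplex (FilD.FilF A) ℕ :=
  CochainComplex.of (Iseq emb X) (dseq emb X) (dseq_sq emb X)

lemma Kcx_d (n : ℕ) : (Kcx emb X).d n (n + 1) = dseq emb X n :=
  CochainComplex.of_d (Iseq emb X) (dseq emb X) n

/-- The resolution, indexed by `ℤ`. -/
noncomputable def Icx : CochainComplex (FilD.FilF A) ℤ :=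
  (Kcx emb X).extend ComplexShape.embeddingUpNat

instance : (Icx emb X).IsStrictlyGE 0 := by
  dsimp [Icx]
  infer_instance

/-- The terms of the resolution. -/
noncomputable def IcxXIso (n : ℤ) (k : ℕ) (h : (k : ℤ) = n) : (Icx emb X).X n ≅ Iseq emb X k :=
  HomologicalComplex.extendXIso (Kcx emb X) ComplexShape.embeddingUpNat (by simpa using h)

lemma Icx_d (n m : ℤ) (k : ℕ) (hn : (k : ℤ) = n) (hm : ((k + 1 : ℕ) : ℤ) = m) :
    (Icx emb X).d n m = (IcxXIso emb X n k hn).hom ≫ dseq emb X k ≫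
      (IcxXIso emb X m (k + 1) hm).inv := by
  rw [← Kcx_d]
  exact HomologicalComplex.extend_d_eq (Kcx emb X) ComplexShape.embeddingUpNat
    (by simpa using hn) (by simpa using hm)

@[reassoc]
lemma Icx_d_comp_iso (n m : ℤ) (k : ℕ) (hn : (k : ℤ) = n) (hm : ((k + 1 : ℕ) : ℤ) = m) :
    (Icx emb X).d n m ≫ (IcxXIso emb X m (k + 1) hm).hom =
      (IcxXIso emb X n k hn).hom ≫ dseq emb X k := by
  rw [Icx_d emb X n m k hn hm, Category.assoc, Category.assoc, Iso.inv_hom_id, Category.comp_id]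

lemma Icx_filteredInjective (n : ℤ) : FilD.IsFilteredInjective ((Icx emb X).X n) := by
  intro p
  by_cases hn : 0 ≤ n
  · obtain ⟨k, rfl⟩ := Int.eq_ofNat_of_zero_le hn
    exact Injective.of_iso ((FilD.grF A p).mapIso (IcxXIso emb X _ k rfl).symm)
      (Iof_inj emb _ p)
  · have hz : IsZero ((Icx emb X).X n) :=
      CochainComplex.isZero_of_isStrictlyGE _ 0 _ (by lia)
    exact ((FilD.grF A p).map_isZero hz).injective

/-- The augmentation of the resolution. -/
noncomputable def φcx : (HomologicalComplex.single (FilD.FilF A) (ComplexShape.up ℤ) 0).obj X ⟶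
    Icx emb X :=
  HomologicalComplex.mkHomFromSingle (εseq emb X ≫ (IcxXIso emb X 0 0 rfl).inv) (by
    intro k hk
    obtain rfl : 0 + 1 = k := hk
    rw [Icx_d emb X 0 (0 + 1) 0 rfl (by simp), Category.assoc, Iso.inv_hom_id_assoc,
      ← Category.assoc, εseq_dseq, zero_comp])

lemma φcx_f : (φcx emb X).f 0 =
    (HomologicalComplex.singleObjXSelf (ComplexShape.up ℤ) 0 X).hom ≫ εseq emb X ≫
      (IcxXIso emb X 0 0 rfl).inv :=
  HomologicalComplex.mkHomFromSingle_f _ _

lemma gr_Icx_d_comp_iso (p : ℤ) (n m : ℤ) (k : ℕ) (hn : (k : ℤ) = n)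
    (hm : ((k + 1 : ℕ) : ℤ) = m) :
    (FilD.grF A p).map ((Icx emb X).d n m) ≫
      (FilD.grF A p).map (IcxXIso emb X m (k + 1) hm).hom =
    (FilD.grF A p).map (IcxXIso emb X n k hn).hom ≫ (FilD.gr A p).map (dseq emb X k).hom := by
  rw [← Functor.map_comp, Icx_d_comp_iso emb X n m k hn hm, Functor.map_comp]
  rfl

theorem φcx_filteredQuasiIso : FilD.IsFilteredQuasiIso (φcx emb X) := by
  intro p
  have hM1 : IsZero (((FilD.grCx p).obj
      ((HomologicalComplex.single (FilD.FilF A) (ComplexShape.up ℤ) 0).obj X)).X 1) :=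
    (FilD.grF A p).map_isZero
      (HomologicalComplex.isZero_single_obj_X (ComplexShape.up ℤ) 0 X 1 (by simp))
  have hf0 : ((FilD.grCx p).map (φcx emb X)).f 0 = (FilD.grF A p).map
      (HomologicalComplex.singleObjXSelf (ComplexShape.up ℤ) 0 X).hom ≫
      (FilD.grF A p).map (εseq emb X) ≫
      (FilD.grF A p).map (IcxXIso emb X 0 0 rfl).inv := by
    have : ((FilD.grCx p).map (φcx emb X)).f 0 = (FilD.grF A p).map ((φcx emb X).f 0) := rfl
    rw [this, φcx_f, Functor.map_comp, Functor.map_comp]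
  refine quasiIso_of_resolution _ ?_ ?_ ?_ ?_ ?_ ?_
  · intro n hn
    exact (FilD.grF A p).map_isZero
      (HomologicalComplex.isZero_single_obj_X (ComplexShape.up ℤ) 0 X n hn)
  · intro n hn
    exact (FilD.grF A p).map_isZero
      (CochainComplex.isZero_of_isStrictlyGE (Icx emb X) 0 n hn)
  · intro n hn
    obtain ⟨k, rfl⟩ : ∃ k : ℕ, n = ((k + 1 : ℕ) : ℤ) := ⟨(n - 1).toNat, by lia⟩
    rw [((FilD.grCx p).obj (Icx emb X)).exactAt_iff' (k : ℤ) ((k + 1 : ℕ) : ℤ)
      ((k + 1 + 1 : ℕ) : ℤ) (by simp) (by simp)]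
    refine (ShortComplex.exact_iff_of_iso ?_).2 (gr_exact_succ emb X k p)
    exact ShortComplex.isoMk ((FilD.grF A p).mapIso (IcxXIso emb X _ k rfl))
      ((FilD.grF A p).mapIso (IcxXIso emb X _ (k + 1) rfl))
      ((FilD.grF A p).mapIso (IcxXIso emb X _ (k + 1 + 1) rfl))
      (gr_Icx_d_comp_iso emb X p (k : ℤ) ((k + 1 : ℕ) : ℤ) k rfl rfl).symm
      (gr_Icx_d_comp_iso emb X p ((k + 1 : ℕ) : ℤ) ((k + 1 + 1 : ℕ) : ℤ) (k + 1) rfl rfl).symm
  · have h1 := gr_εseq_mono emb X p
    have i1 : IsIso ((FilD.grF A p).map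
        (HomologicalComplex.singleObjXSelf (ComplexShape.up ℤ) 0 X).hom) :=
      ((FilD.grF A p).mapIso (HomologicalComplex.singleObjXSelf (ComplexShape.up ℤ) 0 X)).isIso_hom
    have i2 : IsIso ((FilD.grF A p).map (IcxXIso emb X 0 0 rfl).inv) :=
      ((FilD.grF A p).mapIso (IcxXIso emb X 0 0 rfl)).isIso_inv
    rw [hf0]
    exact mono_comp' (@IsIso.mono_of_iso _ _ _ _ _ i1)
      (mono_comp' h1 (@IsIso.mono_of_iso _ _ _ _ _ i2))
  · rw [((FilD.grCx p).map (φcx emb X)).comm 0 1,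
      hM1.eq_of_src (((FilD.grCx p).map (φcx emb X)).f 1) 0, comp_zero]
  · refine (ShortComplex.exact_iff_of_iso ?_).2 (gr_exact_zero emb X p)
    refine ShortComplex.isoMk ((FilD.grF A p).mapIso
      (HomologicalComplex.singleObjXSelf (ComplexShape.up ℤ) 0 X))
      ((FilD.grF A p).mapIso (IcxXIso emb X 0 0 rfl))
      ((FilD.grF A p).mapIso (IcxXIso emb X 1 (0 + 1) (by simp))) ?_
      (gr_Icx_d_comp_iso emb X p 0 1 0 rfl (by simp)).symm
    have h2' : ((FilD.grF A p).map
        (HomologicalComplex.singleObjXSelf (ComplexShape.up ℤ) 0 X).hom ≫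
        (FilD.grF A p).map (εseq emb X) ≫
        (FilD.grF A p).map (IcxXIso emb X 0 0 rfl).inv) ≫
        (FilD.grF A p).map (IcxXIso emb X 0 0 rfl).hom =
        (FilD.grF A p).map (HomologicalComplex.singleObjXSelf (ComplexShape.up ℤ) 0 X).hom ≫
          (FilD.grF A p).map (εseq emb X) := by
      rw [Category.assoc, Category.assoc, ← Functor.map_comp, Iso.inv_hom_id,
        CategoryTheory.Functor.map_id, Category.comp_id]
    exact ((congrArg (fun z => z ≫ (FilD.grF A p).map (IcxXIso emb X 0 0 rfl).hom) hf0).trans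
      h2').symm

theorem exists_resolution (emb : ∀ Y : FilD.FilF A, ∃ (I : FilD.FilF A) (u : Y ⟶ I),
    FilD.IsFilteredInjective I ∧ Mono u ∧ FilD.IsStrict u) (X : FilD.FilF A) :
    ∃ (I : CochainComplex (FilD.FilF A) ℤ)
      (φ : (CochainComplex.singleFunctor (FilD.FilF A) 0).obj X ⟶ I), I.IsStrictlyGE 0 ∧
        (∀ n, FilD.IsFilteredInjective (I.X n)) ∧ FilD.IsFilteredQuasiIso φ :=
  ⟨Icx emb X, φcx emb X, inferInstance, Icx_filteredInjective emb X, φcx_filteredQuasiIso emb X⟩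

end Res

end Groth.Agent.Lib.helper25.FilDRes
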