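import Mathlib
import Groth.Prelude.Def_FilD
import Groth.Agent.Lib.Helper25.FilDLib
import Groth.Agent.Lib.Helper25.FilDInj
import Groth.Agent.Lib.Helper25.FilDRes
import Groth.Agent.S1086

/-!
# Canonical truncations of complexes of finite filtered objects

* two criteria for a morphism of cochain complexes in an abelian category to be a
  quasi-isomorphism ("canonical truncation above/below");
* the subcomplex of levelwise kernels of a family of morphisms `u n : K.X n ⟶ W n`;
* the quotient complex of levelwise cokernels of a family of strict morphisms `v n : W n ⟶ K.X n`.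
-/

open CategoryTheory CategoryTheory.Limits Opposite

namespace Groth.Agent.Lib.helper25.FilDTrunc

open Groth.Agent.Lib.helper25.FilDLib Groth.Agent.Lib.helper25.FilDInj
  Groth.Agent.Lib.helper25.FilDRes

universe v u

section Criteria

variable {B : Type u} [Category.{v} B] [Abelian B] {M L : CochainComplex B ℤ} (ψ : M ⟶ L)

/-- A morphism `ψ : M ⟶ L` which looks like the inclusion of the canonical truncation `τ_{≤ b} L`
is a quasi-isomorphism when `L` is exact in degrees `> b`. -/
theorem quasiIso_of_truncLE (b : ℤ)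
    (hmono : ∀ n, Mono (ψ.f n)) (hiso : ∀ n, n < b → IsIso (ψ.f n))
    (hzero : ∀ n, b < n → IsZero (M.X n))
    (hb : ∀ ⦃T : B⦄ (y : T ⟶ L.X b), y ≫ L.d b (b + 1) = 0 →
      ∃ (T' : B) (π : T' ⟶ T) (_ : Epi π) (x : T' ⟶ M.X b), π ≫ y = x ≫ ψ.f b)
    (hL : ∀ n, b < n → L.ExactAt n) : QuasiIso ψ := by
  rw [quasiIso_iff]
  intro n
  rw [quasiIsoAt_iff_isIso_homologyMap]
  have hm : Mono (HomologicalComplex.homologyMap ψ n) := by
    rw [HomologicalComplex.mono_homologyMap_iff_up_to_refinements ψ (n - 1) n (n + 1)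
      (by simp) (by simp)]
    intro T x₂ hx₂ y₁ hy₁
    by_cases hn : n ≤ b
    · have := hiso (n - 1) (by omega)
      have := hmono n
      refine ⟨T, 𝟙 T, inferInstance, y₁ ≫ inv (ψ.f (n - 1)), ?_⟩
      rw [← cancel_mono (ψ.f n), Category.id_comp, Category.assoc, Category.assoc,
        ← ψ.comm, IsIso.inv_hom_id_assoc, hy₁]
    · refine ⟨T, 𝟙 T, inferInstance, 0, ?_⟩
      exact (hzero n (by omega)).eq_of_tgt _ _
  have he : Epi (HomologicalComplex.homologyMap ψ n) := by
    rw [HomologicalComplex.epi_homologyMap_iff_up_to_refinements ψ (n - 1) n (n + 1)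
      (by simp) (by simp)]
    intro T y₂ hy₂
    rcases lt_trichotomy n b with hn | hn | hn
    · have := hiso n hn
      have := hmono (n + 1)
      refine ⟨T, 𝟙 T, inferInstance, y₂ ≫ inv (ψ.f n), ?_, 0, ?_⟩
      · rw [← cancel_mono (ψ.f (n + 1)), zero_comp, Category.assoc, Category.assoc,
          ← ψ.comm, IsIso.inv_hom_id_assoc, hy₂]
      · rw [Category.id_comp, Category.assoc, IsIso.inv_hom_id, Category.comp_id, zero_comp,
          add_zero]
    · subst hn
      obtain ⟨T', π, hπ, x, hx⟩ := hb y₂ hy₂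
      refine ⟨T', π, hπ, x, (hzero (n + 1) (by omega)).eq_of_tgt _ _, 0, ?_⟩
      rw [hx, zero_comp, add_zero]
    · obtain ⟨T', π, hπ, x₁, hx₁⟩ :=
        (HomologicalComplex.exactAt_iff_exact_up_to_refinements L (n - 1) n (n + 1)
          (by simp) (by simp)).1 (hL n hn) y₂ hy₂
      refine ⟨T', π, hπ, 0, zero_comp, x₁, ?_⟩
      rw [hx₁, zero_comp, zero_add]
  exact isIso_of_mono_of_epi _

/-- A morphism `ψ : M ⟶ L` which looks like the projection to the canonical truncation
`τ_{≥ a} M` is a quasi-isomorphism when `M` is exact in degrees `< a`. -/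
theorem quasiIso_of_truncGE (a a' : ℤ) (ha' : a' + 1 = a)
    (hepi : ∀ n, Epi (ψ.f n)) (hmono : ∀ n, a < n → Mono (ψ.f n))
    (hzero : ∀ n, n < a → IsZero (L.X n))
    (ha : ∀ ⦃T : B⦄ (x : T ⟶ M.X a), x ≫ ψ.f a = 0 →
      ∃ (T' : B) (π : T' ⟶ T) (_ : Epi π) (w : T' ⟶ M.X a'), π ≫ x = w ≫ M.d a' a)
    (hM : ∀ n, n < a → M.ExactAt n) : QuasiIso ψ := by
  subst ha'
  rw [quasiIso_iff]
  intro n
  rw [quasiIsoAt_iff_isIso_homologyMap]
  have hm : Mono (HomologicalComplex.homologyMap ψ n) := by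
    rw [HomologicalComplex.mono_homologyMap_iff_up_to_refinements ψ (n - 1) n (n + 1)
      (by simp) (by simp)]
    intro T x₂ hx₂ y₁ hy₁
    by_cases hn : n < a' + 1
    · exact (HomologicalComplex.exactAt_iff_exact_up_to_refinements M (n - 1) n (n + 1)
          (by simp) (by simp)).1 (hM n hn) x₂ hx₂
    · have := hepi (n - 1)
      obtain ⟨T₁, π₁, hπ₁, y₁', h1⟩ := surjective_up_to_refinements_of_epi (ψ.f (n - 1)) y₁
      have hz : (π₁ ≫ x₂ - y₁' ≫ M.d (n - 1) n) ≫ ψ.f n = 0 := by
        rw [Preadditive.sub_comp, Category.assoc, Category.assoc, hy₁, ← ψ.comm,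
          ← reassoc_of% h1, sub_self]
      by_cases hn' : a' + 1 < n
      · have := hmono n hn'
        refine ⟨T₁, π₁, hπ₁, y₁', ?_⟩
        rw [← sub_eq_zero, ← cancel_mono (ψ.f n), zero_comp]
        exact hz
      · obtain rfl : n = a' + 1 := by omega
        obtain ⟨T₂, π₂, hπ₂, w, hw⟩ := ha _ hz
        have e : a' + 1 - 1 = a' := by omega
        refine ⟨T₂, π₂ ≫ π₁, epi_comp _ _, π₂ ≫ y₁' + w ≫ eqToHom (by rw [e]), ?_⟩
        rw [Preadditive.add_comp, Category.assoc, Category.assoc, Category.assoc]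
        have h3 : ∀ (i i' j : ℤ) (h : i = i'),
            eqToHom (by rw [h]) ≫ M.d i' j = M.d i j := by
          intro i i' j h
          subst h
          simp
        have h3 := h3 a' (a' + 1 - 1) (a' + 1) e.symm
        rw [h3, ← hw, Preadditive.comp_sub]
        abel
  have he : Epi (HomologicalComplex.homologyMap ψ n) := by
    rw [HomologicalComplex.epi_homologyMap_iff_up_to_refinements ψ (n - 1) n (n + 1)
      (by simp) (by simp)]
    intro T y₂ hy₂
    by_cases hn : n < a' + 1
    · refine ⟨T, 𝟙 T, inferInstance, 0, zero_comp, 0, ?_⟩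
      exact (hzero n hn).eq_of_tgt _ _
    · have := hepi n
      obtain ⟨T₁, π₁, hπ₁, x₂, h1⟩ := surjective_up_to_refinements_of_epi (ψ.f n) y₂
      have := hmono (n + 1) (by omega)
      refine ⟨T₁, π₁, hπ₁, x₂, ?_, 0, ?_⟩
      · rw [← cancel_mono (ψ.f (n + 1)), zero_comp, Category.assoc, ← ψ.comm,
          ← reassoc_of% h1, hy₂, comp_zero]
      · rw [h1, zero_comp, add_zero]
  exact isIso_of_mono_of_epi _

end Criteria

variable {A : Type u} [Category.{v} A] [Abelian A]

section Strict

/-- The zero morphism is strict. -/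
theorem isStrict_zero (X Y : FilD.FilF A) : FilD.IsStrict (0 : X ⟶ Y) := by
  apply isStrict_of_refinement
  intro p q h T x y hxy
  have hm : Mono (tr Y.obj h) := Y.property.1 _
  have hy : y = 0 := by
    rw [← cancel_mono (tr Y.obj h), zero_comp, ← hxy]
    exact comp_zero
  refine ⟨T, 𝟙 T, inferInstance, 0, ?_⟩
  rw [hy, comp_zero, zero_comp]

/-- The identity is strict. -/
theorem isStrict_id (X : FilD.FilF A) : FilD.IsStrict (𝟙 X) := by
  apply isStrict_of_refinement
  intro p q h T x y hxy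
  refine ⟨T, 𝟙 T, inferInstance, y, ?_⟩
  rw [Category.id_comp]
  exact (Category.comp_id y).symm

/-- The graded pieces of a filtered object vanishing at level `p` vanish. -/
lemma isZero_gr (F : ℤᵒᵖ ⥤ A) (p : ℤ) (h : IsZero (F.obj (op p))) :
    IsZero ((FilD.gr A p).obj F) :=
  IsZero.of_epi (grπ F p) h

end Strict

section KerCx

variable (K : CochainComplex (FilD.FilF A) ℤ) (W : ℤ → FilD.FilF A) (u : ∀ n, K.X n ⟶ W n)

/-- The levelwise kernel of `u n`. -/
noncomputable def kerObj (n : ℤ) : FilD.FilF A := ⟨kernel (u n).hom, isFinFil_kernel (u n)⟩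

/-- The inclusion of the levelwise kernel. -/
noncomputable def kerι (n : ℤ) : kerObj K W u n ⟶ K.X n :=
  ObjectProperty.homMk (kernel.ι (u n).hom)

lemma kerι_hom (n : ℤ) : (kerι K W u n).hom = kernel.ι (u n).hom := rfl

@[reassoc]
lemma kerι_u (n : ℤ) : kerι K W u n ≫ u n = 0 := by
  ext1
  exact kernel.condition (u n).hom

/-- Lifting to the levelwise kernel. -/
noncomputable def kerLift {Z : FilD.FilF A} {n : ℤ} (f : Z ⟶ K.X n) (hf : f ≫ u n = 0) :
    Z ⟶ kerObj K W u n :=
  ObjectProperty.homMk (kernel.lift (u n).hom f.hom (congrArg (fun φ => φ.hom) hf))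

@[reassoc (attr := simp)]
lemma kerLift_ι {Z : FilD.FilF A} {n : ℤ} (f : Z ⟶ K.X n) (hf : f ≫ u n = 0) :
    kerLift K W u f hf ≫ kerι K W u n = f := by
  ext1
  exact kernel.lift_ι (u n).hom f.hom _

instance (n : ℤ) : Mono (kerι K W u n) where
  right_cancellation g h w := by
    ext1
    have w' : g.hom ≫ kernel.ι (u n).hom = h.hom ≫ kernel.ι (u n).hom :=
      congrArg (fun φ => φ.hom) w
    exact (cancel_mono (kernel.ι (u n).hom)).1 w'

lemma kerι_app_mono (n : ℤ) (c : ℤᵒᵖ) : Mono ((kerι K W u n).hom.app c) :=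
  (inferInstance : Mono ((kernel.ι (u n).hom).app c))

lemma kerι_app_u (n : ℤ) (c : ℤᵒᵖ) : (kerι K W u n).hom.app c ≫ (u n).hom.app c = 0 :=
  congrArg (fun φ => φ.hom.app c) (kerι_u K W u n)

/-- Kernel inclusions are strict. -/
theorem kerι_strict (n : ℤ) : FilD.IsStrict (kerι K W u n) := by
  apply isStrict_of_refinement
  intro p q h T x y hxy
  have hm : Mono (tr (W n).obj h) := (W n).property.1 _
  have hy : y ≫ (u n).hom.app (op q) = 0 := by
    rw [← cancel_mono (tr (W n).obj h), zero_comp, Category.assoc, ← tr_naturality,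
      ← reassoc_of% hxy, kerι_app_u, comp_zero]
  obtain ⟨T', π, hπ, κ, hκ⟩ := (kernel_app_exact (u n).hom (op q)).exact_up_to_refinements y hy
  exact ⟨T', π, hπ, κ, hκ⟩

theorem gr_kerι_mono (n p : ℤ) : Mono ((FilD.gr A p).map (kerι K W u n).hom) :=
  gr_mono (kerι K W u n) (kerι_strict K W u n) (kerι_app_mono K W u n) p

lemma gr_kerι_isIso (n p : ℤ) (h : u n = 0) : IsIso ((FilD.gr A p).map (kerι K W u n).hom) := by
  have h' : (u n).hom = 0 := by rw [h]; rfl
  have h'' : IsIso (kernel.ι (u n).hom) :=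
    KernelFork.IsLimit.isIso_ι (KernelFork.ofι (kernel.ι (u n).hom) (kernel.condition _))
      (kernelIsKernel (u n).hom) h'
  have h3 : IsIso (kerι K W u n).hom := h''
  infer_instance

lemma isZero_gr_kerObj (n p : ℤ) (h : kerι K W u n = 0) :
    IsZero ((FilD.gr A p).obj (kerObj K W u n).obj) := by
  have h' : kernel.ι (u n).hom = 0 := congrArg (fun φ => φ.hom) h
  have : IsZero (kernel (u n).hom) := IsZero.of_mono_eq_zero _ h'
  exact (FilD.gr A p).map_isZero this

/-- `gr`-exactness of the kernel sequence of a strict morphism, in refinement form. -/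
lemma gr_ker_exact (n p : ℤ) (h : FilD.IsStrict (u n)) ⦃T : A⦄
    (y : T ⟶ (FilD.gr A p).obj (K.X n).obj) (hy : y ≫ (FilD.gr A p).map (u n).hom = 0) :
    ∃ (T' : A) (π : T' ⟶ T) (_ : Epi π) (x : T' ⟶ (FilD.gr A p).obj (kerObj K W u n).obj),
      π ≫ y = x ≫ (FilD.gr A p).map (kerι K W u n).hom :=
  (Groth.Agent.S1086.gr_exact_of_isStrict (u n) h p).exact_up_to_refinements y hy

variable (H : ∀ n m, kerι K W u n ≫ K.d n m ≫ u m = 0)

/-- The subcomplex of levelwise kernels. -/
noncomputable def kerCx : CochainComplex (FilD.FilF A) ℤ where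
  X := kerObj K W u
  d n m := kerLift K W u (kerι K W u n ≫ K.d n m) (by rw [Category.assoc]; exact H n m)
  shape n m h := by
    rw [← cancel_mono (kerι K W u m), kerLift_ι, zero_comp, K.shape n m h, comp_zero]
  d_comp_d' n m l _ _ := by
    rw [← cancel_mono (kerι K W u l), Category.assoc, kerLift_ι, kerLift_ι_assoc,
      Category.assoc, K.d_comp_d, comp_zero, zero_comp]

/-- The inclusion of the subcomplex of levelwise kernels. -/
noncomputable def kerCxι : kerCx K W u H ⟶ K where
  f := kerι K W u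
  comm' n m _ :=
    (kerLift_ι K W u (kerι K W u n ≫ K.d n m) (by rw [Category.assoc]; exact H n m)).symm

lemma kerCxι_f (n : ℤ) : (kerCxι K W u H).f n = kerι K W u n := rfl

/-- The inclusion of the subcomplex of levelwise kernels is a filtered quasi-isomorphism, if the
subcomplex looks like the canonical truncation `τ_{≤ b} K`. -/
theorem kerCxι_filteredQuasiIso (b : ℤ)
    (h1 : ∀ n, n < b → u n = 0) (h2 : ∀ n, b < n → kerι K W u n = 0)
    (h3 : FilD.IsStrict (u b))
    (h4 : ∀ (p : ℤ) ⦃T : A⦄ (y : T ⟶ (FilD.gr A p).obj (K.X b).obj),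
      y ≫ (FilD.gr A p).map (K.d b (b + 1)).hom = 0 → y ≫ (FilD.gr A p).map (u b).hom = 0)
    (hK : ∀ (p n : ℤ), b < n → IsZero (((FilD.grCx p).obj K).homology n)) :
    FilD.IsFilteredQuasiIso (kerCxι K W u H) := by
  intro p
  apply quasiIso_of_truncLE _ b
  · intro n
    exact gr_kerι_mono K W u n p
  · intro n hn
    exact gr_kerι_isIso K W u n p (h1 n hn)
  · intro n hn
    exact isZero_gr_kerObj K W u n p (h2 n hn)
  · intro T y hy
    exact gr_ker_exact K W u b p h3 y (h4 p y hy)
  · intro n hn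
    rw [HomologicalComplex.exactAt_iff_isZero_homology]
    exact hK p n hn

lemma kerCx_isStrictlyLE (b : ℤ) (h2 : ∀ n, b < n → kerι K W u n = 0) :
    (kerCx K W u H).IsStrictlyLE b := by
  rw [CochainComplex.isStrictlyLE_iff]
  intro n hn
  have h' : kerι K W u n = 0 := h2 n hn
  show IsZero (kerObj K W u n)
  rw [IsZero.iff_id_eq_zero, ← cancel_mono (kerι K W u n), zero_comp, h']
  exact comp_zero

end KerCx

end Groth.Agent.Lib.helper25.FilDTrunc
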