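import Mathlib
import Groth.Prelude.Def_FilD
import Groth.Agent.Lib.Helper25.FilDLib
import Groth.Agent.Lib.Helper25.FilDInj
import Groth.Agent.Lib.Helper25.FilDBiprod
import Groth.Agent.Lib.Helper25.FilDRes
import Groth.Agent.Lib.Helper25.FilDTrunc
import Groth.Agent.Lib.Helper25.ExtendFunctor
import Groth.Agent.S1085

/-!
# Filtered injective resolutions of bounded below complexes of finite filtered objects

Inductive construction: given the resolution up to degree `k + 1`, the next term is a filtered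
injective object containing the cokernel of the "cone differential"
`X^{k+1} ⊞ J^k ⟶ X^{k+2} ⊞ J^{k+1}`, which is strict by the strictness criterion S1085.
-/

open CategoryTheory CategoryTheory.Limits Opposite

namespace Groth.Agent.Lib.helper25.FilDInjRes

open Groth.Agent.Lib.helper25.FilDLib Groth.Agent.Lib.helper25.FilDInj
  Groth.Agent.Lib.helper25.FilDRes Groth.Agent.Lib.helper25.FilDTrunc
  Groth.Agent.Lib.helper25.FilDBiprod

universe v u

section Additive

variable {C D : Type*} [Category C] [Category D] [Preadditive C] [Preadditive D]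
  [HasBinaryBiproducts C] (G : C ⥤ D) [G.Additive]

lemma map_total (Y Z : C) :
    G.map (biprod.fst : Y ⊞ Z ⟶ Y) ≫ G.map biprod.inl +
      G.map (biprod.snd : Y ⊞ Z ⟶ Z) ≫ G.map biprod.inr = 𝟙 _ := by
  rw [← G.map_comp, ← G.map_comp, ← G.map_add, biprod.total, G.map_id]

lemma hom_ext_map {Y Z : C} {T : D} (t t' : T ⟶ G.obj (Y ⊞ Z))
    (h1 : t ≫ G.map biprod.fst = t' ≫ G.map biprod.fst)
    (h2 : t ≫ G.map biprod.snd = t' ≫ G.map biprod.snd) : t = t' := by
  rw [← Category.comp_id t, ← Category.comp_id t', ← map_total G Y Z, Preadditive.comp_add,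
    Preadditive.comp_add, reassoc_of% h1, reassoc_of% h2]

lemma comp_map_desc {Y Z W : C} {T : D} (t : T ⟶ G.obj (Y ⊞ Z)) (a : Y ⟶ W) (b : Z ⟶ W) :
    t ≫ G.map (biprod.desc a b) =
      (t ≫ G.map biprod.fst) ≫ G.map a + (t ≫ G.map biprod.snd) ≫ G.map b := by
  rw [biprod.desc_eq, G.map_add, G.map_comp, G.map_comp, Preadditive.comp_add, Category.assoc,
    Category.assoc]

lemma pair_fst {Y Z : C} {T : D} (x : T ⟶ G.obj Y) (y : T ⟶ G.obj Z) :
    (x ≫ G.map biprod.inl + y ≫ G.map biprod.inr) ≫ G.map (biprod.fst : Y ⊞ Z ⟶ Y) = x := by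
  rw [Preadditive.add_comp, Category.assoc, Category.assoc, ← G.map_comp, ← G.map_comp,
    biprod.inl_fst, biprod.inr_fst, G.map_id, G.map_zero, Category.comp_id, comp_zero, add_zero]

lemma pair_snd {Y Z : C} {T : D} (x : T ⟶ G.obj Y) (y : T ⟶ G.obj Z) :
    (x ≫ G.map biprod.inl + y ≫ G.map biprod.inr) ≫ G.map (biprod.snd : Y ⊞ Z ⟶ Z) = y := by
  rw [Preadditive.add_comp, Category.assoc, Category.assoc, ← G.map_comp, ← G.map_comp,
    biprod.inl_snd, biprod.inr_snd, G.map_id, G.map_zero, Category.comp_id, comp_zero, zero_add]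

end Additive

variable {A : Type u} [Category.{v} A] [Abelian A]

section StrictMono

/-- A morphism of finite filtered objects inducing monomorphisms on all graded pieces is a strict
monomorphism. -/
theorem mono_and_strict_of_gr_mono {X Y : FilD.FilF A} (f : X ⟶ Y)
    (h : ∀ p, Mono ((FilD.grF A p).map f)) : Mono f ∧ FilD.IsStrict f := by
  let S : ShortComplex (FilD.FilF A) := ShortComplex.mk (0 : X ⟶ X) f zero_comp
  have hS : ∀ p, (S.map (FilD.grF A p)).Exact := fun p => by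
    rw [ShortComplex.exact_iff_mono _ (by
      show (FilD.grF A p).map (0 : X ⟶ X) = 0
      exact Functor.map_zero _ _ _)]
    exact h p
  obtain ⟨hex, -, hstr⟩ := Groth.Agent.S1085.result S hS
  refine ⟨?_, hstr⟩
  have h1 : ∀ c, Mono (f.hom.app c) := fun c => by
    have := hex c.unop
    rw [ShortComplex.exact_iff_mono _ (by
      show ((FilD.IsFinFil A).ι ⋙ (evaluation ℤᵒᵖ A).obj (op c.unop)).map (0 : X ⟶ X) = 0
      exact Functor.map_zero _ _ _)] at this
    exact this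
  have h2 : Mono ((FilD.IsFinFil A).ι.map f) := (NatTrans.mono_iff_mono_app _).2 h1
  exact Functor.mono_of_mono_map (FilD.IsFinFil A).ι h2

lemma isFilteredInjective_of_isZero (X : FilD.FilF A) (h : IsZero X) :
    FilD.IsFilteredInjective X := by
  intro p
  have hz : IsZero ((FilD.grF A p).obj X) := (FilD.grF A p).map_isZero h
  exact ⟨fun g f _ => ⟨0, hz.eq_of_tgt _ _⟩⟩

end StrictMono

section Step

variable (emb : ∀ Y : FilD.FilF A, ∃ (I : FilD.FilF A) (u : Y ⟶ I),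
  FilD.IsFilteredInjective I ∧ Mono u ∧ FilD.IsStrict u)

variable (X : CochainComplex (FilD.FilF A) ℕ)

/-- The cone differential `X^{k+1} ⊞ Jp ⟶ X^{k+2} ⊞ Jc`. -/
noncomputable def cδ {k : ℕ} {Jp Jc : FilD.FilF A} (d : Jp ⟶ Jc) (ψc : X.X (k + 1) ⟶ Jc) :
    X.X (k + 1) ⊞ Jp ⟶ X.X (k + 1 + 1) ⊞ Jc :=
  biprod.lift (-(biprod.fst ≫ X.d (k + 1) (k + 1 + 1))) (biprod.desc ψc d)

lemma cδ_fst {k : ℕ} {Jp Jc : FilD.FilF A} (d : Jp ⟶ Jc) (ψc : X.X (k + 1) ⟶ Jc) :
    cδ X d ψc ≫ biprod.fst = -(biprod.fst ≫ X.d (k + 1) (k + 1 + 1)) :=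
  biprod.lift_fst _ _

lemma cδ_snd {k : ℕ} {Jp Jc : FilD.FilF A} (d : Jp ⟶ Jc) (ψc : X.X (k + 1) ⟶ Jc) :
    cδ X d ψc ≫ biprod.snd = biprod.desc ψc d :=
  biprod.lift_snd _ _

/-- The state of the inductive construction after step `k`. -/
structure St (k : ℕ) where
  Jp : FilD.FilF A
  Jc : FilD.FilF A
  d : Jp ⟶ Jc
  ψp : X.X k ⟶ Jp
  ψc : X.X (k + 1) ⟶ Jc
  comm : ψp ≫ d = X.d k (k + 1) ≫ ψc
  strict : FilD.IsStrict (cδ X d ψc)
  inv : ∀ (p : ℤ) ⦃T : A⦄ (t : T ⟶ (FilD.grF A p).obj (X.X (k + 1) ⊞ Jp)),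
    t ≫ (FilD.grF A p).map (biprod.desc ψc d) = 0 →
      t ≫ (FilD.grF A p).map (biprod.fst ≫ X.d (k + 1) (k + 1 + 1)) = 0
  injp : FilD.IsFilteredInjective Jp
  injc : FilD.IsFilteredInjective Jc
  gmonop : ∀ p, Mono ((FilD.grF A p).map ψp)
  gmonoc : ∀ p, Mono ((FilD.grF A p).map ψc)

variable {X} {k : ℕ} (s : St X k)

/-- The cokernel of the cone differential. -/
noncomputable def sP : FilD.FilF A := cokerObj (cδ X s.d s.ψc) s.strict

/-- The projection to the cokernel of the cone differential. -/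
noncomputable def sπ : X.X (k + 1 + 1) ⊞ s.Jc ⟶ sP s := cokerπ (cδ X s.d s.ψc) s.strict

lemma cδ_sπ : cδ X s.d s.ψc ≫ sπ s = 0 := comp_cokerπ _ _

/-- The new term. -/
noncomputable def nJ : FilD.FilF A := Iof emb (sP s)

/-- The embedding of the cokernel in the new term. -/
noncomputable def sι : sP s ⟶ nJ emb s := uof emb (sP s)

/-- The new differential. -/
noncomputable def nd : s.Jc ⟶ nJ emb s := biprod.inr ≫ sπ s ≫ sι emb s

/-- The new component. -/
noncomputable def nψ : X.X (k + 1 + 1) ⟶ nJ emb s := biprod.inl ≫ sπ s ≫ sι emb s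

lemma desc_nψ_nd : biprod.desc (nψ emb s) (nd emb s) = sπ s ≫ sι emb s := by
  apply biprod.hom_ext'
  · rw [biprod.inl_desc]; rfl
  · rw [biprod.inr_desc]; rfl

lemma ncomm : s.ψc ≫ nd emb s = X.d (k + 1) (k + 1 + 1) ≫ nψ emb s := by
  have h : biprod.inl ≫ cδ X s.d s.ψc ≫ sπ s = 0 := by rw [cδ_sπ, comp_zero]
  have h2 : biprod.inl ≫ cδ X s.d s.ψc =
      -(X.d (k + 1) (k + 1 + 1) ≫ biprod.inl) + s.ψc ≫ biprod.inr := by
    apply biprod.hom_ext
    · rw [Category.assoc, cδ_fst, Preadditive.add_comp, Preadditive.neg_comp, Category.assoc,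
        Category.assoc, biprod.inl_fst, biprod.inr_fst, Preadditive.comp_neg,
        biprod.inl_fst_assoc, Category.comp_id, comp_zero, add_zero]
    · rw [Category.assoc, cδ_snd, biprod.inl_desc, Preadditive.add_comp, Preadditive.neg_comp,
        Category.assoc, Category.assoc, biprod.inl_snd, biprod.inr_snd, comp_zero, neg_zero,
        zero_add, Category.comp_id]
  rw [← Category.assoc, h2, Preadditive.add_comp, Preadditive.neg_comp, Category.assoc,
    Category.assoc, neg_add_eq_zero] at h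
  unfold nd nψ
  have h' := congrArg (fun z => z ≫ sι emb s) h
  simp only [Category.assoc] at h'
  exact h'.symm

lemma nsq : s.d ≫ nd emb s = 0 := by
  have h : biprod.inr ≫ cδ X s.d s.ψc ≫ sπ s = 0 := by rw [cδ_sπ, comp_zero]
  have h2 : biprod.inr ≫ cδ X s.d s.ψc = s.d ≫ biprod.inr := by
    apply biprod.hom_ext
    · rw [Category.assoc, cδ_fst, Preadditive.comp_neg, biprod.inr_fst_assoc, zero_comp,
        neg_zero, Category.assoc, biprod.inr_fst, comp_zero]
    · rw [Category.assoc, cδ_snd, biprod.inr_desc, Category.assoc, biprod.inr_snd,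
        Category.comp_id]
  rw [← Category.assoc, h2, Category.assoc] at h
  unfold nd
  rw [← Category.assoc, ← Category.assoc, Category.assoc s.d, h, zero_comp]

lemma gr_sι_mono (p : ℤ) : Mono ((FilD.grF A p).map (sι emb s)) :=
  gr_mono (uof emb (sP s)) (uof_strict emb _) (uof_mono_app emb _) p

lemma gr_exact_sπ (p : ℤ) ⦃T : A⦄ (t : T ⟶ (FilD.grF A p).obj (X.X (k + 1 + 1) ⊞ s.Jc))
    (ht : t ≫ (FilD.grF A p).map (sπ s) = 0) :
    ∃ (T' : A) (π : T' ⟶ T) (_ : Epi π) (t' : T' ⟶ (FilD.grF A p).obj (X.X (k + 1) ⊞ s.Jp)),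
      π ≫ t = t' ≫ (FilD.grF A p).map (cδ X s.d s.ψc) :=
  (gr_exact (cδ X s.d s.ψc) p).exact_up_to_refinements t ht

lemma cδ_n_snd : cδ X (nd emb s) (nψ emb s) ≫ biprod.snd = sπ s ≫ sι emb s := by
  rw [cδ_snd, desc_nψ_nd]

lemma cδ_cδ : cδ X s.d s.ψc ≫ cδ X (nd emb s) (nψ emb s) = 0 := by
  apply biprod.hom_ext
  · rw [Category.assoc, cδ_fst, Preadditive.comp_neg, ← Category.assoc, cδ_fst,
      Preadditive.neg_comp, Category.assoc, X.d_comp_d, comp_zero, neg_zero, neg_zero, zero_comp]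
  · rw [Category.assoc, cδ_n_snd, ← Category.assoc, cδ_sπ, zero_comp, zero_comp]

/-- The key exactness: the kernel of the new cone differential on graded pieces is the image of
the old one. -/
lemma nexact (p : ℤ) ⦃T : A⦄ (t : T ⟶ (FilD.grF A p).obj (X.X (k + 1 + 1) ⊞ s.Jc))
    (ht : t ≫ (FilD.grF A p).map (cδ X (nd emb s) (nψ emb s) ≫ biprod.snd) = 0) :
    ∃ (T' : A) (π : T' ⟶ T) (_ : Epi π) (t' : T' ⟶ (FilD.grF A p).obj (X.X (k + 1) ⊞ s.Jp)),
      π ≫ t = t' ≫ (FilD.grF A p).map (cδ X s.d s.ψc) := by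
  have := gr_sι_mono emb s p
  apply gr_exact_sπ s p t
  rw [← cancel_mono ((FilD.grF A p).map (sι emb s)), zero_comp, Category.assoc,
    ← Functor.map_comp, ← cδ_n_snd]
  exact ht

lemma nstrict : FilD.IsStrict (cδ X (nd emb s) (nψ emb s)) := by
  let S : ShortComplex (FilD.FilF A) :=
    ShortComplex.mk (cδ X s.d s.ψc) (cδ X (nd emb s) (nψ emb s)) (cδ_cδ emb s)
  have hS : ∀ p, (S.map (FilD.grF A p)).Exact := by
    intro p
    rw [ShortComplex.exact_iff_exact_up_to_refinements]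
    intro T t ht
    obtain ⟨t, rfl⟩ : ∃ t' : T ⟶ (FilD.grF A p).obj (X.X (k + 1 + 1) ⊞ s.Jc), t' = t := ⟨t, rfl⟩
    apply nexact emb s p t
    have ht' : t ≫ (FilD.grF A p).map (cδ X (nd emb s) (nψ emb s)) = 0 := ht
    rw [Functor.map_comp, ← Category.assoc, ht', zero_comp]
  exact (Groth.Agent.S1085.result S hS).2.2

lemma ninv (p : ℤ) ⦃T : A⦄ (t : T ⟶ (FilD.grF A p).obj (X.X (k + 1 + 1) ⊞ s.Jc))
    (ht : t ≫ (FilD.grF A p).map (biprod.desc (nψ emb s) (nd emb s)) = 0) :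
    t ≫ (FilD.grF A p).map (biprod.fst ≫ X.d (k + 1 + 1) (k + 1 + 1 + 1)) = 0 := by
  obtain ⟨T', π, hπ, t', ht'⟩ := nexact emb s p t (by rw [cδ_snd]; exact ht)
  rw [← cancel_epi π, comp_zero, ← Category.assoc, ht', Category.assoc, ← Functor.map_comp,
    ← Category.assoc, cδ_fst, Preadditive.neg_comp, Category.assoc, X.d_comp_d, comp_zero,
    neg_zero, Functor.map_zero, comp_zero]

lemma ngmono (p : ℤ) : Mono ((FilD.grF A p).map (nψ emb s)) := by
  apply Preadditive.mono_of_cancel_zero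
  intro T t ht
  have := gr_sι_mono emb s p
  have h1 : (t ≫ (FilD.grF A p).map biprod.inl) ≫ (FilD.grF A p).map (sπ s) = 0 := by
    rw [← cancel_mono ((FilD.grF A p).map (sι emb s)), zero_comp, Category.assoc, Category.assoc,
      ← Functor.map_comp, ← Functor.map_comp]
    exact ht
  obtain ⟨T', π, hπ, t', ht'⟩ := gr_exact_sπ s p _ h1
  have h2 : t' ≫ (FilD.grF A p).map (biprod.desc s.ψc s.d) = 0 := by
    rw [← cδ_snd, Functor.map_comp, ← Category.assoc, ← ht', Category.assoc, Category.assoc,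
      ← Functor.map_comp, biprod.inl_snd, Functor.map_zero, comp_zero, comp_zero]
  have h3 := s.inv p t' h2
  have h4 : π ≫ t = 0 := by
    have h5 : (π ≫ t ≫ (FilD.grF A p).map
        (biprod.inl : X.X (k + 1 + 1) ⟶ X.X (k + 1 + 1) ⊞ s.Jc)) ≫
        (FilD.grF A p).map biprod.fst = π ≫ t := by
      rw [Category.assoc, Category.assoc, ← Functor.map_comp, biprod.inl_fst,
        CategoryTheory.Functor.map_id, Category.comp_id]
    rw [← h5, ht', Category.assoc, ← Functor.map_comp, cδ_fst, Functor.map_neg,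
      Preadditive.comp_neg, h3, neg_zero]
  rw [← cancel_epi π, h4, comp_zero]

/-- The next state. -/
noncomputable def next : St X (k + 1) where
  Jp := s.Jc
  Jc := nJ emb s
  d := nd emb s
  ψp := s.ψc
  ψc := nψ emb s
  comm := ncomm emb s
  strict := nstrict emb s
  inv := ninv emb s
  injp := s.injc
  injc := Iof_inj emb _
  gmonop := s.gmonoc
  gmonoc := ngmono emb s

end Step

section ConeCriterion

variable {B : Type u} [Category.{v} B] [Abelian B]

lemma exactAt_of_isZero' {ι : Type*} {c : ComplexShape ι} (M : HomologicalComplex B c) (n : ι)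
    (h : IsZero (M.X n)) : M.ExactAt n := by
  rw [HomologicalComplex.exactAt_iff]
  exact ShortComplex.exact_of_isZero_X₂ _ h

/-- A morphism of `ℕ`-indexed cochain complexes vanishing in degrees `0` and `1` whose cone is
exact (in refinement form) is a quasi-isomorphism. -/
theorem quasiIso_of_cone_exact {M L : CochainComplex B ℕ} (Φ : M ⟶ L)
    (hM0 : IsZero (M.X 0)) (hM1 : IsZero (M.X 1)) (hL0 : IsZero (L.X 0)) (hL1 : IsZero (L.X 1))
    (hex : ∀ (k : ℕ) ⦃T : B⦄ (x : T ⟶ M.X (k + 1 + 1)) (y : T ⟶ L.X (k + 1)),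
      x ≫ Φ.f (k + 1 + 1) + y ≫ L.d (k + 1) (k + 1 + 1) = 0 →
      ∃ (T' : B) (π : T' ⟶ T) (_ : Epi π) (x' : T' ⟶ M.X (k + 1)) (y' : T' ⟶ L.X k),
        π ≫ x = -(x' ≫ M.d (k + 1) (k + 1 + 1)) ∧
        π ≫ y = x' ≫ Φ.f (k + 1) + y' ≫ L.d k (k + 1)) :
    QuasiIso Φ := by
  rw [quasiIso_iff]
  intro n
  match n with
  | 0 =>
    rw [quasiIsoAt_iff_exactAt Φ 0 (exactAt_of_isZero' M 0 hM0)]
    exact exactAt_of_isZero' L 0 hL0
  | 1 =>
    rw [quasiIsoAt_iff_exactAt Φ 1 (exactAt_of_isZero' M 1 hM1)]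
    exact exactAt_of_isZero' L 1 hL1
  | k + 1 + 1 =>
    rw [quasiIsoAt_iff_isIso_homologyMap]
    have hm : Mono (HomologicalComplex.homologyMap Φ (k + 1 + 1)) := by
      rw [HomologicalComplex.mono_homologyMap_iff_up_to_refinements Φ (k + 1) (k + 1 + 1)
        (k + 1 + 1 + 1) (by simp) (by simp)]
      intro T x₂ hx₂ y₁ hy₁
      obtain ⟨T', π, hπ, x', y', h1, h2⟩ := hex k x₂ (-y₁) (by
        rw [Preadditive.neg_comp, hy₁, add_neg_cancel])
      refine ⟨T', π, hπ, -x', ?_⟩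
      rw [h1, Preadditive.neg_comp]
    have he : Epi (HomologicalComplex.homologyMap Φ (k + 1 + 1)) := by
      rw [HomologicalComplex.epi_homologyMap_iff_up_to_refinements Φ (k + 1) (k + 1 + 1)
        (k + 1 + 1 + 1) (by simp) (by simp)]
      intro T y₂ hy₂
      obtain ⟨T', π, hπ, x', y', h1, h2⟩ := hex (k + 1) (0 : T ⟶ M.X (k + 1 + 1 + 1)) y₂ (by
        rw [zero_comp, zero_add, hy₂])
      refine ⟨T', π, hπ, x', ?_, y', h2⟩
      rw [comp_zero] at h1
      rw [← neg_eq_zero]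
      exact h1.symm
    exact isIso_of_mono_of_epi _

end ConeCriterion

section Seq

variable (emb : ∀ Y : FilD.FilF A, ∃ (I : FilD.FilF A) (u : Y ⟶ I),
  FilD.IsFilteredInjective I ∧ Mono u ∧ FilD.IsStrict u)

variable (X : CochainComplex (FilD.FilF A) ℕ) (h0 : IsZero (X.X 0)) (h1 : IsZero (X.X 1))

include h0 h1 in
lemma isZero_biprod_base : IsZero (X.X (0 + 1) ⊞ X.X 0) := by
  rw [IsZero.iff_id_eq_zero]
  apply biprod.hom_ext
  · exact h1.eq_of_tgt _ _
  · exact h0.eq_of_tgt _ _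

/-- The initial state. -/
noncomputable def base : St X 0 where
  Jp := X.X 0
  Jc := X.X 1
  d := X.d 0 1
  ψp := 𝟙 _
  ψc := 𝟙 _
  comm := by rw [Category.id_comp, Category.comp_id]
  strict := by
    have hz := isZero_biprod_base X h0 h1
    rw [hz.eq_of_src (cδ X (X.d 0 1) (𝟙 (X.X (0 + 1)))) 0]
    exact isStrict_zero _ _
  inv := fun p T t _ => by
    have hz : IsZero ((FilD.grF A p).obj (X.X (0 + 1) ⊞ X.X 0)) :=
      (FilD.grF A p).map_isZero (isZero_biprod_base X h0 h1)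
    rw [hz.eq_of_tgt t 0, zero_comp]
  injp := isFilteredInjective_of_isZero _ h0
  injc := isFilteredInjective_of_isZero _ h1
  gmonop := fun p => by
    rw [CategoryTheory.Functor.map_id]
    infer_instance
  gmonoc := fun p => by
    rw [CategoryTheory.Functor.map_id]
    infer_instance

/-- The sequence of states. -/
noncomputable def S : ∀ k : ℕ, St X k
  | 0 => base X h0 h1
  | k + 1 => next emb (S k)

/-- The terms of the resolution. -/
noncomputable def Jobj (k : ℕ) : FilD.FilF A := (S emb X h0 h1 k).Jp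

/-- The differentials of the resolution. -/
noncomputable def Jd (k : ℕ) : Jobj emb X h0 h1 k ⟶ Jobj emb X h0 h1 (k + 1) :=
  (S emb X h0 h1 k).d

/-- The components of the morphism to the resolution. -/
noncomputable def Jψ (k : ℕ) : X.X k ⟶ Jobj emb X h0 h1 k := (S emb X h0 h1 k).ψp

lemma Jd_sq (k : ℕ) : Jd emb X h0 h1 k ≫ Jd emb X h0 h1 (k + 1) = 0 :=
  nsq emb (S emb X h0 h1 k)

lemma Jψ_comm (k : ℕ) :
    Jψ emb X h0 h1 k ≫ Jd emb X h0 h1 k = X.d k (k + 1) ≫ Jψ emb X h0 h1 (k + 1) :=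
  (S emb X h0 h1 k).comm

lemma Jobj_inj (k : ℕ) : FilD.IsFilteredInjective (Jobj emb X h0 h1 k) :=
  (S emb X h0 h1 k).injp

lemma Jψ_gmono (k : ℕ) (p : ℤ) : Mono ((FilD.grF A p).map (Jψ emb X h0 h1 k)) :=
  (S emb X h0 h1 k).gmonop p

include h0 in
lemma Jobj_zero : IsZero (Jobj emb X h0 h1 0) := h0

include h1 in
lemma Jobj_one : IsZero (Jobj emb X h0 h1 1) := h1

/-- The cone differential at stage `k`, in terms of the sequence. -/
noncomputable def Jδ (k : ℕ) :
    X.X (k + 1) ⊞ Jobj emb X h0 h1 k ⟶ X.X (k + 1 + 1) ⊞ Jobj emb X h0 h1 (k + 1) :=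
  cδ X (Jd emb X h0 h1 k) (Jψ emb X h0 h1 (k + 1))

lemma Jδ_fst (k : ℕ) : Jδ emb X h0 h1 k ≫ biprod.fst =
    -(biprod.fst ≫ X.d (k + 1) (k + 1 + 1)) := cδ_fst _ _ _

lemma Jδ_snd (k : ℕ) : Jδ emb X h0 h1 k ≫ biprod.snd =
    biprod.desc (Jψ emb X h0 h1 (k + 1)) (Jd emb X h0 h1 k) := cδ_snd _ _ _

/-- Exactness of the cone on graded pieces. -/
lemma Jδ_exact (k : ℕ) (p : ℤ) ⦃T : A⦄
    (t : T ⟶ (FilD.grF A p).obj (X.X (k + 1 + 1) ⊞ Jobj emb X h0 h1 (k + 1)))
    (ht : t ≫ (FilD.grF A p).map (Jδ emb X h0 h1 (k + 1) ≫ biprod.snd) = 0) :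
    ∃ (T' : A) (π : T' ⟶ T) (_ : Epi π)
      (t' : T' ⟶ (FilD.grF A p).obj (X.X (k + 1) ⊞ Jobj emb X h0 h1 k)),
      π ≫ t = t' ≫ (FilD.grF A p).map (Jδ emb X h0 h1 k) :=
  nexact emb (S emb X h0 h1 k) p t ht

/-- Exactness of the cone on graded pieces, in terms of components. -/
lemma Jcone_exact (k : ℕ) (p : ℤ) ⦃T : A⦄ (x : T ⟶ (FilD.grF A p).obj (X.X (k + 1 + 1)))
    (y : T ⟶ (FilD.grF A p).obj (Jobj emb X h0 h1 (k + 1)))
    (hxy : x ≫ (FilD.grF A p).map (Jψ emb X h0 h1 (k + 1 + 1)) + y ≫ (FilD.grF A p).map (Jd emb X h0 h1 (k + 1)) = 0) :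
    ∃ (T' : A) (π : T' ⟶ T) (_ : Epi π) (x' : T' ⟶ (FilD.grF A p).obj (X.X (k + 1)))
      (y' : T' ⟶ (FilD.grF A p).obj (Jobj emb X h0 h1 k)),
      π ≫ x = -(x' ≫ (FilD.grF A p).map (X.d (k + 1) (k + 1 + 1))) ∧
      π ≫ y = x' ≫ (FilD.grF A p).map (Jψ emb X h0 h1 (k + 1)) + y' ≫ (FilD.grF A p).map (Jd emb X h0 h1 k) := by
  obtain ⟨t, ht1, ht2⟩ : ∃ t : T ⟶ (FilD.grF A p).obj (X.X (k + 1 + 1) ⊞ Jobj emb X h0 h1 (k + 1)),
      t ≫ (FilD.grF A p).map biprod.fst = x ∧ t ≫ (FilD.grF A p).map biprod.snd = y :=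
    ⟨x ≫ (FilD.grF A p).map biprod.inl + y ≫ (FilD.grF A p).map biprod.inr, pair_fst _ _ _, pair_snd _ _ _⟩
  have ht : t ≫ (FilD.grF A p).map (Jδ emb X h0 h1 (k + 1) ≫ biprod.snd) = 0 := by
    rw [Jδ_snd, comp_map_desc, ht1, ht2]
    exact hxy
  obtain ⟨T', π, hπ, t', ht'⟩ := Jδ_exact emb X h0 h1 k p t ht
  refine ⟨T', π, hπ, t' ≫ (FilD.grF A p).map biprod.fst, t' ≫ (FilD.grF A p).map biprod.snd, ?_, ?_⟩
  · have h := congrArg (fun z => z ≫ (FilD.grF A p).map biprod.fst) ht'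
    simp only [Category.assoc] at h
    rw [ht1] at h
    rw [h, ← Functor.map_comp, Jδ_fst, Functor.map_neg, Preadditive.comp_neg, Functor.map_comp,
      Category.assoc]
  · have h := congrArg (fun z => z ≫ (FilD.grF A p).map biprod.snd) ht'
    simp only [Category.assoc] at h
    rw [ht2] at h
    rw [h, ← Functor.map_comp, Jδ_snd, comp_map_desc]

/-- The resolution, as a complex indexed by `ℕ`. -/
noncomputable def Jcx : CochainComplex (FilD.FilF A) ℕ :=
  CochainComplex.of (Jobj emb X h0 h1) (Jd emb X h0 h1) (Jd_sq emb X h0 h1)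

lemma Jcx_d (k : ℕ) : (Jcx emb X h0 h1).d k (k + 1) = Jd emb X h0 h1 k :=
  CochainComplex.of_d (Jobj emb X h0 h1) (Jd emb X h0 h1) k

/-- The morphism to the resolution. -/
noncomputable def ψcx : X ⟶ Jcx emb X h0 h1 where
  f k := Jψ emb X h0 h1 k
  comm' i j hij := by
    obtain rfl : i + 1 = j := hij
    rw [Jcx_d]
    exact Jψ_comm emb X h0 h1 i

lemma ψcx_f (k : ℕ) : (ψcx emb X h0 h1).f k = Jψ emb X h0 h1 k := rfl

end Seq

section Main

open Groth.Agent.Lib.helper25.ExtendFunctor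

variable (emb : ∀ Y : FilD.FilF A, ∃ (I : FilD.FilF A) (u : Y ⟶ I),
  FilD.IsFilteredInjective I ∧ Mono u ∧ FilD.IsStrict u)

variable (K : CochainComplex (FilD.FilF A) ℤ) (a : ℤ) [K.IsStrictlyGE a]

/-- The restriction of `K` to degrees `≥ a`. -/
noncomputable abbrev Xr : CochainComplex (FilD.FilF A) ℕ :=
  K.restriction (ComplexShape.embeddingUpIntGE a)

variable (h0 : IsZero ((Xr K a).X 0)) (h1 : IsZero ((Xr K a).X 1))

/-- The resolution. -/
noncomputable abbrev Icx : CochainComplex (FilD.FilF A) ℤ :=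
  (Jcx emb (Xr K a) h0 h1).extend (ComplexShape.embeddingUpIntGE a)

instance : (Icx emb K a h0 h1).IsStrictlyGE a := by
  dsimp only [Icx]
  infer_instance

lemma hasLift_ψcx : (ComplexShape.embeddingUpIntGE a).HasLift (ψcx emb (Xr K a) h0 h1) := by
  intro j hj i' hij'
  exact (K.isZero_X_of_isStrictlySupported (ComplexShape.embeddingUpIntGE a) i'
    (hj.notMem hij')).eq_of_src _ _

/-- The morphism to the resolution. -/
noncomputable def φcx : K ⟶ Icx emb K a h0 h1 :=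
  (ComplexShape.embeddingUpIntGE a).liftExtend (ψcx emb (Xr K a) h0 h1)
    (hasLift_ψcx emb K a h0 h1)

lemma Icx_filteredInjective (n : ℤ) : FilD.IsFilteredInjective ((Icx emb K a h0 h1).X n) := by
  by_cases hn : ∃ k, (ComplexShape.embeddingUpIntGE a).f k = n
  · obtain ⟨k, rfl⟩ := hn
    intro p
    have := Jobj_inj emb (Xr K a) h0 h1 k p
    exact Injective.of_iso ((FilD.grF A p).mapIso
      ((Jcx emb (Xr K a) h0 h1).extendXIso (ComplexShape.embeddingUpIntGE a) rfl).symm) this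
  · apply isFilteredInjective_of_isZero
    exact (Jcx emb (Xr K a) h0 h1).isZero_extend_X (ComplexShape.embeddingUpIntGE a) n
      (by simpa using hn)

lemma φcx_gr_mono (n : ℤ) (p : ℤ) : Mono ((FilD.grF A p).map ((φcx emb K a h0 h1).f n)) := by
  by_cases hn : ∃ k, (ComplexShape.embeddingUpIntGE a).f k = n
  · obtain ⟨k, rfl⟩ := hn
    have := Jψ_gmono emb (Xr K a) h0 h1 k p
    dsimp only [φcx]
    rw [(ComplexShape.embeddingUpIntGE a).liftExtend_f _ _ rfl, Functor.map_comp,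
      Functor.map_comp, ψcx_f]
    have i1 : Mono ((FilD.grF A p).map
        (K.restrictionXIso (ComplexShape.embeddingUpIntGE a) (rfl :
          (ComplexShape.embeddingUpIntGE a).f k = _)).inv) := inferInstance
    have i3 : Mono ((FilD.grF A p).map
        ((Jcx emb (Xr K a) h0 h1).extendXIso (ComplexShape.embeddingUpIntGE a) (rfl :
          (ComplexShape.embeddingUpIntGE a).f k = _)).inv) := inferInstance
    exact mono_comp' i1 (mono_comp' this i3)
  · have hz : IsZero (K.X n) :=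
      K.isZero_X_of_isStrictlySupported (ComplexShape.embeddingUpIntGE a) n (by simpa using hn)
    exact ((FilD.grF A p).map_isZero hz).mono _

theorem φcx_filteredQuasiIso : FilD.IsFilteredQuasiIso (φcx emb K a h0 h1) := by
  intro p
  apply quasiIso_map_liftExtend (ComplexShape.embeddingUpIntGE a) (FilD.grF A p)
    (Jcx emb (Xr K a) h0 h1) K (ψcx emb (Xr K a) h0 h1) (hasLift_ψcx emb K a h0 h1)
  have hd : ∀ j : ℕ, (((FilD.grF A p).mapHomologicalComplex (ComplexShape.up ℕ)).obj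
      (Jcx emb (Xr K a) h0 h1)).d j (j + 1) = (FilD.grF A p).map (Jd emb (Xr K a) h0 h1 j) := by
    intro j
    exact congrArg (fun f => (FilD.grF A p).map f) (Jcx_d emb (Xr K a) h0 h1 j)
  apply quasiIso_of_cone_exact
  · exact (FilD.grF A p).map_isZero h0
  · exact (FilD.grF A p).map_isZero h1
  · exact (FilD.grF A p).map_isZero (Jobj_zero emb (Xr K a) h0 h1)
  · exact (FilD.grF A p).map_isZero (Jobj_one emb (Xr K a) h0 h1)
  · intro k T x y hxy
    rw [hd] at hxy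
    obtain ⟨T', π, hπ, x', y', e1, e2⟩ := Jcone_exact emb (Xr K a) h0 h1 k p x y hxy
    refine ⟨T', π, hπ, x', y', e1, ?_⟩
    rw [hd]
    exact e2

theorem exists_resolution_complex (emb : ∀ Y : FilD.FilF A, ∃ (I : FilD.FilF A) (u : Y ⟶ I),
    FilD.IsFilteredInjective I ∧ Mono u ∧ FilD.IsStrict u)
    (K : CochainComplex (FilD.FilF A) ℤ) (a₀ : ℤ) [K.IsStrictlyGE a₀] :
    ∃ (I : CochainComplex (FilD.FilF A) ℤ) (a' : ℤ) (φ : K ⟶ I), I.IsStrictlyGE a' ∧
      (∀ n, FilD.IsFilteredInjective (I.X n)) ∧ FilD.IsFilteredQuasiIso φ ∧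
      ∀ n, Mono (φ.f n) ∧ FilD.IsStrict (φ.f n) := by
  have : K.IsStrictlyGE (a₀ - 2) := K.isStrictlyGE_of_ge (a₀ - 2) a₀ (by omega)
  have h0 : IsZero ((Xr K (a₀ - 2)).X 0) :=
    K.isZero_of_isStrictlyGE a₀ _ (by show a₀ - 2 + ((0 : ℕ) : ℤ) < a₀; omega)
  have h1 : IsZero ((Xr K (a₀ - 2)).X 1) :=
    K.isZero_of_isStrictlyGE a₀ _ (by show a₀ - 2 + ((1 : ℕ) : ℤ) < a₀; omega)
  exact ⟨Icx emb K (a₀ - 2) h0 h1, a₀ - 2, φcx emb K (a₀ - 2) h0 h1, inferInstance,
    Icx_filteredInjective emb K (a₀ - 2) h0 h1, φcx_filteredQuasiIso emb K (a₀ - 2) h0 h1,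
    fun n => mono_and_strict_of_gr_mono _ (φcx_gr_mono emb K (a₀ - 2) h0 h1 n)⟩

end Main

end Groth.Agent.Lib.helper25.FilDInjRes
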