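import Mathlib
import Groth.Prelude.Def_FilD
import Groth.Agent.Lib.Helper25.FilDLib
import Groth.Agent.Lib.Helper25.FilDInj
import Groth.Agent.Lib.Helper25.FilDRes
import Groth.Agent.Lib.Helper25.FilDTrunc

/-!
# Canonical truncations of complexes of finite filtered objects: quotient complexes

The quotient complex of levelwise cokernels of a family of strict morphisms `v n : W n ⟶ K.X n`.
-/

open CategoryTheory CategoryTheory.Limits Opposite

namespace Groth.Agent.Lib.helper25.FilDTruncGE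

open Groth.Agent.Lib.helper25.FilDLib Groth.Agent.Lib.helper25.FilDInj
  Groth.Agent.Lib.helper25.FilDRes Groth.Agent.Lib.helper25.FilDTrunc

universe v u

variable {A : Type u} [Category.{v} A] [Abelian A]

section CokCx

variable (K : CochainComplex (FilD.FilF A) ℤ) (W : ℤ → FilD.FilF A) (v : ∀ n, W n ⟶ K.X n)
  (hv : ∀ n, FilD.IsStrict (v n))

/-- The levelwise cokernel of `v n`. -/
noncomputable def cokObj (n : ℤ) : FilD.FilF A := cokerObj (v n) (hv n)

/-- The projection to the levelwise cokernel. -/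
noncomputable def cokπ (n : ℤ) : K.X n ⟶ cokObj K W v hv n := cokerπ (v n) (hv n)

lemma cokπ_hom (n : ℤ) : (cokπ K W v hv n).hom = cokernel.π (v n).hom := rfl

@[reassoc]
lemma v_cokπ (n : ℤ) : v n ≫ cokπ K W v hv n = 0 := comp_cokerπ _ _

/-- Descending to the levelwise cokernel. -/
noncomputable def cokDesc {Z : FilD.FilF A} {n : ℤ} (f : K.X n ⟶ Z) (hf : v n ≫ f = 0) :
    cokObj K W v hv n ⟶ Z :=
  ObjectProperty.homMk (cokernel.desc (v n).hom f.hom (congrArg (fun φ => φ.hom) hf))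

@[reassoc (attr := simp)]
lemma cokπ_desc {Z : FilD.FilF A} {n : ℤ} (f : K.X n ⟶ Z) (hf : v n ≫ f = 0) :
    cokπ K W v hv n ≫ cokDesc K W v hv f hf = f := by
  ext1
  exact cokernel.π_desc (v n).hom f.hom _

instance (n : ℤ) : Epi (cokπ K W v hv n) where
  left_cancellation g h w := by
    ext1
    have w' : cokernel.π (v n).hom ≫ g.hom = cokernel.π (v n).hom ≫ h.hom :=
      congrArg (fun φ => φ.hom) w
    exact (cancel_epi (cokernel.π (v n).hom)).1 w'

theorem gr_cokπ_epi (n p : ℤ) : Epi ((FilD.gr A p).map (cokπ K W v hv n).hom) :=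
  gr_epi (v n) p

lemma gr_cokπ_isIso (n p : ℤ) (h : v n = 0) :
    IsIso ((FilD.gr A p).map (cokπ K W v hv n).hom) := by
  have h' : (v n).hom = 0 := by rw [h]; rfl
  have h'' : IsIso (cokernel.π (v n).hom) :=
    CokernelCofork.IsColimit.isIso_π (CokernelCofork.ofπ (cokernel.π (v n).hom)
      (cokernel.condition _)) (cokernelIsCokernel (v n).hom) h'
  have h3 : IsIso (cokπ K W v hv n).hom := h''
  infer_instance

lemma isZero_gr_cokObj (n p : ℤ) (h : cokπ K W v hv n = 0) :
    IsZero ((FilD.gr A p).obj (cokObj K W v hv n).obj) := by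
  have h' : cokernel.π (v n).hom = 0 := congrArg (fun φ => φ.hom) h
  have : IsZero (cokernel (v n).hom) := IsZero.of_epi_eq_zero _ h'
  exact (FilD.gr A p).map_isZero this

/-- `gr`-exactness of the cokernel sequence, in refinement form. -/
lemma gr_cok_exact (n p : ℤ) ⦃T : A⦄
    (x : T ⟶ (FilD.gr A p).obj (K.X n).obj)
    (hx : x ≫ (FilD.gr A p).map (cokπ K W v hv n).hom = 0) :
    ∃ (T' : A) (π : T' ⟶ T) (_ : Epi π) (w : T' ⟶ (FilD.gr A p).obj (W n).obj),
      π ≫ x = w ≫ (FilD.gr A p).map (v n).hom :=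
  (gr_exact (v n) p).exact_up_to_refinements x hx

variable (H : ∀ n m, v n ≫ K.d n m ≫ cokπ K W v hv m = 0)

/-- The quotient complex of levelwise cokernels. -/
noncomputable def cokCx : CochainComplex (FilD.FilF A) ℤ where
  X := cokObj K W v hv
  d n m := cokDesc K W v hv (K.d n m ≫ cokπ K W v hv m) (H n m)
  shape n m h := by
    rw [← cancel_epi (cokπ K W v hv n), cokπ_desc, comp_zero, K.shape n m h, zero_comp]
  d_comp_d' n m l _ _ := by
    rw [← cancel_epi (cokπ K W v hv n), cokπ_desc_assoc, Category.assoc, cokπ_desc,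
      K.d_comp_d_assoc, zero_comp, comp_zero]

/-- The projection to the quotient complex of levelwise cokernels. -/
noncomputable def cokCxπ : K ⟶ cokCx K W v hv H where
  f := cokπ K W v hv
  comm' n m _ := cokπ_desc K W v hv (K.d n m ≫ cokπ K W v hv m) (H n m)

lemma cokCxπ_f (n : ℤ) : (cokCxπ K W v hv H).f n = cokπ K W v hv n := rfl

/-- The projection to the quotient complex of levelwise cokernels is a filtered quasi-isomorphism,
if the quotient complex looks like the canonical truncation `τ_{≥ a} K`. -/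
theorem cokCxπ_filteredQuasiIso (a a' : ℤ) (ha' : a' + 1 = a)
    (h1 : ∀ n, a < n → v n = 0) (h2 : ∀ n, n < a → cokπ K W v hv n = 0)
    (h4 : ∀ (p : ℤ) ⦃T : A⦄ (w : T ⟶ (FilD.gr A p).obj (W a).obj),
      ∃ (T' : A) (π : T' ⟶ T) (_ : Epi π) (w' : T' ⟶ (FilD.gr A p).obj (K.X a').obj),
        π ≫ w ≫ (FilD.gr A p).map (v a).hom = w' ≫ (FilD.gr A p).map (K.d a' a).hom)
    (hK : ∀ (p n : ℤ), n < a → IsZero (((FilD.grCx p).obj K).homology n)) :
    FilD.IsFilteredQuasiIso (cokCxπ K W v hv H) := by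
  intro p
  apply quasiIso_of_truncGE _ a a' ha'
  · intro n
    exact gr_cokπ_epi K W v hv n p
  · intro n hn
    have := gr_cokπ_isIso K W v hv n p (h1 n hn)
    show Mono ((FilD.gr A p).map (cokπ K W v hv n).hom)
    infer_instance
  · intro n hn
    exact isZero_gr_cokObj K W v hv n p (h2 n hn)
  · intro T x hx
    obtain ⟨x', rfl⟩ : ∃ x' : T ⟶ (FilD.gr A p).obj (K.X a).obj, x' = x := ⟨x, rfl⟩
    obtain ⟨T₁, π₁, hπ₁, w, hw⟩ := gr_cok_exact K W v hv a p x' hx
    obtain ⟨T₂, π₂, hπ₂, w', hw'⟩ := h4 p w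
    refine ⟨T₂, π₂ ≫ π₁, epi_comp _ _, w', ?_⟩
    have h5 : (π₂ ≫ π₁) ≫ x' = w' ≫ (FilD.gr A p).map (K.d a' a).hom := by
      rw [Category.assoc, hw]
      exact hw'
    exact h5
  · intro n hn
    rw [HomologicalComplex.exactAt_iff_isZero_homology]
    exact hK p n hn

lemma cokCx_isStrictlyGE (a : ℤ) (h2 : ∀ n, n < a → cokπ K W v hv n = 0) :
    (cokCx K W v hv H).IsStrictlyGE a := by
  rw [CochainComplex.isStrictlyGE_iff]
  intro n hn
  have h' : cokπ K W v hv n = 0 := h2 n hn
  show IsZero (cokObj K W v hv n)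
  rw [IsZero.iff_id_eq_zero, ← cancel_epi (cokπ K W v hv n), comp_zero, h']
  exact zero_comp

end CokCx

end Groth.Agent.Lib.helper25.FilDTruncGE
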