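import Mathlib

/-!
# Abelian category lemmas for filtered K-injective resolutions (helper25)

* `kerSeq a b`: the sequence `ker a → ker (a ≫ b) → ker b`; short exact when `a` is an epimorphism.
* `cokernelIsoOfShortExact`: `cokernel S.f ≅ S.X₃` for a short exact short complex `S`.
* `quasiIso_τ₁`: two-out-of-three for quasi-isomorphisms in a morphism of short exact sequences of complexes
  (proof as in helper27's `SESInj.quasiIso_τ₁`).
* `shortExact_cokernel`: `0 → X → Y → cokernel f → 0` for a mono `f`.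
-/

set_option autoImplicit false
universe v u
open CategoryTheory CategoryTheory.Limits

namespace Groth.Agent.Lib.Helper25.FilKInjAb

variable {𝒞 : Type u} [Category.{v} 𝒞] [Abelian 𝒞]

section kerSeq

variable {X Y Z : 𝒞} (a : X ⟶ Y) (b : Y ⟶ Z)

/-- `ker a ⟶ ker (a ≫ b)` -/
noncomputable def kerU : kernel a ⟶ kernel (a ≫ b) :=
  kernel.lift _ (kernel.ι a) (by rw [← Category.assoc, kernel.condition, zero_comp])

/-- `ker (a ≫ b) ⟶ ker b` -/
noncomputable def kerW : kernel (a ≫ b) ⟶ kernel b :=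
  kernel.lift _ (kernel.ι (a ≫ b) ≫ a) (by rw [Category.assoc, kernel.condition])

@[reassoc (attr := simp)]
lemma kerU_ι : kerU a b ≫ kernel.ι (a ≫ b) = kernel.ι a := kernel.lift_ι _ _ _

@[reassoc (attr := simp)]
lemma kerW_ι : kerW a b ≫ kernel.ι b = kernel.ι (a ≫ b) ≫ a := kernel.lift_ι _ _ _

lemma kerU_kerW : kerU a b ≫ kerW a b = 0 := by
  rw [← cancel_mono (kernel.ι b), Category.assoc, kerW_ι, kerU_ι_assoc, kernel.condition, zero_comp]

instance : Mono (kerU a b) := mono_of_mono_fac (kerU_ι a b)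

/-- the sequence `ker a → ker (a ≫ b) → ker b` -/
noncomputable def kerSeq : ShortComplex 𝒞 := ShortComplex.mk (kerU a b) (kerW a b) (kerU_kerW a b)

lemma epi_kerW [Epi a] : Epi (kerW a b) := by
  obtain ⟨l, hl⟩ : ∃ l : pullback a (kernel.ι b) ⟶ kernel (a ≫ b),
      l ≫ kernel.ι (a ≫ b) = pullback.fst a (kernel.ι b) :=
    ⟨kernel.lift _ (pullback.fst a (kernel.ι b)) (by
      rw [← Category.assoc, pullback.condition, Category.assoc, kernel.condition, comp_zero]),
      kernel.lift_ι _ _ _⟩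
  have h : l ≫ kerW a b = pullback.snd a (kernel.ι b) := by
    rw [← cancel_mono (kernel.ι b), Category.assoc, kerW_ι, ← Category.assoc, hl, pullback.condition]
  exact epi_of_epi_fac h

lemma kerW_zero_aux {T : 𝒞} (t : T ⟶ kernel (a ≫ b)) (ht : t ≫ kerW a b = 0) :
    (t ≫ kernel.ι (a ≫ b)) ≫ a = 0 := by
  have : t ≫ kerW a b ≫ kernel.ι b = 0 := by rw [← Category.assoc, ht, zero_comp]
  rw [Category.assoc, ← kerW_ι, this]

/-- `kerU` is a kernel of `kerW`. -/
noncomputable def kerUIsKernel : IsLimit (KernelFork.ofι (kerU a b) (kerU_kerW a b)) :=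
  KernelFork.IsLimit.ofι _ _
    (fun {T} (t : T ⟶ kernel (a ≫ b)) (ht : t ≫ kerW a b = 0) =>
      kernel.lift _ (t ≫ kernel.ι (a ≫ b)) (kerW_zero_aux a b t ht))
    (fun {T} (t : T ⟶ kernel (a ≫ b)) (ht : t ≫ kerW a b = 0) => by
      rw [← cancel_mono (kernel.ι (a ≫ b)), Category.assoc, kerU_ι, kernel.lift_ι])
    (fun {T} (t : T ⟶ kernel (a ≫ b)) (ht : t ≫ kerW a b = 0) (m : T ⟶ kernel a)
        (hm : m ≫ kerU a b = t) => by
      rw [← cancel_mono (kernel.ι a), kernel.lift_ι, ← hm, Category.assoc, kerU_ι])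

lemma kerSeq_exact : (kerSeq a b).Exact :=
  ShortComplex.exact_of_f_is_kernel _ (kerUIsKernel a b)

lemma kerSeq_shortExact [Epi a] : (kerSeq a b).ShortExact := by
  haveI : Mono (kerSeq a b).f := inferInstanceAs (Mono (kerU a b))
  haveI : Epi (kerSeq a b).g := epi_kerW a b
  exact ShortComplex.ShortExact.mk (kerSeq_exact a b)

end kerSeq

/-- `cokernel S.f ≅ S.X₃` for a short exact short complex. -/
noncomputable def cokernelIsoOfShortExact (S : ShortComplex 𝒞) (hS : S.ShortExact) :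
    cokernel S.f ≅ S.X₃ :=
  haveI := hS.epi_g
  IsColimit.coconePointUniqueUpToIso (cokernelIsCokernel S.f) hS.exact.gIsCokernel

@[reassoc (attr := simp)]
lemma π_cokernelIsoOfShortExact_hom (S : ShortComplex 𝒞) (hS : S.ShortExact) :
    cokernel.π S.f ≫ (cokernelIsoOfShortExact S hS).hom = S.g :=
  haveI := hS.epi_g
  IsColimit.comp_coconePointUniqueUpToIso_hom (cokernelIsCokernel S.f) hS.exact.gIsCokernel
    WalkingParallelPair.one

/-- the short exact sequence `0 → X → Y → cokernel f → 0` -/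
lemma shortExact_cokernel {X Y : 𝒞} (f : X ⟶ Y) [Mono f] :
    (ShortComplex.mk f (cokernel.π f) (cokernel.condition f)).ShortExact :=
  ShortComplex.ShortExact.mk (ShortComplex.exact_cokernel f)

/-- the short exact sequence `0 → kernel g → X → Y → 0` -/
lemma shortExact_kernel {X Y : 𝒞} (g : X ⟶ Y) [Epi g] :
    (ShortComplex.mk (kernel.ι g) g (kernel.condition g)).ShortExact :=
  ShortComplex.ShortExact.mk (ShortComplex.exact_kernel g)

section five

open ComposableArrows HomologicalComplex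

variable {S₁ S₂ : ShortComplex (CochainComplex 𝒞 ℤ)} (φ : S₁ ⟶ S₂)
  (hS₁ : S₁.ShortExact) (hS₂ : S₂.ShortExact)

include hS₁ hS₂ in
lemma quasiIso_τ₁ (h₂ : QuasiIso φ.τ₂) (h₃ : QuasiIso φ.τ₃) : QuasiIso φ.τ₁ := by
  rw [quasiIso_iff]
  intro j
  rw [quasiIsoAt_iff_isIso_homologyMap]
  have hij : (ComplexShape.up ℤ).Rel (j - 1) j := by simp
  have e2 : ∀ i, IsIso (homologyMap φ.τ₂ i) := fun i =>
    (quasiIsoAt_iff_isIso_homologyMap _ _).1 inferInstance
  have e3 : ∀ i, IsIso (homologyMap φ.τ₃ i) := fun i =>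
    (quasiIsoAt_iff_isIso_homologyMap _ _).1 inferInstance
  exact Abelian.isIso_of_epi_of_isIso_of_isIso_of_mono
    (HomologySequence.composableArrows₅_exact hS₁ (j - 1) j hij).δ₀
    (HomologySequence.composableArrows₅_exact hS₂ (j - 1) j hij).δ₀
    (δ₀Functor.map (HomologySequence.mapComposableArrows₅ φ hS₁ hS₂ (j - 1) j hij))
    (show Epi (homologyMap φ.τ₂ (j - 1)) from inferInstance)
    (show IsIso (homologyMap φ.τ₃ (j - 1)) from inferInstance)
    (show IsIso (homologyMap φ.τ₂ j) from inferInstance)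
    (show Mono (homologyMap φ.τ₃ j) from inferInstance)

include hS₁ hS₂ in
lemma quasiIso_τ₃ (h₁ : QuasiIso φ.τ₁) (h₂ : QuasiIso φ.τ₂) : QuasiIso φ.τ₃ :=
  HomologySequence.quasiIso_τ₃ φ hS₁ hS₂ h₁ h₂

end five

end Groth.Agent.Lib.Helper25.FilKInjAb
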