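import Mathlib
import Groth.Agent.Lib.Helper21.KInjAdj

/-!
# Evaluation functors on functor categories with values in a Grothendieck abelian category (helper25)

For a small category `C` and a Grothendieck abelian category `A`:
* `isGrothendieckAbelian_functor`: `Pᵒᵖ ⥤ A` is Grothendieck abelian.
* the left adjoint `evaluationLeftAdjoint A c` of evaluation at `c` is exact;
* `injective_eval`, `isKInjective_eval`: evaluation preserves injective objects and K-injective complexes;
* `exists_section`: for an injective functor `M` and an epimorphism `f`, the map `M.map f` is a split epi.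
-/

set_option autoImplicit false
universe v u
open CategoryTheory CategoryTheory.Limits

namespace Groth.Agent.Lib.Helper25.FilKInjEval

variable {A : Type u} [Category.{v} A] [Abelian A] [IsGrothendieckAbelian.{v} A]

noncomputable instance isGrothendieckAbelian_functor (P : Type v) [SmallCategory P] :
    IsGrothendieckAbelian.{v} (Pᵒᵖ ⥤ A) where
  ab5OfSize := ⟨fun J _ _ => inferInstance⟩

variable {C : Type v} [SmallCategory C]

instance (c : C) : (evaluationLeftAdjoint A c).Additive :=
  (evaluationAdjunctionRight A c).left_adjoint_additive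

instance stab (J : Type v) : (MorphismProperty.monomorphisms A).IsStableUnderCoproductsOfShape J := by
  haveI : HasFiniteBiproducts A := Abelian.hasFiniteBiproducts
  haveI : HasExactColimitsOfShape (Discrete J) A := (AB4.of_AB5 A).ofShape J
  infer_instance

lemma mono_sigmaMap {J : Type v} {X Y : A} (f : X ⟶ Y) [Mono f] :
    Mono (Limits.Sigma.map (fun _ : J => f)) := by
  haveI : ∀ (_ : J), Mono ((fun _ : J => f) ‹_›) := fun _ => inferInstance
  infer_instance

instance preservesMono (c : C) : (evaluationLeftAdjoint A c).PreservesMonomorphisms where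
  preserves {X Y} f hf := by
    rw [NatTrans.mono_iff_mono_app]
    intro k
    have : ((evaluationLeftAdjoint A c).map f).app k = Limits.Sigma.map (fun _ : c ⟶ k => f) := by
      apply Sigma.hom_ext
      intro b
      simp [evaluationLeftAdjoint]
    rw [this]
    exact mono_sigmaMap f

instance preservesFiniteLimits (c : C) : PreservesFiniteLimits (evaluationLeftAdjoint A c) := by
  apply ((evaluationLeftAdjoint A c).preservesFiniteLimits_tfae.out 0 3).1
  intro S hS
  haveI := hS.mono_f
  haveI : PreservesColimitsOfSize.{0, 0} (evaluationLeftAdjoint A c) :=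
    (evaluationAdjunctionRight A c).leftAdjoint_preservesColimits
  have h : PreservesFiniteColimits (evaluationLeftAdjoint A c) := inferInstance
  have h2 := ((evaluationLeftAdjoint A c).preservesFiniteColimits_tfae.out 3 0).1 h
  exact ⟨(h2 S hS).1, inferInstance⟩

instance preservesFiniteColimits (c : C) : PreservesFiniteColimits (evaluationLeftAdjoint A c) := by
  haveI : PreservesColimitsOfSize.{0, 0} (evaluationLeftAdjoint A c) :=
    (evaluationAdjunctionRight A c).leftAdjoint_preservesColimits
  infer_instance

/-- Evaluation preserves injective objects. -/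
lemma injective_eval (M : C ⥤ A) [Injective M] (c : C) : Injective (M.obj c) :=
  Injective.injective_of_adjoint (evaluationAdjunctionRight A c) M

/-- Evaluation preserves K-injective complexes. -/
lemma isKInjective_eval (M : CochainComplex (C ⥤ A) ℤ) [M.IsKInjective] (c : C) :
    CochainComplex.IsKInjective
      ((((evaluation C A).obj c).mapHomologicalComplex (ComplexShape.up ℤ)).obj M) :=
  Groth.Agent.Lib.Helper21.KInjAdj.isKInjective_obj (evaluationAdjunctionRight A c) M

/-- The comparison map between the left adjoints of two evaluations. -/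
noncomputable def τ {c c' : C} (f : c ⟶ c') (X : A) :
    (evaluationLeftAdjoint A c').obj X ⟶ (evaluationLeftAdjoint A c).obj X where
  app k := Sigma.desc (fun g : c' ⟶ k => Sigma.ι (fun _ : c ⟶ k => X) (f ≫ g))
  naturality k k' a := by
    apply Sigma.hom_ext
    intro g
    simp [evaluationLeftAdjoint]

lemma mono_τ {c c' : C} (f : c ⟶ c') [Epi f] (X : A) : Mono (τ f X) := by
  rw [NatTrans.mono_iff_mono_app]
  intro k
  have hι : Function.Injective (fun g : c' ⟶ k => f ≫ g) := fun g g' h => (cancel_epi f).1 h
  exact MonoCoprod.mono_of_injective' (fun _ : c ⟶ k => X) _ hι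

/-- The inclusion of the summand indexed by `g`. -/
noncomputable def inc {c k : C} (g : c ⟶ k) (X : A) : X ⟶ ((evaluationLeftAdjoint A c).obj X).obj k :=
  Sigma.ι (fun _ : c ⟶ k => X) g

lemma inc_map {c k k' : C} (g : c ⟶ k) (a : k ⟶ k') (X : A) :
    inc g X ≫ ((evaluationLeftAdjoint A c).obj X).map a = inc (g ≫ a) X := by
  simp [inc, evaluationLeftAdjoint]

lemma inc_τ {c c' k : C} (f : c ⟶ c') (g : c' ⟶ k) (X : A) :
    inc g X ≫ (τ f X).app k = inc (f ≫ g) X := by
  exact Sigma.ι_desc (fun g : c' ⟶ k => Sigma.ι (fun _ : c ⟶ k => X) (f ≫ g)) g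

/-- The canonical map `L_c (M c) ⟶ M`. -/
noncomputable def ev (M : C ⥤ A) (c : C) : (evaluationLeftAdjoint A c).obj (M.obj c) ⟶ M where
  app k := Sigma.desc (fun g : c ⟶ k => M.map g)
  naturality k k' a := by
    apply Sigma.hom_ext
    intro g
    simp [evaluationLeftAdjoint]

lemma inc_ev (M : C ⥤ A) {c k : C} (g : c ⟶ k) : inc g (M.obj c) ≫ (ev M c).app k = M.map g := by
  exact Sigma.ι_desc (fun g : c ⟶ k => M.map g) g

/-- For an injective functor `M` and an epimorphism `f`, the map `M.map f` has a section. -/
lemma exists_section (M : C ⥤ A) [Injective M] {c c' : C} (f : c ⟶ c') [Epi f] :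
    ∃ s : M.obj c' ⟶ M.obj c, s ≫ M.map f = 𝟙 _ := by
  haveI := mono_τ f (M.obj c')
  obtain ⟨e, he⟩ : ∃ e : (evaluationLeftAdjoint A c).obj (M.obj c') ⟶ M,
      τ f (M.obj c') ≫ e = ev M c' :=
    ⟨Injective.factorThru (ev M c') (τ f (M.obj c')), Injective.comp_factorThru _ _⟩
  refine ⟨inc (𝟙 c) (M.obj c') ≫ e.app c, ?_⟩
  have h2 : e.app c ≫ M.map f = ((evaluationLeftAdjoint A c).obj (M.obj c')).map f ≫ e.app c' :=
    (e.naturality f).symm
  have h5 : (τ f (M.obj c')).app c' ≫ e.app c' = (ev M c').app c' := by
    rw [← NatTrans.comp_app, he]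
  rw [Category.assoc, h2, ← Category.assoc, inc_map, Category.id_comp,
    ← Category.comp_id f, ← inc_τ, Category.assoc, h5, inc_ev, M.map_id]

end Groth.Agent.Lib.Helper25.FilKInjEval
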