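import Mathlib

/-!
# Two-out-of-three for K-injective complexes in degreewise split short exact sequences (helper25)

* `isKInjective_X₁_of_splitting`: in a degreewise split short exact sequence of cochain complexes
  `0 → X₁ → X₂ → X₃ → 0` with `X₂`, `X₃` K-injective, `X₁` is K-injective.
* `isKInjective_X₁`: same, from a short exact sequence and degreewise sections of `g`.
* `injective_X₁`: in a split short exact sequence with `X₂` injective, `X₁` is injective.
-/

set_option autoImplicit false
universe v u
open CategoryTheory CategoryTheory.Limits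

namespace Groth.Agent.Lib.Helper25.FilKInjSplit

variable {A : Type u} [Category.{v} A] [Abelian A]

open Pretriangulated in
theorem isKInjective_X₁_of_splitting (S : ShortComplex (CochainComplex A ℤ))
    (σ : ∀ n, (S.map (HomologicalComplex.eval A (ComplexShape.up ℤ) n)).Splitting)
    [h₂ : S.X₂.IsKInjective] [h₃ : S.X₃.IsKInjective] : S.X₁.IsKInjective := by
  rw [CochainComplex.isKInjective_iff_rightOrthogonal] at h₂ h₃ ⊢
  have hT : CochainComplex.trianglehOfDegreewiseSplit S σ ∈ distTriang _ :=
    (HomotopyCategory.distinguished_iff_iso_trianglehOfDegreewiseSplit _).2 ⟨S, σ, ⟨Iso.refl _⟩⟩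
  exact (HomotopyCategory.subcategoryAcyclic A).rightOrthogonal.ext_of_isTriangulatedClosed₁ _ hT h₂ h₃

/-- A splitting of a short exact short complex from a section of `g`. -/
noncomputable def splittingOfSection (S : ShortComplex A) (hS : S.ShortExact) (s : S.X₃ ⟶ S.X₂)
    (hs : s ≫ S.g = 𝟙 _) : S.Splitting :=
  ShortComplex.Splitting.ofExactOfSection S hS.exact s hs hS.mono_f

theorem isKInjective_X₁ (S : ShortComplex (CochainComplex A ℤ)) (hS : S.ShortExact)
    (hσ : ∀ n, ∃ s : S.X₃.X n ⟶ S.X₂.X n, s ≫ S.g.f n = 𝟙 _)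
    [S.X₂.IsKInjective] [S.X₃.IsKInjective] : S.X₁.IsKInjective := by
  have hn : ∀ n, (S.map (HomologicalComplex.eval A (ComplexShape.up ℤ) n)).ShortExact :=
    fun n => hS.map_of_exact _
  exact isKInjective_X₁_of_splitting S
    (fun n => splittingOfSection _ (hn n) (hσ n).choose (hσ n).choose_spec)

theorem injective_X₁ (S : ShortComplex A) (hS : S.ShortExact)
    (hσ : ∃ s : S.X₃ ⟶ S.X₂, s ≫ S.g = 𝟙 _) [Injective S.X₂] : Injective S.X₁ := by
  obtain ⟨s, hs⟩ := hσ
  have σ := splittingOfSection S hS s hs
  refine ⟨fun {X Y} g f hf => ?_⟩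
  refine ⟨Injective.factorThru (g ≫ S.f) f ≫ σ.r, ?_⟩
  rw [← Category.assoc, Injective.comp_factorThru, Category.assoc, σ.f_r, Category.comp_id]

end Groth.Agent.Lib.Helper25.FilKInjSplit
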