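import Mathlib
import Groth.Prelude.Def_SpSeq
import Groth.Agent.Lib.Helper25.KInjMain
import Groth.Agent.Lib.Helper25.FilKInjEval
import Groth.Agent.Lib.Helper25.FilKInjSplit
import Groth.Agent.Lib.Helper25.FilKInjAb

/-!
# Filtered K-injective resolutions: the system of quotients (helper25)

For a filtered complex `K` in an abelian category, the presheaf `x ↦ K / F^x K` on `WithTop ℤ`
(with `F^⊤ K = 0`) as a complex `N K` in the functor category, and the evaluation of a complex `M` of
presheaves at the points of `WithTop ℤ`.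
-/

set_option autoImplicit false
universe v u
open CategoryTheory CategoryTheory.Limits Opposite

namespace Groth.Agent.Lib.Helper25.FilKInjSys

open SpSeq

variable {A : Type u} [Category.{v} A] [Abelian A]

/-- The index poset `ℤ ∪ {⊤}`, lifted to the universe `v`. -/
abbrev P : Type v := ULift.{v} (WithTop ℤ)

/-- the point `p` -/
def pt (p : ℤ) : P.{v} := ULift.up (p : WithTop ℤ)

/-- the top point -/
def top : P.{v} := ULift.up ⊤

lemma le_top' (x : P.{v}) : x ≤ top := by
  change x.down ≤ ⊤
  exact le_top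

lemma pt_le_pt {p q : ℤ} (h : p ≤ q) : pt.{v} p ≤ pt q := by
  change ((p : WithTop ℤ)) ≤ (q : WithTop ℤ)
  exact WithTop.coe_le_coe.2 h

/-- The extended filtration, with `F^⊤ = ⊥`. -/
noncomputable def filExt (K : FilCx A) (x : P.{v}) : Subobject K.obj :=
  WithTop.recTopCoe ⊥ (fun p => K.fil p) x.down

@[simp] lemma filExt_top (K : FilCx A) : filExt K top.{v} = ⊥ := rfl

@[simp] lemma filExt_pt (K : FilCx A) (p : ℤ) : filExt K (pt.{v} p) = K.fil p := rfl

lemma filExt_anti (K : FilCx A) {x y : P.{v}} (h : x ≤ y) : filExt K y ≤ filExt K x := by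
  obtain ⟨x⟩ := x
  obtain ⟨y⟩ := y
  change x ≤ y at h
  induction y using WithTop.recTopCoe with
  | top => exact bot_le
  | coe q =>
    induction x using WithTop.recTopCoe with
    | top => exact absurd h (by simp)
    | coe p => exact K.anti (WithTop.coe_le_coe.1 h)

/-- `K / F^x K` -/
noncomputable def Nobj (K : FilCx A) (x : P.{v}) : CochainComplex A ℤ := cokernel (filExt K x).arrow

/-- the projection `K ⟶ K / F^x K` -/
noncomputable def Nπ (K : FilCx A) (x : P.{v}) : K.obj ⟶ Nobj K x := cokernel.π (filExt K x).arrow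

instance (K : FilCx A) (x : P.{v}) : Epi (Nπ K x) := inferInstanceAs (Epi (cokernel.π _))

lemma arrow_Nπ (K : FilCx A) (x : P.{v}) : (filExt K x).arrow ≫ Nπ K x = 0 := cokernel.condition _

/-- the transition maps -/
noncomputable def Nmap (K : FilCx A) {x y : P.{v}} (h : x ≤ y) : Nobj K y ⟶ Nobj K x :=
  cokernel.desc _ (Nπ K x) (by
    rw [← Subobject.ofLE_arrow (filExt_anti K h), Category.assoc, arrow_Nπ, comp_zero])

@[reassoc (attr := simp)]
lemma Nπ_Nmap (K : FilCx A) {x y : P.{v}} (h : x ≤ y) : Nπ K y ≫ Nmap K h = Nπ K x :=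
  cokernel.π_desc _ _ _

instance isIso_Nπ_top (K : FilCx A) : IsIso (Nπ K top.{v}) := by
  have h : (filExt K top.{v}).arrow = 0 := by
    rw [filExt_top]
    exact Subobject.bot_arrow
  have : IsIso (cokernel.π (filExt K top.{v}).arrow) := by
    rw [h]
    infer_instance
  exact this

/-- the presheaf of quotients -/
noncomputable def Nfun (K : FilCx A) : P.{v}ᵒᵖ ⥤ CochainComplex A ℤ where
  obj x := Nobj K x.unop
  map f := Nmap K (leOfHom f.unop)
  map_id x := by
    rw [← cancel_epi (Nπ K x.unop), Nπ_Nmap, Category.comp_id]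
  map_comp f g := by
    rw [← cancel_epi (Nπ K _), Nπ_Nmap, Nπ_Nmap_assoc, Nπ_Nmap]

/-- A functor to complexes as a complex of functors. -/
def ofFunctor {T : Type*} [Category T] (G : T ⥤ CochainComplex A ℤ) : CochainComplex (T ⥤ A) ℤ where
  X n := G ⋙ HomologicalComplex.eval A _ n
  d i j :=
    { app := fun t => (G.obj t).d i j
      naturality := fun s t f => (G.map f).comm i j }
  shape i j h := by
    ext t
    exact (G.obj t).shape i j h
  d_comp_d' i j k _ _ := by
    ext t
    exact (G.obj t).d_comp_d i j k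

/-- the complex of presheaves attached to `K` -/
noncomputable def N (K : FilCx A) : CochainComplex (P.{v}ᵒᵖ ⥤ A) ℤ := ofFunctor (Nfun K)

section

variable (M : CochainComplex (P.{v}ᵒᵖ ⥤ A) ℤ)

/-- evaluation of a complex of presheaves at `x` -/
noncomputable abbrev Mx (x : P.{v}) : CochainComplex A ℤ :=
  (((evaluation P.{v}ᵒᵖ A).obj (op x)).mapHomologicalComplex (ComplexShape.up ℤ)).obj M

/-- the restriction maps -/
noncomputable def ρ {x y : P.{v}} (h : x ≤ y) : Mx M y ⟶ Mx M x where
  f n := (M.X n).map (homOfLE h).op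
  comm' i j _ := ((M.d i j).naturality (homOfLE h).op)

@[simp] lemma ρ_f {x y : P.{v}} (h : x ≤ y) (n : ℤ) : (ρ M h).f n = (M.X n).map (homOfLE h).op := rfl

lemma ρ_comp {x y z : P.{v}} (h : x ≤ y) (h' : y ≤ z) : ρ M h' ≫ ρ M h = ρ M (h.trans h') := by
  ext n
  exact ((M.X n).map_comp (homOfLE h').op (homOfLE h).op).symm

variable {M}

/-- evaluation of a morphism from `N K` -/
noncomputable def φx {K : FilCx A} (φ : N K ⟶ M) (x : P.{v}) : Nobj K x ⟶ Mx M x where
  f n := (φ.f n).app (op x)
  comm' i j _ := congr_app (φ.comm i j) (op x)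

lemma Nmap_φx {K : FilCx A} (φ : N K ⟶ M) {x y : P.{v}} (h : x ≤ y) :
    Nmap K h ≫ φx φ x = φx φ y ≫ ρ M h := by
  ext n
  exact (φ.f n).naturality (homOfLE h).op

lemma quasiIso_φx {K : FilCx A} (φ : N K ⟶ M) [QuasiIso φ] (x : P.{v}) : QuasiIso (φx φ x) :=
  (HomologicalComplex.quasiIso_iff_evaluation φ).1 inferInstance (op x)

end

end Groth.Agent.Lib.Helper25.FilKInjSys
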