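import Mathlib
import Groth.Prelude.Def_SpSeq
import Groth.Agent.Lib.Helper25.FilKInjSys

/-!
# Filtered K-injective resolutions: the filtered complex `J` (helper25)
-/

set_option autoImplicit false
universe v u
open CategoryTheory CategoryTheory.Limits Opposite

namespace Groth.Agent.Lib.Helper25.FilKInjJ

open SpSeq Groth.Agent.Lib.Helper25.FilKInjSys Groth.Agent.Lib.Helper25.FilKInjAb
  Groth.Agent.Lib.Helper25.FilKInjEval Groth.Agent.Lib.Helper25.FilKInjSplit

variable {A : Type u} [Category.{v} A] [Abelian A]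

section generic

variable (L : FilCx A) (n p : ℤ)

/-- `F^p (L^n) ≅ (F^p L)^n` -/
noncomputable def stepXIso : (L.XFil n).step p ≅ (L.step p).X n :=
  Subobject.underlyingIso ((L.fil p).arrow.f n)

lemma stepXIso_hom_comp :
    (stepXIso L n p).hom ≫ (L.fil p).arrow.f n = ((L.XFil n).fil p).arrow :=
  Subobject.underlyingIso_hom_comp_eq_mk _

/-- `L^n / F^p (L^n) ≅ (L / F^p L)^n` -/
noncomputable def quotXIso : (L.XFil n).quot p ≅ (L.quot p).X n :=
  cokernel.mapIso ((L.XFil n).fil p).arrow ((L.fil p).arrow.f n) (stepXIso L n p) (Iso.refl _)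
    (by rw [stepXIso_hom_comp]; exact Category.comp_id _) ≪≫
    (PreservesCokernel.iso (HomologicalComplex.eval A (ComplexShape.up ℤ) n) (L.fil p).arrow).symm

lemma stepLE_comm {p p' : ℤ} (h : p ≤ p') :
    (L.XFil n).stepLE h ≫ (stepXIso L n p).hom = (stepXIso L n p').hom ≫ (L.stepLE h).f n := by
  rw [← cancel_mono ((L.fil p).arrow.f n), Category.assoc, Category.assoc, stepXIso_hom_comp,
    ← HomologicalComplex.comp_f, Subobject.ofLE_arrow, stepXIso_hom_comp]
  exact Subobject.ofLE_arrow _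

/-- `F^p (L^n) / F^p' (L^n) ≅ (F^p L / F^p' L)^n` -/
noncomputable def grXIso {p p' : ℤ} (h : p ≤ p') :
    cokernel ((L.XFil n).stepLE h) ≅ (cokernel (L.stepLE h)).X n :=
  cokernel.mapIso ((L.XFil n).stepLE h) ((L.stepLE h).f n) (stepXIso L n p') (stepXIso L n p)
    (stepLE_comm L n h) ≪≫
    (PreservesCokernel.iso (HomologicalComplex.eval A (ComplexShape.up ℤ) n) (L.stepLE h)).symm

lemma le_pullback_of_factors {𝒞 : Type*} [Category 𝒞] [Abelian 𝒞] {X Y : 𝒞} (f : X ⟶ Y)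
    (S : Subobject X) (T : Subobject Y) (h : T.Factors (S.arrow ≫ f)) :
    S ≤ (Subobject.pullback f).obj T := by
  rw [Subobject.pullback_obj]
  exact Subobject.le_mk_of_comm (pullback.lift (T.factorThru _ h) S.arrow (by simp))
    (pullback.lift_snd _ _ _)

end generic

section J

variable [IsGrothendieckAbelian.{v} A] (M : CochainComplex (P.{v}ᵒᵖ ⥤ A) ℤ)

instance epi_of_thin {x y : P.{v}ᵒᵖ} (f : x ⟶ y) : Epi f := ⟨fun _ _ _ => Subsingleton.elim _ _⟩

lemma isKInjective_Mx [M.IsKInjective] (x : P.{v}) : (Mx M x).IsKInjective :=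
  isKInjective_eval M (op x)

lemma injective_Mx (hinj : ∀ n, Injective (M.X n)) (x : P.{v}) (n : ℤ) : Injective ((Mx M x).X n) :=
  haveI := hinj n
  injective_eval (M.X n) (op x)

lemma exists_section_ρ (hinj : ∀ n, Injective (M.X n)) {x y : P.{v}} (h : x ≤ y) (n : ℤ) :
    ∃ s : (Mx M x).X n ⟶ (Mx M y).X n, s ≫ (ρ M h).f n = 𝟙 _ :=
  haveI := hinj n
  exists_section (M.X n) (homOfLE h).op

lemma epi_ρ (hinj : ∀ n, Injective (M.X n)) {x y : P.{v}} (h : x ≤ y) : Epi (ρ M h) := by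
  have h1 : ∀ n, Epi ((ρ M h).f n) := fun n => by
    obtain ⟨s, hs⟩ := exists_section_ρ M hinj h n
    haveI : Epi (s ≫ (ρ M h).f n) := by rw [hs]; infer_instance
    exact epi_of_epi s ((ρ M h).f n)
  exact HomologicalComplex.epi_of_epi_f _ h1

/-- the short exact sequence `0 → ker ρ → M_y → M_x → 0` -/
noncomputable def Sker {x y : P.{v}} (h : x ≤ y) : ShortComplex (CochainComplex A ℤ) :=
  ShortComplex.mk (kernel.ι (ρ M h)) (ρ M h) (kernel.condition _)

lemma Sker_shortExact (hinj : ∀ n, Injective (M.X n)) {x y : P.{v}} (h : x ≤ y) :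
    (Sker M h).ShortExact :=
  haveI := epi_ρ M hinj h
  shortExact_kernel (ρ M h)

lemma isKInjective_kernel_ρ [M.IsKInjective] (hinj : ∀ n, Injective (M.X n)) {x y : P.{v}}
    (h : x ≤ y) : (kernel (ρ M h)).IsKInjective := by
  haveI : (Sker M h).X₂.IsKInjective := isKInjective_Mx M y
  haveI : (Sker M h).X₃.IsKInjective := isKInjective_Mx M x
  exact isKInjective_X₁ (Sker M h) (Sker_shortExact M hinj h) (exists_section_ρ M hinj h)

lemma injective_kernel_ρ (hinj : ∀ n, Injective (M.X n)) {x y : P.{v}} (h : x ≤ y) (n : ℤ) :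
    Injective ((kernel (ρ M h)).X n) := by
  haveI : Injective (((Sker M h).map (HomologicalComplex.eval A (ComplexShape.up ℤ) n)).X₂) :=
    injective_Mx M hinj y n
  exact injective_X₁ ((Sker M h).map (HomologicalComplex.eval A (ComplexShape.up ℤ) n))
    ((Sker_shortExact M hinj h).map_of_exact _) (exists_section_ρ M hinj h n)

/-- the projection `M_⊤ ⟶ M_p` -/
noncomputable abbrev πJ (p : ℤ) : Mx M top ⟶ Mx M (pt p) := ρ M (le_top' (pt p))

lemma πJ_ρ {p q : ℤ} (h : p ≤ q) : πJ M q ≫ ρ M (pt_le_pt h) = πJ M p := ρ_comp M _ _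

/-- the filtered complex `J` -/
noncomputable def J : FilCx A where
  obj := Mx M top
  fil p := kernelSubobject (πJ M p)
  anti := fun p q h => by
    change kernelSubobject (πJ M q) ≤ kernelSubobject (πJ M p)
    rw [← πJ_ρ M h]
    exact kernelSubobject_comp_le _ _

@[simp] lemma J_obj : (J M).obj = Mx M top := rfl
lemma J_fil (p : ℤ) : (J M).fil p = kernelSubobject (πJ M p) := rfl

/-- `F^p J ≅ ker (M_⊤ → M_p)` -/
noncomputable def stepIso (p : ℤ) : (J M).step p ≅ kernel (πJ M p) := kernelSubobjectIso (πJ M p)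

@[reassoc]
lemma stepIso_hom_ι (p : ℤ) : (stepIso M p).hom ≫ kernel.ι (πJ M p) = ((J M).fil p).arrow :=
  kernelSubobject_arrow (πJ M p)

/-- the short exact sequence `0 → F^p J → J → M_p → 0` -/
noncomputable def SJ (p : ℤ) : ShortComplex (CochainComplex A ℤ) :=
  ShortComplex.mk ((J M).fil p).arrow (πJ M p) (kernelSubobject_arrow_comp (πJ M p))

/-- comparison of the two short exact sequences -/
noncomputable def SkerIsoSJ (p : ℤ) : Sker M (le_top' (pt p)) ≅ SJ M p :=
  ShortComplex.isoMk (stepIso M p).symm (Iso.refl _) (Iso.refl _)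
    (by
      change (stepIso M p).inv ≫ ((J M).fil p).arrow = kernel.ι (πJ M p) ≫ 𝟙 _
      exact ((Iso.inv_comp_eq _).2 (stepIso_hom_ι M p).symm).trans (Category.comp_id _).symm)
    (by
      change 𝟙 _ ≫ πJ M p = πJ M p ≫ 𝟙 _
      rw [Category.id_comp, Category.comp_id])

lemma SJ_shortExact (hinj : ∀ n, Injective (M.X n)) (p : ℤ) : (SJ M p).ShortExact :=
  ShortComplex.shortExact_of_iso (SkerIsoSJ M p) (Sker_shortExact M hinj (le_top' (pt p)))

/-- `J / F^p J ≅ M_p` -/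
noncomputable def quotIso (hinj : ∀ n, Injective (M.X n)) (p : ℤ) : (J M).quot p ≅ Mx M (pt p) :=
  cokernelIsoOfShortExact (SJ M p) (SJ_shortExact M hinj p)

@[reassoc]
lemma π_quotIso_hom (hinj : ∀ n, Injective (M.X n)) (p : ℤ) :
    cokernel.π ((J M).fil p).arrow ≫ (quotIso M hinj p).hom = πJ M p :=
  π_cokernelIsoOfShortExact_hom (SJ M p) (SJ_shortExact M hinj p)

/-- `F^p J ≅ ker (πJ p' ≫ ρ)` for `p ≤ p'` -/
noncomputable def stepIso' {p p' : ℤ} (h : p ≤ p') :
    (J M).step p ≅ kernel (πJ M p' ≫ ρ M (pt_le_pt h)) :=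
  stepIso M p ≪≫ kernelIsoOfEq (πJ_ρ M h).symm

@[reassoc]
lemma stepIso'_hom_ι {p p' : ℤ} (h : p ≤ p') :
    (stepIso' M h).hom ≫ kernel.ι (πJ M p' ≫ ρ M (pt_le_pt h)) = ((J M).fil p).arrow := by
  rw [stepIso', Iso.trans_hom, Category.assoc, kernelIsoOfEq_hom_comp_ι, stepIso_hom_ι]

lemma stepLE_comm' {p p' : ℤ} (h : p ≤ p') :
    (J M).stepLE h ≫ (stepIso' M h).hom =
      (stepIso M p').hom ≫ kerU (πJ M p') (ρ M (pt_le_pt h)) := by
  rw [← cancel_mono (kernel.ι (πJ M p' ≫ ρ M (pt_le_pt h))), Category.assoc, Category.assoc,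
    stepIso'_hom_ι, kerU_ι, stepIso_hom_ι]
  exact Subobject.ofLE_arrow _

/-- `F^p J / F^p' J ≅ ker (M_p' → M_p)` -/
noncomputable def grIso (hinj : ∀ n, Injective (M.X n)) {p p' : ℤ} (h : p ≤ p') :
    cokernel ((J M).stepLE h) ≅ kernel (ρ M (pt_le_pt h)) :=
  haveI := epi_ρ M hinj (le_top' (pt p'))
  cokernel.mapIso ((J M).stepLE h) (kerU (πJ M p') (ρ M (pt_le_pt h))) (stepIso M p') (stepIso' M h)
    (stepLE_comm' M h) ≪≫
    cokernelIsoOfShortExact (kerSeq (πJ M p') (ρ M (pt_le_pt h))) (kerSeq_shortExact _ _)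

end J

section Main

variable [IsGrothendieckAbelian.{v} A] (K : FilCx A) {M : CochainComplex (P.{v}ᵒᵖ ⥤ A) ℤ}
  (φ : N K ⟶ M)

/-- the underlying map of `j` -/
noncomputable def jHom : K.obj ⟶ (J M).obj := Nπ K top ≫ φx φ top

lemma jHom_πJ (p : ℤ) : jHom K φ ≫ πJ M p = Nπ K (pt p) ≫ φx φ (pt p) := by
  have h1 : Nπ K top ≫ φx φ top ≫ πJ M p = Nπ K (pt p) ≫ φx φ (pt p) := by
    rw [← Nmap_φx φ (le_top' (pt p)), Nπ_Nmap_assoc]
  exact (Category.assoc _ _ _).trans h1

lemma fil_arrow_jHom_πJ (p : ℤ) : ((K.fil p).arrow ≫ jHom K φ) ≫ πJ M p = 0 := by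
  have h0 : (K.fil p).arrow ≫ Nπ K (pt p) = 0 := arrow_Nπ K (pt p)
  have h1 : (K.fil p).arrow ≫ jHom K φ ≫ πJ M p = 0 := by
    rw [jHom_πJ, ← Category.assoc, h0, zero_comp]
  exact (Category.assoc _ _ _).trans h1

/-- the map on `F^p` -/
noncomputable def jStep (p : ℤ) : K.step p ⟶ (J M).step p :=
  factorThruKernelSubobject (πJ M p) ((K.fil p).arrow ≫ jHom K φ) (fil_arrow_jHom_πJ K φ p)

lemma jStep_arrow (p : ℤ) : jStep K φ p ≫ ((J M).fil p).arrow = (K.fil p).arrow ≫ jHom K φ :=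
  factorThruKernelSubobject_comp_arrow _ _ _

/-- the morphism of filtered complexes -/
noncomputable def j : K ⟶ J M where
  hom := jHom K φ
  compat p := le_pullback_of_factors _ _ _
    (kernelSubobject_factors (πJ M p) _ (fil_arrow_jHom_πJ K φ p))

@[simp] lemma j_hom : (j K φ).hom = jHom K φ := rfl

lemma quasiIso_jHom [QuasiIso φ] : QuasiIso (jHom K φ) := by
  haveI := quasiIso_φx φ top
  exact inferInstanceAs (QuasiIso (Nπ K top ≫ φx φ top))

/-- the map on the quotients by `F^p` -/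
noncomputable def jQuot (p : ℤ) : K.quot p ⟶ (J M).quot p :=
  cokernel.map (K.fil p).arrow ((J M).fil p).arrow (jStep K φ p) (jHom K φ) (jStep_arrow K φ p).symm

lemma π_jQuot (p : ℤ) :
    cokernel.π (K.fil p).arrow ≫ jQuot K φ p = jHom K φ ≫ cokernel.π ((J M).fil p).arrow :=
  cokernel.π_desc _ _ _

lemma jQuot_quotIso (hinj : ∀ n, Injective (M.X n)) (p : ℤ) :
    jQuot K φ p ≫ (quotIso M hinj p).hom = φx φ (pt p) := by
  have h1 : cokernel.π (K.fil p).arrow ≫ jQuot K φ p ≫ (quotIso M hinj p).hom =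
      Nπ K (pt p) ≫ φx φ (pt p) := by
    rw [← Category.assoc, π_jQuot, Category.assoc, π_quotIso_hom, jHom_πJ]
  exact (cancel_epi (cokernel.π (K.fil p).arrow)).1 h1

lemma quasiIso_jQuot [QuasiIso φ] (hinj : ∀ n, Injective (M.X n)) (p : ℤ) :
    QuasiIso (jQuot K φ p) := by
  have h1 : QuasiIso (φx φ (pt p)) := quasiIso_φx φ (pt p)
  have h2 : QuasiIso (jQuot K φ p ≫ (quotIso M hinj p).hom) := by
    rw [jQuot_quotIso]
    exact h1
  exact (quasiIso_iff_comp_right (jQuot K φ p) (quotIso M hinj p).hom).1 h2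

/-- the morphism of short exact sequences `(0 → F^p K → K → K/F^p K → 0) ⟶ (same for J)` -/
noncomputable def sesHom (p : ℤ) :
    ShortComplex.mk (K.fil p).arrow (cokernel.π (K.fil p).arrow) (cokernel.condition _) ⟶
      ShortComplex.mk ((J M).fil p).arrow (cokernel.π ((J M).fil p).arrow) (cokernel.condition _) :=
  ShortComplex.homMk (jStep K φ p) (jHom K φ) (jQuot K φ p) (jStep_arrow K φ p) (π_jQuot K φ p).symm

lemma quasiIso_jStep [QuasiIso φ] (hinj : ∀ n, Injective (M.X n)) (p : ℤ) :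
    QuasiIso (jStep K φ p) :=
  quasiIso_τ₁ (sesHom K φ p) (shortExact_cokernel _) (shortExact_cokernel _)
    (quasiIso_jHom K φ) (quasiIso_jQuot K φ hinj p)

lemma stepLE_jStep {p p' : ℤ} (h : p ≤ p') :
    K.stepLE h ≫ jStep K φ p = jStep K φ p' ≫ (J M).stepLE h := by
  have h1 : (K.stepLE h ≫ jStep K φ p) ≫ ((J M).fil p).arrow =
      (jStep K φ p' ≫ (J M).stepLE h) ≫ ((J M).fil p).arrow := by
    rw [Category.assoc, Category.assoc, jStep_arrow, Subobject.ofLE_arrow, jStep_arrow,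
      ← Category.assoc, Subobject.ofLE_arrow]
  exact (cancel_mono ((J M).fil p).arrow).1 h1

/-- the map on `F^p / F^p'` -/
noncomputable def jGr {p p' : ℤ} (h : p ≤ p') : cokernel (K.stepLE h) ⟶ cokernel ((J M).stepLE h) :=
  cokernel.map (K.stepLE h) ((J M).stepLE h) (jStep K φ p') (jStep K φ p) (stepLE_jStep K φ h)

lemma π_jGr {p p' : ℤ} (h : p ≤ p') :
    cokernel.π (K.stepLE h) ≫ jGr K φ h = jStep K φ p ≫ cokernel.π ((J M).stepLE h) :=
  cokernel.π_desc _ _ _

/-- the morphism of short exact sequences for `F^p' ⊆ F^p` -/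
noncomputable def sesHom' {p p' : ℤ} (h : p ≤ p') :
    ShortComplex.mk (K.stepLE h) (cokernel.π (K.stepLE h)) (cokernel.condition _) ⟶
      ShortComplex.mk ((J M).stepLE h) (cokernel.π ((J M).stepLE h)) (cokernel.condition _) :=
  ShortComplex.homMk (jStep K φ p') (jStep K φ p) (jGr K φ h) (stepLE_jStep K φ h).symm
    (π_jGr K φ h).symm

lemma quasiIso_jGr [QuasiIso φ] (hinj : ∀ n, Injective (M.X n)) {p p' : ℤ} (h : p ≤ p') :
    QuasiIso (jGr K φ h) :=
  quasiIso_τ₃ (sesHom' K φ h) (shortExact_cokernel _) (shortExact_cokernel _)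
    (quasiIso_jStep K φ hinj p') (quasiIso_jStep K φ hinj p)

end Main

section Final

variable [IsGrothendieckAbelian.{v} A]

open Groth.Agent.Lib.Helper25.KInjMain in
/-- **Filtered K-injective resolutions** in a Grothendieck abelian category. -/
theorem exists_filtered_kInjective_embedding (K : SpSeq.FilCx A) :
    ∃ (J : SpSeq.FilCx A) (j : K ⟶ J),
      (∀ n p : ℤ, Injective (J.obj.X n) ∧ Injective ((J.XFil n).step p) ∧ Injective ((J.XFil n).quot p) ∧
        ∀ (p' : ℤ) (h : p ≤ p'), Injective (cokernel ((J.XFil n).stepLE h))) ∧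
      (CochainComplex.IsKInjective J.obj ∧ ∀ p : ℤ, CochainComplex.IsKInjective (J.step p) ∧
        CochainComplex.IsKInjective (J.quot p) ∧
        ∀ (p' : ℤ) (h : p ≤ p'), CochainComplex.IsKInjective (cokernel (J.stepLE h))) ∧
      QuasiIso j.hom ∧
      (∀ p : ℤ, ∃ jp : K.step p ⟶ J.step p, jp ≫ (J.fil p).arrow = (K.fil p).arrow ≫ j.hom ∧ QuasiIso jp ∧
        (∀ (p' : ℤ) (h : p ≤ p'), ∃ (jp' : K.step p' ⟶ J.step p') (jg : cokernel (K.stepLE h) ⟶ cokernel (J.stepLE h)),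
          jp' ≫ (J.fil p').arrow = (K.fil p').arrow ≫ j.hom ∧ jp' ≫ J.stepLE h = K.stepLE h ≫ jp ∧
          cokernel.π (K.stepLE h) ≫ jg = jp ≫ cokernel.π (J.stepLE h) ∧ QuasiIso jg)) ∧
      (∀ p : ℤ, ∃ jq : K.quot p ⟶ J.quot p,
        cokernel.π (K.fil p).arrow ≫ jq = j.hom ≫ cokernel.π (J.fil p).arrow ∧ QuasiIso jq) := by
  obtain ⟨M, φ, hM, hφ, -, hinj⟩ := exists_kInjective_resolution (N.{v} K)
  refine ⟨J M, j K φ, ?_, ?_, quasiIso_jHom K φ, ?_, ?_⟩
  · intro n p
    refine ⟨injective_Mx M hinj top n, ?_, ?_, ?_⟩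
    · exact Injective.of_iso
        (((HomologicalComplex.eval A (ComplexShape.up ℤ) n).mapIso (stepIso M p)).symm ≪≫
          (stepXIso (J M) n p).symm) (injective_kernel_ρ M hinj (le_top' (pt p)) n)
    · exact Injective.of_iso
        (((HomologicalComplex.eval A (ComplexShape.up ℤ) n).mapIso (quotIso M hinj p)).symm ≪≫
          (quotXIso (J M) n p).symm) (injective_Mx M hinj (pt p) n)
    · intro p' h
      exact Injective.of_iso
        (((HomologicalComplex.eval A (ComplexShape.up ℤ) n).mapIso (grIso M hinj h)).symm ≪≫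
          (grXIso (J M) n h).symm) (injective_kernel_ρ M hinj (pt_le_pt h) n)
  · refine ⟨isKInjective_Mx M top, fun p => ⟨?_, ?_, ?_⟩⟩
    · haveI := isKInjective_kernel_ρ M hinj (le_top' (pt p))
      exact CochainComplex.isKInjective_of_iso (stepIso M p).symm
    · haveI := isKInjective_Mx M (pt p)
      exact CochainComplex.isKInjective_of_iso (quotIso M hinj p).symm
    · intro p' h
      haveI := isKInjective_kernel_ρ M hinj (pt_le_pt h)
      exact CochainComplex.isKInjective_of_iso (grIso M hinj h).symm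
  · intro p
    refine ⟨jStep K φ p, jStep_arrow K φ p, quasiIso_jStep K φ hinj p, fun p' h => ?_⟩
    exact ⟨jStep K φ p', jGr K φ h, jStep_arrow K φ p', (stepLE_jStep K φ h).symm, π_jGr K φ h,
      quasiIso_jGr K φ hinj h⟩
  · intro p
    exact ⟨jQuot K φ p, π_jQuot K φ p, quasiIso_jQuot K φ hinj p⟩

end Final

end Groth.Agent.Lib.Helper25.FilKInjJ
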