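import Mathlib
import Groth.Agent.Lib.Helper25.DProd

/-!
# Objects of finite projective dimension have no maps to `D^{≤ -d-1}` (helper25)

`A` abelian, `P : A` with `Ext^i(P, F) = 0` for all `F` and all `i > d`.

* `exists_lift_of_ext_vanishing`: for a complex `I` of injective objects which is exact in degrees `≥ -d`, every
  `s : P ⟶ I⁰` with `s ≫ d = 0` is of the form `t ≫ d` (dimension shifting along the cycles of `I`).
* `homotopy_zero_of_lift`, `hom_single_eq_zero`: if moreover `I` is K-injective, every morphism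
  `Q(P[0]) ⟶ Q(I)` of the derived category is zero.
-/

set_option autoImplicit false
universe w w' v u
open CategoryTheory CategoryTheory.Limits CategoryTheory.Abelian

namespace Groth.Agent.Lib.Helper25.FinCdVan

variable {A : Type u} [Category.{v} A] [Abelian A]

section cycles

variable (I : CochainComplex A ℤ)

/-- `I^i ⟶ Z^j` -/
noncomputable def pZ (i j k : ℤ) : I.X i ⟶ kernel (I.d j k) :=
  kernel.lift (I.d j k) (I.d i j) (I.d_comp_d i j k)

@[reassoc (attr := simp)]
lemma pZ_ι (i j k : ℤ) : pZ I i j k ≫ kernel.ι (I.d j k) = I.d i j := kernel.lift_ι _ _ _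

@[reassoc (attr := simp)]
lemma ι_pZ (i j k : ℤ) : kernel.ι (I.d i j) ≫ pZ I i j k = 0 := by
  rw [← cancel_mono (kernel.ι (I.d j k)), Category.assoc, pZ_ι, kernel.condition, zero_comp]

lemma comp_d_eq_zero_of_comp_pZ (i j k : ℤ) {W : A} (s : W ⟶ I.X i) (hs : s ≫ pZ I i j k = 0) :
    s ≫ I.d i j = 0 := by
  rw [← pZ_ι I i j k, reassoc_of% hs, zero_comp]

/-- the short complex `Z^i ⟶ I^i ⟶ Z^j` -/
noncomputable def scZ (i j k : ℤ) : ShortComplex A :=
  ShortComplex.mk (kernel.ι (I.d i j)) (pZ I i j k) (ι_pZ I i j k)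

lemma scZ_shortExact (i j k : ℤ) (hij : i + 1 = j) (hjk : j + 1 = k) (hj : I.ExactAt j) :
    (scZ I i j k).ShortExact := by
  have hex : (I.sc' i j k).Exact :=
    (I.exactAt_iff' i j k (by simp; omega) (by simp; omega)).1 hj
  have hepi : Epi (pZ I i j k) := (ShortComplex.exact_iff_epi_kernel_lift _).1 hex
  refine ShortComplex.ShortExact.mk' ?_ (inferInstanceAs (Mono (kernel.ι (I.d i j)))) hepi
  refine ShortComplex.exact_of_f_is_kernel _ ?_
  refine KernelFork.IsLimit.ofι _ _ (fun {W} s hs => kernel.lift _ s ?_) (fun s hs => ?_)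
    (fun s hs m hm => ?_)
  · exact comp_d_eq_zero_of_comp_pZ I i j k s hs
  · exact kernel.lift_ι _ _ _
  · exact (cancel_mono (kernel.ι (I.d i j))).1 (hm.trans (kernel.lift_ι _ _ _).symm)

end cycles

section ext

variable [HasExt.{w} A] (P : A) (d : ℕ)
  (hP : ∀ (F : A) (i : ℕ), d < i → ∀ e : Ext.{w} P F i, e = 0)
  (I : CochainComplex A ℤ) [∀ n, Injective (I.X n)] (hI : ∀ n : ℤ, -(d : ℤ) ≤ n → I.ExactAt n)

include hP hI in
/-- dimension shifting along the cycles of `I` -/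
lemma ext_cycles_eq_zero : ∀ (j : ℕ), j ≤ d → ∀ (m n : ℤ), m + 1 = n → m = -1 - (d : ℤ) + j →
    ∀ (k : ℕ), k + j = 1 + d → ∀ e : Ext.{w} P (kernel (I.d m n)) k, e = 0 := by
  intro j
  induction j with
  | zero =>
    intro _ m n _ _ k hk e
    exact hP _ k (by omega) e
  | succ j ih =>
    intro hj m n hmn hm k hk e
    have hS := scZ_shortExact I (m - 1) m n (by omega) hmn (hI m (by omega))
    have h0 : e.comp hS.extClass (rfl : k + 1 = k + 1) = 0 :=
      ih (by omega) (m - 1) m (by omega) (by omega) (k + 1) (by omega) _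
    obtain ⟨x₂, hx₂⟩ := Ext.covariant_sequence_exact₃ P hS e rfl h0
    obtain ⟨k', rfl⟩ : ∃ k', k = k' + 1 := ⟨k - 1, by omega⟩
    have hx0 : x₂ = 0 := Ext.eq_zero_of_injective (I := I.X (m - 1)) x₂
    rw [← hx₂, hx0]
    exact Ext.zero_comp P _ (Ext.mk₀ (scZ I (m - 1) m n).g) _ _

include hP hI in
/-- a cocycle `P ⟶ I⁰` is a coboundary -/
theorem exists_lift_of_ext_vanishing (s : P ⟶ I.X 0) (hs : s ≫ I.d 0 1 = 0) :
    ∃ t : P ⟶ I.X (-1), t ≫ I.d (-1) 0 = s := by
  have hS := scZ_shortExact I (-1) 0 1 (by omega) (by omega) (hI 0 (by omega))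
  let s' : P ⟶ kernel (I.d 0 1) := kernel.lift _ s hs
  have h0 : (Ext.mk₀ s').comp hS.extClass (rfl : 0 + 1 = 0 + 1) = 0 :=
    ext_cycles_eq_zero P d hP I hI d le_rfl (-1) 0 (by omega) (by omega) 1 (by omega) _
  obtain ⟨x₂, hx₂⟩ := Ext.covariant_sequence_exact₃ P hS (Ext.mk₀ s') rfl h0
  obtain ⟨t, rfl⟩ := (Ext.mk₀_bijective P (I.X (-1))).2 x₂
  refine ⟨t, ?_⟩
  have h1 : t ≫ pZ I (-1) 0 1 = s' := by
    apply (Ext.mk₀_bijective P (kernel (I.d 0 1))).1
    rw [← Ext.mk₀_comp_mk₀]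
    exact hx₂
  rw [← pZ_ι I (-1) 0 1, reassoc_of% h1, kernel.lift_ι]

open CochainComplex HomComplex in
include hP hI in
/-- every chain map `P[0] ⟶ I` is null-homotopic -/
theorem homotopy_zero
    (φ : (HomologicalComplex.single A (ComplexShape.up ℤ) 0).obj P ⟶ I) :
    Nonempty (Homotopy φ 0) := by
  let e := HomologicalComplex.singleObjXSelf (ComplexShape.up ℤ) 0 P
  let s : P ⟶ I.X 0 := e.inv ≫ φ.f 0
  have hs : s ≫ I.d 0 1 = 0 := by
    rw [Category.assoc, φ.comm 0 1]
    simp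
  obtain ⟨t, ht⟩ := exists_lift_of_ext_vanishing P d hP I hI s hs
  let z : Cochain ((HomologicalComplex.single A (ComplexShape.up ℤ) 0).obj P) I (-1) :=
    Cochain.single (p := 0) (q := -1) (e.hom ≫ t) (-1)
  refine ⟨(Cochain.equivHomotopy φ 0).symm ⟨z, ?_⟩⟩
  rw [Cochain.ofHom_zero, add_zero]
  ext p
  by_cases hp : p = 0
  · subst hp
    rw [Cochain.δ_single (e.hom ≫ t) (-1) 0 (by omega) (-1) 0 (by omega) (by omega)]
    simp only [Cochain.add_v, Cochain.units_smul_v, Cochain.single_v, Cochain.ofHom_v,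
      HomologicalComplex.single_obj_d, zero_comp, Cochain.single_zero, Cochain.zero_v, smul_zero,
      add_zero, Category.assoc, ht]
    simp [s, e]
  · exact (HomologicalComplex.isZero_single_obj_X _ _ _ _ hp).eq_of_src _ _

end ext

section derived

open DerivedCategory

variable [HasDerivedCategory.{w} A] [HasExt.{w'} A] (P : A) (d : ℕ)
  (hP : ∀ (F : A) (i : ℕ), d < i → ∀ e : Ext.{w'} P F i, e = 0)
  (I : CochainComplex A ℤ) [∀ n, Injective (I.X n)] [I.IsKInjective]
  (hI : ∀ n : ℤ, -(d : ℤ) ≤ n → I.ExactAt n)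

include hP hI in
/-- every map `P[0] ⟶ I` of the derived category is zero -/
theorem hom_single_eq_zero
    (φ : Q.obj ((HomologicalComplex.single A (ComplexShape.up ℤ) 0).obj P) ⟶ Q.obj I) : φ = 0 := by
  obtain ⟨ψ, rfl⟩ := DProd.exists_Q_map_eq φ
  obtain ⟨h⟩ := homotopy_zero P d hP I hI ψ
  rw [DerivedCategory.Q_map_eq_of_homotopy A h, Functor.map_zero]

end derived

end Groth.Agent.Lib.Helper25.FinCdVan
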