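import Mathlib

/-!
# Transfer of finiteness of `Hom` modules in linear categories (helper25)

`A` a commutative ring, `C`, `D` `A`-linear categories.

* `finite_of_surjective_addHom`: finiteness passes along surjective additive maps commuting with scalars.
* `finite_hom_of_iso`: invariance under isomorphisms of source and target.
* `finite_hom_of_adj`, `finite_hom_of_adj_symm`: across an adjunction with linear left adjoint.
* `finite_hom_map`, `finite_hom_of_map`: along a full (resp. fully faithful) linear functor.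
* `finite_hom_shift`, `finite_hom_unshift`: `Hom(X[-n], Y)` versus `Hom(X, Y[n])`.
-/

set_option autoImplicit false
open CategoryTheory CategoryTheory.Limits

namespace Groth.Agent.Lib.Helper25.FinHLin

variable {A : Type*} [CommRing A]

lemma finite_of_surjective_addHom {M N : Type*} [AddCommGroup M] [Module A M] [AddCommGroup N]
    [Module A N] (f : M →+ N) (hf : ∀ (a : A) (x : M), f (a • x) = a • f x)
    (hs : Function.Surjective f) [Module.Finite A M] : Module.Finite A N :=
  Module.Finite.of_surjective ({ f with map_smul' := hf } : M →ₗ[A] N) hs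

variable {C : Type*} [Category C] [Preadditive C] [Linear A C]
  {D : Type*} [Category D] [Preadditive D] [Linear A D]

lemma finite_hom_of_iso {X X' Y Y' : C} (eX : X ≅ X') (eY : Y ≅ Y')
    (h : Module.Finite A (X ⟶ Y)) : Module.Finite A (X' ⟶ Y') :=
  Module.Finite.equiv (Linear.homCongr A eX eY)

section Adj

variable {F : C ⥤ D} {G : D ⥤ C} (adj : F ⊣ G) [F.Additive]
  (hF : ∀ {X Y : C} (f : X ⟶ Y) (a : A), F.map (a • f) = a • F.map f)

omit [F.Additive] in
include hF in
lemma homEquiv_symm_smul {X : C} {Y : D} (g : X ⟶ G.obj Y) (a : A) :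
    (adj.homEquiv X Y).symm (a • g) = a • (adj.homEquiv X Y).symm g := by
  rw [Adjunction.homEquiv_counit, Adjunction.homEquiv_counit, hF, Linear.smul_comp]

omit [F.Additive] in
include hF in
lemma homEquiv_smul {X : C} {Y : D} (g : F.obj X ⟶ Y) (a : A) :
    adj.homEquiv X Y (a • g) = a • adj.homEquiv X Y g := by
  apply (adj.homEquiv X Y).symm.injective
  rw [homEquiv_symm_smul adj hF, Equiv.symm_apply_apply, Equiv.symm_apply_apply]

include adj hF in
lemma finite_hom_of_adj {X : C} {Y : D} (h : Module.Finite A (F.obj X ⟶ Y)) :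
    Module.Finite A (X ⟶ G.obj Y) :=
  finite_of_surjective_addHom (adj.homAddEquiv X Y).toAddMonoidHom
    (fun a x => homEquiv_smul adj hF x a) (adj.homAddEquiv X Y).surjective

include adj hF in
lemma finite_hom_of_adj_symm {X : C} {Y : D} (h : Module.Finite A (X ⟶ G.obj Y)) :
    Module.Finite A (F.obj X ⟶ Y) :=
  finite_of_surjective_addHom (adj.homAddEquiv X Y).symm.toAddMonoidHom
    (fun a x => homEquiv_symm_smul adj hF x a) (adj.homAddEquiv X Y).symm.surjective

end Adj

section FF

variable (F : C ⥤ D) [F.Additive]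
  (hF : ∀ {X Y : C} (f : X ⟶ Y) (a : A), F.map (a • f) = a • F.map f)

include hF in
lemma finite_hom_map [F.Full] {X Y : C} (h : Module.Finite A (X ⟶ Y)) :
    Module.Finite A (F.obj X ⟶ F.obj Y) :=
  finite_of_surjective_addHom F.mapAddHom (fun a x => hF x a) F.map_surjective

include hF in
lemma finite_hom_of_map [F.Full] [F.Faithful] {X Y : C} (h : Module.Finite A (F.obj X ⟶ F.obj Y)) :
    Module.Finite A (X ⟶ Y) := by
  let e : (X ⟶ Y) ≃+ (F.obj X ⟶ F.obj Y) :=
    AddEquiv.ofBijective (F.mapAddHom (X := X) (Y := Y))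
      ⟨F.map_injective, F.map_surjective⟩
  refine finite_of_surjective_addHom e.symm.toAddMonoidHom (fun a x => ?_) e.symm.surjective
  apply e.injective
  change F.map (e.symm (a • x)) = F.map (a • e.symm x)
  have h1 : ∀ y, F.map (e.symm y) = y := fun y => e.apply_symm_apply y
  rw [hF, h1, h1]

end FF

section Shift

variable [HasShift C ℤ] [∀ n : ℤ, (shiftFunctor C n).Additive]
  (hS : ∀ (n : ℤ) {X Y : C} (f : X ⟶ Y) (a : A),
    (shiftFunctor C n).map (a • f) = a • (shiftFunctor C n).map f)

include hS in
lemma finite_hom_shift (X Y : C) (n : ℤ) (h : Module.Finite A (X⟦-n⟧ ⟶ Y)) :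
    Module.Finite A (X ⟶ Y⟦n⟧) := by
  let adjS : shiftFunctor C (-n) ⊣ shiftFunctor C n :=
    (shiftEquiv' C (-n) n (by omega)).toAdjunction
  exact finite_hom_of_adj adjS (fun f a => hS (-n) f a) h

include hS in
lemma finite_hom_unshift (X Y : C) (n : ℤ) (h : Module.Finite A (X ⟶ Y⟦n⟧)) :
    Module.Finite A (X⟦-n⟧ ⟶ Y) := by
  let adjS : shiftFunctor C (-n) ⊣ shiftFunctor C n :=
    (shiftEquiv' C (-n) n (by omega)).toAdjunction
  exact finite_hom_of_adj_symm adjS (fun f a => hS (-n) f a) h

end Shift

end Groth.Agent.Lib.Helper25.FinHLin
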