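import Mathlib
import Groth.Prelude.Def_DRing2
import Groth.Agent.Lib.Helper23.FinHom3

/-!
# Finiteness of `Hom_{D(A)}(K, L)` for `K ∈ D^-`, `L ∈ D^+` with finite cohomology, `A` Noetherian (helper25)

`finite_hom_of_isLE_of_isGE`: reduces, by truncation, to helper23's `FinHom.FH_of_BC`.
-/

set_option autoImplicit false
universe u
open CategoryTheory CategoryTheory.Limits DerivedCategory Pretriangulated

attribute [local instance] HasDerivedCategory.standard

namespace Groth.Agent.Lib.Helper25.FinHomPM

open Groth.Agent.Lib.helper23.FinHom Groth.Agent.Lib.helper23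

variable {A : Type u} [CommRing A] [IsNoetherianRing A]

theorem finite_hom_of_isLE_of_isGE (K L : Dual.D A) (a b : ℤ) [K.IsLE b] [L.IsGE a]
    (hK : ∀ j : ℤ, Module.Finite A ((homologyFunctor (ModuleCat.{u} A) j).obj K))
    (hL : ∀ j : ℤ, Module.Finite A ((homologyFunctor (ModuleCat.{u} A) j).obj L)) :
    Module.Finite A (K ⟶ L) := by
  let t := DerivedCategory.TStructure.t (C := ModuleCat.{u} A)
  let T₁ := (t.triangleLTGE a).obj K
  have hT₁ : T₁ ∈ distTriang _ := t.triangleLTGE_distinguished a K
  let K'' := (t.truncGE a).obj K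
  let T₂ := (t.triangleLTGE (b + 1)).obj L
  have hT₂ : T₂ ∈ distTriang _ := t.triangleLTGE_distinguished (b + 1) L
  let L' := (t.truncLT (b + 1)).obj L
  haveI hK''GE : K''.IsGE a := by dsimp [K'']; infer_instance
  haveI hL'LE : L'.IsLE b := by
    have : L'.IsLE (b + 1 - 1) := by dsimp [L']; infer_instance
    rwa [add_sub_cancel_right] at this
  have hK''LE : K''.IsLE b := by
    rw [DerivedCategory.isLE_iff]
    intro i hi
    by_cases hia : a ≤ i
    · haveI := SplitTrunc.isIso_homologyMap_truncGEπ K a i hia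
      exact (DerivedCategory.isZero_of_isLE K b i hi).of_iso
        (asIso ((homologyFunctor (ModuleCat.{u} A) i).map ((t.truncGEπ a).app K))).symm
    · exact DerivedCategory.isZero_of_isGE K'' a i (by omega)
  haveI := hK''LE
  have hBCK : BC (b - a + 1).toNat b K'' := by
    refine ⟨fun j hj => DerivedCategory.isZero_of_isLE K'' b j hj,
      fun j hj => DerivedCategory.isZero_of_isGE K'' a j (by omega), fun j => ?_⟩
    by_cases hja : a ≤ j
    · haveI := SplitTrunc.isIso_homologyMap_truncGEπ K a j hja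
      exact finite_of_isIso ((homologyFunctor (ModuleCat.{u} A) j).map ((t.truncGEπ a).app K)) (hK j)
    · exact finite_of_isZero (DerivedCategory.isZero_of_isGE K'' a j (by omega))
  have hBCL : BC (b - a + 1).toNat b L' := by
    refine ⟨fun j hj => DerivedCategory.isZero_of_isLE L' b j hj, fun j hj => ?_, fun j => ?_⟩
    · have hjb : j < b + 1 := by omega
      haveI := SplitTrunc.isIso_homologyMap_truncLTι L (b + 1) j hjb
      exact (DerivedCategory.isZero_of_isGE L a j (by omega)).of_iso
        (asIso ((homologyFunctor (ModuleCat.{u} A) j).map ((t.truncLTι (b + 1)).app L)))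
    · by_cases hjb : j < b + 1
      · haveI := SplitTrunc.isIso_homologyMap_truncLTι L (b + 1) j hjb
        exact finite_of_isIso' ((homologyFunctor (ModuleCat.{u} A) j).map ((t.truncLTι (b + 1)).app L))
          (hL j)
      · exact finite_of_isZero (DerivedCategory.isZero_of_isLE L' b j (by omega))
  have h0 : Module.Finite A (K'' ⟶ L'⟦(0 : ℤ)⟧) := FH_of_BC hBCK hBCL 0
  have h1 : Module.Finite A (K'' ⟶ L') :=
    finite_hom_of_iso_right ((shiftFunctorZero (Dual.D A) ℤ).app L') h0
  have h2 : Module.Finite A (K'' ⟶ L) := by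
    haveI := h1
    refine Module.Finite.of_surjective (Linear.rightComp A K'' ((t.truncLTι (b + 1)).app L))
      (fun f => ?_)
    haveI : T₂.obj₃.IsGE (b + 1) := by dsimp [T₂]; infer_instance
    have hz : f ≫ T₂.mor₂ = 0 := t.zero _ b (b + 1) (by omega)
    obtain ⟨g, hg⟩ := Triangle.coyoneda_exact₂ T₂ hT₂ f hz
    exact ⟨g, hg.symm⟩
  haveI := h2
  refine Module.Finite.of_surjective (Linear.leftComp A L ((t.truncGEπ a).app K)) (fun f => ?_)
  haveI : ((t.truncLT a).obj K).IsLE (a - 1) := inferInstance
  have hz : T₁.mor₁ ≫ f = 0 := t.zero _ (a - 1) a (by omega)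
  obtain ⟨g, hg⟩ := Triangle.yoneda_exact₂ T₁ hT₁ f hz
  exact ⟨g, hg.symm⟩

end Groth.Agent.Lib.Helper25.FinHomPM
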