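import Mathlib
import Groth.Agent.Lib.Helper25.TildePush
import Groth.Agent.Lib.Helper25.RpushAcyc
import Groth.Prelude.Def_DDual2

/-!
# `Rf_*(M~) ≅ (M_R)~` on derived categories for `f = Spec φ` (helper25)

* `isIso_whiskerLeft_uQ`: the unit `f_* ⟶ Rf_*` is invertible at complexes of tildes (S7245).
* `nonempty_tildeD_Rpush_iso'`, `nonempty_tildeD_Rpush_iso` (S7268): `tildeD_S ⋙ Rf_* ≅ restrictD φ ⋙ tildeD_R`,
  by `Localization.liftNatIso` along `Q`.
-/

set_option autoImplicit false
universe u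
open CategoryTheory CategoryTheory.Limits AlgebraicGeometry
attribute [local instance] HasDerivedCategory.standard

namespace Groth.Agent.Lib.Helper25.TildePushD

open Scheme.Modules DerivedCategory Groth.Agent.Lib.Helper25.RDerRlim
  Groth.Agent.Lib.Helper25.RDerAcyc

variable {R S : CommRingCat.{u}} (φ : R ⟶ S) [DCoh.HasRpush (Spec.map φ)]

/-- the unit `f_* ⟶ Rf_*` is invertible at complexes of tildes, `f = Spec φ` -/
lemma isIso_whiskerLeft_uQ :
    IsIso (Functor.whiskerLeft ((tilde.functor S).mapHomologicalComplex (ComplexShape.up ℤ))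
      (uQ (pushforward (Spec.map φ)) (DCoh.Rpush (Spec.map φ))
        ((DCoh.pushKh (Spec.map φ)).totalRightDerivedUnit DerivedCategory.Qh
          (HomotopyCategory.quasiIso _ (ComplexShape.up ℤ))))) := by
  rw [NatTrans.isIso_iff_isIso_app]
  intro K
  change IsIso ((uQ (pushforward (Spec.map φ)) (DCoh.Rpush (Spec.map φ)) _).app
    (((tilde.functor S).mapHomologicalComplex (ComplexShape.up ℤ)).obj K))
  rw [← isIso_α_app_iff]
  haveI : HasInjectiveResolutions (Spec S).Modules :=
    Groth.Agent.Lib.helper21.ModOpenBC.hasInjectiveResolutions_modules _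
  exact Groth.Agent.Lib.Helper25.RpushAcyc.isIso_unit_of_acyclic (Spec.map φ) _
    (fun n => inferInstanceAs (((tilde.functor S).obj (K.X n)).IsQuasicoherent))
    (fun n i hi => Groth.Agent.Lib.Helper25.RpushQC3.isZero_rpush_of_isAffineHom (Spec.map φ) _
      (inferInstanceAs (((tilde.functor S).obj (K.X n)).IsQuasicoherent)) i hi)

/-- `Rf_* (M~) ≅ (M_R)~` on derived categories, `f = Spec φ` -/
theorem nonempty_tildeD_Rpush_iso'
    [PreservesFiniteLimits (tilde.functor R)] [PreservesFiniteLimits (tilde.functor S)] :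
    Nonempty ((tilde.functor S).mapDerivedCategory ⋙ DCoh.Rpush (Spec.map φ) ≅
      (ModuleCat.restrictScalars.{u} φ.hom).mapDerivedCategory ⋙
        (tilde.functor R).mapDerivedCategory) := by
  haveI := isIso_whiskerLeft_uQ φ
  let c₁ : ((tilde.functor S).mapHomologicalComplex (ComplexShape.up ℤ) ⋙
        (pushforward (Spec.map φ)).mapHomologicalComplex (ComplexShape.up ℤ)) ⋙ Q ≅
      (tilde.functor S ⋙ pushforward (Spec.map φ)).mapHomologicalComplex (ComplexShape.up ℤ) ⋙
        (Q : CochainComplex (Spec R).Modules ℤ ⥤ _) := Iso.refl _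
  let c₂ : (ModuleCat.restrictScalars.{u} φ.hom ⋙
        tilde.functor R).mapHomologicalComplex (ComplexShape.up ℤ) ⋙
          (Q : CochainComplex (Spec R).Modules ℤ ⥤ _) ≅
      ((ModuleCat.restrictScalars.{u} φ.hom).mapHomologicalComplex (ComplexShape.up ℤ) ⋙
        (tilde.functor R).mapHomologicalComplex (ComplexShape.up ℤ)) ⋙ Q := Iso.refl _
  let e : (Q ⋙ ((tilde.functor S).mapDerivedCategory ⋙ DCoh.Rpush (Spec.map φ))) ≅
      (Q ⋙ ((ModuleCat.restrictScalars.{u} φ.hom).mapDerivedCategory ⋙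
        (tilde.functor R).mapDerivedCategory)) :=
    (Functor.associator _ _ _).symm ≪≫
    Functor.isoWhiskerRight (tilde.functor S).mapDerivedCategoryFactors
      (DCoh.Rpush (Spec.map φ)) ≪≫
    Functor.associator _ _ _ ≪≫
    (asIso (Functor.whiskerLeft ((tilde.functor S).mapHomologicalComplex (ComplexShape.up ℤ))
      (uQ (pushforward (Spec.map φ)) (DCoh.Rpush (Spec.map φ))
        ((DCoh.pushKh (Spec.map φ)).totalRightDerivedUnit DerivedCategory.Qh
          (HomotopyCategory.quasiIso _ (ComplexShape.up ℤ)))))).symm ≪≫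
    (Functor.associator _ _ _).symm ≪≫
    c₁ ≪≫
    Functor.isoWhiskerRight (NatIso.mapHomologicalComplex
      (Groth.Agent.Lib.Helper25.TildePush.tildePushIso φ) (ComplexShape.up ℤ)) Q ≪≫
    c₂ ≪≫
    Functor.associator _ _ _ ≪≫
    Functor.isoWhiskerLeft
      ((ModuleCat.restrictScalars.{u} φ.hom).mapHomologicalComplex (ComplexShape.up ℤ))
      (tilde.functor R).mapDerivedCategoryFactors.symm ≪≫
    (Functor.associator _ _ _).symm ≪≫
    Functor.isoWhiskerRight (ModuleCat.restrictScalars.{u} φ.hom).mapDerivedCategoryFactors.symm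
      (tilde.functor R).mapDerivedCategory ≪≫
    Functor.associator _ _ _
  exact ⟨Localization.liftNatIso Q (HomologicalComplex.quasiIso _ (ComplexShape.up ℤ))
    _ _ _ _ e⟩

/-- **S7268** -/
theorem nonempty_tildeD_Rpush_iso {A B : Type u} [CommRing A] [CommRing B] (φ : A →+* B)
    [PreservesFiniteLimits (tilde.functor (CommRingCat.of A))]
    [PreservesFiniteLimits (tilde.functor (CommRingCat.of B))]
    [DCoh.HasRpush (Spec.map (CommRingCat.ofHom φ))] :
    Nonempty (DCoh.tildeD (CommRingCat.of B) ⋙ DCoh.Rpush (Spec.map (CommRingCat.ofHom φ)) ≅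
      DRing.restrictD φ ⋙ DCoh.tildeD (CommRingCat.of A)) :=
  nonempty_tildeD_Rpush_iso' (CommRingCat.ofHom φ)

end Groth.Agent.Lib.Helper25.TildePushD
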