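import Mathlib
import Groth.Agent.Lib.Helper25.TildePC
import Groth.Agent.Lib.Helper25.TildePushD
import Groth.Agent.S6940
import Groth.Agent.S9498

/-!
# Pseudo-coherence and finite pushforward: the case of `Spec (A → B)` (helper25)

* `isPseudoCoherentD_iff_of_iso`, `restrictScalarsSelfIso`.
* `spec_case`: `f = Spec (A → B)` with `f_* O` pseudo-coherent, `E ∈ D_QCoh(Spec B)`: `E` is `m`-pseudo-coherent iff `Rf_* E` is
  (S0997, S1004 = `TildePC`, `TildePushD`, and helper23's S6940).
-/

set_option autoImplicit false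
universe u
open CategoryTheory CategoryTheory.Limits AlgebraicGeometry Opposite

attribute [local instance] HasDerivedCategory.standard

namespace Groth.Agent.Lib.Helper25.FinPushPC1

open Pretriangulated DerivedCategory TopologicalSpace Scheme.Modules ZeroObject
open Groth.Agent.Lib.helper25.DCohPC3

variable {A B : Type u} [CommRing A] [CommRing B] [Algebra A B]

lemma isPseudoCoherentD_iff_of_iso {X : Scheme.{u}} {m : ℤ} {K K' : DCoh.D X} (e : K ≅ K') :
    DCoh.IsPseudoCoherentD m K ↔ DCoh.IsPseudoCoherentD m K' :=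
  ⟨isPseudoCoherentD_of_iso e, isPseudoCoherentD_of_iso e.symm⟩

/-- `B` with scalars restricted to `A` is `B` as an `A`-module -/
noncomputable def restrictScalarsSelfIso :
    (ModuleCat.restrictScalars.{u} (algebraMap A B)).obj (ModuleCat.of B B) ≅ ModuleCat.of A B := by
  let e : ((ModuleCat.restrictScalars.{u} (algebraMap A B)).obj (ModuleCat.of B B)) ≃ₗ[A]
      (ModuleCat.of A B) :=
    { toFun := fun x => x
      invFun := fun x => x
      map_add' := fun _ _ => rfl
      map_smul' := fun a x => (Algebra.smul_def a (show B from x)).symm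
      left_inv := fun _ => rfl
      right_inv := fun _ => rfl }
  exact e.toModuleIso

open Groth.Agent.Lib.helper23.DRingPC in
/-- **the case `f = Spec (A → B)`** -/
theorem spec_case [DCoh.HasRpush (Spec.map (CommRingCat.ofHom (algebraMap A B)))]
    (hO : ∀ m : ℤ, DCoh.IsPseudoCoherentD m (DCoh.inD (Spec (CommRingCat.of A))
      ((pushforward (Spec.map (CommRingCat.ofHom (algebraMap A B)))).obj
        (Coh.structureModule (Spec (CommRingCat.of B))))))
    (E : DCoh.D (Spec (CommRingCat.of B))) (hE : DCoh.IsQCohD E) (m : ℤ) :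
    DCoh.IsPseudoCoherentD m E ↔
      DCoh.IsPseudoCoherentD m
        ((DCoh.Rpush (Spec.map (CommRingCat.ofHom (algebraMap A B)))).obj E) := by
  haveI := Groth.Agent.S9498.preservesFiniteLimits_tilde (CommRingCat.of A)
  haveI := Groth.Agent.S9498.preservesFiniteLimits_tilde (CommRingCat.of B)
  obtain ⟨-, -, hess⟩ := Groth.Agent.S0997.result (CommRingCat.of B)
  obtain ⟨M, ⟨e⟩⟩ := (hess E).1 hE
  obtain ⟨θ⟩ := Groth.Agent.Lib.Helper25.TildePushD.nonempty_tildeD_Rpush_iso (algebraMap A B)
  have h1 : DCoh.IsPseudoCoherentD m E ↔ DRing.IsPseudoCoherent B m M :=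
    (isPseudoCoherentD_iff_of_iso e.symm).trans
      (Groth.Agent.Lib.Helper25.TildePC.isPseudoCoherentD_tildeD_iff B M m)
  have h2 : DCoh.IsPseudoCoherentD m
      ((DCoh.Rpush (Spec.map (CommRingCat.ofHom (algebraMap A B)))).obj E) ↔
      DRing.IsPseudoCoherent A m ((DRing.restrictD (algebraMap A B)).obj M) :=
    (isPseudoCoherentD_iff_of_iso
      ((DCoh.Rpush (Spec.map (CommRingCat.ofHom (algebraMap A B)))).mapIso e.symm ≪≫ θ.app M)).trans
      (Groth.Agent.Lib.Helper25.TildePC.isPseudoCoherentD_tildeD_iff A _ m)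
  -- `B` is a pseudo-coherent `A`-module
  have hB : DRing.IsPseudoCoherentModule' A B := by
    refine (isPseudoCoherent'_iff_npc A _).2 (fun k => (isPseudoCoherent_iff_npc A k _).1 ?_)
    refine (Groth.Agent.Lib.Helper25.TildePC.isPseudoCoherentD_tildeD_iff A _ k).1 ?_
    refine isPseudoCoherentD_of_iso ?_ (hO k)
    refine (DerivedCategory.singleFunctor _ 0).mapIso ?_ ≪≫
      (((tilde.functor (CommRingCat.of A)).mapDerivedCategorySingleFunctor 0).app
        (ModuleCat.of A B)).symm
    exact (Groth.Agent.Lib.Helper25.TildePush.tildePushIso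
        (CommRingCat.ofHom (algebraMap A B))).app (ModuleCat.of B B) ≪≫
      (tilde.functor (CommRingCat.of A)).mapIso restrictScalarsSelfIso
  exact h1.trans (((Groth.Agent.S6940.result hB M m).1).trans h2.symm)

end Groth.Agent.Lib.Helper25.FinPushPC1
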