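import Mathlib
import Groth.Agent.Lib.Helper25.FinPushPC1
import Groth.Agent.Lib.Helper25.IsoBC
import Groth.Agent.Lib.Helper25.ExtendPCMain
import Groth.Agent.Lib.Helper25.SchKInj2

/-!
# Pseudo-coherence and finite pushforward (helper25)

Stacks 0DJQ-type statement (S1112): `f` finite with `f_* O_X` pseudo-coherent, `E ∈ D_QCoh(X)`; then `E` is `m`-pseudo-coherent
iff `Rf_* E` is.

* `isPseudoCoherentD_restrictD_iso_iff`.
* `affine_case`: affine target (transport to `Spec (A → B)` with `IsoBC`, then `FinPushPC1.spec_case`).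
* `local_case`, `finite_pushforward_iff`: localisation on the target (`SchKInj.nonempty_Rpush_restrict_iso`).
-/

set_option autoImplicit false
universe u
open CategoryTheory CategoryTheory.Limits AlgebraicGeometry Opposite

attribute [local instance] HasDerivedCategory.standard

namespace Groth.Agent.Lib.Helper25.FinPushPC2

open Pretriangulated DerivedCategory TopologicalSpace Scheme.Modules ZeroObject
open Groth.Agent.Lib.helper25.DCohPC3 Groth.Agent.Lib.Helper25.FinPushPC1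

/-- pseudo-coherence is invariant under restriction along an isomorphism -/
lemma isPseudoCoherentD_restrictD_iso_iff {Z X : Scheme.{u}} (j : Z ⟶ X) [IsIso j] (m : ℤ)
    (K : DCoh.D X) :
    DCoh.IsPseudoCoherentD m ((DCoh.restrictD j).obj K) ↔ DCoh.IsPseudoCoherentD m K := by
  constructor
  · intro h
    have h1 := Groth.Agent.Lib.Helper25.ExtendPCMain.isPseudoCoherentD_restrictD_of_isOpenImmersion
      (inv j) h
    exact isPseudoCoherentD_of_iso
      ((Groth.Agent.Lib.Helper25.RestrictDNat.equivOfIso j).unitIso.app K).symm h1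
  · exact Groth.Agent.Lib.Helper25.ExtendPCMain.isPseudoCoherentD_restrictD_of_isOpenImmersion j

/-- **affine target** -/
theorem affine_case {X Y : Scheme.{u}} [IsAffine Y] (f : X ⟶ Y) [IsFinite f] [DCoh.HasRpush f]
    (hO : ∀ m : ℤ, DCoh.IsPseudoCoherentD m
      (DCoh.inD Y ((pushforward f).obj (Coh.structureModule X))))
    (E : DCoh.D X) (hE : DCoh.IsQCohD E) (m : ℤ) :
    DCoh.IsPseudoCoherentD m E ↔ DCoh.IsPseudoCoherentD m ((DCoh.Rpush f).obj E) := by
  haveI : IsAffine X := isAffine_of_isAffineHom f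
  letI : Algebra ↑Γ(Y, ⊤) ↑Γ(X, ⊤) := f.appTop.hom.toAlgebra
  let f' : Spec (CommRingCat.of ↑Γ(X, ⊤)) ⟶ Spec (CommRingCat.of ↑Γ(Y, ⊤)) :=
    Spec.map (CommRingCat.ofHom (algebraMap ↑Γ(Y, ⊤) ↑Γ(X, ⊤)))
  let a : Spec (CommRingCat.of ↑Γ(X, ⊤)) ⟶ X := X.isoSpec.inv
  let b : Spec (CommRingCat.of ↑Γ(Y, ⊤)) ⟶ Y := Y.isoSpec.inv
  haveI : IsIso a := inferInstanceAs (IsIso X.isoSpec.inv)
  haveI : IsIso b := inferInstanceAs (IsIso Y.isoSpec.inv)
  have hsq : a ≫ f = f' ≫ b := (Scheme.isoSpec_inv_naturality f).symm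
  haveI : DCoh.HasRpush f' := Groth.Agent.Lib.Helper25.SchKInj.hasRpush f'
  obtain ⟨θ⟩ := Groth.Agent.Lib.Helper25.IsoBC.nonempty_Rpush_restrict_iso a b f f' hsq
  have hO' : ∀ k : ℤ, DCoh.IsPseudoCoherentD k (DCoh.inD (Spec (CommRingCat.of ↑Γ(Y, ⊤)))
      ((pushforward f').obj (Coh.structureModule (Spec (CommRingCat.of ↑Γ(X, ⊤)))))) := by
    intro k
    have h1 := (isPseudoCoherentD_restrictD_iso_iff b k _).2 (hO k)
    refine isPseudoCoherentD_of_iso ?_ h1
    refine ((restrictFunctor b).mapDerivedCategorySingleFunctor 0).app _ ≪≫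
      (DerivedCategory.singleFunctor _ 0).mapIso ?_
    exact (Groth.Agent.Lib.Helper25.IsoBC.bcIso a b f f' hsq).app (Coh.structureModule X) ≪≫
      (pushforward f').mapIso (restrictUnitIso a)
  have key := spec_case (A := ↑Γ(Y, ⊤)) (B := ↑Γ(X, ⊤)) hO' ((DCoh.restrictD a).obj E)
    (Groth.Agent.Lib.Helper25.RGZ4.isQCohD_restrictD a E hE) m
  refine (isPseudoCoherentD_restrictD_iso_iff a m E).symm.trans (key.trans ?_)
  refine (isPseudoCoherentD_iff_of_iso (θ.app E).symm).trans ?_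
  exact isPseudoCoherentD_restrictD_iso_iff b m _

/-- the statement over an affine open of the target -/
lemma local_case {X Y : Scheme.{u}} (f : X ⟶ Y) [IsFinite f] [DCoh.HasRpush f]
    (hO : ∀ m : ℤ, DCoh.IsPseudoCoherentD m
      (DCoh.inD Y ((pushforward f).obj (Coh.structureModule X))))
    (E : DCoh.D X) (hE : DCoh.IsQCohD E) (m : ℤ) (V : Y.Opens) (hV : IsAffineOpen V) :
    DCoh.IsPseudoCoherentD m ((DCoh.restrictD (f ⁻¹ᵁ V).ι).obj E) ↔
      DCoh.IsPseudoCoherentD m ((DCoh.restrictD V.ι).obj ((DCoh.Rpush f).obj E)) := by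
  haveI : IsAffine ((V : Y.Opens) : Scheme.{u}) := hV
  haveI : IsFinite (f ∣_ V) := IsZariskiLocalAtTarget.restrict ‹IsFinite f› V
  haveI : DCoh.HasRpush (f ∣_ V) := Groth.Agent.Lib.Helper25.SchKInj.hasRpush _
  obtain ⟨θ⟩ := Groth.Agent.Lib.Helper25.SchKInj.nonempty_Rpush_restrict_iso f V
  have hO' : ∀ k : ℤ, DCoh.IsPseudoCoherentD k (DCoh.inD (V : Scheme.{u})
      ((pushforward (f ∣_ V)).obj (Coh.structureModule ((f ⁻¹ᵁ V : X.Opens) : Scheme.{u})))) := by
    intro k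
    have h1 := Groth.Agent.Lib.helper25.PerfectTor.isPseudoCoherentD_restrictD (hO k) V
    refine isPseudoCoherentD_of_iso ?_ h1
    refine ((restrictFunctor V.ι).mapDerivedCategorySingleFunctor 0).app _ ≪≫
      (DerivedCategory.singleFunctor _ 0).mapIso ?_
    exact (Groth.Agent.Lib.helper21.ModOpenBC.bcIso f V).app (Coh.structureModule X) ≪≫
      (pushforward (f ∣_ V)).mapIso (restrictUnitIso (f ⁻¹ᵁ V).ι)
  have key := affine_case (f ∣_ V) hO' ((DCoh.restrictD (f ⁻¹ᵁ V).ι).obj E)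
    (Groth.Agent.Lib.Helper25.RGZ4.isQCohD_restrictD (f ⁻¹ᵁ V).ι E hE) m
  exact key.trans (isPseudoCoherentD_iff_of_iso (θ.app E).symm)

/-- **S1112**: for a finite morphism `f` with `f_* O_X` pseudo-coherent and `E ∈ D_QCoh(X)`, `E` is `m`-pseudo-coherent iff
`Rf_* E` is -/
theorem finite_pushforward_iff {X Y : Scheme.{u}} (f : X ⟶ Y) [IsFinite f] [DCoh.HasRpush f]
    (hO : ∀ m : ℤ, DCoh.IsPseudoCoherentD m
      (DCoh.inD Y ((pushforward f).obj (Coh.structureModule X))))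
    (E : DCoh.D X) (hE : DCoh.IsQCohD E) (m : ℤ) :
    DCoh.IsPseudoCoherentD m E ↔ DCoh.IsPseudoCoherentD m ((DCoh.Rpush f).obj E) := by
  constructor
  · intro h
    refine Groth.Agent.Lib.helper25.DCohPC4.isPseudoCoherentD_of_restrict (fun y => ?_)
    obtain ⟨_, ⟨V, hV : IsAffineOpen V, rfl⟩, hyV, -⟩ :=
      Y.isBasis_affineOpens.exists_subset_of_mem_open (Set.mem_univ y) isOpen_univ
    exact ⟨V, hyV, (local_case f hO E hE m V hV).1
      (Groth.Agent.Lib.helper25.PerfectTor.isPseudoCoherentD_restrictD h _)⟩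
  · intro h
    refine Groth.Agent.Lib.helper25.DCohPC4.isPseudoCoherentD_of_restrict (fun x => ?_)
    obtain ⟨_, ⟨V, hV : IsAffineOpen V, rfl⟩, hyV, -⟩ :=
      Y.isBasis_affineOpens.exists_subset_of_mem_open (Set.mem_univ (f x)) isOpen_univ
    exact ⟨f ⁻¹ᵁ V, hyV, (local_case f hO E hE m V hV).2
      (Groth.Agent.Lib.helper25.PerfectTor.isPseudoCoherentD_restrictD h _)⟩

end Groth.Agent.Lib.Helper25.FinPushPC2
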