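import Mathlib

/-!
# Short exact sequences of ℕ-chain complexes with degreewise projective, acyclic quotient

* `contractible`: an acyclic ℕ-chain complex of projectives is contractible.
* `exists_section`, `exists_retraction`, `exists_homotopy`: consequences for a short exact sequence
  `0 → A' → A → Q → 0` with `A' → A` a quasi-isomorphism and `Q` degreewise projective.
-/

open CategoryTheory Limits ZeroObject

namespace Groth.Agent.Lib.helper25.FreeCx

universe v u

variable {C : Type u} [Category.{v} C] [Abelian C]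

/-- An acyclic ℕ-indexed chain complex of projective objects is contractible. -/
noncomputable def contractible (Q : ChainComplex C ℕ) [∀ q, Projective (Q.X q)]
    (hQ : Q.Acyclic) : Homotopy (𝟙 Q) 0 := by
  have hz : IsZero ((ChainComplex.single₀ C).obj (0 : C)) :=
    (ChainComplex.single₀ C).map_isZero (isZero_zero C)
  let π : Q ⟶ (ChainComplex.single₀ C).obj 0 := 0
  have hπ : QuasiIso π := ⟨fun i => by
    rw [quasiIsoAt_iff_exactAt π i (hQ i)]
    exact ShortComplex.exact_of_isZero_X₂ _
      ((HomologicalComplex.eval C (ComplexShape.down ℕ) i).map_isZero hz)⟩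
  let P : ProjectiveResolution (0 : C) := { complex := Q, π := π }
  exact ProjectiveResolution.liftHomotopyZero (P := P) (Q := P) (𝟙 Q) (hz.eq_of_tgt _ _)

variable (S : ShortComplex (ChainComplex C ℕ))

/-- The quotient of a quasi-isomorphic subcomplex by projectives is contractible. -/
noncomputable def contractibleX₃ (hS : S.ShortExact) [∀ q, Projective (S.X₃.X q)]
    [QuasiIso S.f] : Homotopy (𝟙 S.X₃) 0 :=
  contractible S.X₃ (hS.acyclic_X₃ inferInstance)

theorem exists_homotopy (hS : S.ShortExact) [∀ q, Projective (S.X₃.X q)] [QuasiIso S.f]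
    (g₁ g₂ : S.X₂ ⟶ S.X₁) (h₁ : S.f ≫ g₁ = 𝟙 _) (h₂ : S.f ≫ g₂ = 𝟙 _) :
    ∃ H : Homotopy g₁ g₂, ∀ i j : ℕ, S.f.f i ≫ H.hom i j = 0 := by
  have hD : S.f ≫ (g₁ - g₂) = 0 := by rw [Preadditive.comp_sub, h₁, h₂, sub_self]
  have := hS.epi_g
  obtain ⟨D, hDfac⟩ : ∃ D : S.X₃ ⟶ S.X₁, S.g ≫ D = g₁ - g₂ :=
    ⟨hS.exact.desc _ hD, hS.exact.g_desc _ hD⟩
  let s := contractibleX₃ S hS
  let H₀ : Homotopy (g₁ - g₂) 0 :=
    (Homotopy.ofEq (by rw [Category.id_comp, hDfac])).trans
      (((s.compRight D).compLeft S.g).trans (Homotopy.ofEq (by simp)))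
  refine ⟨Homotopy.equivSubZero.symm H₀, fun i j => ?_⟩
  have hfg : S.f.f i ≫ S.g.f i = 0 := by
    rw [← HomologicalComplex.comp_f, S.zero, HomologicalComplex.zero_f]
  change S.f.f i ≫ H₀.hom i j = 0
  simp [H₀, reassoc_of% hfg]

/-- A chain-level section of `S.g` when `S.X₃` is contractible with degreewise projective terms:
with degreewise sections `σ` and contracting homotopy `s`, take `h = d s σ + s σ d`. -/
theorem exists_section (hS : S.ShortExact) [∀ q, Projective (S.X₃.X q)] [QuasiIso S.f] :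
    ∃ h : S.X₃ ⟶ S.X₂, h ≫ S.g = 𝟙 _ := by
  have := hS.epi_g
  have hepi : ∀ q, Epi (S.g.f q) := fun q => inferInstance
  let σ : ∀ q, S.X₃.X q ⟶ S.X₂.X q := fun q => Projective.factorThru (𝟙 _) (S.g.f q)
  have hσ : ∀ q, σ q ≫ S.g.f q = 𝟙 _ := fun q => Projective.factorThru_comp _ _
  let s := contractibleX₃ S hS
  have hs0 : s.hom 0 1 ≫ S.X₃.d 1 0 = 𝟙 _ := by
    have := s.comm 0
    rw [Homotopy.dNext_zero_chainComplex, Homotopy.prevD_chainComplex] at this
    simpa using this.symm
  have hs : ∀ j : ℕ, S.X₃.d (j + 1) j ≫ s.hom j (j + 1) +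
      s.hom (j + 1) (j + 2) ≫ S.X₃.d (j + 2) (j + 1) = 𝟙 _ := fun j => by
    have := s.comm (j + 1)
    rw [Homotopy.dNext_succ_chainComplex, Homotopy.prevD_chainComplex] at this
    simpa using this.symm
  let hf : ∀ i, S.X₃.X i ⟶ S.X₂.X i := fun i =>
    match i with
    | 0 => s.hom 0 1 ≫ σ 1 ≫ S.X₂.d 1 0
    | j + 1 => S.X₃.d (j + 1) j ≫ s.hom j (j + 1) ≫ σ (j + 1) +
        s.hom (j + 1) (j + 2) ≫ σ (j + 2) ≫ S.X₂.d (j + 2) (j + 1)
  have hcomm : ∀ i j, (ComplexShape.down ℕ).Rel i j → hf i ≫ S.X₂.d i j = S.X₃.d i j ≫ hf j := by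
    rintro i j (rfl : j + 1 = i)
    cases j with
    | zero => simp [hf]
    | succ j => simp [hf]
  refine ⟨⟨hf, hcomm⟩, ?_⟩
  ext i
  cases i with
  | zero =>
    simp only [HomologicalComplex.comp_f, HomologicalComplex.id_f, hf, Category.assoc]
    rw [← S.g.comm 1 0, reassoc_of% (hσ 1), hs0]
  | succ j =>
    simp only [HomologicalComplex.comp_f, HomologicalComplex.id_f, hf, Category.assoc,
      Preadditive.add_comp]
    rw [← S.g.comm (j + 2) (j + 1), reassoc_of% (hσ (j + 2)), hσ (j + 1), Category.comp_id, hs j]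

/-- A chain-level retraction of `S.f`. -/
theorem exists_retraction (hS : S.ShortExact) [∀ q, Projective (S.X₃.X q)] [QuasiIso S.f] :
    ∃ g : S.X₂ ⟶ S.X₁, S.f ≫ g = 𝟙 _ := by
  obtain ⟨h, hh⟩ := exists_section S hS
  have := hS.mono_f
  have hz : (𝟙 S.X₂ - S.g ≫ h) ≫ S.g = 0 := by
    rw [Preadditive.sub_comp, Category.assoc, hh, Category.comp_id, Category.id_comp, sub_self]
  refine ⟨hS.exact.lift _ hz, ?_⟩
  rw [← cancel_mono S.f, Category.assoc, hS.exact.lift_f, Preadditive.comp_sub,
    Category.comp_id, S.zero_assoc, zero_comp, sub_zero, Category.id_comp]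

/-! ### Specialisation to complexes of abelian groups -/

section ModuleCat

universe w

/-- In a degreewise short exact sequence of modules, the third term is the quotient of the middle
one by the image of the first, hence free if that quotient is. -/
theorem free_X₃_of_shortExact {R : Type u} [Ring R] (T : ShortComplex (ModuleCat.{w} R))
    (hT : T.ShortExact)
    (hq : Module.Free R (T.X₂ ⧸ LinearMap.range T.f.hom)) : Module.Free R T.X₃ := by
  have hsurj : Function.Surjective T.g.hom :=
    (ModuleCat.epi_iff_surjective _).1 hT.epi_g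
  have hker : LinearMap.ker T.g.hom = LinearMap.range T.f.hom :=
    hT.exact.moduleCat_range_eq_ker.symm
  let e : (T.X₂ ⧸ LinearMap.range T.f.hom) ≃ₗ[R] T.X₃ :=
    (Submodule.quotEquivOfEq _ _ hker.symm).trans (T.g.hom.quotKerEquivOfSurjective hsurj)
  exact Module.Free.of_equiv e

/-- Freeness over `ℤ` does not depend on the chosen `ℤ`-module structure. -/
theorem free_int_congr {M : Type w} [AddCommMonoid M] (m₁ m₂ : Module ℤ M)
    (h : @Module.Free ℤ M _ _ m₁) : @Module.Free ℤ M _ _ m₂ := by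
  have : m₁ = m₂ := Subsingleton.elim _ _
  subst this
  exact h

/-- For a short exact sequence of chain complexes of abelian groups with degreewise free
quotients `A_q / f(A'_q)`, the third complex is degreewise projective. -/
theorem projective_X₃_int (S : ShortComplex (ChainComplex (ModuleCat.{w} ℤ) ℕ))
    (hS : S.ShortExact)
    (hq : ∀ q, ∃ m : Module ℤ ((S.X₂.X q) ⧸ LinearMap.range (S.f.f q).hom),
      @Module.Free ℤ _ _ _ m) (q : ℕ) :
    Projective (S.X₃.X q) := by
  have hT := hS.map_of_exact (HomologicalComplex.eval _ _ q)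
  obtain ⟨m, hm⟩ := hq q
  have : Module.Free ℤ (S.X₃.X q) :=
    free_X₃_of_shortExact _ hT (free_int_congr m _ hm)
  infer_instance

end ModuleCat

end Groth.Agent.Lib.helper25.FreeCx
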