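import Groth.Agent.Lib.Helper25.HomLocPerf
import Groth.Agent.Lib.Helper25.IsoAbove

/-!
# Kernel and surjectivity halves of the localization of `Hom(M, L)` (helper25)

Sharper forms of `HomLocPerf.isLocAt_restrict_of_kill`, separating the two halves and keeping track of the bounds:

* `ker_restrict_of_kill`: the kernel half needs powers of `a` to kill maps `M ⟶ C'` for `a`-torsion `C' ∈ D_QCoh` with
  `C' ∈ D^{≥ i}` whenever `L ∈ D^{≥ i}`;
* `surj_restrict_of_kill`: the surjectivity half needs this for `C' ∈ D^{≥ i - 1}`.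
* `pow_smul_eq_zero_of_approx`: such a killing statement for `M` approximated by a perfect object.
* `ker_restrict_of_approx`, `surj_restrict_of_approx`.
-/

set_option autoImplicit false
universe u
open CategoryTheory CategoryTheory.Limits AlgebraicGeometry Opposite
attribute [local instance] HasDerivedCategory.standard

namespace Groth.Agent.Lib.Helper25.HomLocPerf

open Pretriangulated DerivedCategory TopologicalSpace Scheme.Modules
open Groth.Agent.Lib.Helper25.PowKill Groth.Agent.Lib.Helper25.KLinRestrict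
  Groth.Agent.Lib.Helper25.KLinUnit Groth.Agent.Lib.Helper25.HomVanMV Groth.Agent.Lib.Helper25.RHomAbs
  Groth.Agent.Lib.helper25.IsoAbove

variable (A : Type u) [CommRing A]

/-- **kernel half** -/
theorem ker_restrict_of_kill (X : Scheme.{u}) [X.Over (Spec (CommRingCat.of A))] (a : A)
    (M L : DCoh.D X)
    (hkill : ∀ (C : DCoh.D X), DCoh.IsQCohD C → Tors A a X (X ↘ Spec (CommRingCat.of A)) C →
      (∀ i : ℤ, L.IsGE i → C.IsGE i) → ∀ α : M ⟶ C, ∃ n : ℕ, (a ^ n) • α = 0)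
    (hL : DCoh.IsQCohD L) [QuasiCompact (X.basicOpen
      (show Γ(X, ⊤) from Coh.toGlobal (X ↘ Spec (CommRingCat.of A)) a)).ι] :
    ∀ x : M ⟶ L, resHom (X.basicOpen
        (show Γ(X, ⊤) from Coh.toGlobal (X ↘ Spec (CommRingCat.of A)) a)) M L x = 0 →
      ∃ n : ℕ, ((preHom (a • 𝟙 M) L)^[n]) x = 0 := by
  let W : X.Opens := X.basicOpen (show Γ(X, ⊤) from Coh.toGlobal (X ↘ Spec (CommRingCat.of A)) a)
  have hiso : IsIso ((DCoh.restrictD W.ι).map (a • 𝟙 M)) := isIso_restrict_smul A X a M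
  have hTorsIff : ∀ C : DCoh.D X, IsZero ((DCoh.restrictD W.ι).obj C) →
      Tors A a X (X ↘ Spec (CommRingCat.of A)) C := fun C hC => hC
  haveI : QuasiCompact W.ι := ‹_›
  haveI := Groth.Agent.Lib.Helper25.SchKInj.hasRpush W.ι
  obtain ⟨adj⟩ := Groth.Agent.Lib.Helper25.RGZ1.nonempty_adj W.ι
  let J := DCoh.restrictD W.ι
  let R := DCoh.Rpush W.ι
  let η : L ⟶ R.obj (J.obj L) := adj.unit.app L
  obtain ⟨C, q, w, hT⟩ := distinguished_cocone_triangle η
  have hRJ : DCoh.IsQCohD (R.obj (J.obj L)) :=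
    Groth.Agent.Lib.Helper25.RpushQC.isQCohD_Rpush W.ι _
      (Groth.Agent.Lib.Helper25.RGZ4.isQCohD_restrictD W.ι L hL)
  have hCq : DCoh.IsQCohD C :=
    Groth.Agent.H1.WSerreTri.cohIn_obj₂ (P := Groth.Agent.S1007.QC X) _ (rot_of_distTriang _ hT) hRJ
      (isQCohD_shift L hL 1)
  have hJη : IsIso (J.map η) := by
    haveI := Groth.Agent.Lib.Helper25.RGZ1.isIso_counit W.ι adj (J.obj L)
    have h1 : J.map η ≫ adj.counit.app (J.obj L) = 𝟙 _ := adj.left_triangle_components L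
    haveI : IsIso (J.map η ≫ adj.counit.app (J.obj L)) := by rw [h1]; infer_instance
    exact IsIso.of_isIso_comp_right (J.map η) (adj.counit.app (J.obj L))
  have hCU : IsZero (J.obj C) :=
    (Triangle.isZero₃_iff_isIso₁ _ (J.map_distinguished _ hT)).2 hJη
  have hCt : Tors A a X (X ↘ Spec (CommRingCat.of A)) C := hTorsIff C hCU
  -- bounds
  have hbound : ∀ i : ℤ, L.IsGE i → C.IsGE (i - 1) := by
    intro i hi
    have h1 : (R.obj (J.obj L)).IsGE i := isGE_Rpush W.ι _ i (isGE_restrictD W.ι L i hi)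
    have h2 : (R.obj (J.obj L)).IsGE (i - 1) :=
      DerivedCategory.TStructure.t.isGE_of_ge _ (i - 1) i (by omega)
    have h3 : (L⟦(1 : ℤ)⟧).IsGE (i - 1) :=
      DerivedCategory.TStructure.t.isGE_shift L i 1 (i - 1) (by omega)
    exact DerivedCategory.TStructure.t.isGE₂ _ (rot_of_distTriang _ hT) (i - 1) h2 h3
  have hbound' : ∀ i : ℤ, L.IsGE i → (C⟦(-1 : ℤ)⟧).IsGE i := by
    intro i hi
    haveI := hbound i hi
    exact DerivedCategory.TStructure.t.isGE_shift C (i - 1) (-1) i (by omega)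
  haveI : R.PreservesZeroMorphisms :=
    haveI := Groth.Agent.Lib.Helper25.QCCRpush.additive_Rpush W.ι
    inferInstance
  intro γ hγ
  have hγ' : J.map γ = 0 := hγ
  have h1 : γ ≫ η = 0 := by
    have : γ ≫ η = adj.homEquiv M (J.obj L) (J.map γ) := by
      rw [Adjunction.homEquiv_unit]; exact (adj.unit.naturality γ)
    rw [this, hγ']
    exact Groth.Agent.Lib.Helper25.QCCRpush.homEquiv_zero adj _ _
  obtain ⟨γ', hγ''⟩ := Triangle.coyoneda_exact₂ _ (inv_rot_of_distTriang _ hT) γ h1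
  obtain ⟨n, hn⟩ := hkill (C⟦(-1 : ℤ)⟧) (isQCohD_shift C hCq (-1)) (tors_shift _ C (-1) hCt)
    hbound' γ'
  refine ⟨n, ?_⟩
  rw [iterate_preHom_smul, hγ'']
  have e : (a ^ n) • (γ' ≫ (Triangle.mk η q w).invRotate.mor₁) =
      ((a ^ n) • γ') ≫ (Triangle.mk η q w).invRotate.mor₁ := (Linear.smul_comp _ _ _ _ _ _).symm
  exact e.trans ((congrArg (· ≫ (Triangle.mk η q w).invRotate.mor₁) hn).trans zero_comp)

/-- **surjectivity half** -/
theorem surj_restrict_of_kill (X : Scheme.{u}) [X.Over (Spec (CommRingCat.of A))] (a : A)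
    (M L : DCoh.D X)
    (hkill : ∀ (C : DCoh.D X), DCoh.IsQCohD C → Tors A a X (X ↘ Spec (CommRingCat.of A)) C →
      (∀ i : ℤ, L.IsGE i → C.IsGE (i - 1)) → ∀ α : M ⟶ C, ∃ n : ℕ, (a ^ n) • α = 0)
    (hL : DCoh.IsQCohD L) [QuasiCompact (X.basicOpen
      (show Γ(X, ⊤) from Coh.toGlobal (X ↘ Spec (CommRingCat.of A)) a)).ι] :
    ∀ y : (DCoh.restrictD (X.basicOpen
        (show Γ(X, ⊤) from Coh.toGlobal (X ↘ Spec (CommRingCat.of A)) a)).ι).obj M ⟶
        (DCoh.restrictD (X.basicOpen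
        (show Γ(X, ⊤) from Coh.toGlobal (X ↘ Spec (CommRingCat.of A)) a)).ι).obj L,
      ∃ (n : ℕ) (x : M ⟶ L), resHom (X.basicOpen
        (show Γ(X, ⊤) from Coh.toGlobal (X ↘ Spec (CommRingCat.of A)) a)) M L x =
        ((preHom ((DCoh.restrictD (X.basicOpen
        (show Γ(X, ⊤) from Coh.toGlobal (X ↘ Spec (CommRingCat.of A)) a)).ι).map (a • 𝟙 M)) _)^[n]) y := by
  let W : X.Opens := X.basicOpen (show Γ(X, ⊤) from Coh.toGlobal (X ↘ Spec (CommRingCat.of A)) a)
  have hiso : IsIso ((DCoh.restrictD W.ι).map (a • 𝟙 M)) := isIso_restrict_smul A X a M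
  have hTorsIff : ∀ C : DCoh.D X, IsZero ((DCoh.restrictD W.ι).obj C) →
      Tors A a X (X ↘ Spec (CommRingCat.of A)) C := fun C hC => hC
  haveI : QuasiCompact W.ι := ‹_›
  haveI := Groth.Agent.Lib.Helper25.SchKInj.hasRpush W.ι
  obtain ⟨adj⟩ := Groth.Agent.Lib.Helper25.RGZ1.nonempty_adj W.ι
  let J := DCoh.restrictD W.ι
  let R := DCoh.Rpush W.ι
  let η : L ⟶ R.obj (J.obj L) := adj.unit.app L
  obtain ⟨C, q, w, hT⟩ := distinguished_cocone_triangle η
  have hRJ : DCoh.IsQCohD (R.obj (J.obj L)) :=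
    Groth.Agent.Lib.Helper25.RpushQC.isQCohD_Rpush W.ι _
      (Groth.Agent.Lib.Helper25.RGZ4.isQCohD_restrictD W.ι L hL)
  have hCq : DCoh.IsQCohD C :=
    Groth.Agent.H1.WSerreTri.cohIn_obj₂ (P := Groth.Agent.S1007.QC X) _ (rot_of_distTriang _ hT) hRJ
      (isQCohD_shift L hL 1)
  have hJη : IsIso (J.map η) := by
    haveI := Groth.Agent.Lib.Helper25.RGZ1.isIso_counit W.ι adj (J.obj L)
    have h1 : J.map η ≫ adj.counit.app (J.obj L) = 𝟙 _ := adj.left_triangle_components L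
    haveI : IsIso (J.map η ≫ adj.counit.app (J.obj L)) := by rw [h1]; infer_instance
    exact IsIso.of_isIso_comp_right (J.map η) (adj.counit.app (J.obj L))
  have hCU : IsZero (J.obj C) :=
    (Triangle.isZero₃_iff_isIso₁ _ (J.map_distinguished _ hT)).2 hJη
  have hCt : Tors A a X (X ↘ Spec (CommRingCat.of A)) C := hTorsIff C hCU
  -- bounds
  have hbound : ∀ i : ℤ, L.IsGE i → C.IsGE (i - 1) := by
    intro i hi
    have h1 : (R.obj (J.obj L)).IsGE i := isGE_Rpush W.ι _ i (isGE_restrictD W.ι L i hi)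
    have h2 : (R.obj (J.obj L)).IsGE (i - 1) :=
      DerivedCategory.TStructure.t.isGE_of_ge _ (i - 1) i (by omega)
    have h3 : (L⟦(1 : ℤ)⟧).IsGE (i - 1) :=
      DerivedCategory.TStructure.t.isGE_shift L i 1 (i - 1) (by omega)
    exact DerivedCategory.TStructure.t.isGE₂ _ (rot_of_distTriang _ hT) (i - 1) h2 h3
  have hbound' : ∀ i : ℤ, L.IsGE i → (C⟦(-1 : ℤ)⟧).IsGE i := by
    intro i hi
    haveI := hbound i hi
    exact DerivedCategory.TStructure.t.isGE_shift C (i - 1) (-1) i (by omega)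
  haveI : R.PreservesZeroMorphisms :=
    haveI := Groth.Agent.Lib.Helper25.QCCRpush.additive_Rpush W.ι
    inferInstance
  intro δ
  let δt : M ⟶ R.obj (J.obj L) := adj.homEquiv M (J.obj L) δ
  obtain ⟨n, hn⟩ := hkill C hCq hCt hbound (δt ≫ q)
  have h0 : ((a ^ n) • δt) ≫ q = 0 := by rw [Linear.smul_comp]; exact hn
  obtain ⟨γ, hγ⟩ := Triangle.coyoneda_exact₂ _ hT ((a ^ n) • δt) h0
  refine ⟨n, γ, ?_⟩
  change J.map γ = _
  apply (adj.homEquiv M (J.obj L)).injective
  have e1 : adj.homEquiv M (J.obj L) (J.map γ) = γ ≫ η := by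
    rw [Adjunction.homEquiv_unit]; exact (adj.unit.naturality γ).symm
  refine e1.trans (hγ.symm.trans ?_)
  -- iterate on the restricted side
  have e2 : ∀ (k : ℕ) (δ' : J.obj M ⟶ J.obj L),
      adj.homEquiv M (J.obj L) ((preHom (J.map (a • 𝟙 M)) (J.obj L))^[k] δ') =
        (a ^ k) • adj.homEquiv M (J.obj L) δ' := by
    intro k
    induction k with
    | zero => intro δ'; simp
    | succ k ih =>
      intro δ'
      rw [Function.iterate_succ_apply, ih, preHom_apply, Adjunction.homEquiv_naturality_left,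
        Linear.smul_comp, Category.id_comp, smul_smul, pow_succ]
  rw [e2]


/-- powers of `a` kill maps from `M` to `a`-torsion objects of `D_QCoh ∩ D^{≥ c}` when `M` is approximated by a
perfect object in degrees `≥ c` -/
theorem pow_smul_eq_zero_of_approx (X : Scheme.{u}) [X.Over (Spec (CommRingCat.of A))] [CompactSpace ↥X]
    [QuasiSeparatedSpace ↥X] (a : A) {P M : DCoh.D X} (α : P ⟶ M) (hP : DCoh.IsPerfect P) (c : ℤ)
    (hα : IsoAbove c α) (C' : DCoh.D X) (hCq : DCoh.IsQCohD C')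
    (hCt : Tors A a X (X ↘ Spec (CommRingCat.of A)) C') [C'.IsGE c] (β : M ⟶ C') :
    ∃ n : ℕ, (a ^ n) • β = 0 := by
  obtain ⟨Cα, q, w, hT⟩ := distinguished_cocone_triangle α
  have hz : ∀ i : ℤ, c ≤ i → IsZero ((DerivedCategory.homologyFunctor _ i).obj Cα) :=
    (isoAbove_iff_cone _ hT c).1 hα
  haveI : Cα.IsLE (c - 1) := by
    rw [DerivedCategory.isLE_iff]
    intro i hi
    exact hz i (by omega)
  obtain ⟨n, hn⟩ := pow_smul_eq_zero' X hP hCq hCt (α ≫ β)
  refine ⟨n, ?_⟩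
  have h0 : α ≫ ((a ^ n) • β) = 0 := by rw [Linear.comp_smul]; exact hn
  obtain ⟨β', hβ'⟩ := Triangle.yoneda_exact₂ _ hT ((a ^ n) • β) h0
  have hz' : β' = 0 :=
    DerivedCategory.TStructure.t.zero_of_isLE_of_isGE β' (c - 1) c (by omega)
      (show DerivedCategory.TStructure.t.IsLE Cα (c - 1) from ‹Cα.IsLE (c - 1)›)
      (show DerivedCategory.TStructure.t.IsGE C' c from ‹C'.IsGE c›)
  rw [hβ', hz']
  exact comp_zero

/-- kernel half of the localization of `Hom(M, L)`, for `M` approximated by a perfect object in degrees `≥ c` and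
`L ∈ D_QCoh ∩ D^{≥ c}` -/
theorem ker_restrict_of_approx (X : Scheme.{u}) [X.Over (Spec (CommRingCat.of A))] [CompactSpace ↥X]
    [QuasiSeparatedSpace ↥X] (a : A) {P M : DCoh.D X} (α : P ⟶ M) (hP : DCoh.IsPerfect P) (c : ℤ)
    (hα : IsoAbove c α) (L : DCoh.D X) (hL : DCoh.IsQCohD L) [L.IsGE c]
    [QuasiCompact (X.basicOpen
      (show Γ(X, ⊤) from Coh.toGlobal (X ↘ Spec (CommRingCat.of A)) a)).ι] :
    ∀ x : M ⟶ L, resHom (X.basicOpen
        (show Γ(X, ⊤) from Coh.toGlobal (X ↘ Spec (CommRingCat.of A)) a)) M L x = 0 →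
      ∃ n : ℕ, ((preHom (a • 𝟙 M) L)^[n]) x = 0 :=
  ker_restrict_of_kill A X a M L (fun C hCq hCt hge β => by
    haveI : C.IsGE c := hge c inferInstance
    exact pow_smul_eq_zero_of_approx A X a α hP c hα C hCq hCt β) hL

/-- surjectivity half of the localization of `Hom(M, L)`, for `M` approximated by a perfect object in degrees `≥ c`
and `L ∈ D_QCoh ∩ D^{≥ c + 1}` -/
theorem surj_restrict_of_approx (X : Scheme.{u}) [X.Over (Spec (CommRingCat.of A))] [CompactSpace ↥X]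
    [QuasiSeparatedSpace ↥X] (a : A) {P M : DCoh.D X} (α : P ⟶ M) (hP : DCoh.IsPerfect P) (c : ℤ)
    (hα : IsoAbove c α) (L : DCoh.D X) (hL : DCoh.IsQCohD L) [L.IsGE (c + 1)]
    [QuasiCompact (X.basicOpen
      (show Γ(X, ⊤) from Coh.toGlobal (X ↘ Spec (CommRingCat.of A)) a)).ι] :
    ∀ y : (DCoh.restrictD (X.basicOpen
        (show Γ(X, ⊤) from Coh.toGlobal (X ↘ Spec (CommRingCat.of A)) a)).ι).obj M ⟶
        (DCoh.restrictD (X.basicOpen
        (show Γ(X, ⊤) from Coh.toGlobal (X ↘ Spec (CommRingCat.of A)) a)).ι).obj L,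
      ∃ (n : ℕ) (x : M ⟶ L), resHom (X.basicOpen
        (show Γ(X, ⊤) from Coh.toGlobal (X ↘ Spec (CommRingCat.of A)) a)) M L x =
        ((preHom ((DCoh.restrictD (X.basicOpen
        (show Γ(X, ⊤) from Coh.toGlobal (X ↘ Spec (CommRingCat.of A)) a)).ι).map (a • 𝟙 M)) _)^[n]) y :=
  surj_restrict_of_kill A X a M L (fun C hCq hCt hge β => by
    haveI : C.IsGE c := by
      have h := hge (c + 1) inferInstance
      rwa [add_sub_cancel_right] at h
    exact pow_smul_eq_zero_of_approx A X a α hP c hα C hCq hCt β) hL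

end Groth.Agent.Lib.Helper25.HomLocPerf
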