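import Mathlib
import Groth.Agent.Lib.Helper16.FLF8
import Groth.Agent.Lib.Helper25.QcqsInduction
import Groth.Agent.Lib.Helper25.DCohPC5

/-!
# Uniform Ext-vanishing out of finite locally free modules on qcqs schemes (helper25)

* `exists_retract_free_tilde`, `exists_retract_free_spec`, `exists_retract_free`: a finite locally free
  module on an affine scheme is a retract of a free module of finite rank.
* `van_single_flf`: on an affine scheme, `Hom(F[-a], K) = 0` for `F` finite locally free and
  `K ∈ D_QCoh^{≤ c}`, `c < a`.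
* `exists_van_flf`: on a qcqs scheme there is `c` with `Hom(F[0], K) = 0` for *all* finite locally
  free `F` and all `K ∈ D_QCoh^{≤ c}` (Mayer–Vietoris induction `QcqsInduction.qcqs_induction`).
-/

set_option autoImplicit false
universe u
open CategoryTheory CategoryTheory.Limits AlgebraicGeometry
attribute [local instance] HasDerivedCategory.standard

namespace Groth.Agent.Lib.Helper25.HomVanFLF

open Pretriangulated DerivedCategory TopologicalSpace Scheme.Modules
open Groth.Agent.Lib.Helper25.HomVanAffine Groth.Agent.Lib.helper16.FLF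

lemma retract_comp_iso {C : Type*} [Category C] {A B B' : C} (i : A ⟶ B) (p : B ⟶ A)
    (h : i ≫ p = 𝟙 A) (e : B ≅ B') : (i ≫ e.hom) ≫ (e.inv ≫ p) = 𝟙 A := by
  rw [Category.assoc, Iso.hom_inv_id_assoc, h]

lemma retract_iso_comp {C : Type*} [Category C] {A A' B : C} (i : A ⟶ B) (p : B ⟶ A)
    (h : i ≫ p = 𝟙 A) (e : A' ≅ A) : (e.hom ≫ i) ≫ (p ≫ e.inv) = 𝟙 A' := by
  rw [Category.assoc, ← Category.assoc i, h, Category.id_comp, Iso.hom_inv_id]

lemma retract_map {C D : Type*} [Category C] [Category D] (F : C ⥤ D) {A B : C} (i : A ⟶ B)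
    (p : B ⟶ A) (h : i ≫ p = 𝟙 A) : F.map i ≫ F.map p = 𝟙 (F.obj A) := by
  rw [← F.map_comp, h, F.map_id]

/-- the tilde of a finite projective module is a retract of a free module of finite rank -/
theorem exists_retract_free_tilde (R : CommRingCat.{u}) (M : ModuleCat.{u} R)
    [Module.Finite R M] [Module.Projective R M] :
    ∃ (n : ℕ) (i : tilde M ⟶ FlatMod.freeMod (Spec R) n) (p : FlatMod.freeMod (Spec R) n ⟶ tilde M),
      i ≫ p = 𝟙 _ := by
  obtain ⟨n, f, g, -, -, hfg⟩ := Module.Finite.exists_comp_eq_id_of_projective R M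
  let f' : stdFree R n ⟶ M := ModuleCat.ofHom f
  let g' : M ⟶ stdFree R n := ModuleCat.ofHom g
  have hgf : g' ≫ f' = 𝟙 M := by
    ext x
    exact LinearMap.congr_fun hfg x
  exact ⟨n, _, _, retract_comp_iso _ _ (retract_map (tilde.functor R) g' f' hgf)
    (tildeFreeModIso R n)⟩

/-- a finite locally free module on `Spec R` is a retract of a free module of finite rank -/
theorem exists_retract_free_spec (R : CommRingCat.{u}) (G : (Spec R).Modules)
    (hG : FlatMod.IsFinLocFree G) :
    ∃ (n : ℕ) (i : G ⟶ FlatMod.freeMod (Spec R) n) (p : FlatMod.freeMod (Spec R) n ⟶ G),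
      i ≫ p = 𝟙 G := by
  haveI := isQuasicoherent_of_isFinLocFree G hG
  haveI hiso : IsIso G.fromTildeΓ := inferInstance
  have h2 : FlatMod.IsFinLocFree (tilde (moduleSpecΓFunctor.obj G)) :=
    isFinLocFree_of_iso (asIso G.fromTildeΓ).symm hG
  obtain ⟨h3, h4⟩ := (Groth.Agent.S12451.result (moduleSpecΓFunctor.obj G)).1 h2
  obtain ⟨n, i, p, hip⟩ := exists_retract_free_tilde R (moduleSpecΓFunctor.obj G)
  exact ⟨n, _, _, retract_iso_comp i p hip (asIso G.fromTildeΓ).symm⟩



/-- a finite locally free module on an affine scheme is a retract of a free module of finite rank -/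
theorem exists_retract_free (Y : Scheme.{u}) [IsAffine Y] (F : Y.Modules)
    (hF : FlatMod.IsFinLocFree F) :
    ∃ (n : ℕ) (i : F ⟶ FlatMod.freeMod Y n) (p : FlatMod.freeMod Y n ⟶ F), i ≫ p = 𝟙 F := by
  let j := Y.isoSpec
  obtain ⟨n, i, p, hip⟩ := exists_retract_free_spec _ (F.restrict j.inv)
    (isFinLocFree_restrict j.inv hF)
  let e₁ : (F.restrict j.inv).restrict j.hom ≅ F :=
    ((restrictFunctorComp j.hom j.inv).app F).symm ≪≫
      (restrictFunctorCongr j.hom_inv_id).app F ≪≫ (restrictFunctorId).app F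
  let e₂ : (FlatMod.freeMod (Spec Γ(Y, ⊤)) n).restrict j.hom ≅ FlatMod.freeMod Y n :=
    restrictFreeModIso j.hom n
  exact ⟨n, _, _, retract_iso_comp _ _
    (retract_comp_iso _ _ (retract_map (restrictFunctor j.hom) i p hip) e₂) e₁.symm⟩

/-- on an affine scheme, a finite locally free module placed in degree `a` has no maps to
`D_QCoh^{≤ c}`, `c < a` -/
theorem van_single_flf (Y : Scheme.{u}) [IsAffine Y] (F : Y.Modules) (hF : FlatMod.IsFinLocFree F)
    (a c : ℤ) (hc : c < a) : Van Y ((singleFunctor Y.Modules a).obj F) c := by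
  obtain ⟨n, i, p, hip⟩ := exists_retract_free Y F hF
  intro K hK hLE φ
  have h1 := van_single_free Y (FlatMod.freeMod Y n) n (Iso.refl _) a c hc K hK hLE
    ((singleFunctor _ a).map p ≫ φ)
  calc φ = (singleFunctor _ a).map (i ≫ p) ≫ φ := by
        rw [hip, CategoryTheory.Functor.map_id, Category.id_comp]
    _ = (singleFunctor _ a).map i ≫ (singleFunctor _ a).map p ≫ φ := by
        rw [Functor.map_comp, Category.assoc]
    _ = 0 := by rw [h1, comp_zero]

/-- **Uniform vanishing**: on a qcqs scheme there is `c` such that every finite locally free module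
(in degree `0`) has no nonzero maps to `D_QCoh^{≤ c}`. -/
theorem exists_van_flf (X : Scheme.{u}) [CompactSpace X] [QuasiSeparatedSpace X] :
    ∃ c : ℤ, ∀ F : X.Modules, FlatMod.IsFinLocFree F → Van X (DCoh.inD X F) c := by
  refine Groth.Agent.Lib.Helper25.QcqsInduction.qcqs_induction
    (fun Y => ∃ c : ℤ, ∀ F : Y.Modules, FlatMod.IsFinLocFree F → Van Y (DCoh.inD Y F) c) ?_ ?_ X
  · intro Y hY
    exact ⟨-1, fun F hF => van_single_flf Y F hF 0 (-1) (by omega)⟩
  · rintro Y V W hVW ⟨c₁, h1⟩ ⟨c₂, h2⟩ ⟨c₃, h3⟩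
    refine ⟨min (min c₁ c₂) (c₃ - 1), fun F hF => ?_⟩
    have e := fun T : Y.Opens => Groth.Agent.Lib.helper25.DCohPC5.restrictD_single_iso F T
    refine Groth.Agent.Lib.Helper25.HomVanMV.van_of_cover V W hVW _ _
      (van_of_le (van_of_iso (e V).symm (h1 _ (isFinLocFree_restrict V.ι hF))) ?_)
      (van_of_le (van_of_iso (e W).symm (h2 _ (isFinLocFree_restrict W.ι hF))) ?_)
      (van_of_le (van_of_iso (e (V ⊓ W)).symm (h3 _ (isFinLocFree_restrict (V ⊓ W).ι hF))) ?_)
    · exact (min_le_left _ _).trans (min_le_left _ _)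
    · exact (min_le_left _ _).trans (min_le_right _ _)
    · have := min_le_right (min c₁ c₂) (c₃ - 1)
      omega

end Groth.Agent.Lib.Helper25.HomVanFLF
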