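import Mathlib
import Groth.Prelude.Def_DCoh2

/-!
# Hom-vanishing from a bounded-above object and truncation `τ_{≤ a}` (helper25)

* `hom_eq_zero_of_isLE_isGE`: maps from `D^{≤ d}` to `D^{≥ e}` vanish for `d < e`.
* `truncLE_iff` (S1023): for `P ∈ D^{≤ d}(O_X)`, the maps `P[-i] ⟶ E` vanish for `i ≪ 0` iff the maps
  `P[-i] ⟶ τ_{≤ a} E` vanish for `i ≪ 0`.
-/

set_option autoImplicit false
universe u
open CategoryTheory CategoryTheory.Limits AlgebraicGeometry
attribute [local instance] HasDerivedCategory.standard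

namespace Groth.Agent.Lib.Helper25.HomVanTrunc

open Pretriangulated DerivedCategory

/-- maps from `D^{≤ d}` to `D^{≥ e}` vanish for `d < e` -/
lemma hom_eq_zero_of_isLE_isGE {X : Scheme.{u}} {A B : DCoh.D X} (d e : ℤ) (h : d < e)
    (hA : A.IsLE d) (hB : B.IsGE e) (φ : A ⟶ B) : φ = 0 :=
  (TStructure.t : Triangulated.TStructure (DCoh.D X)).zero_of_isLE_of_isGE φ d e h hA hB

theorem truncLE_iff {X : Scheme.{u}} (P : DCoh.D X) (d : ℤ) (hd : P.IsLE d) (E : DCoh.D X) (a : ℤ) :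
    (∃ N : ℤ, ∀ i : ℤ, i ≤ N → ∀ φ : P⟦-i⟧ ⟶ E, φ = 0) ↔
    (∃ N : ℤ, ∀ i : ℤ, i ≤ N → ∀ φ : P⟦-i⟧ ⟶ ((TStructure.t :
      Triangulated.TStructure (DCoh.D X)).truncLE a).obj E, φ = 0) := by
  let t : Triangulated.TStructure (DCoh.D X) := TStructure.t
  let T := (t.triangleLEGE a (a + 1) rfl).obj E
  have hT : T ∈ distTriang _ := t.triangleLEGE_distinguished a (a + 1) rfl E
  have hsh : ∀ i : ℤ, (P⟦-i⟧).IsLE (d + i) := fun i => by
    haveI : t.IsLE P d := hd
    exact t.isLE_shift P d (-i) (d + i) (by omega)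
  constructor
  · rintro ⟨N, hN⟩
    refine ⟨min N (a - d), fun i hi φ => ?_⟩
    have h1 : φ ≫ T.mor₁ = 0 := hN i (le_trans hi (min_le_left _ _)) _
    obtain ⟨g, hg⟩ := Triangle.coyoneda_exact₂ T.invRotate (inv_rot_of_distTriang T hT) φ h1
    have hGE : (T.invRotate.obj₁).IsGE (a + 2) := by
      haveI : t.IsGE ((t.truncGE (a + 1)).obj E) (a + 1) := inferInstance
      exact t.isGE_shift ((t.truncGE (a + 1)).obj E) (a + 1) (-1) (a + 2) (by omega)
    have hg0 : g = 0 := hom_eq_zero_of_isLE_isGE (d + i) (a + 2)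
      (by have := le_trans hi (min_le_right _ _); omega) (hsh i) hGE g
    rw [hg, hg0]
    exact zero_comp
  · rintro ⟨N, hN⟩
    refine ⟨min N (a - d), fun i hi φ => ?_⟩
    have hGE : (T.obj₃).IsGE (a + 1) := by
      change t.IsGE ((t.truncGE (a + 1)).obj E) (a + 1)
      infer_instance
    have h1 : φ ≫ T.mor₂ = 0 := hom_eq_zero_of_isLE_isGE (d + i) (a + 1)
      (by have := le_trans hi (min_le_right _ _); omega) (hsh i) hGE _
    obtain ⟨g, hg⟩ := Triangle.coyoneda_exact₂ T hT φ h1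
    rw [hg, hN i (le_trans hi (min_le_left _ _)) g]
    exact zero_comp

end Groth.Agent.Lib.Helper25.HomVanTrunc
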