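import Mathlib.CategoryTheory.Triangulated.HomologicalFunctor
import Mathlib.CategoryTheory.Triangulated.Subcategory

/-!
Objects on which a homological functor vanishes in a "range" of shifts form a saturated
triangulated subcategory.
-/

set_option autoImplicit false

namespace Groth.Agent.Lib.helper25

open CategoryTheory CategoryTheory.Limits CategoryTheory.Pretriangulated ZeroObject

universe v u v' u'

variable {D : Type u} [Category.{v} D] [Preadditive D] [HasZeroObject D] [HasShift D ℤ]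
    [∀ n : ℤ, (shiftFunctor D n).Additive] [Pretriangulated D]
    {A : Type u'} [Category.{v'} A] [Abelian A] (H : D ⥤ A) [H.IsHomological]

/-- `R N n` is a relation on integers, e.g. `n ≤ N` or `N ≤ n`. -/
theorem homological_range_isTriangulated (R : ℤ → ℤ → Prop)
    (hshift : ∀ N m : ℤ, ∃ N' : ℤ, ∀ n : ℤ, R N' n → R N (m + n))
    (hinf : ∀ N₁ N₃ : ℤ, ∃ N : ℤ, ∀ n : ℤ, R N n → R N₁ n ∧ R N₃ n) :
    (ObjectProperty.IsTriangulated (fun X : D => ∃ N : ℤ, ∀ n : ℤ, R N n →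
        IsZero (H.obj ((shiftFunctor D n).obj X)))) ∧
    (ObjectProperty.IsClosedUnderIsomorphisms (fun X : D => ∃ N : ℤ, ∀ n : ℤ, R N n →
        IsZero (H.obj ((shiftFunctor D n).obj X)))) ∧
    (∀ X Y : D, (∃ N : ℤ, ∀ n : ℤ, R N n → IsZero (H.obj ((shiftFunctor D n).obj (X ⊞ Y)))) →
      (∃ N : ℤ, ∀ n : ℤ, R N n → IsZero (H.obj ((shiftFunctor D n).obj X))) ∧
      (∃ N : ℤ, ∀ n : ℤ, R N n → IsZero (H.obj ((shiftFunctor D n).obj Y)))) := by
  have hiso : ObjectProperty.IsClosedUnderIsomorphisms (fun X : D => ∃ N : ℤ, ∀ n : ℤ, R N n →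
      IsZero (H.obj ((shiftFunctor D n).obj X))) :=
    ⟨fun e ⟨N, hN⟩ => ⟨N, fun n hn => (hN n hn).of_iso ((shiftFunctor D n ⋙ H).mapIso e.symm)⟩⟩
  refine ⟨?_, hiso, ?_⟩
  · have h0 : ObjectProperty.ContainsZero (fun X : D => ∃ N : ℤ, ∀ n : ℤ, R N n →
        IsZero (H.obj ((shiftFunctor D n).obj X))) :=
      ⟨⟨(0 : D), isZero_zero D, 0, fun n _ => (shiftFunctor D n ⋙ H).map_isZero (isZero_zero D)⟩⟩
    have hs : ObjectProperty.IsStableUnderShift (fun X : D => ∃ N : ℤ, ∀ n : ℤ, R N n →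
        IsZero (H.obj ((shiftFunctor D n).obj X))) ℤ :=
      ⟨fun m => ⟨fun X ⟨N, hN⟩ => by
        obtain ⟨N', hN'⟩ := hshift N m
        exact ⟨N', fun n hn => (hN (m + n) (hN' n hn)).of_iso
          (H.mapIso ((shiftFunctorAdd D m n).app X).symm)⟩⟩⟩
    have h2 : ObjectProperty.IsTriangulatedClosed₂ (fun X : D => ∃ N : ℤ, ∀ n : ℤ, R N n →
        IsZero (H.obj ((shiftFunctor D n).obj X))) := by
      apply ObjectProperty.IsTriangulatedClosed₂.mk'
      rintro T hT ⟨N₁, h₁⟩ ⟨N₃, h₃⟩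
      obtain ⟨N, hN⟩ := hinf N₁ N₃
      exact ⟨N, fun n hn => (H.map_distinguished_exact _
        (Triangle.shift_distinguished T hT n)).isZero_of_both_zeros
          ((h₁ n (hN n hn).1).eq_of_src _ _) ((h₃ n (hN n hn).2).eq_of_tgt _ _)⟩
    exact { }
  · rintro X Y ⟨N, hN⟩
    refine ⟨⟨N, fun n hn => ?_⟩, ⟨N, fun n hn => ?_⟩⟩
    · rw [IsZero.iff_id_eq_zero]
      have : 𝟙 ((shiftFunctor D n ⋙ H).obj X) = (shiftFunctor D n ⋙ H).map biprod.inl ≫
          (shiftFunctor D n ⋙ H).map (biprod.fst : X ⊞ Y ⟶ X) := by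
        rw [← Functor.map_comp, biprod.inl_fst, CategoryTheory.Functor.map_id]
      exact this.trans (by rw [(hN n hn).eq_of_tgt ((shiftFunctor D n ⋙ H).map biprod.inl) 0,
        zero_comp])
    · rw [IsZero.iff_id_eq_zero]
      have : 𝟙 ((shiftFunctor D n ⋙ H).obj Y) = (shiftFunctor D n ⋙ H).map biprod.inr ≫
          (shiftFunctor D n ⋙ H).map (biprod.snd : X ⊞ Y ⟶ Y) := by
        rw [← Functor.map_comp, biprod.inr_snd, CategoryTheory.Functor.map_id]
      exact this.trans (by rw [(hN n hn).eq_of_tgt ((shiftFunctor D n ⋙ H).map biprod.inr) 0,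
        zero_comp])

end Groth.Agent.Lib.helper25
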