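import Mathlib
import Groth.Agent.Lib.Helper25.KInjMain

/-!
# K-injective complexes with injective terms = fibrant objects

* `exists_ext_of_isKInjective`: a K-injective complex with injective terms has the extension
  property along monomorphic quasi-isomorphisms (via Mathlib's `CochainComplex.Lifting.hasLift`).
* `isKInjective_of_ext`, `injective_X_of_ext`: the converse.
* `isKInjective_and_injective_iff`: the characterization by short exact sequences with acyclic
  cokernel.
-/

set_option autoImplicit false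
universe v u
open CategoryTheory CategoryTheory.Limits ZeroObject

namespace Groth.Agent.Lib.Helper25.KInjExt

open Groth.Agent.Lib.Helper25.KInjKL Groth.Agent.Lib.Helper25.KInjW
  Groth.Agent.Lib.Helper25.KInjMain CochainComplex HomComplex

variable {A : Type u} [Category.{v} A] [Abelian A]

/-- a K-injective complex with injective terms has the extension property along monomorphic
quasi-isomorphisms -/
theorem exists_ext_of_isKInjective (I : CochainComplex A ℤ) [I.IsKInjective]
    [∀ n, Injective (I.X n)] {X Y : CochainComplex A ℤ} (f : X ⟶ Y) [Mono f] [QuasiIso f]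
    (u : X ⟶ I) : ∃ v : Y ⟶ I, f ≫ v = u := by
  have sq : CommSq u f (0 : I ⟶ 0) (0 : Y ⟶ 0) := ⟨by simp⟩
  have hl : ∀ n, ∃ l : Y.X n ⟶ I.X n, f.f n ≫ l = u.f n := fun n =>
    ⟨Injective.factorThru (u.f n) (f.f n), Injective.comp_factorThru (u.f n) (f.f n)⟩
  choose l hl using hl
  have hsq : ∀ n, (sq.map (HomologicalComplex.eval _ _ n)).LiftStruct := fun n =>
    { l := l n
      fac_left := hl n
      fac_right := by
        simp
        exact comp_zero }
  have hπ : f ≫ cokernel.π f = 0 := cokernel.condition f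
  have hι : 𝟙 I ≫ (0 : I ⟶ 0) = 0 := comp_zero
  have hQ : IsColimit (CokernelCofork.ofπ (cokernel.π f) hπ) := cokernelIsCokernel f
  have hK : IsLimit (KernelFork.ofι (𝟙 I) hι) := KernelFork.IsLimit.ofId (0 : I ⟶ 0) rfl
  obtain ⟨α, hα⟩ := IsKInjective.eq_δ_of_cocycle
    (Lifting.cocycle₁ sq hsq (hπ := hπ) hQ (hι := hι) hK) (acyclic_cokernel f) 0 (by simp)
  haveI := Lifting.hasLift sq hsq (hπ := hπ) hQ (hι := hι) hK α hα
  exact ⟨sq.lift, sq.fac_left⟩

variable (I : CochainComplex A ℤ)
  (hext : ∀ {X Y : CochainComplex A ℤ} (f : X ⟶ Y) [Mono f] [QuasiIso f] (u : X ⟶ I),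
    ∃ v : Y ⟶ I, f ≫ v = u)

include hext in
lemma isKInjective_of_ext : I.IsKInjective where
  nonempty_homotopy_zero {K} f hK := by
    haveI : Mono (CochainComplex.mappingCone.inr (𝟙 K)) := by
      apply HomologicalComplex.mono_of_mono_f
      intro n
      exact mono_of_mono_fac
        (show (CochainComplex.mappingCone.inr (𝟙 K)).f n ≫
          (CochainComplex.mappingCone.snd (𝟙 K)).v n n (add_zero n) = 𝟙 _ by simp)
    haveI : QuasiIso (CochainComplex.mappingCone.inr (𝟙 K)) :=
      quasiIso_of_acyclic _ hK (Groth.Agent.Lib.Helper25.InjHullCx.acyclic_of_homotopy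
        (CochainComplex.mappingCone.homotopyToZeroOfId K))
    obtain ⟨v, hv⟩ := hext (CochainComplex.mappingCone.inr (𝟙 K)) f
    have h := ((CochainComplex.mappingCone.homotopyToZeroOfId K).compRight v).compLeft
      (CochainComplex.mappingCone.inr (𝟙 K))
    exact ⟨(Homotopy.ofEq (by rw [Category.id_comp, hv])).trans
      (h.trans (Homotopy.ofEq (by simp)))⟩

include hext in
lemma injective_X_of_ext (n : ℤ) : Injective (I.X n) where
  factors {S T} s a _ := by
    obtain ⟨v, hv⟩ := hext (diskMap n a) ((diskEquiv n S I).symm s)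
    refine ⟨diskEquiv n T I v, ?_⟩
    rw [← diskEquiv_diskMap_comp, hv, Equiv.apply_symm_apply]

/-- characterization of K-injective complexes with injective terms -/
theorem isKInjective_and_injective_iff :
    (I.IsKInjective ∧ ∀ n : ℤ, Injective (I.X n)) ↔
      ∀ (S : ShortComplex (CochainComplex A ℤ)), S.ShortExact → S.X₃.Acyclic →
        ∀ φ : S.X₁ ⟶ I, ∃ ψ : S.X₂ ⟶ I, S.f ≫ ψ = φ := by
  constructor
  · rintro ⟨h1, h2⟩ S hS hS3 φ
    haveI := hS.mono_f
    haveI : QuasiIso S.f := Groth.Agent.Lib.helper23.NQuasiIso.quasiIso_f_of_acyclic_X₃ hS hS3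
    exact exists_ext_of_isKInjective I S.f φ
  · intro H
    have hext : ∀ {X Y : CochainComplex A ℤ} (f : X ⟶ Y) [Mono f] [QuasiIso f] (u : X ⟶ I),
        ∃ v : Y ⟶ I, f ≫ v = u := fun f _ _ u =>
      H _ (shortExact_cokernel f) (acyclic_cokernel f) u
    exact ⟨isKInjective_of_ext I hext, injective_X_of_ext I hext⟩

end Groth.Agent.Lib.Helper25.KInjExt
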