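import Mathlib
import Groth.Prelude.Def_KFlatSite
import Groth.Agent.Lib.Helper21.FlatSES

/-!
# The functors `T^p(M) = H^p(M ⊗ E^•)` on a ringed site (helper25)

For a cochain complex `E` of `O`-modules on a ringed site:
* `TE O E : Mod O ⥤ CochainComplex (Mod O) ℤ`, `M ↦ M ⊗ E^•` (termwise), additive; `TFun O E p = TE O E ⋙ H^p`;
* `shortExact_map_TE`: for termwise flat `E` short exact sequences of modules give short exact sequences of complexes;
  `mono_of_epi`, `epi_of_mono`, `exact_mid`: consequences of the long exact sequence;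
* `preservesFiniteColimits_TFun_iff`, `preservesFiniteLimits_TFun_iff`,
  `preservesFiniteColimits_TFun_iff_preservesFiniteLimits_succ`: `T^p` right exact iff `T^{p+1}` left exact;
* `mono_homologyMap_of_mono_opcyclesMap`, `mono_opcyclesMap_of_mono_homologyMap` (general complexes);
* `opcIso : opcycles^{p+1}(M ⊗ E) ≅ M ⊗ coker(d^p)`, natural in `M`;
* `forall_mono_homologyMap_iff_isFlat`: `T^{p+1}` preserves monomorphisms iff `coker(d^p)` is flat.
-/

set_option autoImplicit false
universe u
open CategoryTheory Limits HomologicalComplex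

namespace Groth.Agent.Lib.Helper25.SiteTFun

open Groth.Agent.Lib.Helper21.TensorMon Groth.Agent.Lib.Helper21.TensorAdj
  Groth.Agent.Lib.Helper21.FlatSES

variable {C : Type u} [SmallCategory C] {J : GrothendieckTopology C} (O : Sheaf J CommRingCat.{u})
  (E : CochainComplex (ModSite.Mod O) ℤ)

/-- `M ↦ M ⊗ E^•` (termwise) -/
noncomputable def TE : ModSite.Mod O ⥤ CochainComplex (ModSite.Mod O) ℤ where
  obj M :=
    haveI := additive_tensL (O := O) M
    ((tensL O M).mapHomologicalComplex (ComplexShape.up ℤ)).obj E
  map {M M'} f :=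
    haveI := additive_tensL (O := O) M
    haveI := additive_tensL (O := O) M'
    (NatTrans.mapHomologicalComplex ((ModSite.tensorBi O).map f) (ComplexShape.up ℤ)).app E
  map_id M := by
    haveI := additive_tensL (O := O) M
    ext i
    simp
  map_comp {M M' M''} f g := by
    haveI := additive_tensL (O := O) M
    haveI := additive_tensL (O := O) M'
    haveI := additive_tensL (O := O) M''
    ext i
    simp

lemma TE_obj_X (M : ModSite.Mod O) (i : ℤ) : ((TE O E).obj M).X i = (tens O (E.X i)).obj M := rfl

lemma TE_map_f {M M' : ModSite.Mod O} (f : M ⟶ M') (i : ℤ) :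
    ((TE O E).map f).f i = (tens O (E.X i)).map f := rfl

lemma TE_obj_d (M : ModSite.Mod O) (i j : ℤ) :
    ((TE O E).obj M).d i j = (tensL O M).map (E.d i j) := rfl

instance : (TE O E).Additive where
  map_add {M M' f g} := by
    apply HomologicalComplex.hom_ext
    intro i
    rw [TE_map_f, HomologicalComplex.add_f_apply, TE_map_f, TE_map_f]
    haveI := additive_tens (O := O) (E.X i)
    exact (tens O (E.X i)).map_add

variable {O E}

/-- termwise flat complexes give short exact sequences of complexes -/
theorem shortExact_map_TE (hE : ∀ i : ℤ, ModSite.IsFlat (E.X i))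
    (S : ShortComplex (ModSite.Mod O)) (hS : S.ShortExact) : (S.map (TE O E)).ShortExact := by
  apply HomologicalComplex.shortExact_of_degreewise_shortExact
  intro i
  haveI := additive_tens (O := O) (E.X i)
  obtain ⟨h1, h2⟩ := hE i
  exact hS.map_of_exact (tens O (E.X i))

section LES

variable (hE : ∀ i : ℤ, ModSite.IsFlat (E.X i)) (S : ShortComplex (ModSite.Mod O))
  (hS : S.ShortExact) (p : ℤ)

include hE hS in
/-- if `T^p(g)` is epi then `T^{p+1}(f)` is mono -/
theorem mono_of_epi (h : Epi (homologyMap ((TE O E).map S.g) p)) :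
    Mono (homologyMap ((TE O E).map S.f) (p + 1)) := by
  have hSE := shortExact_map_TE hE S hS
  have hij : (ComplexShape.up ℤ).Rel p (p + 1) := rfl
  have hδ : hSE.δ p (p + 1) hij = 0 := by
    have h0 := hSE.comp_δ p (p + 1) hij
    exact (cancel_epi (homologyMap ((TE O E).map S.g) p)).1 (h0.trans comp_zero.symm)
  exact (hSE.homology_exact₁ p (p + 1) hij).mono_g hδ

include hE hS in
/-- if `T^{p+1}(f)` is mono then `T^p(g)` is epi -/
theorem epi_of_mono (h : Mono (homologyMap ((TE O E).map S.f) (p + 1))) :
    Epi (homologyMap ((TE O E).map S.g) p) := by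
  have hSE := shortExact_map_TE hE S hS
  have hij : (ComplexShape.up ℤ).Rel p (p + 1) := rfl
  have hδ : hSE.δ p (p + 1) hij = 0 := by
    have h0 := hSE.δ_comp p (p + 1) hij
    exact (cancel_mono (homologyMap ((TE O E).map S.f) (p + 1))).1 (h0.trans zero_comp.symm)
  exact (hSE.homology_exact₃ p (p + 1) hij).epi_f hδ

include hE hS in
/-- exactness in the middle -/
theorem exact_mid : (ShortComplex.mk (homologyMap ((TE O E).map S.f) p)
    (homologyMap ((TE O E).map S.g) p) (by
      rw [← homologyMap_comp, ← Functor.map_comp, S.zero, Functor.map_zero, homologyMap_zero])).Exact :=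
  (shortExact_map_TE hE S hS).homology_exact₂ p

end LES

section Exactness

variable (O E)

/-- the functor `M ↦ H^p(M ⊗ E^•)` -/
noncomputable abbrev TFun (p : ℤ) : ModSite.Mod O ⥤ ModSite.Mod O :=
  TE O E ⋙ HomologicalComplex.homologyFunctor (ModSite.Mod O) (ComplexShape.up ℤ) p

variable {O E}

lemma TFun_map {M M' : ModSite.Mod O} (f : M ⟶ M') (p : ℤ) :
    (TFun O E p).map f = homologyMap ((TE O E).map f) p := rfl

variable (hE : ∀ i : ℤ, ModSite.IsFlat (E.X i))

include hE in
theorem preservesFiniteColimits_TFun_iff (p : ℤ) :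
    PreservesFiniteColimits (TFun O E p) ↔
      ∀ S : ShortComplex (ModSite.Mod O), S.ShortExact → Epi (homologyMap ((TE O E).map S.g) p) := by
  rw [Functor.preservesFiniteColimits_iff_forall_exact_map_and_epi]
  constructor
  · intro h S hS
    exact (h S hS).2
  · intro h S hS
    exact ⟨exact_mid hE S hS p, h S hS⟩

include hE in
theorem preservesFiniteLimits_TFun_iff (p : ℤ) :
    PreservesFiniteLimits (TFun O E p) ↔
      ∀ S : ShortComplex (ModSite.Mod O), S.ShortExact → Mono (homologyMap ((TE O E).map S.f) p) := by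
  rw [Functor.preservesFiniteLimits_iff_forall_exact_map_and_mono]
  constructor
  · intro h S hS
    exact (h S hS).2
  · intro h S hS
    exact ⟨exact_mid hE S hS p, h S hS⟩

include hE in
/-- `T^p` is right exact iff `T^{p+1}` is left exact (termwise flat `E`) -/
theorem preservesFiniteColimits_TFun_iff_preservesFiniteLimits_succ (p : ℤ) :
    PreservesFiniteColimits (TFun O E p) ↔ PreservesFiniteLimits (TFun O E (p + 1)) := by
  rw [preservesFiniteColimits_TFun_iff hE, preservesFiniteLimits_TFun_iff hE]
  constructor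
  · intro h S hS
    exact mono_of_epi hE S hS p (h S hS)
  · intro h S hS
    exact epi_of_mono hE S hS p (h S hS)

end Exactness

section Opcycles

variable {𝒜 : Type*} [Category 𝒜] [Abelian 𝒜] {K L : CochainComplex 𝒜 ℤ} (φ : K ⟶ L)

lemma opcyclesMap_fromOpcycles (j k : ℤ) :
    opcyclesMap φ j ≫ L.fromOpcycles j k = K.fromOpcycles j k ≫ φ.f k := by
  rw [← cancel_epi (K.pOpcycles j), p_opcyclesMap_assoc, p_fromOpcycles, p_fromOpcycles_assoc,
    φ.comm]

/-- mono on opcycles implies mono on homology -/
lemma mono_homologyMap_of_mono_opcyclesMap (j : ℤ) [Mono (opcyclesMap φ j)] :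
    Mono (homologyMap φ j) := by
  have h := homologyι_naturality φ j
  haveI : Mono (homologyMap φ j ≫ L.homologyι j) := by rw [h]; infer_instance
  exact mono_of_mono (homologyMap φ j) (L.homologyι j)

/-- mono on homology and on the next term implies mono on opcycles -/
lemma mono_opcyclesMap_of_mono_homologyMap (j k : ℤ) (hjk : j + 1 = k) [Mono (homologyMap φ j)]
    [Mono (φ.f k)] : Mono (opcyclesMap φ j) := by
  rw [Preadditive.mono_iff_cancel_zero]
  intro Z g hg
  have h1 : g ≫ K.fromOpcycles j k = 0 := by
    rw [← cancel_mono (φ.f k), Category.assoc, ← opcyclesMap_fromOpcycles, reassoc_of% hg,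
      zero_comp, zero_comp]
  have hk : (ComplexShape.up ℤ).next j = k := by
    rw [CochainComplex.next]; exact hjk
  let l : Z ⟶ K.homology j := (K.homologyIsKernel j k hk).lift (KernelFork.ofι g h1)
  have hl : l ≫ K.homologyι j = g := (K.homologyIsKernel j k hk).fac (KernelFork.ofι g h1)
    WalkingParallelPair.zero
  have h2 : l ≫ homologyMap φ j = 0 := by
    rw [← cancel_mono (L.homologyι j), Category.assoc, homologyι_naturality, reassoc_of% hl, hg,
      zero_comp]
  have h3 : l = 0 := by
    rw [← cancel_mono (homologyMap φ j), h2, zero_comp]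
  rw [← hl, h3, zero_comp]

end Opcycles

section OpcyclesTE

variable (O E) (p : ℤ)

/-- the cokernel of the differential -/
noncomputable abbrev Ck : ModSite.Mod O := cokernel (E.d p (p + 1))

/-- `opcycles^{p+1}(M ⊗ E) ≅ M ⊗ coker(d^p)` -/
noncomputable def opcIso (M : ModSite.Mod O) :
    ((TE O E).obj M).opcycles (p + 1) ≅ (tensL O M).obj (Ck O E p) :=
  haveI := additive_tensL (O := O) M
  haveI := isLeftAdjoint_tensL O M
  (((TE O E).obj M).opcyclesIsCokernel p (p + 1) (by simp)).coconePointUniqueUpToIso
    (CokernelCofork.mapIsColimit _ (cokernelIsCokernel (E.d p (p + 1))) (tensL O M))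

lemma p_opcIso_hom (M : ModSite.Mod O) :
    ((TE O E).obj M).pOpcycles (p + 1) ≫ (opcIso O E p M).hom =
      (tensL O M).map (cokernel.π (E.d p (p + 1))) :=
  haveI := additive_tensL (O := O) M
  haveI := isLeftAdjoint_tensL O M
  IsColimit.comp_coconePointUniqueUpToIso_hom
    (((TE O E).obj M).opcyclesIsCokernel p (p + 1) (by simp))
    (CokernelCofork.mapIsColimit _ (cokernelIsCokernel (E.d p (p + 1))) (tensL O M))
    WalkingParallelPair.one

lemma opcIso_naturality {M' M : ModSite.Mod O} (f : M' ⟶ M) :
    opcyclesMap ((TE O E).map f) (p + 1) ≫ (opcIso O E p M).hom =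
      (opcIso O E p M').hom ≫ (tens O (Ck O E p)).map f := by
  rw [← cancel_epi (((TE O E).obj M').pOpcycles (p + 1)), p_opcyclesMap_assoc, p_opcIso_hom,
    reassoc_of% (p_opcIso_hom O E p M')]
  exact (((ModSite.tensorBi O).map f).naturality (cokernel.π (E.d p (p + 1)))).symm

variable {O E}

lemma mono_opcyclesMap_iff {M' M : ModSite.Mod O} (f : M' ⟶ M) :
    Mono (opcyclesMap ((TE O E).map f) (p + 1)) ↔ Mono ((tens O (Ck O E p)).map f) := by
  have h := opcIso_naturality O E p f
  constructor
  · intro _
    have e : (tens O (Ck O E p)).map f = (opcIso O E p M').inv ≫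
        opcyclesMap ((TE O E).map f) (p + 1) ≫ (opcIso O E p M).hom := by
      rw [h, Iso.inv_hom_id_assoc]
    rw [e]
    infer_instance
  · intro _
    have e : opcyclesMap ((TE O E).map f) (p + 1) = (opcIso O E p M').hom ≫
        (tens O (Ck O E p)).map f ≫ (opcIso O E p M).inv := by
      rw [← reassoc_of% h, Iso.hom_inv_id, Category.comp_id]
    rw [e]
    infer_instance

/-- **`T^{p+1}` preserves monomorphisms iff `coker(d^p)` is flat** (when `E^{p+2}` is flat). -/
theorem forall_mono_homologyMap_iff_isFlat (hE : ModSite.IsFlat (E.X (p + 2))) :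
    (∀ S : ShortComplex (ModSite.Mod O), S.ShortExact →
      Mono (homologyMap ((TE O E).map S.f) (p + 1))) ↔ ModSite.IsFlat (Ck O E p) := by
  constructor
  · intro h
    refine isFlat_of_mono _ (fun {M' M} f _ => ?_)
    rw [← mono_opcyclesMap_iff]
    let S : ShortComplex (ModSite.Mod O) := ShortComplex.mk f (cokernel.π f) (cokernel.condition f)
    have hS : S.ShortExact := { exact := ShortComplex.exact_cokernel f }
    have h1 : Mono (homologyMap ((TE O E).map S.f) (p + 1)) := h S hS
    haveI : Mono (homologyMap ((TE O E).map f) (p + 1)) := h1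
    haveI : Mono (((TE O E).map f).f (p + 2)) := by
      rw [TE_map_f]
      exact mono_tens_of_isFlat (E.X (p + 2)) hE f
    exact mono_opcyclesMap_of_mono_homologyMap ((TE O E).map f) (p + 1) (p + 2) (by ring)
  · intro h S hS
    haveI := hS.mono_f
    haveI : Mono (opcyclesMap ((TE O E).map S.f) (p + 1)) :=
      (mono_opcyclesMap_iff p S.f).2 (mono_tens_of_isFlat (Ck O E p) h S.f)
    exact mono_homologyMap_of_mono_opcyclesMap ((TE O E).map S.f) (p + 1)

end OpcyclesTE

end Groth.Agent.Lib.Helper25.SiteTFun
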