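import Mathlib
import Groth.Prelude.Def_KFlatSite
import Groth.Agent.Lib.Helper25.SiteTFun
import Groth.Agent.Lib.Helper25.TotSingle
import Groth.Agent.Lib.Helper25.SiteLTensor

/-!
# `M ↦ H^p(M ⊗^L E)` versus `M ↦ H^p(M ⊗ E^•)` on a ringed site (helper25)

* `sgIso O E M : M ⊗ E^• ≅ Tot(M[0] ⊗ E)`, natural in `M` (`sgIso_naturality`, `sgNatIso`);
* `εIso hEK : Q ⋙ LTensorCx E ≅ tensorCxQ E` for K-flat `E`;
* `TIso hEK p : singleFunctor 0 ⋙ LTensorCx E ⋙ H^p ≅ TFun O E p` for K-flat `E`.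
-/

set_option autoImplicit false
universe u
open CategoryTheory Limits HomologicalComplex

attribute [local instance] HasDerivedCategory.standard

namespace Groth.Agent.Lib.Helper25.SiteTFun2

open Groth.Agent.Lib.Helper21.TensorMon Groth.Agent.Lib.Helper21.TensorAdj
  Groth.Agent.Lib.Helper21.FlatSES Groth.Agent.Lib.Helper25.TotSingle Groth.Agent.Lib.Helper25.SiteTFun

variable {C : Type u} [SmallCategory C] {J : GrothendieckTopology C} (O : Sheaf J CommRingCat.{u})
  (E : CochainComplex (ModSite.Mod O) ℤ)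

/-- the complex `M[0]` -/
noncomputable abbrev sg (M : ModSite.Mod O) : CochainComplex (ModSite.Mod O) ℤ :=
  (CochainComplex.singleFunctor (ModSite.Mod O) 0).obj M

lemma sg_isZero (M : ModSite.Mod O) (p : ℤ) (hp : p ≠ 0) : IsZero ((sg O M).X p) :=
  HomologicalComplex.isZero_single_obj_X (ComplexShape.up ℤ) 0 M p hp

/-- `M[0]⁰ ≅ M` -/
noncomputable def sgX (M : ModSite.Mod O) : (sg O M).X 0 ≅ M :=
  HomologicalComplex.singleObjXSelf (ComplexShape.up ℤ) 0 M

lemma sgX_naturality {M M' : ModSite.Mod O} (f : M ⟶ M') :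
    (sgX O M).inv ≫ ((CochainComplex.singleFunctor (ModSite.Mod O) 0).map f).f 0 =
      f ≫ (sgX O M').inv := by
  have h := HomologicalComplex.single_map_f_self (ComplexShape.up ℤ) 0 f
  have h' : ((CochainComplex.singleFunctor (ModSite.Mod O) 0).map f).f 0 =
      (sgX O M).hom ≫ f ≫ (sgX O M').inv := h
  rw [h', Iso.inv_hom_id_assoc]

/-- `M ⊗ E^• ≅ Tot(M[0] ⊗ E)` -/
noncomputable def sgIso (M : ModSite.Mod O) :
    (TE O E).obj M ≅ ((ModSite.tensorCx O).obj (sg O M)).obj E :=
  haveI := additive_tensL (O := O) M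
  haveI := additive_tensL (O := O) ((sg O M).X 0)
  (NatIso.mapHomologicalComplex ((ModSite.tensorBi O).mapIso (sgX O M).symm)
      (ComplexShape.up ℤ)).app E ≪≫
    totIso (ModSite.tensorBi O) (sg O M) (sg_isZero O M) E

lemma sgIso_hom_f (M : ModSite.Mod O) (n : ℤ) :
    (sgIso O E M).hom.f n =
      ((ModSite.tensorBi O).map (sgX O M).inv).app (E.X n) ≫
        ιMapBifunctor (sg O M) E (ModSite.tensorBi O) (ComplexShape.up ℤ) 0 n n (zero_add n) := rfl

lemma sgIso_naturality {M M' : ModSite.Mod O} (f : M ⟶ M') :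
    (TE O E).map f ≫ (sgIso O E M').hom =
      (sgIso O E M).hom ≫ (((ModSite.tensorCx O).map
        ((CochainComplex.singleFunctor (ModSite.Mod O) 0).map f)).app E) := by
  apply HomologicalComplex.hom_ext
  intro n
  rw [comp_f, comp_f, sgIso_hom_f, sgIso_hom_f]
  have key := ι_mapBifunctorMap ((CochainComplex.singleFunctor (ModSite.Mod O) 0).map f) (𝟙 E)
    (ModSite.tensorBi O) (ComplexShape.up ℤ) 0 n n (zero_add n)
  have e1 : ((ModSite.tensorBi O).obj ((sg O M').X 0)).map ((𝟙 E : E ⟶ E).f n) = 𝟙 _ :=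
    ((ModSite.tensorBi O).obj ((sg O M').X 0)).map_id (E.X n)
  have e2 : ((ModSite.tensorBi O).map (sgX O M).inv).app (E.X n) ≫
      ((ModSite.tensorBi O).map
        (((CochainComplex.singleFunctor (ModSite.Mod O) 0).map f).f 0)).app (E.X n) =
      ((ModSite.tensorBi O).map f).app (E.X n) ≫
        ((ModSite.tensorBi O).map (sgX O M').inv).app (E.X n) := by
    rw [← NatTrans.comp_app, ← Functor.map_comp, sgX_naturality, Functor.map_comp,
      NatTrans.comp_app]
  have e3 : ((TE O E).map f).f n = ((ModSite.tensorBi O).map f).app (E.X n) := rfl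
  rw [e3]
  refine Eq.trans ?_ (Category.assoc _ _ _).symm
  refine Eq.trans ?_ (congrArg (fun t => _ ≫ t) key.symm)
  rw [e1, Category.id_comp]
  exact ((Category.assoc _ _ _).symm.trans (congrArg (fun t => t ≫ _) e2.symm)).trans
    (Category.assoc _ _ _)

/-- `M ↦ M ⊗ E^•` is `M ↦ Tot(M[0] ⊗ E)` -/
noncomputable def sgNatIso :
    TE O E ≅ CochainComplex.singleFunctor (ModSite.Mod O) 0 ⋙ (ModSite.tensorCx O).flip.obj E :=
  NatIso.ofComponents (fun M => sgIso O E M) (fun f => sgIso_naturality O E f)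

variable {O E}

/-- for K-flat `E`, the counit of `- ⊗^L E` is an isomorphism -/
noncomputable def εIso (hEK : ModSite.IsKFlat E) [ModSite.HasLTensorCx E] :
    DerivedCategory.Q ⋙ ModSite.LTensorCx E ≅ ModSite.tensorCxQ E :=
  @asIso _ _ _ _ ((ModSite.tensorCxQ E).totalLeftDerivedCounit DerivedCategory.Q
      (HomologicalComplex.quasiIso (ModSite.Mod O) (ComplexShape.up ℤ)))
    (Functor.isIso_of_isLeftDerivedFunctor_of_inverts (ModSite.LTensorCx E) _
      (Groth.Agent.Lib.Helper25.SiteLTensor.isInvertedBy_tensorCxQ O E hEK))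

/-- **`M ↦ H^p(M ⊗^L E)` is `M ↦ H^p(M ⊗ E^•)` for K-flat `E`.** -/
noncomputable def TIso (hEK : ModSite.IsKFlat E) [ModSite.HasLTensorCx E] (p : ℤ) :
    DerivedCategory.singleFunctor (ModSite.Mod O) 0 ⋙ ModSite.LTensorCx E ⋙
      DerivedCategory.homologyFunctor (ModSite.Mod O) p ≅ TFun O E p :=
  Functor.isoWhiskerRight (DerivedCategory.singleFunctorIsoCompQ (ModSite.Mod O) 0) _ ≪≫
    Functor.associator _ _ _ ≪≫
    Functor.isoWhiskerLeft (CochainComplex.singleFunctor (ModSite.Mod O) 0)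
      ((Functor.associator _ _ _).symm ≪≫
        Functor.isoWhiskerRight (εIso hEK) (DerivedCategory.homologyFunctor (ModSite.Mod O) p) ≪≫
        Functor.associator _ _ _ ≪≫
        Functor.isoWhiskerLeft ((ModSite.tensorCx O).flip.obj E)
          (DerivedCategory.homologyFunctorFactors (ModSite.Mod O) p)) ≪≫
    (Functor.associator _ _ _).symm ≪≫
    Functor.isoWhiskerRight (sgNatIso O E).symm
      (HomologicalComplex.homologyFunctor (ModSite.Mod O) (ComplexShape.up ℤ) p)

end Groth.Agent.Lib.Helper25.SiteTFun2
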