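import Mathlib
import Groth.Agent.Lib.Helper2.BifunctorCone
import Groth.Agent.Lib.Helper13.LTensorQCoh
import Groth.Agent.Lib.Helper13.KRes5
import Groth.Agent.Lib.Helper13.KRes8
import Groth.Agent.Lib.Helper25.FMRegular
import Groth.Agent.Lib.Helper25.RpushAcyc
import Groth.Agent.Lib.Helper25.RpushPCUnbdd
import Groth.Agent.Lib.Helper25.RGZ5
import Groth.Agent.S1103
import Groth.Agent.Lib.Helper25.DQCohTri

/-!
# Amplitude of the tensor product of bounded above complexes on a scheme (helper25)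
-/

set_option autoImplicit false
universe u
open CategoryTheory CategoryTheory.Limits AlgebraicGeometry HomologicalComplex
attribute [local instance] HasDerivedCategory.standard

namespace Groth.Agent.Lib.Helper25.TensorCxAmp

open Groth.Agent.Lib.helper2.BifunctorExact Groth.Agent.Lib.helper13.KFlat
  Groth.Agent.Lib.helper13.KRes Groth.Agent.Lib.helper13.LTensorQCoh

variable {X : Scheme.{u}}

lemma Ψ_obj (K P : CochainComplex X.Modules ℤ) :
    (Ψ (DCoh.tensorBi (X := X)) K).obj P = (DCoh.tensorCx.obj P).obj K := rfl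

lemma Ψ_map (K : CochainComplex X.Modules ℤ) {P P' : CochainComplex X.Modules ℤ} (φ : P ⟶ P') :
    (Ψ (DCoh.tensorBi (X := X)) K).map φ = (DCoh.tensorCx.map φ).app K := rfl

/-- for K-flat `K₂`, `- ⊗ K₂` preserves quasi-isomorphisms -/
lemma quasiIso_tensor_right (K₂ : CochainComplex X.Modules ℤ) (hK : DCoh.IsKFlat K₂)
    {P P' : CochainComplex X.Modules ℤ} (φ : P ⟶ P') [QuasiIso φ] :
    QuasiIso ((DCoh.tensorCx.map φ).app K₂) := by
  have := quasiIso_Ψ_map (DCoh.tensorBi (X := X)) K₂ (fun L hL => ?_) φ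
  · exact this
  · intro i
    rw [exactAt_iff_isZero_homology]
    exact hK L (fun j => (exactAt_iff_isZero_homology _ _).1 (hL j)) i

/-- amplitude of the tensor product -/
theorem isZero_homology_tensorCx (P K : CochainComplex X.Modules ℤ) (hP : DCoh.IsKFlat P) (a b : ℤ)
    [P.IsLE a] [K.IsLE b] (n : ℤ) (hn : a + b < n) :
    IsZero (((DCoh.tensorCx.obj P).obj K).homology n) := by
  obtain ⟨K₂, α, hK₂le, hK₂fl, hα⟩ : ∃ (K₂ : CochainComplex X.Modules ℤ) (α : K₂ ⟶ K.truncLE b),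
      K₂.IsStrictlyLE b ∧ (∀ n, FlatMod.IsFlat (K₂.X n)) ∧ QuasiIso α := by
    haveI hst : (K.truncLE b).IsStrictlyLE b := inferInstance
    obtain ⟨K₂, α, hK₂le, hK₂fl, -, hα⟩ :=
      @exists_flat_resolution _ _ _ _ (flatClass_isFlat (O := X.sheaf)) (K.truncLE b) b hst
    exact ⟨K₂, α, hK₂le, fun n => flatMod_of_isFlat _ (hK₂fl n), hα⟩
  have hK₂ : DCoh.IsKFlat K₂ := dcoh_isKFlat_of_bounded_above K₂ b
    (fun q hq => K₂.isZero_of_isStrictlyLE b q hq) hK₂fl
  haveI : QuasiIso α := hα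
  haveI : QuasiIso (K.ιTruncLE b) := inferInstance
  haveI : QuasiIso (α ≫ K.ιTruncLE b) := inferInstance
  haveI q1 : QuasiIso ((DCoh.tensorCx.obj P).map (α ≫ K.ιTruncLE b)) := quasiIso_tensor_left P hP _
  haveI q2 : QuasiIso ((DCoh.tensorCx.map (P.ιTruncLE a)).app K₂) := quasiIso_tensor_right K₂ hK₂ _
  have hz : IsZero (((DCoh.tensorCx.obj (P.truncLE a)).obj K₂).X n) :=
    Groth.Agent.Lib.Helper25.FMRegular.isZero_tensorCx_X _ K₂ n (fun i j hij => by
      by_cases hi : a < i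
      · exact Or.inl ((P.truncLE a).isZero_of_isStrictlyLE a i hi)
      · exact Or.inr (K₂.isZero_of_isStrictlyLE b j (by omega)))
  have hz' := Groth.Agent.Lib.Helper25.FMRegular.isZero_homology_of_isZero_X _ n hz
  have hz2 : IsZero (((DCoh.tensorCx.obj P).obj K₂).homology n) :=
    hz'.of_iso (asIso (homologyMap ((DCoh.tensorCx.map (P.ιTruncLE a)).app K₂) n)).symm
  exact hz2.of_iso (asIso (homologyMap ((DCoh.tensorCx.obj P).map (α ≫ K.ιTruncLE b)) n)).symm

open Groth.Agent.Lib.Helper25.LpullAdapted Groth.Agent.Lib.Helper25.LTensorComp DerivedCategory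
  Pretriangulated

/-- a morphism of `D(O_X)` is represented by a morphism of K-flat complexes with flat terms -/
lemma exists_P₀_rep_hom {P E : DCoh.D X} (α : P ⟶ E) :
    ∃ (P₁ P₂ : CochainComplex X.Modules ℤ) (φ : P₁ ⟶ P₂), P₀ X P₁ ∧ P₀ X P₂ ∧
      ∃ (e₁ : Q.obj P₁ ≅ P) (e₂ : Q.obj P₂ ≅ E), Q.map φ ≫ e₂.hom = e₁.hom ≫ α := by
  let iP : Q.obj (Q.objPreimage P) ≅ P := Q.objObjPreimageIso P
  let iE : Q.obj (Q.objPreimage E) ≅ E := Q.objObjPreimageIso E
  obtain ⟨P'', s, hs, g, fac⟩ := DerivedCategory.right_fac (iP.hom ≫ α ≫ iE.inv)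
  obtain ⟨P₁, r, hP₁, hr⟩ := hres₀ P''
  obtain ⟨P₂, j, c, hK, hc, hjc, hfl⟩ := dcoh_exists_kFlat_factorization (r ≫ g) hP₁.1
  haveI : IsIso (Q.map r) := (DerivedCategory.isIso_Q_map_iff_quasiIso _ r).2 hr
  haveI : IsIso (Q.map c) := (DerivedCategory.isIso_Q_map_iff_quasiIso _ c).2 hc
  haveI : IsIso (Q.map s) := hs
  refine ⟨P₁, P₂, j, hP₁, ⟨hK, hfl hP₁.2⟩, asIso (Q.map r) ≪≫ asIso (Q.map s) ≪≫ iP,
    asIso (Q.map c) ≪≫ iE, ?_⟩
  have h1 : Q.map s ≫ iP.hom ≫ α = Q.map g ≫ iE.hom := by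
    have := congrArg (fun t => Q.map s ≫ t ≫ iE.hom) fac
    simpa using this
  simp only [Iso.trans_hom, asIso_hom, Category.assoc]
  rw [← Q.map_comp_assoc, hjc, Q.map_comp_assoc, h1]

/-- the tensored mapping cone sequence gives a distinguished triangle -/
theorem exists_distinguished_tensor (K : CochainComplex X.Modules ℤ) [DCoh.HasLTensorCx K]
    {P₁ P₂ : CochainComplex X.Modules ℤ} (φ : P₁ ⟶ P₂) (h₁ : P₀ X P₁) (h₂ : P₀ X P₂) :
    ∃ T : Triangle (DCoh.D X), T ∈ distTriang (DCoh.D X) ∧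
      Nonempty (T.obj₁ ≅ (DCoh.LTensorCx K).obj (Q.obj P₂)) ∧
      Nonempty (T.obj₂ ≅ (DCoh.LTensorCx K).obj (Q.obj (CochainComplex.mappingCone φ))) ∧
      Nonempty (T.obj₃ ≅ (DCoh.LTensorCx K).obj (Q.obj (P₁⟦(1 : ℤ)⟧))) := by
  have hS := shortExact_map_Ψ (DCoh.tensorBi (X := X)) K
    (CochainComplex.mappingCone.triangleRotateShortComplex φ)
    (CochainComplex.mappingCone.triangleRotateShortComplexSplitting φ)
  haveI := isIso_ε_app K P₂ h₂.1
  haveI := isIso_ε_app K _ (hcone φ h₁ h₂).1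
  haveI := isIso_ε_app K _ (hshift P₁ 1 h₁).1
  exact ⟨DerivedCategory.triangleOfSES hS, DerivedCategory.triangleOfSES_distinguished hS,
    ⟨(asIso ((ε K).app P₂)).symm⟩, ⟨(asIso ((ε K).app (CochainComplex.mappingCone φ))).symm⟩,
    ⟨(asIso ((ε K).app (P₁⟦(1 : ℤ)⟧))).symm⟩⟩

open Groth.Agent.Lib.helper25.DCohPC Groth.Agent.Lib.helper25.DCohPC3 Groth.Agent.Lib.helper25.DCohPC4 in
/-- **S1119** -/
theorem main (A : Type u) [CommRing A] (X : Scheme.{u}) [CompactSpace ↥X] [QuasiSeparatedSpace ↥X]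
    (π : X ⟶ Spec (CommRingCat.of A)) [DCoh.HasRpush π]
    (K : CochainComplex X.Modules ℤ) (hK : DCoh.IsQCohD (DCoh.toD X K)) (b : ℤ)
    [(DCoh.toD X K).IsLE b] [DCoh.HasLTensorCx K]
    (h : ∀ E : DCoh.D X, DCoh.IsPerfect E → ∀ m : ℤ,
      DCoh.IsPseudoCoherentD m ((DCoh.Rpush π).obj ((DCoh.LTensorCx K).obj E)))
    (E : DCoh.D X) (hE : ∀ m : ℤ, DCoh.IsPseudoCoherentD m E) (m : ℤ) :
    DCoh.IsPseudoCoherentD m ((DCoh.Rpush π).obj ((DCoh.LTensorCx K).obj E)) := by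
  have hEq := Groth.Agent.Lib.Helper25.RpushPCUnbdd.isQCohD_of_isPseudoCoherentD E hE
  obtain ⟨N, hN⟩ := Groth.Agent.Lib.Helper25.RpushAcyc.uniform_bound' π
  obtain ⟨r, hr⟩ := Groth.Agent.S1103.result X Set.univ isClosed_univ (by simp)
  obtain ⟨P, α, hP, -, hiso, hepi⟩ := hr (m - N - b) E hEq (hE _) (fun i _ => Set.subset_univ _)
  obtain ⟨P₁, P₂, φ, hP₁, hP₂, e₁, e₂, comm⟩ := exists_P₀_rep_hom α
  obtain ⟨T, hT, ⟨t₁⟩, ⟨t₂⟩, ⟨t₃⟩⟩ := exists_distinguished_tensor K φ hP₁ hP₂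
  obtain ⟨c, hT'⟩ := Groth.Agent.Lib.Helper25.RGZ5.exists_distinguished_Rpush π T hT
  have hTφ := DerivedCategory.mappingCone_triangle_distinguished φ
  have hφ : Q.map φ = e₁.hom ≫ α ≫ e₂.inv := by
    rw [← Category.assoc, ← comm, Category.assoc, Iso.hom_inv_id, Category.comp_id]
  have hiso' : ∀ j, m - N - b < j → IsIso ((DerivedCategory.homologyFunctor X.Modules j).map (Q.map φ)) := by
    intro j hj
    rw [hφ]
    haveI := hiso j hj
    simp only [Functor.map_comp]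
    infer_instance
  have hepi' : Epi ((DerivedCategory.homologyFunctor X.Modules (m - N - b)).map (Q.map φ)) := by
    rw [hφ]
    simp only [Functor.map_comp]
    haveI := hepi
    infer_instance
  have hC : ∀ j, m - N - b ≤ j →
      IsZero ((DerivedCategory.homologyFunctor X.Modules j).obj (Q.obj (CochainComplex.mappingCone φ))) := by
    intro j hj
    refine Groth.Agent.H1.SingleVanish.isZero_homology_obj₃ _ hTφ j ?_ ?_
    · rcases hj.eq_or_lt with rfl | hlt
      · exact hepi'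
      · haveI := hiso' j hlt
        change Epi ((DerivedCategory.homologyFunctor X.Modules j).map (Q.map φ))
        infer_instance
    · haveI := hiso' (j + 1) (by omega)
      change Mono ((DerivedCategory.homologyFunctor X.Modules (j + 1)).map (Q.map φ))
      infer_instance
  haveI hCle : (CochainComplex.mappingCone φ).IsLE (m - N - b - 1) := by
    rw [CochainComplex.isLE_iff]
    intro i hi
    rw [exactAt_iff_isZero_homology]
    exact (hC i (by omega)).of_iso ((DerivedCategory.homologyFunctorFactors X.Modules i).app _).symm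
  haveI hKle : K.IsLE b := (DerivedCategory.isLE_Q_obj_iff K b).1 ‹_›
  have hle : ((DCoh.LTensorCx K).obj (Q.obj (CochainComplex.mappingCone φ))).IsLE (m - N - b - 1 + b) := by
    haveI := isIso_ε_app K _ (hcone φ hP₁ hP₂).1
    rw [DerivedCategory.isLE_iff]
    intro j hj
    exact (isZero_homology_tensorCx _ K (hcone φ hP₁ hP₂).1 (m - N - b - 1) b j hj).of_iso
      ((DerivedCategory.homologyFunctor _ j).mapIso (asIso ((ε K).app _)) ≪≫
        (DerivedCategory.homologyFunctorFactors X.Modules j).app _)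
  have hP₁q : DCoh.IsQCohD (Q.obj P₁) := Groth.Agent.Lib.Helper25.LiftCover.isQCohD_of_iso e₁.symm
    (Groth.Agent.Lib.Helper25.RpushPCUnbdd.isQCohD_of_isPseudoCoherentD P
      (fun k => Groth.Agent.Lib.helper25.PerfectTor.isPseudoCoherentD_of_isPerfect hP k))
  have hP₂q : DCoh.IsQCohD (Q.obj P₂) := Groth.Agent.Lib.Helper25.LiftCover.isQCohD_of_iso e₂.symm hEq
  have hCq : DCoh.IsQCohD (Q.obj (CochainComplex.mappingCone φ)) :=
    (DCoh.IsQCohD (X := X)).ext_of_isTriangulatedClosed₃ _ hTφ hP₁q hP₂q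
  have hq : DCoh.IsQCohD ((DCoh.LTensorCx K).obj (Q.obj (CochainComplex.mappingCone φ))) :=
    Groth.Agent.Lib.helper13.LTensorQCoh.main K hK _ hCq
  have hz : ∀ k, m ≤ k → IsZero ((DerivedCategory.homologyFunctor _ k).obj ((DCoh.Rpush π).obj
      ((DCoh.LTensorCx K).obj (Q.obj (CochainComplex.mappingCone φ))))) :=
    fun k hk => hN _ hq (m - N - b - 1 + b) hle k (by omega)
  have h2 : DCoh.IsPseudoCoherentD m ((DCoh.Rpush π).obj T.obj₂) :=
    isPseudoCoherentD_of_iso ((DCoh.Rpush π).mapIso t₂.symm)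
      (isPseudoCoherentD_of_pcData_global (pcData_of_isZero_homology hz))
  have hperf : DCoh.IsPerfect (Q.obj (P₁⟦(1 : ℤ)⟧)) :=
    Groth.Agent.Lib.helper25.DCohPerfect.isPerfect_of_iso
      ((shiftFunctor _ (1 : ℤ)).mapIso e₁.symm ≪≫ ((Q.commShiftIso (1 : ℤ)).app P₁).symm)
      (Groth.Agent.Lib.helper25.DCohPerfect.isPerfect_shift hP 1)
  have h3 : DCoh.IsPseudoCoherentD (m - 1) ((DCoh.Rpush π).obj T.obj₃) :=
    isPseudoCoherentD_of_iso ((DCoh.Rpush π).mapIso t₃.symm) (h _ hperf (m - 1))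
  have h1 := (isPseudoCoherentD_triangle (m - 1) _ hT').2.2 (by simpa using h2) h3
  exact isPseudoCoherentD_of_iso ((DCoh.Rpush π).mapIso (t₁ ≪≫ (DCoh.LTensorCx K).mapIso e₂))
    (by simpa using h1)

end Groth.Agent.Lib.Helper25.TensorCxAmp
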