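import Mathlib
import Groth.Agent.Lib.Helper25.SiteTFun2
import Groth.Agent.Lib.Helper25.TensorCxAmp
import Groth.Agent.Lib.Helper25.IsoAbove
import Groth.Agent.Lib.Helper25.LpullAdapted

/-!
# Comparison of the functors `M ↦ H^q(M ⊗ A^•)` along maps of complexes which are isomorphisms in high degrees (helper25)

On a scheme `X` (ringed site `X.sheaf`), for complexes `A`, `B` of `O_X`-modules:
* `TEmap g : TE A ⟶ TE B` for a chain map `g : A ⟶ B` (naturality in the module variable);
* `isZero_homology_TE`: for K-flat `C` with `H^i(C) = 0` for `i > b`, `H^i(M ⊗ C^•) = 0` for `i > b`;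
* `isoAbove_TEmap`: if `A`, `B` are K-flat and `Q g` is an iso on `H^i`, `i > m`, and epi on `H^m`, then so is
  `M ⊗ A^• ⟶ M ⊗ B^•` for every module `M`;
* `mono_homologyMap_iff`: hence `H^q(M' ⊗ A) ⟶ H^q(M ⊗ A)` is mono iff `H^q(M' ⊗ B) ⟶ H^q(M ⊗ B)` is, `q > m`.
-/

set_option autoImplicit false
universe u
open CategoryTheory CategoryTheory.Limits AlgebraicGeometry HomologicalComplex
attribute [local instance] HasDerivedCategory.standard

namespace Groth.Agent.Lib.Helper25.KSixA

open Groth.Agent.Lib.Helper21.TensorMon Groth.Agent.Lib.Helper21.TensorAdj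
  Groth.Agent.Lib.Helper21.FlatSES Groth.Agent.Lib.Helper25.SiteTFun Groth.Agent.Lib.Helper25.SiteTFun2
  Groth.Agent.Lib.helper25.IsoAbove

/-- the structure sheaf as a sheaf of commutative rings on the site of opens -/
abbrev OX (X : Scheme.{u}) : Sheaf (Opens.grothendieckTopology X) CommRingCat.{u} := X.sheaf

variable {X : Scheme.{u}}

section Site

variable {C₀ : Type u} [SmallCategory C₀] {J : GrothendieckTopology C₀} {O : Sheaf J CommRingCat.{u}}

/-- `M ⊗ A^• ⟶ M ⊗ B^•` induced by a chain map -/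
noncomputable def TEmap {A B : CochainComplex (ModSite.Mod O) ℤ} (g : A ⟶ B) :
    TE O A ⟶ TE O B where
  app M :=
    haveI := additive_tensL (O := O) M
    ((tensL O M).mapHomologicalComplex (ComplexShape.up ℤ)).map g
  naturality M M' f := by
    haveI := additive_tensL (O := O) M
    haveI := additive_tensL (O := O) M'
    apply HomologicalComplex.hom_ext
    intro i
    exact (((ModSite.tensorBi O).map f).naturality (g.f i)).symm

/-- `M ⊗ cone(g) ≅ cone(M ⊗ g)` -/
noncomputable def coneIso {A B : CochainComplex (ModSite.Mod O) ℤ} (g : A ⟶ B) (M : ModSite.Mod O) :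
    CochainComplex.mappingCone ((TEmap g).app M) ≅ (TE O (CochainComplex.mappingCone g)).obj M :=
  haveI := additive_tensL (O := O) M
  (CochainComplex.mappingCone.mapHomologicalComplexIso g (tensL O M)).symm

end Site

/-- vanishing of `H^n(M ⊗ C^•)` above the amplitude of a K-flat complex -/
theorem isZero_homology_TE (C : CochainComplex X.Modules ℤ) (hC : DCoh.IsKFlat C) (b : ℤ)
    [C.IsLE b] (M : X.Modules) (n : ℤ) (hn : b < n) :
    IsZero (((TE (OX X) C).obj M).homology n) := by
  refine IsZero.of_iso ?_ ((HomologicalComplex.homologyFunctor _ _ n).mapIso (sgIso (OX X) C M))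
  change IsZero (((DCoh.tensorCx.obj (sg (OX X) M)).obj C).homology n)
  obtain ⟨K₂, α, hK₂le, hK₂fl, hα⟩ : ∃ (K₂ : CochainComplex X.Modules ℤ) (α : K₂ ⟶ C.truncLE b),
      K₂.IsStrictlyLE b ∧ (∀ n, FlatMod.IsFlat (K₂.X n)) ∧ QuasiIso α := by
    haveI hst : (C.truncLE b).IsStrictlyLE b := inferInstance
    obtain ⟨K₂, α, hK₂le, hK₂fl, -, hα⟩ :=
      @Groth.Agent.Lib.helper13.KRes.exists_flat_resolution _ _ _ _
        (Groth.Agent.Lib.helper13.KRes.flatClass_isFlat (O := (OX X))) (C.truncLE b) b hst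
    exact ⟨K₂, α, hK₂le, fun n => Groth.Agent.Lib.helper13.KRes.flatMod_of_isFlat _ (hK₂fl n), hα⟩
  have hK₂ : DCoh.IsKFlat K₂ := Groth.Agent.Lib.helper13.KFlat.dcoh_isKFlat_of_bounded_above K₂ b
    (fun q hq => K₂.isZero_of_isStrictlyLE b q hq) hK₂fl
  haveI : QuasiIso α := hα
  haveI : QuasiIso (C.ιTruncLE b) := inferInstance
  haveI : QuasiIso (α ≫ C.ιTruncLE b) := inferInstance
  haveI q1 : QuasiIso ((DCoh.tensorCx.obj (sg (OX X) M)).map (α ≫ C.ιTruncLE b)) :=
    Groth.Agent.Lib.helper13.KFlat.dcoh_quasiIso_tensor_of_isKFlat hK₂ hC _ _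
  have hz : IsZero (((DCoh.tensorCx.obj (sg (OX X) M)).obj K₂).X n) :=
    Groth.Agent.Lib.Helper25.FMRegular.isZero_tensorCx_X _ K₂ n (fun i j hij => by
      by_cases hi : i = 0
      · exact Or.inr (K₂.isZero_of_isStrictlyLE b j (by omega))
      · exact Or.inl (sg_isZero (OX X) M i hi))
  have hz' := Groth.Agent.Lib.Helper25.FMRegular.isZero_homology_of_isZero_X _ n hz
  exact hz'.of_iso (asIso (homologyMap ((DCoh.tensorCx.obj (sg (OX X) M)).map
    (α ≫ C.ιTruncLE b)) n)).symm

/-- `M ⊗ -` (termwise) preserves "iso on `H^i` for `i > m`, epi on `H^m`" between K-flat complexes -/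
theorem isoAbove_TEmap {A B : CochainComplex X.Modules ℤ} (g : A ⟶ B) (hA : DCoh.IsKFlat A)
    (hB : DCoh.IsKFlat B) (m : ℤ) (hg : IsoAbove m (DerivedCategory.Q.map g)) (M : X.Modules) :
    IsoAbove m (DerivedCategory.Q.map ((TEmap (O := OX X) g).app M)) := by
  set C := CochainComplex.mappingCone g with hCdef
  have hC : DCoh.IsKFlat C := Groth.Agent.Lib.Helper25.KFlatTri.dcoh_isKFlat_mappingCone g hA hB
  have hCh : ∀ i : ℤ, m ≤ i → IsZero (C.homology i) := by
    intro i hi
    have hT := DerivedCategory.mappingCone_triangle_distinguished g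
    have h1 := (isoAbove_iff_cone _ hT m).1 hg i hi
    exact IsZero.of_iso h1 ((DerivedCategory.homologyFunctorFactors X.Modules i).app C).symm
  haveI : C.IsLE (m - 1) := by
    rw [CochainComplex.isLE_iff]
    intro i hi
    rw [HomologicalComplex.exactAt_iff_isZero_homology]
    exact hCh i (by omega)
  have hT' := DerivedCategory.mappingCone_triangle_distinguished ((TEmap (O := OX X) g).app M)
  refine (isoAbove_iff_cone _ hT' m).2 ?_
  intro i hi
  refine IsZero.of_iso ?_ ((DerivedCategory.homologyFunctorFactors X.Modules i).app _)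
  have e : CochainComplex.mappingCone ((TEmap (O := OX X) g).app M) ≅ (TE (OX X) C).obj M :=
    coneIso (O := OX X) g M
  exact IsZero.of_iso (isZero_homology_TE C hC (m - 1) M i (by omega))
    ((HomologicalComplex.homologyFunctor X.Modules (ComplexShape.up ℤ) i).mapIso e)

/-- transfer of injectivity on `H^q`, `q > m` -/
theorem mono_homologyMap_iff {A B : CochainComplex X.Modules ℤ} (g : A ⟶ B) (hA : DCoh.IsKFlat A)
    (hB : DCoh.IsKFlat B) (m : ℤ) (hg : IsoAbove m (DerivedCategory.Q.map g)) {M' M : X.Modules}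
    (f : M' ⟶ M) (q : ℤ) (hq : m < q) :
    Mono (homologyMap ((TE (OX X) A).map f) q) ↔ Mono (homologyMap ((TE (OX X) B).map f) q) := by
  have h1 := ((isoAbove_Q_map_iff _ m).1 (isoAbove_TEmap g hA hB m hg M')).1 q hq
  have h2 := ((isoAbove_Q_map_iff _ m).1 (isoAbove_TEmap g hA hB m hg M)).1 q hq
  set τ := TEmap (O := OX X) g with hτ
  have nat : homologyMap ((TE (OX X) A).map f) q ≫ homologyMap (τ.app M) q =
      homologyMap (τ.app M') q ≫ homologyMap ((TE (OX X) B).map f) q := by
    rw [← homologyMap_comp, ← homologyMap_comp, τ.naturality f]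
  constructor
  · intro _
    have e : homologyMap ((TE (OX X) B).map f) q = inv (homologyMap (τ.app M') q) ≫
        homologyMap ((TE (OX X) A).map f) q ≫ homologyMap (τ.app M) q := by
      rw [nat, IsIso.inv_hom_id_assoc]
    rw [e]
    infer_instance
  · intro _
    have e : homologyMap ((TE (OX X) A).map f) q = homologyMap (τ.app M') q ≫
        homologyMap ((TE (OX X) B).map f) q ≫ inv (homologyMap (τ.app M) q) := by
      rw [← reassoc_of% nat, IsIso.hom_inv_id, Category.comp_id]
    rw [e]
    infer_instance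

/-- `H^{p+1}(- ⊗ A^•)` preserves monomorphisms iff `coker(A^p ⟶ A^{p+1})` is flat -/
theorem forall_mono_iff_isFlat (A : CochainComplex X.Modules ℤ) (p : ℤ)
    (hA : FlatMod.IsFlat (A.X (p + 2))) :
    (∀ {M' M : X.Modules} (f : M' ⟶ M), Mono f →
      Mono (homologyMap ((TE (OX X) A).map f) (p + 1))) ↔
      FlatMod.IsFlat (cokernel (A.d p (p + 1))) := by
  have hA' := (Groth.Agent.Lib.helper13.KRes.flatMod_iff_isFlat _).1 hA
  have key := forall_mono_homologyMap_iff_isFlat (O := OX X) (E := A) p hA'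
  refine Iff.trans ?_ (key.trans (Groth.Agent.Lib.helper13.KRes.flatMod_iff_isFlat _).symm)
  constructor
  · intro h S hS
    exact h S.f hS.mono_f
  · intro h M' M f hf
    let S : ShortComplex (ModSite.Mod (OX X)) :=
      ShortComplex.mk f (cokernel.π f) (cokernel.condition f)
    have hS : S.ShortExact :=
      { exact := ShortComplex.exact_cokernel f
        mono_f := hf
        epi_g := inferInstanceAs (Epi (cokernel.π f)) }
    exact h S hS

/-- **transfer of flatness of the cokernels of the differentials** along a chain map of K-flat complexes with flat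
terms which is an isomorphism on `H^i`, `i > m`, and an epimorphism on `H^m`: degrees `p ≥ m` -/
theorem isFlat_cokernel_iff {A B : CochainComplex X.Modules ℤ} (g : A ⟶ B) (hA : DCoh.IsKFlat A)
    (hB : DCoh.IsKFlat B) (hAf : ∀ i, FlatMod.IsFlat (A.X i)) (hBf : ∀ i, FlatMod.IsFlat (B.X i))
    (m : ℤ) (hg : IsoAbove m (DerivedCategory.Q.map g)) (p : ℤ) (hp : m ≤ p) :
    FlatMod.IsFlat (cokernel (A.d p (p + 1))) ↔ FlatMod.IsFlat (cokernel (B.d p (p + 1))) := by
  rw [← forall_mono_iff_isFlat A p (hAf _), ← forall_mono_iff_isFlat B p (hBf _)]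
  constructor
  · intro h M' M f hf
    exact (mono_homologyMap_iff g hA hB m hg f (p + 1) (by omega)).1 (h f hf)
  · intro h M' M f hf
    exact (mono_homologyMap_iff g hA hB m hg f (p + 1) (by omega)).2 (h f hf)

end Groth.Agent.Lib.Helper25.KSixA
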