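import Mathlib
import Groth.Agent.Lib.Helper25.FLFKernel
import Groth.Agent.Lib.Helper25.FlatTrunc

/-!
# Finite local freeness of a cohomology sheaf from that of the cokernels of the differentials (helper25)

* `isFinLocFree_homology`: if `coker(d^{p-1})`, `K^{p+1}` and `coker(d^p)` are finite locally free then so is `H^p(K)`.
* `isFinLocFree_opcycles_of_isFlat_cokernel`: for a complex of finite locally free modules, `K.opcycles a` is finite
  locally free as soon as `coker(d^{a-1})` is flat.
-/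

set_option autoImplicit false
universe u
open CategoryTheory CategoryTheory.Limits AlgebraicGeometry HomologicalComplex

namespace Groth.Agent.Lib.Helper25.KSixB

variable {X : Scheme.{u}}

/-- `K.opcycles a ≅ coker(d^{a-1})` -/
noncomputable def opcyclesIsoCokernel (K : CochainComplex X.Modules ℤ) (a : ℤ) :
    K.opcycles a ≅ cokernel (K.d (a - 1) a) :=
  (K.opcyclesIsCokernel (a - 1) a (by simp)).coconePointUniqueUpToIso (colimit.isColimit _)

theorem isFinLocFree_homology (K : CochainComplex X.Modules ℤ) (p : ℤ)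
    (h1 : FlatMod.IsFinLocFree (K.opcycles p)) (h2 : FlatMod.IsFinLocFree (K.X (p + 1)))
    (h3 : FlatMod.IsFinLocFree (K.opcycles (p + 1))) : FlatMod.IsFinLocFree (K.homology p) := by
  let ψ := K.fromOpcycles p (p + 1)
  let π := K.pOpcycles (p + 1)
  have hk : FlatMod.IsFinLocFree (kernel π) :=
    Groth.Agent.Lib.helper25.FLFKernel.isFinLocFree_kernel_of_epi π h2 h3
  have w : ψ ≫ π = 0 := by
    rw [← cancel_epi (K.pOpcycles p)]
    dsimp only [ψ, π]
    rw [K.p_fromOpcycles_assoc, K.d_pOpcycles, comp_zero]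
  let ψ' : K.opcycles p ⟶ kernel π := kernel.lift π ψ w
  have hd : K.d p (p + 1) ≫ π = 0 := K.d_pOpcycles p (p + 1)
  have hex : (ShortComplex.mk (K.d p (p + 1)) π hd).Exact :=
    ShortComplex.exact_of_g_is_cokernel _ (K.opcyclesIsCokernel p (p + 1) (by simp))
  have hepi : Epi (kernel.lift π (K.d p (p + 1)) hd) :=
    (ShortComplex.exact_iff_epi_kernel_lift _).1 hex
  have hfac : kernel.lift π (K.d p (p + 1)) hd = K.pOpcycles p ≫ ψ' := by
    apply equalizer.hom_ext
    simp only [kernel.lift_ι, Category.assoc, ψ', equalizer_as_kernel]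
    exact (K.p_fromOpcycles p (p + 1)).symm
  haveI : Epi ψ' := by
    rw [hfac] at hepi
    exact epi_of_epi (K.pOpcycles p) ψ'
  have h4 : FlatMod.IsFinLocFree (kernel ψ') :=
    Groth.Agent.Lib.helper25.FLFKernel.isFinLocFree_kernel_of_epi ψ' h1 hk
  have hψ : ψ = ψ' ≫ kernel.ι π := (kernel.lift_ι π ψ w).symm
  have e1 : kernel ψ' ≅ kernel ψ :=
    (kernelCompMono ψ' (kernel.ι π)).symm ≪≫ kernel.congr hψ.symm
  have e2 : kernel ψ ≅ K.homology p :=
    (kernelIsKernel ψ).conePointUniqueUpToIso (K.homologyIsKernel p (p + 1) (by simp))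
  exact Groth.Agent.Lib.helper16.FLF.isFinLocFree_of_iso (e1 ≪≫ e2) h4

theorem isFinLocFree_opcycles_of_isFlat_cokernel {K : CochainComplex X.Modules ℤ}
    (hK : ∀ i : ℤ, FlatMod.IsFinLocFree (K.X i)) (a : ℤ)
    (h : FlatMod.IsFlat (cokernel (K.d (a - 1) a))) : FlatMod.IsFinLocFree (K.opcycles a) :=
  Groth.Agent.Lib.helper25.FlatTrunc.isFinLocFree_opcycles_of_isFlat hK a
    (Groth.Agent.Lib.helper25.FlatClass.isFlat_of_iso (opcyclesIsoCokernel K a).symm h)

end Groth.Agent.Lib.Helper25.KSixB
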