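import Mathlib
import Groth.Agent.Lib.Helper13.BettiPC
import Groth.Agent.Lib.Helper25.KSixA
import Groth.Agent.Lib.Helper25.KSixB

/-!
# Local strictly perfect models of a pseudo-coherent complex, and what they detect (helper25)

`P` a K-flat complex with flat terms on a scheme `X` such that `Q P` is `m`-pseudo-coherent.
* `exists_local_model`: near every point there are an open `V`, a strictly perfect `S` on `V`, and a zigzag
  `S ⟵ A ⟶ P|_V` (`A` K-flat with flat terms, `A ⟶ S` a quasi-isomorphism, `A ⟶ P|_V` an isomorphism on `H^i`, `i > m`,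
  and an epimorphism on `H^m`).
* `LocalModel.isFlat_cokernel_iff`: `coker(S^q ⟶ S^{q+1})` is flat iff `coker(P^q ⟶ P^{q+1})|_V` is, `q ≥ m`.
* `LocalModel.homologyIso`: `H^i(S) ≅ H^i(P)|_V` for `i > m`.
* `LocalModel.fibre_homology_iso`: `H^i(Lf^* P) ≅ H^i(g^* S)` for `f = g ≫ V.ι`, `i > m`.
* `isFlat_of_forall_restrict`: flatness is local.
-/

set_option autoImplicit false
universe u
open CategoryTheory CategoryTheory.Limits AlgebraicGeometry HomologicalComplex
attribute [local instance] HasDerivedCategory.standard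

namespace Groth.Agent.Lib.Helper25.KSixC

open Groth.Agent.Lib.Helper25.LpullAdapted Groth.Agent.Lib.Helper25.LpullPerfect
  Groth.Agent.Lib.helper25.IsoAbove Groth.Agent.Lib.helper25.DCohRestrict
  Groth.Agent.Lib.helper25.FlatClass Groth.Agent.Lib.Helper25.LpullPC
  Scheme.Modules

variable {X : Scheme.{u}}

/-- flatness at a point can be checked on an open neighbourhood -/
theorem isFlatAt_of_restrict (M : X.Modules) (V : X.Opens) (y : (V : Scheme.{u}))
    (h : FlatMod.IsFlatAt (M.restrict V.ι) y) : FlatMod.IsFlatAt M (V.ι y) := by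
  letI inst : Module ((V : Scheme.{u}).presheaf.stalk y) (M.presheaf.stalk (V.ι y)) :=
    Module.compHom _ (resRing V y)
  let e : (M.restrict V.ι).presheaf.stalk y ≃ₗ[(V : Scheme.{u}).presheaf.stalk y]
      M.presheaf.stalk (V.ι y) :=
    { AddEquiv.ofBijective (resStalk M V y) (resStalk_bijective M V y) with
      map_smul' := fun r m => resStalk_smul M V y r m }
  have h1 : Module.Flat ((V : Scheme.{u}).presheaf.stalk y) (M.presheaf.stalk (V.ι y)) :=
    (Module.Flat.equiv_iff e).1 h
  exact (Groth.Agent.Lib.helper17.FlatOver2.flat_compHom_iff_of_bijective (resRing V y)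
      (resRing_bijective V y)).1 h1

/-- flatness is local -/
theorem isFlat_of_forall_restrict (M : X.Modules)
    (h : ∀ x : X, ∃ V : X.Opens, x ∈ V ∧ FlatMod.IsFlat (M.restrict V.ι)) : FlatMod.IsFlat M := by
  intro x
  obtain ⟨V, hx, hV⟩ := h x
  exact isFlatAt_of_restrict M V ⟨x, hx⟩ (hV ⟨x, hx⟩)

/-- the cokernel of a differential of the restricted complex -/
noncomputable def cokernelResIso (P : CochainComplex X.Modules ℤ) (V : X.Opens) (q : ℤ) :
    cokernel (((resCx V.ι).obj P).d q (q + 1)) ≅ (cokernel (P.d q (q + 1))).restrict V.ι :=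
  (PreservesCokernel.iso (restrictFunctor V.ι) (P.d q (q + 1))).symm

/-- a local strictly perfect model of `P` over the open `V`, as a zigzag of chain maps -/
structure LocalModel (P : CochainComplex X.Modules ℤ) (m : ℤ) (V : X.Opens) where
  S : CochainComplex (V : Scheme.{u}).Modules ℤ
  A : CochainComplex (V : Scheme.{u}).Modules ℤ
  s : A ⟶ S
  g : A ⟶ (resCx V.ι).obj P
  hS : DCoh.IsStrictlyPerfect S
  hA : P₀ (V : Scheme.{u}) A
  hs : QuasiIso s
  hg : IsoAbove m (DerivedCategory.Q.map g)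

theorem exists_local_model (P : CochainComplex X.Modules ℤ) (m : ℤ)
    (hpc : DCoh.IsPseudoCoherentD m (DCoh.toD X P)) (x : X) :
    ∃ V : X.Opens, x ∈ V ∧ Nonempty (LocalModel P m V) := by
  obtain ⟨V, hxV, hV⟩ := hpc x
  obtain ⟨S, α, hS, hα1, hα2⟩ := hV P ⟨Iso.refl _⟩
  refine ⟨V, hxV, ?_⟩
  have hα : IsoAbove m α := ⟨hα1, hα2⟩
  obtain ⟨A', s, hs, g', rfl⟩ := DerivedCategory.right_fac α
  obtain ⟨A'', r, hA'', hr⟩ := hres₀ A'
  have hr' : IsIso (DerivedCategory.Q.map r) := by
    rw [DerivedCategory.isIso_Q_map_iff_quasiIso]; exact hr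
  have hs' : IsIso (DerivedCategory.Q.map (r ≫ s)) := by
    rw [Functor.map_comp]; infer_instance
  have hqs : QuasiIso (r ≫ s) := by
    rw [← DerivedCategory.isIso_Q_map_iff_quasiIso]; exact hs'
  have hg'' : IsoAbove m (DerivedCategory.Q.map (r ≫ g')) := by
    have : DerivedCategory.Q.map (r ≫ g') =
        DerivedCategory.Q.map (r ≫ s) ≫ (inv (DerivedCategory.Q.map s) ≫ DerivedCategory.Q.map g') := by
      rw [Functor.map_comp, Functor.map_comp, Category.assoc, IsIso.hom_inv_id_assoc]
    rw [this]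
    exact hα.iso_comp _
  exact ⟨⟨S, A'', r ≫ s, r ≫ g', hS, hA'', hqs, hg''⟩⟩

namespace LocalModel

variable {P : CochainComplex X.Modules ℤ} {m : ℤ} {V : X.Opens} (L : LocalModel P m V)

include L in
/-- flatness of the cokernels of the differentials, model versus complex -/
theorem isFlat_cokernel_iff (hP : P₀ X P) (q : ℤ) (hq : m ≤ q) :
    FlatMod.IsFlat (cokernel (L.S.d q (q + 1))) ↔
      FlatMod.IsFlat ((cokernel (P.d q (q + 1))).restrict V.ι) := by
  have hSP := P₀_of_isStrictlyPerfect L.S L.hS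
  have hBP := P₀_restrict V P hP
  haveI := L.hs
  have hsI : IsoAbove q (DerivedCategory.Q.map L.s) := by
    haveI : IsIso (DerivedCategory.Q.map L.s) :=
      (DerivedCategory.isIso_Q_map_iff_quasiIso _ _).2 inferInstance
    exact isoAbove_of_isIso q _
  have h1 := Groth.Agent.Lib.Helper25.KSixA.isFlat_cokernel_iff L.s L.hA.1 hSP.1 L.hA.2 hSP.2 q hsI q
    le_rfl
  have h2 := Groth.Agent.Lib.Helper25.KSixA.isFlat_cokernel_iff L.g L.hA.1 hBP.1 L.hA.2 hBP.2 m L.hg q hq
  rw [← h1, h2]
  constructor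
  · exact fun h => isFlat_of_iso (cokernelResIso P V q) h
  · exact fun h => isFlat_of_iso (cokernelResIso P V q).symm h

include L in
/-- cohomology of the model -/
theorem nonempty_homology_iso (i : ℤ) (hi : m < i) :
    Nonempty (L.S.homology i ≅ ((resCx V.ι).obj P).homology i) := by
  haveI := L.hs
  have h2 := ((isoAbove_Q_map_iff L.g m).1 L.hg).1 i hi
  exact ⟨(asIso (homologyMap L.s i)).symm ≪≫ asIso (homologyMap L.g i)⟩

include L in
/-- cohomology of the fibres through the model -/
theorem nonempty_fibre_homology_iso (hP : P₀ X P) {Z : Scheme.{u}} (f : Z ⟶ X) [DCoh.HasLpull f]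
    (g' : Z ⟶ (V : Scheme.{u})) (hg' : g' ≫ V.ι = f) (i : ℤ) (hi : m < i) :
    Nonempty (DCoh.HD ((DCoh.Lpull f).obj (DCoh.toD X P)) i ≅
      ((Groth.Agent.Lib.helper13.EulerLocConst.pullCx g').obj L.S).homology i) := by
  have hSP := P₀_of_isStrictlyPerfect L.S L.hS
  have hBP := P₀_restrict V P hP
  have h1 := isoAbove_Q_map_pullCx g' L.g L.hA hBP m L.hg
  have h2 : QuasiIso ((Groth.Agent.Lib.Helper25.LpullPC.pullCx g').map L.s) :=
    quasiIso_pullback_map g' L.s L.hA hSP L.hs
  obtain ⟨e⟩ := Groth.Agent.Lib.helper13.BettiPC.nonempty_Lpull_iso_restrict f V g' hg'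
    (DCoh.toD X P) P hP (Iso.refl _)
  have h1' := ((isoAbove_Q_map_iff _ m).1 h1).1 i hi
  have h2' : IsIso (HomologicalComplex.homologyMap
      ((Groth.Agent.Lib.Helper25.LpullPC.pullCx g').map L.s) i) :=
    (quasiIsoAt_iff_isIso_homologyMap _ i).1 inferInstance
  exact ⟨(DerivedCategory.homologyFunctor _ i).mapIso e ≪≫
    (DerivedCategory.homologyFunctorFactors _ i).app _ ≪≫
    (asIso (HomologicalComplex.homologyMap
      ((Groth.Agent.Lib.Helper25.LpullPC.pullCx g').map L.g) i)).symm ≪≫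
    asIso (HomologicalComplex.homologyMap ((Groth.Agent.Lib.Helper25.LpullPC.pullCx g').map L.s) i)⟩

end LocalModel

end Groth.Agent.Lib.Helper25.KSixC
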