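import Mathlib
import Groth.Agent.Lib.Helper13.BettiUSC
import Groth.Agent.Lib.Helper25.KSixC
import Groth.Agent.Lib.Helper25.FLFLocus
import Groth.Agent.Lib.Helper25.DCohHomology

/-!
# Flat cokernels of differentials ⇒ finite locally free cohomology and locally constant Betti numbers (helper25)

`P` a K-flat complex with flat terms on a scheme, `Q P` `(p-1)`-pseudo-coherent.
* `LocalModel.betti_formula`: `β_p(y) + rk S^{p+1} = ν_y(coker d_S^{p-1}) + ν_y(coker d_S^p)` on a local model.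
* `core`: if `coker(P^{p-1} ⟶ P^p)` and `coker(P^p ⟶ P^{p+1})` are flat then `H^p(P)` is finite locally free and
  `x ↦ β_p(x)` is locally constant.
-/

set_option autoImplicit false
universe u
open CategoryTheory CategoryTheory.Limits AlgebraicGeometry HomologicalComplex Opposite TopologicalSpace
attribute [local instance] HasDerivedCategory.standard

namespace Groth.Agent.Lib.Helper25.KSixD

open Groth.Agent.Lib.Helper25.LpullAdapted Groth.Agent.Lib.Helper25.LpullPerfect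
  Groth.Agent.Lib.helper25.IsoAbove Groth.Agent.Lib.helper25.DCohRestrict
  Groth.Agent.Lib.helper25.FlatClass Groth.Agent.Lib.Helper25.KSixC
  Groth.Agent.Lib.helper13.EulerLocConst Groth.Agent.Lib.helper13.PointGamma
  Groth.Agent.Lib.helper13.FibreNu Groth.Agent.Lib.helper13.BettiFormula
  Groth.Agent.Lib.helper13.BettiUSC Groth.Agent.Lib.helper22.EulerChar
  Scheme.Modules

variable {X : Scheme.{u}}

namespace LocalModel

variable {P : CochainComplex X.Modules ℤ} {p : ℤ} {V : X.Opens}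

/-- flatness of the cokernels of the differentials, with free indices -/
theorem isFlat_cokernel_iff' {m : ℤ} (L : KSixC.LocalModel P m V) (hP : P₀ X P) (i j : ℤ)
    (hij : i + 1 = j) (hi : m ≤ i) :
    FlatMod.IsFlat (cokernel (L.S.d i j)) ↔ FlatMod.IsFlat ((cokernel (P.d i j)).restrict V.ι) := by
  subst hij
  exact L.isFlat_cokernel_iff hP i hi

/-- the Betti number formula on a local model -/
theorem betti_formula (L : KSixC.LocalModel P (p - 1) V) (hP : P₀ X P)
    [∀ x : X, DCoh.HasLpull (X.fromSpecResidueField x)] (y' : (V : Scheme.{u})) :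
    (PerfD.betti (DCoh.toD X P) (V.ι y') p : ℤ) +
        φ (Zy (V.ι y')) ((Scheme.Modules.pullback (gy V y')).obj (L.S.X (p + 1))) =
      (nu (cokernel (L.S.d (p - 1) p)) (gy V y') : ℤ) + (nu (cokernel (L.S.d p (p + 1))) (gy V y') : ℤ) := by
  obtain ⟨-, hf⟩ := id L.hS
  obtain ⟨e⟩ := L.nonempty_fibre_homology_iso hP (X.fromSpecResidueField (V.ι y')) (gy V y')
    (gy_fac V y') p (by omega)
  have hadd := isAdditiveOn (Zy (V.ι y')) (isField_Γtop (V.ι y'))
  have h1 : (PerfD.betti (DCoh.toD X P) (V.ι y') p : ℤ) =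
      φ (Zy (V.ι y')) (((Groth.Agent.Lib.helper13.EulerLocConst.pullCx (gy V y')).obj L.S).homology p) := hadd.iso e
  have h2 := phi_homology_pullCx (isField_Γtop (V.ι y')) (gy V y') L.S p
    (P_pullback_of_isFinLocFree V y' _ (hf p)) (P_pullback_of_isFinLocFree V y' _ (hf (p + 1)))
  rw [h1]
  exact h2

end LocalModel

/-- the value of `ν` at a point where the module is free -/
lemma nu_eq_of_restrict_iso (V : X.Opens) (y' : (V : Scheme.{u})) (M : (V : Scheme.{u}).Modules)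
    (U : (V : Scheme.{u}).Opens) (hU : y' ∈ U) (r : ℕ) (iso : M.restrict U.ι ≅ FlatMod.freeMod (↑U) r) :
    (nu M (gy V y') : ℤ) = r :=
  φ_pullback_of_restrict_iso V y' M U hU r iso

/-- **the core**: flat cokernels give finite locally free cohomology and locally constant Betti numbers -/
theorem core (P : CochainComplex X.Modules ℤ) (hP : P₀ X P) (p : ℤ)
    (hpc : DCoh.IsPseudoCoherentD (p - 1) (DCoh.toD X P))
    (h1 : FlatMod.IsFlat (cokernel (P.d (p - 1) p))) (h2 : FlatMod.IsFlat (cokernel (P.d p (p + 1))))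
    [∀ x : X, DCoh.HasLpull (X.fromSpecResidueField x)] :
    FlatMod.IsFinLocFree (DCoh.HD (DCoh.toD X P) p) ∧
      IsLocallyConstant (fun x : X => PerfD.betti (DCoh.toD X P) x p) := by
  -- local data at every point
  have key : ∀ x₀ : X, ∃ (V : X.Opens) (hx₀ : x₀ ∈ V) (L : KSixC.LocalModel P (p - 1) V),
      FlatMod.IsFinLocFree (cokernel (L.S.d (p - 1) p)) ∧
      FlatMod.IsFinLocFree (cokernel (L.S.d p (p + 1))) := by
    intro x₀
    obtain ⟨V, hx₀, ⟨L⟩⟩ := exists_local_model P (p - 1) hpc x₀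
    obtain ⟨-, hf⟩ := id L.hS
    refine ⟨V, hx₀, L, ?_, ?_⟩
    · have hfl := (LocalModel.isFlat_cokernel_iff' L hP (p - 1) p (by ring) le_rfl).2
        (isFlat_restrict _ V h1)
      have := Groth.Agent.Lib.Helper25.KSixB.isFinLocFree_opcycles_of_isFlat_cokernel hf p hfl
      exact Groth.Agent.Lib.helper16.FLF.isFinLocFree_of_iso
        (Groth.Agent.Lib.Helper25.KSixB.opcyclesIsoCokernel L.S p) this
    · have hfl := (LocalModel.isFlat_cokernel_iff' L hP p (p + 1) rfl (by omega)).2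
        (isFlat_restrict _ V h2)
      have e : L.S.opcycles (p + 1) ≅ cokernel (L.S.d p (p + 1)) :=
        (L.S.opcyclesIsCokernel p (p + 1) (by simp)).coconePointUniqueUpToIso (colimit.isColimit _)
      have hfl' : FlatMod.IsFlat (L.S.opcycles (p + 1)) := isFlat_of_iso e.symm hfl
      have := Groth.Agent.Lib.helper25.FlatTrunc.isFinLocFree_opcycles_of_isFlat hf (p + 1) hfl'
      exact Groth.Agent.Lib.helper16.FLF.isFinLocFree_of_iso e this
  constructor
  · -- finite local freeness of `H^p`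
    intro x₀
    obtain ⟨V, hx₀, L, hN₁, hN₂⟩ := key x₀
    obtain ⟨-, hf⟩ := id L.hS
    have e₂ : L.S.opcycles (p + 1) ≅ cokernel (L.S.d p (p + 1)) :=
      (L.S.opcyclesIsCokernel p (p + 1) (by simp)).coconePointUniqueUpToIso (colimit.isColimit _)
    have hH : FlatMod.IsFinLocFree (L.S.homology p) :=
      Groth.Agent.Lib.Helper25.KSixB.isFinLocFree_homology L.S p
        (Groth.Agent.Lib.helper16.FLF.isFinLocFree_of_iso
          (Groth.Agent.Lib.Helper25.KSixB.opcyclesIsoCokernel L.S p).symm hN₁)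
        (hf _) (Groth.Agent.Lib.helper16.FLF.isFinLocFree_of_iso e₂.symm hN₂)
    obtain ⟨e⟩ := L.nonempty_homology_iso p (by omega)
    have e' : L.S.homology p ≅ (DCoh.HD (DCoh.toD X P) p).restrict V.ι :=
      e ≪≫ Groth.Agent.Lib.helper25.DCohHomology.homologyResIso V.ι P p ≪≫
        (restrictFunctor V.ι).mapIso ((DerivedCategory.homologyFunctorFactors _ p).app P).symm
    have h3 : FlatMod.IsFinLocFree ((DCoh.HD (DCoh.toD X P) p).restrict V.ι) :=
      Groth.Agent.Lib.helper16.FLF.isFinLocFree_of_iso e' hH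
    exact Groth.Agent.Lib.helper25.FLFLocus.freeNear_of_restrict _ V.ι ⟨x₀, hx₀⟩ (h3 ⟨x₀, hx₀⟩)
  · -- local constancy of the Betti numbers
    rw [IsLocallyConstant.iff_exists_open]
    intro x₀
    obtain ⟨V, hx₀, L, hN₁, hN₂⟩ := key x₀
    obtain ⟨-, hf⟩ := id L.hS
    let x₀' : (V : Scheme.{u}) := ⟨x₀, hx₀⟩
    obtain ⟨U₁, n₁, hU₁, ⟨iso₁⟩⟩ := hN₁ x₀'
    obtain ⟨U₂, n₂, hU₂, ⟨iso₂⟩⟩ := hN₂ x₀'
    obtain ⟨U₃, r, hU₃, ⟨iso₃⟩⟩ := hf (p + 1) x₀'
    have keyf : ∀ y' : (V : Scheme.{u}), y' ∈ U₁ → y' ∈ U₂ → y' ∈ U₃ →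
        (PerfD.betti (DCoh.toD X P) (V.ι y') p : ℤ) + r = n₁ + n₂ := by
      intro y' h₁ h₂ h₃
      have hb := LocalModel.betti_formula L hP y'
      rw [φ_pullback_of_restrict_iso V y' _ U₃ h₃ r iso₃,
        nu_eq_of_restrict_iso V y' _ U₁ h₁ n₁ iso₁, nu_eq_of_restrict_iso V y' _ U₂ h₂ n₂ iso₂] at hb
      exact hb
    refine ⟨V.ι '' ((U₁ ⊓ U₂ ⊓ U₃ : (V : Scheme.{u}).Opens) : Set (V : Scheme.{u})),
      V.ι.isOpenEmbedding.isOpenMap _ (U₁ ⊓ U₂ ⊓ U₃).isOpen, ⟨x₀', ⟨⟨hU₁, hU₂⟩, hU₃⟩, rfl⟩, ?_⟩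
    rintro _ ⟨y', ⟨⟨hy₁, hy₂⟩, hy₃⟩, rfl⟩
    have k1 := keyf y' hy₁ hy₂ hy₃
    have k0 := keyf x₀' hU₁ hU₂ hU₃
    have : (PerfD.betti (DCoh.toD X P) (V.ι y') p : ℤ) =
        (PerfD.betti (DCoh.toD X P) (V.ι x₀') p : ℤ) := by omega
    exact_mod_cast this

end Groth.Agent.Lib.Helper25.KSixD
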