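import Mathlib
import Groth.Prelude.Def_KFlatSite
import Groth.Agent.Lib.Helper25.LTensorComp
import Groth.Agent.Lib.Helper25.SiteLTensor
import Groth.Agent.Lib.Helper13.KRes4

/-!
# The derived tensor product on a ringed site is computed by K-flat resolutions of either variable (helper25)

Site versions of `LTensorComp`:
* `isIso_ε_app E P hP`: the counit `P ⊗^L E ⟶ P ⊗ E` is invertible for K-flat `P` and ARBITRARY `E`;
* `hasLTensorCx_of_isKFlat P hP : ModSite.HasLTensorCx P`;
* `quasiIso_tensorLeft_of_isKFlat`: `F ⊗ -` preserves quasi-isomorphisms for K-flat `F`;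
* `LTensorCxIsoOfQuasiIso φ : LTensorCx P ≅ LTensorCx E` for a quasi-isomorphism `φ : P ⟶ E`.
-/

set_option autoImplicit false
universe u
open CategoryTheory Limits HomologicalComplex ZeroObject

attribute [local instance] HasDerivedCategory.standard

namespace Groth.Agent.Lib.Helper25.SiteLTensor2

open Groth.Agent.Lib.Helper25.LDerAdapted Groth.Agent.Lib.Helper25.KFlatTri
  Groth.Agent.Lib.Helper25.LTensorComp

variable {C : Type u} [SmallCategory C] {J : GrothendieckTopology C} {O : Sheaf J CommRingCat.{u}}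

lemma hzero : ∃ Z : CochainComplex (ModSite.Mod O) ℤ, IsZero Z ∧ ModSite.IsKFlat Z :=
  ⟨0, isZero_zero _, isKFlat_of_isZero _ (isZero_zero _)⟩

lemma hres₀ (E : CochainComplex (ModSite.Mod O) ℤ) :
    ∃ (E' : CochainComplex (ModSite.Mod O) ℤ) (f : E' ⟶ E), ModSite.IsKFlat E' ∧ QuasiIso f := by
  obtain ⟨K, q, hK, -, hq, -⟩ := Groth.Agent.Lib.helper13.KRes.exists_isKFlat_resolution E
  exact ⟨K, q, hK, hq⟩

/-- homotopy invariance of `tensorCxQ K` -/
lemma hF (K : CochainComplex (ModSite.Mod O) ℤ) (A B : CochainComplex (ModSite.Mod O) ℤ)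
    (f g : A ⟶ B) (h : homotopic (ModSite.Mod O) (ComplexShape.up ℤ) f g) :
    (ModSite.tensorCxQ K).map f = (ModSite.tensorCxQ K).map g := by
  obtain ⟨h⟩ := h
  have h' := mapBifunctorMapHomotopy₁ h (𝟙 K) (ModSite.tensorBi O) (ComplexShape.up ℤ)
  exact congrArg DerivedCategory.Qh.map (HomotopyCategory.eq_of_homotopy _ _ h')

/-- quasi-isomorphisms between K-flat complexes are inverted by `tensorCxQ K` -/
lemma hF₀ (K : CochainComplex (ModSite.Mod O) ℤ) {E E' : CochainComplex (ModSite.Mod O) ℤ}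
    (f : E ⟶ E') (hE : ModSite.IsKFlat E) (hE' : ModSite.IsKFlat E') (hf : QuasiIso f) :
    IsIso ((ModSite.tensorCxQ K).map f) := by
  change IsIso (DerivedCategory.Q.map
    (mapBifunctorMap f (𝟙 K) (ModSite.tensorBi O) (ComplexShape.up ℤ)))
  rw [DerivedCategory.isIso_Q_map_iff_quasiIso]
  exact quasiIso_tensorRight_of_isKFlat O hE hE' f K

/-- the counit of the derived tensor product -/
noncomputable abbrev ε (E : CochainComplex (ModSite.Mod O) ℤ) [ModSite.HasLTensorCx E] :
    DerivedCategory.Q ⋙ ModSite.LTensorCx E ⟶ ModSite.tensorCxQ E :=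
  (ModSite.tensorCxQ E).totalLeftDerivedCounit DerivedCategory.Q
    (HomologicalComplex.quasiIso (ModSite.Mod O) (ComplexShape.up ℤ))

/-- `P ⊗^L E = P ⊗ E` for K-flat `P` and any `E` (ringed sites) -/
theorem isIso_ε_app (E : CochainComplex (ModSite.Mod O) ℤ) [ModSite.HasLTensorCx E]
    (P : CochainComplex (ModSite.Mod O) ℤ) (hP : ModSite.IsKFlat P) : IsIso ((ε E).app P) :=
  isIso_counit_app_Q (A₀ := ModSite.Mod O) (H := DCoh.DMod (ModSite.ringSh O))
    (fun E => ModSite.IsKFlat E) hzero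
    (fun E n h => isKFlat_shift E n h) (fun f h h' => isKFlat_mappingCone f h h')
    hres₀ (ModSite.tensorCxQ E) (hF E) (fun f hE hE' hf => hF₀ E f hE hE' hf)
    (ModSite.LTensorCx E) (ε E) P hP

/-- the derived tensor product with a K-flat complex exists -/
theorem hasLTensorCx_of_isKFlat (P : CochainComplex (ModSite.Mod O) ℤ) (hP : ModSite.IsKFlat P) :
    ModSite.HasLTensorCx P := by
  have h : (HomologicalComplex.quasiIso (ModSite.Mod O) (ComplexShape.up ℤ)).IsInvertedBy
      (ModSite.tensorCxQ P) :=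
    Groth.Agent.Lib.Helper25.SiteLTensor.isInvertedBy_tensorCxQ O P hP
  have := Functor.hasPointwiseLeftDerivedFunctor_of_inverts (ModSite.tensorCxQ P) h
  infer_instance

open Groth.Agent.Lib.helper13.KFlat in
/-- for K-flat `F`, `F ⊗ -` preserves quasi-isomorphisms -/
theorem quasiIso_tensorLeft_of_isKFlat (F : CochainComplex (ModSite.Mod O) ℤ)
    (hF : ModSite.IsKFlat F) {P E : CochainComplex (ModSite.Mod O) ℤ} (φ : P ⟶ E) [QuasiIso φ] :
    QuasiIso (mapBifunctorMap (𝟙 F) φ (ModSite.tensorBi O) (ComplexShape.up ℤ)) :=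
  quasiIso_mapBifunctorMap_right (ModSite.tensorBi O) F (fun K hK => isKFlat_symm O F hF K hK) φ

section Iso

variable {P E : CochainComplex (ModSite.Mod O) ℤ} (φ : P ⟶ E) [QuasiIso φ]
  [ModSite.HasLTensorCx P] [ModSite.HasLTensorCx E]

/-- the comparison transformation induced by `φ : P ⟶ E` -/
noncomputable def βφ : DerivedCategory.Q ⋙ ModSite.LTensorCx P ⟶ ModSite.tensorCxQ E :=
  ε P ≫ Functor.whiskerRight ((ModSite.tensorCx O).flip.map φ) DerivedCategory.Q

omit [QuasiIso φ] [ModSite.HasLTensorCx E] in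
lemma βφ_app (F : CochainComplex (ModSite.Mod O) ℤ) :
    (βφ φ).app F = (ε P).app F ≫ DerivedCategory.Q.map
      (mapBifunctorMap (𝟙 F) φ (ModSite.tensorBi O) (ComplexShape.up ℤ)) := rfl

/-- **`- ⊗^L P ≅ - ⊗^L E` for a quasi-isomorphism `P ⟶ E`.** -/
noncomputable def LTensorCxIsoOfQuasiIso : ModSite.LTensorCx P ≅ ModSite.LTensorCx E :=
  isoOfAdapted (C := CochainComplex (ModSite.Mod O) ℤ) (D := DCoh.DMod (ModSite.ringSh O))
    (H := DCoh.DMod (ModSite.ringSh O)) DerivedCategory.Q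
    (HomologicalComplex.quasiIso (ModSite.Mod O) (ComplexShape.up ℤ)) (ModSite.tensorCxQ E)
    (ModSite.LTensorCx E) (ε E) (ModSite.LTensorCx P) (βφ φ) (fun F => ModSite.IsKFlat F)
    (fun X => by
      obtain ⟨E', f, hE', hf⟩ := hres₀ X
      exact ⟨E', f, hE', (HomologicalComplex.mem_quasiIso_iff f).2 hf⟩)
    (fun F hF => isIso_ε_app E F hF)
    (fun F hF => by
      rw [βφ_app]
      have h1 := isIso_ε_app P F hF
      have h2 : IsIso (DerivedCategory.Q.map
          (mapBifunctorMap (𝟙 F) φ (ModSite.tensorBi O) (ComplexShape.up ℤ))) := by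
        rw [DerivedCategory.isIso_Q_map_iff_quasiIso]
        exact quasiIso_tensorLeft_of_isKFlat F hF φ
      exact @IsIso.comp_isIso _ _ _ _ _ _ _ h1 h2)

end Iso

end Groth.Agent.Lib.Helper25.SiteLTensor2
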