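import Mathlib
import Groth.Agent.Lib.Helper25.KSixD
import Groth.Agent.Lib.Helper25.SiteLTensor2
import Groth.Agent.Lib.Helper25.DCohPC3

/-!
# Exactness of `M ↦ H^p(M ⊗^L F)` ⇒ `H^p(F)` finite locally free, Betti numbers locally constant (helper25; = S6243)

* `site_isFlat_cokernels`: on a ringed site, if `M ↦ H^{q+1}(M ⊗^L E)` is exact and `P ⟶ E` is a K-flat resolution
  with flat terms, then `coker(P^q ⟶ P^{q+1})` and `coker(P^{q+1} ⟶ P^{q+2})` are flat.
* `betti_congr`, `transfer`: the conclusions only depend on the isomorphism class in `D(O_X)`.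
* `main`.
-/

set_option autoImplicit false
universe u
open CategoryTheory CategoryTheory.Limits AlgebraicGeometry HomologicalComplex Opposite TopologicalSpace
attribute [local instance] HasDerivedCategory.standard

namespace Groth.Agent.Lib.Helper25.KSixE

open Groth.Agent.Lib.Helper25.SiteTFun Groth.Agent.Lib.Helper25.SiteTFun2
  Groth.Agent.Lib.Helper25.KSixA Groth.Agent.Lib.Helper25.LpullAdapted

section Site

variable {C : Type u} [SmallCategory C] {J : GrothendieckTopology C} (O : Sheaf J CommRingCat.{u})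

/-- the functor `M ↦ H^q(M ⊗^L E)` through a K-flat resolution with flat terms -/
theorem nonempty_TIso (E P : CochainComplex (ModSite.Mod O) ℤ) [ModSite.HasLTensorCx E] (φ : P ⟶ E)
    (hPK : ModSite.IsKFlat P) (hφ : QuasiIso φ) (q : ℤ) :
    Nonempty (DerivedCategory.singleFunctor (ModSite.Mod O) 0 ⋙ ModSite.LTensorCx E ⋙
      DerivedCategory.homologyFunctor (ModSite.Mod O) q ≅ TFun O P q) := by
  haveI := Groth.Agent.Lib.Helper25.SiteLTensor2.hasLTensorCx_of_isKFlat P hPK
  haveI := hφ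
  have Λ := Groth.Agent.Lib.Helper25.SiteLTensor2.LTensorCxIsoOfQuasiIso φ
  exact ⟨Functor.isoWhiskerLeft (DerivedCategory.singleFunctor (ModSite.Mod O) 0)
      (Functor.isoWhiskerRight Λ.symm (DerivedCategory.homologyFunctor (ModSite.Mod O) q)) ≪≫
      TIso hPK q⟩

theorem site_isFlat_cokernels (E P : CochainComplex (ModSite.Mod O) ℤ) [ModSite.HasLTensorCx E]
    (φ : P ⟶ E) (hPK : ModSite.IsKFlat P) (hPf : ∀ i : ℤ, ModSite.IsFlat (P.X i)) (hφ : QuasiIso φ)
    (q : ℤ)
    [PreservesFiniteLimits (DerivedCategory.singleFunctor (ModSite.Mod O) 0 ⋙ ModSite.LTensorCx E ⋙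
      DerivedCategory.homologyFunctor (ModSite.Mod O) (q + 1))]
    [PreservesFiniteColimits (DerivedCategory.singleFunctor (ModSite.Mod O) 0 ⋙ ModSite.LTensorCx E ⋙
      DerivedCategory.homologyFunctor (ModSite.Mod O) (q + 1))] :
    ModSite.IsFlat (Ck O P q) ∧ ModSite.IsFlat (Ck O P (q + 1)) := by
  obtain ⟨iso⟩ := nonempty_TIso O E P φ hPK hφ (q + 1)
  haveI h1 : PreservesFiniteLimits (TFun O P (q + 1)) := preservesFiniteLimits_of_natIso iso
  haveI h2 : PreservesFiniteColimits (TFun O P (q + 1)) := preservesFiniteColimits_of_natIso iso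
  have h3 : PreservesFiniteLimits (TFun O P (q + 1 + 1)) :=
    (preservesFiniteColimits_TFun_iff_preservesFiniteLimits_succ hPf (q + 1)).1 h2
  constructor
  · rw [← forall_mono_homologyMap_iff_isFlat q (hPf _)]
    exact (preservesFiniteLimits_TFun_iff hPf (q + 1)).1 h1
  · rw [← forall_mono_homologyMap_iff_isFlat (q + 1) (hPf _)]
    exact (preservesFiniteLimits_TFun_iff hPf (q + 1 + 1)).1 h3

end Site

variable {X : Scheme.{u}}

/-- Betti numbers only depend on the isomorphism class -/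
theorem betti_congr {E E' : DCoh.D X} (e : E ≅ E') (x : X) [DCoh.HasLpull (X.fromSpecResidueField x)]
    (i : ℤ) : PerfD.betti E x i = PerfD.betti E' x i := by
  have hadd := Groth.Agent.Lib.helper13.PointGamma.isAdditiveOn
    (Groth.Agent.Lib.helper13.EulerLocConst.Zy x) (Groth.Agent.Lib.helper13.EulerLocConst.isField_Γtop x)
  have e' : DCoh.HD ((DCoh.Lpull (X.fromSpecResidueField x)).obj E) i ≅
      DCoh.HD ((DCoh.Lpull (X.fromSpecResidueField x)).obj E') i :=
    (DerivedCategory.homologyFunctor _ i).mapIso ((DCoh.Lpull (X.fromSpecResidueField x)).mapIso e)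
  have h : (PerfD.betti E x i : ℤ) = (PerfD.betti E' x i : ℤ) := hadd.iso e'
  exact_mod_cast h

/-- **S6243** -/
theorem main (F : CochainComplex X.Modules ℤ) (q : ℤ)
    (hE : DCoh.IsPseudoCoherentD q (DCoh.toD X F)) [DCoh.HasLTensorCx F]
    [PreservesFiniteLimits (DerivedCategory.singleFunctor X.Modules 0 ⋙ DCoh.LTensorCx F ⋙
      DerivedCategory.homologyFunctor X.Modules (q + 1))]
    [PreservesFiniteColimits (DerivedCategory.singleFunctor X.Modules 0 ⋙ DCoh.LTensorCx F ⋙
      DerivedCategory.homologyFunctor X.Modules (q + 1))]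
    [∀ x : X, DCoh.HasLpull (X.fromSpecResidueField x)] :
    FlatMod.IsFinLocFree (DCoh.HD (DCoh.toD X F) (q + 1)) ∧
      IsLocallyConstant (fun x : X => PerfD.betti (DCoh.toD X F) x (q + 1)) := by
  obtain ⟨P, φ, hPK, hPf, hφ, -⟩ := Groth.Agent.Lib.helper13.KRes.dcoh_exists_kFlat_resolution F
  have hP : P₀ X P := ⟨hPK, hPf⟩
  haveI : IsIso (DerivedCategory.Q.map φ) := (DerivedCategory.isIso_Q_map_iff_quasiIso _ _).2 hφ
  let eP : DCoh.toD X P ≅ DCoh.toD X F := asIso (DerivedCategory.Q.map φ)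
  have hpc : DCoh.IsPseudoCoherentD (q + 1 - 1) (DCoh.toD X P) := by
    rw [show q + 1 - 1 = q by ring]
    exact Groth.Agent.Lib.helper25.DCohPC3.isPseudoCoherentD_of_iso eP.symm hE
  have hfl := @site_isFlat_cokernels _ _ _ (OX X) F P ‹DCoh.HasLTensorCx F› φ hPK
    (fun i => (Groth.Agent.Lib.helper13.KRes.flatMod_iff_isFlat _).1 (hPf i)) hφ q
    ‹PreservesFiniteLimits (DerivedCategory.singleFunctor X.Modules 0 ⋙ DCoh.LTensorCx F ⋙
      DerivedCategory.homologyFunctor X.Modules (q + 1))›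
    ‹PreservesFiniteColimits (DerivedCategory.singleFunctor X.Modules 0 ⋙ DCoh.LTensorCx F ⋙
      DerivedCategory.homologyFunctor X.Modules (q + 1))›
  have h1 : FlatMod.IsFlat (cokernel (P.d (q + 1 - 1) (q + 1))) := by
    rw [show q + 1 - 1 = q by ring]
    exact (Groth.Agent.Lib.helper13.KRes.flatMod_iff_isFlat _).2 hfl.1
  have h2 : FlatMod.IsFlat (cokernel (P.d (q + 1) (q + 1 + 1))) :=
    (Groth.Agent.Lib.helper13.KRes.flatMod_iff_isFlat _).2 hfl.2
  obtain ⟨c1, c2⟩ := Groth.Agent.Lib.Helper25.KSixD.core P hP (q + 1) hpc h1 h2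
  refine ⟨Groth.Agent.Lib.helper16.FLF.isFinLocFree_of_iso
    ((DerivedCategory.homologyFunctor _ (q + 1)).mapIso eP) c1, ?_⟩
  have : (fun x : X => PerfD.betti (DCoh.toD X F) x (q + 1)) =
      fun x : X => PerfD.betti (DCoh.toD X P) x (q + 1) := by
    funext x
    exact betti_congr eP.symm x (q + 1)
  rw [this]
  exact c2

end Groth.Agent.Lib.Helper25.KSixE
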