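import Mathlib
import Groth.Agent.Lib.Helper25.TorAmpQCoh
import Groth.Agent.S9498

/-!
# Flatness can be tested on monomorphisms of quasi-coherent modules (helper25)

* `GF x : ModuleCat O_{X,x} ⥤ X.Modules`, `N ↦ (Spec O_{X,x} ⟶ X)_* N~` (functorial form of `QCohStalkMod.G`),
  `φ_naturality`, `mono_GF_map`.
* `isFlat_of_mono_qcoh`: on a quasi-separated scheme, an `O_X`-module `W` (not necessarily quasi-coherent) such that
  `- ⊗ W` preserves monomorphisms between quasi-coherent modules is flat.
-/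

set_option autoImplicit false
universe u
open CategoryTheory CategoryTheory.Limits AlgebraicGeometry Opposite TopologicalSpace MonoidalCategory

namespace Groth.Agent.Lib.Helper25.KSixQ

open Groth.Agent.Lib.Helper25.QCohStalkMod Groth.Agent.Lib.Helper25.TorAmpQCoh
  Groth.Agent.Lib.Helper25.StalkExact Scheme.Modules

lemma mono_conj {C : Type*} [Category C] {A B A' B' : C} (a : A' ⟶ A) (g : A ⟶ B) (b : B ⟶ B')
    [IsIso a] [IsIso b] [Mono g] : Mono (a ≫ g ≫ b) := by
  haveI : Mono (g ≫ b) := mono_comp g b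
  exact mono_comp a (g ≫ b)

variable {X : Scheme.{u}} (x : X)

/-- `N ↦ (Spec O_{X,x} ⟶ X)_* N~` as a functor -/
noncomputable def GF : ModuleCat.{u} (X.presheaf.stalk x) ⥤ X.Modules :=
  tilde.functor (X.presheaf.stalk x) ⋙ pushforward (ix x)

lemma GF_obj (N : ModuleCat.{u} (X.presheaf.stalk x)) : (GF x).obj N = G x N := rfl

lemma GF_map_sec {N' N : ModuleCat.{u} (X.presheaf.stalk x)} (f : N' ⟶ N) (U : X.Opens) (n : N') :
    ((GF x).map f).app U (sec x N' U n) = sec x N U (f.hom n) := by
  have h := tilde.toOpen_map_app f ((ix x) ⁻¹ᵁ U)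
  exact congrArg (fun ψ => ψ.hom n) h

lemma φ_naturality {N' N : ModuleCat.{u} (X.presheaf.stalk x)} (f : N' ⟶ N) :
    φ x N' ≫ (DerSch.stalkFunctor X x).map ((GF x).map f) = f ≫ φ x N := by
  ext n
  change (DerSch.stalkFunctor X x).map ((GF x).map f) ((φ x N').hom n) = (φ x N).hom (f.hom n)
  rw [φ_apply x N' ⊤ trivial n, φ_apply x N ⊤ trivial (f.hom n)]
  have h := DerSch.stalkFunctor_map_germ x ((GF x).map f) ⊤ trivial (sec x N' ⊤ n)
  rw [GF_map_sec] at h
  exact h

theorem mono_GF_map {N' N : ModuleCat.{u} (X.presheaf.stalk x)} (f : N' ⟶ N) [Mono f] :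
    Mono ((GF x).map f) := by
  haveI := Groth.Agent.S9498.preservesFiniteLimits_tilde (X.presheaf.stalk x)
  haveI : Mono ((tilde.functor (X.presheaf.stalk x)).map f) := inferInstance
  haveI : (pushforward (ix x)).IsRightAdjoint :=
    (pullbackPushforwardAdjunction (ix x)).isRightAdjoint
  exact inferInstanceAs (Mono ((pushforward (ix x)).map ((tilde.functor (X.presheaf.stalk x)).map f)))

/-- **flatness from monomorphisms of quasi-coherent modules** -/
theorem isFlat_of_mono_qcoh [QuasiSeparatedSpace X] (W : X.Modules)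
    (h : ∀ {M' M : X.Modules} (f : M' ⟶ M), M'.IsQuasicoherent → M.IsQuasicoherent → Mono f →
      Mono ((DCoh.tensorRightMod W).map f)) : FlatMod.IsFlat W := by
  intro x
  unfold FlatMod.IsFlatAt
  suffices key : ∀ (N' N : Type u) [AddCommGroup N'] [AddCommGroup N]
      [Module (X.presheaf.stalk x) N'] [Module (X.presheaf.stalk x) N]
      (f : N' →ₗ[X.presheaf.stalk x] N), Function.Injective f →
      Function.Injective (f.lTensor (W.presheaf.stalk x)) from
    Module.Flat.iff_lTensor_preserves_injective_linearMap.2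
      (fun N' N _ _ _ _ f hf => key N' N f hf)
  intro N' N _ _ _ _ f hf
  let f' : ModuleCat.of (X.presheaf.stalk x) N' ⟶ ModuleCat.of (X.presheaf.stalk x) N :=
    ModuleCat.ofHom f
  haveI : Mono f' := (ModuleCat.mono_iff_injective f').2 hf
  haveI := mono_GF_map x f'
  haveI h1 : Mono ((DCoh.tensorRightMod W).map ((GF x).map f')) :=
    h _ (isQuasicoherent_G x _) (isQuasicoherent_G x _) inferInstance
  haveI h2 : Mono ((DCoh.tensorRightMod W ⋙ DerSch.stalkFunctor X x).map ((GF x).map f')) :=
    inferInstanceAs (Mono ((DerSch.stalkFunctor X x).map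
      ((DCoh.tensorRightMod W).map ((GF x).map f'))))
  let Wx := (DerSch.stalkFunctor X x).obj W
  have h3 : Mono ((DerSch.stalkFunctor X x ⋙ tensorLeft Wx).map ((GF x).map f')) := by
    have nat := (tensorRightStalkIso x W).hom.naturality ((GF x).map f')
    have e : (DerSch.stalkFunctor X x ⋙ tensorLeft Wx).map ((GF x).map f') =
        (tensorRightStalkIso x W).inv.app _ ≫
          (DCoh.tensorRightMod W ⋙ DerSch.stalkFunctor X x).map ((GF x).map f') ≫
          (tensorRightStalkIso x W).hom.app _ := by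
      rw [nat, Iso.inv_hom_id_app_assoc]
    rw [e]
    exact mono_conj _ _ _
  have h4 : Mono (Wx ◁ f') := by
    let φN' : ModuleCat.of (X.presheaf.stalk x) N' ⟶
        (DerSch.stalkFunctor X x).obj ((GF x).obj (ModuleCat.of (X.presheaf.stalk x) N')) := φ x _
    let φN : ModuleCat.of (X.presheaf.stalk x) N ⟶
        (DerSch.stalkFunctor X x).obj ((GF x).obj (ModuleCat.of (X.presheaf.stalk x) N)) := φ x _
    haveI : IsIso φN' := inferInstanceAs (IsIso (φ x (ModuleCat.of (X.presheaf.stalk x) N')))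
    haveI : IsIso φN := inferInstanceAs (IsIso (φ x (ModuleCat.of (X.presheaf.stalk x) N)))
    have hnat : φN' ≫ (DerSch.stalkFunctor X x).map ((GF x).map f') = f' ≫ φN := φ_naturality x f'
    have e : Wx ◁ f' = Wx ◁ φN' ≫
        (DerSch.stalkFunctor X x ⋙ tensorLeft Wx).map ((GF x).map f') ≫ Wx ◁ inv φN := by
      change Wx ◁ f' = Wx ◁ φN' ≫ Wx ◁ ((DerSch.stalkFunctor X x).map ((GF x).map f')) ≫
        Wx ◁ inv φN
      rw [← MonoidalCategory.whiskerLeft_comp, ← MonoidalCategory.whiskerLeft_comp,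
        ← Category.assoc, hnat, Category.assoc, IsIso.hom_inv_id, Category.comp_id]
    rw [e]
    haveI : IsIso (Wx ◁ φN') := inferInstance
    haveI : IsIso (Wx ◁ inv φN) := inferInstance
    exact mono_conj _ _ _
  exact (ModuleCat.mono_iff_injective (Wx ◁ f')).1 h4

end Groth.Agent.Lib.Helper25.KSixQ
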