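import Mathlib
import Groth.Agent.Lib.Helper25.KSixE
import Groth.Agent.Lib.Helper25.KSixQ
import Groth.Agent.Lib.Helper25.DeltaPush

/-!
# Exactness of `M ↦ H^p(M ⊗^L F)` on quasi-coherent modules ⇒ `H^p(F)` finite locally free (helper25; = S6244)

* `mono_tens_Ck_of_mono_homologyMap` (ringed sites): if `H^{q+1}(M' ⊗ P) ⟶ H^{q+1}(M ⊗ P)` is mono then
  `M' ⊗ coker(d^q) ⟶ M ⊗ coker(d^q)` is mono (`P^{q+2}` flat).
* `mono_homologyMap_of_preservesFiniteLimits`: left exactness of `M ↦ H^q(M ⊗^L F)` on `QCoh(X)` gives injectivity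
  of `H^q(M' ⊗ P) ⟶ H^q(M ⊗ P)` for monomorphisms of quasi-coherent modules (`P ⟶ F` a K-flat resolution).
* `main`.
-/

set_option autoImplicit false
universe u
open CategoryTheory CategoryTheory.Limits AlgebraicGeometry HomologicalComplex Opposite TopologicalSpace
attribute [local instance] HasDerivedCategory.standard

namespace Groth.Agent.Lib.Helper25.KSixF

open Groth.Agent.Lib.Helper25.SiteTFun Groth.Agent.Lib.Helper25.SiteTFun2
  Groth.Agent.Lib.Helper25.KSixA Groth.Agent.Lib.Helper25.LpullAdapted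
  Groth.Agent.Lib.Helper21.FlatSES Groth.Agent.Lib.Helper25.QCohAbelian

section Site

variable {C : Type u} [SmallCategory C] {J : GrothendieckTopology C} {O : Sheaf J CommRingCat.{u}}

theorem mono_tens_Ck_of_mono_homologyMap (P : CochainComplex (ModSite.Mod O) ℤ) (q : ℤ)
    (hP : ModSite.IsFlat (P.X (q + 2))) {M' M : ModSite.Mod O} (f : M' ⟶ M) [Mono f]
    (h : Mono (homologyMap ((TE O P).map f) (q + 1))) :
    Mono ((Groth.Agent.Lib.Helper21.TensorAdj.tens O (Ck O P q)).map f) := by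
  rw [← mono_opcyclesMap_iff]
  haveI := h
  haveI : Mono (((TE O P).map f).f (q + 2)) := by
    rw [TE_map_f]
    exact mono_tens_of_isFlat (P.X (q + 2)) hP f
  exact mono_opcyclesMap_of_mono_homologyMap ((TE O P).map f) (q + 1) (q + 2) (by ring)

theorem site_mono_homologyMap (E P : CochainComplex (ModSite.Mod O) ℤ) [ModSite.HasLTensorCx E]
    (φ : P ⟶ E) (hPK : ModSite.IsKFlat P) (hφ : QuasiIso φ) (q : ℤ) {M' M : ModSite.Mod O}
    (f : M' ⟶ M)
    (h : Mono ((DerivedCategory.singleFunctor (ModSite.Mod O) 0 ⋙ ModSite.LTensorCx E ⋙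
      DerivedCategory.homologyFunctor (ModSite.Mod O) q).map f)) :
    Mono (homologyMap ((TE O P).map f) q) := by
  obtain ⟨iso⟩ := Groth.Agent.Lib.Helper25.KSixE.nonempty_TIso O E P φ hPK hφ q
  have nat := iso.hom.naturality f
  have e : (TFun O P q).map f = iso.inv.app M' ≫
      (DerivedCategory.singleFunctor (ModSite.Mod O) 0 ⋙ ModSite.LTensorCx E ⋙
        DerivedCategory.homologyFunctor (ModSite.Mod O) q).map f ≫ iso.hom.app M := by
    rw [nat]
    exact (Iso.inv_hom_id_app_assoc iso M' _).symm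
  have h2 : Mono ((TFun O P q).map f) := by
    rw [e]
    exact Groth.Agent.Lib.Helper25.KSixQ.mono_conj _ _ _
  exact h2

end Site

variable {X : Scheme.{u}}

/-- left exactness on `QCoh(X)` gives injectivity on the K-flat model -/
theorem mono_homologyMap_of_preservesFiniteLimits (F P : CochainComplex X.Modules ℤ)
    [DCoh.HasLTensorCx F] (φ : P ⟶ F) (hPK : DCoh.IsKFlat P) (hφ : QuasiIso φ) (q : ℤ)
    [PreservesFiniteLimits ((QCohCat.isQCoh X).ι ⋙ DerivedCategory.singleFunctor X.Modules 0 ⋙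
      DCoh.LTensorCx F ⋙ DerivedCategory.homologyFunctor X.Modules q)]
    {M' M : X.Modules} (f : M' ⟶ M) (hM' : M'.IsQuasicoherent) (hM : M.IsQuasicoherent) [Mono f] :
    Mono (homologyMap ((TE (OX X) P).map f) q) := by
  let A' : (QCohCat.isQCoh X).FullSubcategory := ⟨M', hM'⟩
  let A : (QCohCat.isQCoh X).FullSubcategory := ⟨M, hM⟩
  let fq : A' ⟶ A := ObjectProperty.homMk f
  haveI : Mono ((QCohCat.isQCoh X).ι.map fq) := inferInstanceAs (Mono f)
  haveI : Mono fq := Functor.mono_of_mono_map (QCohCat.isQCoh X).ι inferInstance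
  let G := (QCohCat.isQCoh X).ι ⋙ DerivedCategory.singleFunctor X.Modules 0 ⋙
      DCoh.LTensorCx F ⋙ DerivedCategory.homologyFunctor X.Modules q
  haveI : Mono (G.map fq) := inferInstance
  let T := DerivedCategory.singleFunctor X.Modules 0 ⋙ DCoh.LTensorCx F ⋙
      DerivedCategory.homologyFunctor X.Modules q
  have h1 : Mono (T.map f) := inferInstanceAs (Mono (G.map fq))
  exact @site_mono_homologyMap _ _ _ (OX X) F P ‹DCoh.HasLTensorCx F› φ hPK hφ q M' M f h1

/-- flatness of `coker(P^q ⟶ P^{q+1})` from left exactness of `M ↦ H^{q+1}(M ⊗^L F)` on `QCoh(X)` -/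
theorem isFlat_cokernel_of_preservesFiniteLimits [QuasiSeparatedSpace X]
    (F P : CochainComplex X.Modules ℤ) [DCoh.HasLTensorCx F] (φ : P ⟶ F) (hPK : DCoh.IsKFlat P)
    (hPf : ∀ i : ℤ, FlatMod.IsFlat (P.X i)) (hφ : QuasiIso φ) (q : ℤ)
    [PreservesFiniteLimits ((QCohCat.isQCoh X).ι ⋙ DerivedCategory.singleFunctor X.Modules 0 ⋙
      DCoh.LTensorCx F ⋙ DerivedCategory.homologyFunctor X.Modules (q + 1))] :
    FlatMod.IsFlat (cokernel (P.d q (q + 1))) := by
  refine Groth.Agent.Lib.Helper25.KSixQ.isFlat_of_mono_qcoh _ (fun {M' M} f hM' hM hf => ?_)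
  haveI := hf
  have h := mono_homologyMap_of_preservesFiniteLimits F P φ hPK hφ (q + 1) f hM' hM
  exact @mono_tens_Ck_of_mono_homologyMap _ _ _ (OX X) P q
    ((Groth.Agent.Lib.helper13.KRes.flatMod_iff_isFlat _).1 (hPf _)) M' M f hf h

/-- **S6244** -/
theorem main [QuasiSeparatedSpace X] (F : CochainComplex X.Modules ℤ) (q : ℤ)
    (hE : DCoh.IsPseudoCoherentD q (DCoh.toD X F)) [DCoh.HasLTensorCx F]
    [PreservesFiniteLimits ((QCohCat.isQCoh X).ι ⋙ DerivedCategory.singleFunctor X.Modules 0 ⋙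
      DCoh.LTensorCx F ⋙ DerivedCategory.homologyFunctor X.Modules (q + 1))]
    [PreservesFiniteColimits ((QCohCat.isQCoh X).ι ⋙ DerivedCategory.singleFunctor X.Modules 0 ⋙
      DCoh.LTensorCx F ⋙ DerivedCategory.homologyFunctor X.Modules (q + 1))]
    [∀ x : X, DCoh.HasLpull (X.fromSpecResidueField x)] :
    IsLocallyConstant (fun x : X => PerfD.betti (DCoh.toD X F) x (q + 1)) ∧
      FlatMod.IsFinLocFree (DCoh.HD (DCoh.toD X F) (q + 1)) := by
  obtain ⟨P, φ, hPK, hPf, hφ, -⟩ := Groth.Agent.Lib.helper13.KRes.dcoh_exists_kFlat_resolution F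
  have hP : P₀ X P := ⟨hPK, hPf⟩
  haveI : IsIso (DerivedCategory.Q.map φ) := (DerivedCategory.isIso_Q_map_iff_quasiIso _ _).2 hφ
  let eP : DCoh.toD X P ≅ DCoh.toD X F := asIso (DerivedCategory.Q.map φ)
  have hpc : DCoh.IsPseudoCoherentD (q + 1 - 1) (DCoh.toD X P) := by
    rw [show q + 1 - 1 = q by ring]
    exact Groth.Agent.Lib.helper25.DCohPC3.isPseudoCoherentD_of_iso eP.symm hE
  -- `T^{q+2}` is left exact on quasi-coherent modules
  haveI hsucc : PreservesFiniteLimits ((QCohCat.isQCoh X).ι ⋙ DerivedCategory.singleFunctor X.Modules 0 ⋙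
      DCoh.LTensorCx F ⋙ DerivedCategory.homologyFunctor X.Modules (q + 1 + 1)) :=
    (Groth.Agent.Lib.Helper25.DeltaExact.preservesFiniteColimits_iff_preservesFiniteLimits_succ
      (Groth.Agent.Lib.Helper25.DeltaPush.GTens F)
      (Groth.Agent.Lib.Helper25.DeltaPush.exists_distinguished_GTens F) (q + 1)).1
      ‹PreservesFiniteColimits ((QCohCat.isQCoh X).ι ⋙ DerivedCategory.singleFunctor X.Modules 0 ⋙
        DCoh.LTensorCx F ⋙ DerivedCategory.homologyFunctor X.Modules (q + 1))›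
  have h1 : FlatMod.IsFlat (cokernel (P.d (q + 1 - 1) (q + 1))) := by
    rw [show q + 1 - 1 = q by ring]
    exact isFlat_cokernel_of_preservesFiniteLimits F P φ hPK hPf hφ q
  have h2 : FlatMod.IsFlat (cokernel (P.d (q + 1) (q + 1 + 1))) :=
    isFlat_cokernel_of_preservesFiniteLimits F P φ hPK hPf hφ (q + 1)
  obtain ⟨c1, c2⟩ := Groth.Agent.Lib.Helper25.KSixD.core P hP (q + 1) hpc h1 h2
  refine ⟨?_, Groth.Agent.Lib.helper16.FLF.isFinLocFree_of_iso
    ((DerivedCategory.homologyFunctor _ (q + 1)).mapIso eP) c1⟩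
  have : (fun x : X => PerfD.betti (DCoh.toD X F) x (q + 1)) =
      fun x : X => PerfD.betti (DCoh.toD X P) x (q + 1) := by
    funext x
    exact Groth.Agent.Lib.Helper25.KSixE.betti_congr eP.symm x (q + 1)
  rw [this]
  exact c2

end Groth.Agent.Lib.Helper25.KSixF
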