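import Mathlib
import Groth.Agent.Lib.Helper13.FibreBound

/-!
# Finite modules with constant fibre dimension over a reduced ring are locally free (helper25)

* `exists_generators_and_killer`: for a finite `A`-module `M` and a field-valued point `A ⟶ L₀`, elements
  `m : Fin n → M` (`n = dim_{L₀} L₀ ⊗ M`) and `f : A`, nonzero in `L₀`, with `f • M ⊆ span m`.
* `span_eq_top_of_killer`, `algebraMap_eq_zero_of_sum_eq_zero`, `mul_eq_zero_of_sum_eq_zero` (`A` reduced).
* `nonempty_equivFun_of_reduced`: `A` reduced; if every prime of `D(f)` carries a field-valued point at which the fibre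
  of `M` has dimension `k`, the localization of `M` at `f` is free of rank `k` (with basis the images of the `m i`).
-/

set_option autoImplicit false
universe u
open TensorProduct

namespace Groth.Agent.Lib.Helper25.ReducedFree

open Groth.Agent.Lib.helper13.FibreBound

variable {A : Type u} [CommRing A] (M : Type u) [AddCommGroup M] [Module A M]

/-- generators of the fibre at a field-valued point, and a function (nonzero at the point) carrying `M` into their span -/
theorem exists_generators_and_killer [Module.Finite A M] (L₀ : Type u) [Field L₀] [Algebra A L₀] :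
    ∃ (m : Fin (Module.finrank L₀ (L₀ ⊗[A] M)) → M) (f : A), algebraMap A L₀ f ≠ 0 ∧
      ∀ y : M, f • y ∈ Submodule.span A (Set.range m) := by
  obtain ⟨m, hm⟩ := exists_generators (A := A) M L₀
  set N' := Submodule.span A (Set.range m) with hN'
  have hQ₀ : Subsingleton (L₀ ⊗[A] (M ⧸ N')) := by
    let g : L₀ ⊗[A] M →ₗ[L₀] L₀ ⊗[A] (M ⧸ N') := LinearMap.baseChange L₀ N'.mkQ
    have hsurj : Function.Surjective g :=
      LinearMap.lTensor_surjective (R := A) L₀ (Submodule.mkQ_surjective N')
    have hzero : g = 0 := by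
      apply LinearMap.ext_on hm
      rintro _ ⟨i, rfl⟩
      rw [LinearMap.baseChange_tmul, LinearMap.zero_apply]
      have : N'.mkQ (m i) = 0 := by
        rw [Submodule.mkQ_apply, Submodule.Quotient.mk_eq_zero]
        exact Submodule.subset_span ⟨i, rfl⟩
      rw [this, TensorProduct.tmul_zero]
    refine ⟨fun x y => ?_⟩
    obtain ⟨x', rfl⟩ := hsurj x
    obtain ⟨y', rfl⟩ := hsurj y
    rw [hzero, LinearMap.zero_apply, LinearMap.zero_apply]
  let 𝔭 : Ideal A := RingHom.ker (algebraMap A L₀)
  haveI : 𝔭.IsPrime := RingHom.ker_isPrime _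
  let p : PrimeSpectrum A := ⟨𝔭, inferInstance⟩
  have hp : p ∉ Module.support A (M ⧸ N') := by
    rw [Module.mem_support_iff_nontrivial_residueField_tensorProduct]
    intro hnt
    let ψ : 𝔭.ResidueField →+* L₀ := Ideal.ResidueField.lift 𝔭 (algebraMap A L₀) le_rfl (by
      intro a ha
      exact IsUnit.mk0 _ (fun h => ha ((RingHom.mem_ker).2 h)))
    letI : Algebra 𝔭.ResidueField L₀ := ψ.toAlgebra
    haveI : IsScalarTower A 𝔭.ResidueField L₀ := IsScalarTower.of_algebraMap_eq (fun a =>
      (Ideal.ResidueField.lift_algebraMap 𝔭 (algebraMap A L₀) le_rfl _ a).symm)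
    let eqv := TensorProduct.AlgebraTensorModule.cancelBaseChange A 𝔭.ResidueField L₀ L₀ (M ⧸ N')
    haveI : Subsingleton (L₀ ⊗[𝔭.ResidueField] (𝔭.ResidueField ⊗[A] (M ⧸ N'))) :=
      eqv.toEquiv.subsingleton
    have h1 : Module.finrank L₀ (L₀ ⊗[𝔭.ResidueField] (𝔭.ResidueField ⊗[A] (M ⧸ N'))) = 0 :=
      Module.finrank_zero_of_subsingleton
    rw [Module.finrank_baseChange] at h1
    have h2 : 0 < Module.finrank 𝔭.ResidueField (𝔭.ResidueField ⊗[A] (M ⧸ N')) := Module.finrank_pos
    omega
  rw [Module.support_eq_zeroLocus, PrimeSpectrum.mem_zeroLocus, Set.not_subset] at hp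
  obtain ⟨f, hfann, hfp⟩ := hp
  refine ⟨m, f, fun h => hfp ((RingHom.mem_ker).2 h), fun y => ?_⟩
  have h1 : f • (N'.mkQ y) = 0 := (Module.mem_annihilator.1 hfann) _
  rw [← map_smul, Submodule.mkQ_apply, Submodule.Quotient.mk_eq_zero] at h1
  exact h1

variable {M}

/-- at a field-valued point where `f` is nonzero the images of the `m i` span the fibre -/
theorem span_eq_top_of_killer {k : ℕ} (m : Fin k → M) (f : A)
    (hf : ∀ y : M, f • y ∈ Submodule.span A (Set.range m))
    (L : Type u) [Field L] [Algebra A L] (hL : algebraMap A L f ≠ 0) :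
    Submodule.span L (Set.range fun i => (1 : L) ⊗ₜ[A] m i) = ⊤ := by
  rw [eq_top_iff]
  rintro x -
  have key : ∀ z ∈ Submodule.span A (Set.range m),
      (1 : L) ⊗ₜ[A] z ∈ Submodule.span L (Set.range fun i => (1 : L) ⊗ₜ[A] m i) := by
    intro z hz
    induction hz using Submodule.span_induction with
    | mem z hz =>
      obtain ⟨i, rfl⟩ := hz
      exact Submodule.subset_span ⟨i, rfl⟩
    | zero => rw [TensorProduct.tmul_zero]; exact Submodule.zero_mem _
    | add a b _ _ ha hb => rw [TensorProduct.tmul_add]; exact Submodule.add_mem _ ha hb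
    | smul a z _ hz =>
      have e : (1 : L) ⊗ₜ[A] (a • z) = (algebraMap A L a) • ((1 : L) ⊗ₜ[A] z) := by
        rw [TensorProduct.smul_tmul', smul_eq_mul, mul_one, ← TensorProduct.smul_tmul,
          Algebra.smul_def, mul_one]
      rw [e]
      exact Submodule.smul_mem _ _ hz
  induction x using TensorProduct.induction_on with
  | zero => exact Submodule.zero_mem _
  | tmul l y =>
    have e : l ⊗ₜ[A] y = (l / algebraMap A L f) • ((1 : L) ⊗ₜ[A] (f • y)) := by
      rw [TensorProduct.smul_tmul', smul_eq_mul, mul_one, ← TensorProduct.smul_tmul,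
        Algebra.smul_def, mul_div_cancel₀ _ hL]
    rw [e]
    exact Submodule.smul_mem _ _ (key _ (hf y))
  | add a b ha hb => exact Submodule.add_mem _ ha hb

/-- a relation among the `m i` dies at every field-valued point where `f` is nonzero and the fibre has dimension `k` -/
theorem algebraMap_eq_zero_of_sum_eq_zero [Module.Finite A M] {k : ℕ} (m : Fin k → M) (f : A)
    (hf : ∀ y : M, f • y ∈ Submodule.span A (Set.range m))
    (L : Type u) [Field L] [Algebra A L] (hL : algebraMap A L f ≠ 0)
    (hrank : Module.finrank L (L ⊗[A] M) = k) (x : Fin k → A) (hx : ∑ i, x i • m i = 0)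
    (i : Fin k) : algebraMap A L (x i) = 0 := by
  have hsp := span_eq_top_of_killer m f hf L hL
  have hli : LinearIndependent L (fun i => (1 : L) ⊗ₜ[A] m i) :=
    linearIndependent_of_top_le_span_of_card_eq_finrank hsp.ge (by rw [Fintype.card_fin, hrank])
  have h0 : ∑ i, (algebraMap A L (x i)) • ((1 : L) ⊗ₜ[A] m i) = 0 := by
    have e : ∀ i, (algebraMap A L (x i)) • ((1 : L) ⊗ₜ[A] m i) = (1 : L) ⊗ₜ[A] (x i • m i) := by
      intro i
      rw [TensorProduct.smul_tmul', smul_eq_mul, mul_one, ← mul_one (algebraMap A L (x i)),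
        ← Algebra.smul_def, TensorProduct.smul_tmul]
    rw [Finset.sum_congr rfl (fun i _ => e i), ← TensorProduct.tmul_sum, hx, TensorProduct.tmul_zero]
  exact Fintype.linearIndependent_iff.1 hli _ h0 i

/-- over a reduced ring, relations among the `m i` are killed by `f` -/
theorem mul_eq_zero_of_sum_eq_zero [IsReduced A] [Module.Finite A M] {k : ℕ} (m : Fin k → M) (f : A)
    (hf : ∀ y : M, f • y ∈ Submodule.span A (Set.range m))
    (hyp : ∀ q : Ideal A, q.IsPrime → f ∉ q → ∃ (L : Type u) (_ : Field L) (_ : Algebra A L),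
      (∀ a : A, algebraMap A L a = 0 → a ∈ q) ∧ Module.finrank L (L ⊗[A] M) = k)
    (x : Fin k → A) (hx : ∑ i, x i • m i = 0) (i : Fin k) : f * x i = 0 := by
  have h : f * x i ∈ nilradical A := by
    rw [nilradical_eq_sInf, Ideal.mem_sInf]
    intro q hq
    have hq' : q.IsPrime := hq
    by_cases hfq : f ∈ q
    · exact Ideal.mul_mem_right _ _ hfq
    · obtain ⟨L, _, _, h1, h2⟩ := hyp q hq' hfq
      have hL : algebraMap A L f ≠ 0 := fun h => hfq (h1 f h)
      exact Ideal.mul_mem_left _ _ (h1 _ (algebraMap_eq_zero_of_sum_eq_zero m f hf L hL h2 x hx i))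
  rw [nilradical_eq_zero] at h
  exact h

/-- **constant fibre dimension over a reduced ring gives freeness after inverting `f`** -/
theorem nonempty_equivFun_of_reduced [IsReduced A] [Module.Finite A M] {k : ℕ} (m : Fin k → M) (f : A)
    (hf : ∀ y : M, f • y ∈ Submodule.span A (Set.range m))
    (hyp : ∀ q : Ideal A, q.IsPrime → f ∉ q → ∃ (L : Type u) (_ : Field L) (_ : Algebra A L),
      (∀ a : A, algebraMap A L a = 0 → a ∈ q) ∧ Module.finrank L (L ⊗[A] M) = k)
    (A' : Type*) [CommRing A'] [Algebra A A'] [IsLocalization.Away f A']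
    {N' : Type*} [AddCommGroup N'] [Module A N'] [Module A' N'] [IsScalarTower A A' N']
    (g : M →ₗ[A] N') [IsLocalizedModule (Submonoid.powers f) g] :
    Nonempty (N' ≃ₗ[A'] (Fin k → A')) := by
  have hfu : IsUnit (algebraMap A A' f) := IsLocalization.Away.algebraMap_isUnit f
  have hli : LinearIndependent A' (fun i => g (m i)) := by
    rw [Fintype.linearIndependent_iff]
    intro c hc i
    obtain ⟨b, hb⟩ := IsLocalization.exist_integer_multiples_of_finite (Submonoid.powers f) c
    choose a ha using hb
    have hbu : IsUnit (algebraMap A A' (b : A)) := IsLocalization.map_units A' b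
    have h1 : g (∑ i, a i • m i) = 0 := by
      rw [map_sum]
      have e : ∀ i, g (a i • m i) = (algebraMap A A' (b : A)) • (c i • g (m i)) := by
        intro i
        rw [map_smul, ← algebraMap_smul A' (a i) (g (m i)), ha i, Algebra.smul_def, mul_smul]
      rw [Finset.sum_congr rfl (fun i _ => e i), ← Finset.smul_sum, hc, smul_zero]
    obtain ⟨s, hs⟩ := (IsLocalizedModule.eq_zero_iff (Submonoid.powers f) g).1 h1
    have h2 : ∑ i, ((s : A) * a i) • m i = 0 := by
      rw [← hs, Submonoid.smul_def, Finset.smul_sum]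
      exact Finset.sum_congr rfl (fun i _ => mul_smul _ _ _)
    have h3 := mul_eq_zero_of_sum_eq_zero m f hf hyp _ h2 i
    have hsu : IsUnit (algebraMap A A' (s : A)) := IsLocalization.map_units A' s
    have h4 : algebraMap A A' (a i) = 0 := by
      have := congrArg (algebraMap A A') h3
      rw [map_mul, map_mul, map_zero] at this
      exact (hsu.mul_right_eq_zero).1 ((hfu.mul_right_eq_zero).1 this)
    rw [ha i, Algebra.smul_def] at h4
    exact (hbu.mul_right_eq_zero).1 h4
  have hsp : ⊤ ≤ Submodule.span A' (Set.range fun i => g (m i)) := by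
    rintro n -
    obtain ⟨⟨y, s⟩, hys⟩ := IsLocalizedModule.surj (Submonoid.powers f) g n
    have key : ∀ z ∈ Submodule.span A (Set.range m),
        g z ∈ Submodule.span A' (Set.range fun i => g (m i)) := by
      intro z hz
      induction hz using Submodule.span_induction with
      | mem z hz =>
        obtain ⟨i, rfl⟩ := hz
        exact Submodule.subset_span ⟨i, rfl⟩
      | zero => rw [map_zero]; exact Submodule.zero_mem _
      | add a b _ _ ha hb => rw [map_add]; exact Submodule.add_mem _ ha hb
      | smul a z _ hz =>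
        rw [map_smul, ← algebraMap_smul A' a (g z)]
        exact Submodule.smul_mem _ _ hz
    have h1 := key _ (hf y)
    have hsu : IsUnit (algebraMap A A' (s : A)) := IsLocalization.map_units A' s
    have h2 : n = (hsu.unit⁻¹ : A'ˣ).1 • ((hfu.unit⁻¹ : A'ˣ).1 • g (f • y)) := by
      rw [map_smul, ← algebraMap_smul A' f (g y), smul_smul (hfu.unit⁻¹ : A'ˣ).1]
      have e1 : ((hfu.unit⁻¹ : A'ˣ) : A') * algebraMap A A' f = 1 := by
        have := hfu.unit.inv_mul
        simp
      rw [e1, one_smul]
      change n = _ • g y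
      rw [← hys]
      change n = _ • ((s : A) • n)
      rw [← algebraMap_smul A' (s : A) n, smul_smul]
      have e2 : ((hsu.unit⁻¹ : A'ˣ) : A') * algebraMap A A' (s : A) = 1 := by
        have := hsu.unit.inv_mul
        simp
      rw [e2, one_smul]
    rw [h2]
    exact Submodule.smul_mem _ _ (Submodule.smul_mem _ _ h1)
  exact ⟨(Module.Basis.mk hli hsp).equivFun⟩

end Groth.Agent.Lib.Helper25.ReducedFree
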