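import Mathlib
import Groth.Agent.Lib.Helper25.ReducedFree
import Groth.Agent.Lib.Helper13.FibreNu
import Groth.Agent.Lib.Helper16.FLF3
import Groth.Agent.Lib.Helper28.QCohSupport

/-!
# Finite type quasi-coherent modules with locally constant fibre dimension on a reduced scheme (helper25)

* `isFinLocFree_of_nu_locally_const`: on a reduced scheme `V`, a quasi-coherent module of finite type whose fibre dimension
  (measured at a chosen field-valued point `g y : Z y ⟶ V` over every point `y`) is locally constant is finite locally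
  free.
-/

set_option autoImplicit false
universe u
open CategoryTheory CategoryTheory.Limits AlgebraicGeometry Opposite TopologicalSpace TensorProduct

namespace Groth.Agent.Lib.Helper25.ReducedFLF

open Groth.Agent.Lib.helper13.FibreNu Groth.Agent.Lib.helper16.QCohPullback
  Groth.Agent.Lib.helper16.CohFinite Groth.Agent.Lib.helper16.FLF

variable {V : Scheme.{u}}

theorem isFinLocFree_of_nu_locally_const [IsReduced V] (N : V.Modules) [N.IsQuasicoherent]
    (hft : SheafOfModules.IsFiniteType (R := V.ringCatSheaf) N)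
    (Z : V → Scheme.{u}) [∀ y, IsAffine (Z y)] [∀ y, Nonempty (Z y)]
    (hK : ∀ y, IsField Γ(Z y, ⊤)) (g : ∀ y, Z y ⟶ V) (hg : ∀ (y : V) (t : Z y), g y t = y)
    (h : ∀ y : V, ∃ W : V.Opens, y ∈ W ∧ ∀ z ∈ W, nu N (g z) = nu N (g y)) :
    FlatMod.IsFinLocFree N := by
  rw [isFinLocFree_iff_sections]
  intro y
  obtain ⟨W, hyW, hW⟩ := h y
  obtain ⟨U, hU, hyU, hUW⟩ := Opens.isBasis_iff_nbhd.mp V.isBasis_affineOpens hyW
  haveI : Module.Finite Γ(V, U) Γ(N, U) := finite_sections_of_isFiniteType N hft hU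
  haveI : _root_.IsReduced Γ(V, U) := inferInstance
  -- the field point at `y`
  have e₀ : ⊤ ≤ (g y) ⁻¹ᵁ U := fun t _ => by
    change g y t ∈ U
    rw [hg]; exact hyU
  letI alg₀ := ((g y).appLE U ⊤ e₀).hom.toAlgebra
  letI fld₀ : Field Γ(Z y, ⊤) := (hK y).toField
  have hn₀ : nu N (g y) = Module.finrank Γ(Z y, ⊤) (Γ(Z y, ⊤) ⊗[Γ(V, U)] Γ(N, U)) :=
    nu_eq N (g y) hU e₀
  obtain ⟨m, f, hf₀, hf⟩ := Groth.Agent.Lib.Helper25.ReducedFree.exists_generators_and_killer
    (A := Γ(V, U)) Γ(N, U) Γ(Z y, ⊤)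
  obtain ⟨t₀⟩ := (inferInstance : Nonempty (Z y))
  have hyf : y ∈ V.basicOpen f := by
    have := (appLE_ne_zero_iff (hK y) (g y) U e₀ f t₀).1 hf₀
    rwa [hg] at this
  refine ⟨V.basicOpen f, Module.finrank Γ(Z y, ⊤) (Γ(Z y, ⊤) ⊗[Γ(V, U)] Γ(N, U)),
    hU.basicOpen f, hyf, ?_⟩
  -- the hypothesis on primes
  have hyp : ∀ q : Ideal Γ(V, U), q.IsPrime → f ∉ q →
      ∃ (L : Type u) (_ : Field L) (_ : Algebra Γ(V, U) L),
        (∀ a : Γ(V, U), algebraMap Γ(V, U) L a = 0 → a ∈ q) ∧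
          Module.finrank L (L ⊗[Γ(V, U)] Γ(N, U)) =
            Module.finrank Γ(Z y, ⊤) (Γ(Z y, ⊤) ⊗[Γ(V, U)] Γ(N, U)) := by
    intro q hq _
    let P : Spec Γ(V, U) := ⟨q, hq⟩
    let z : V := hU.fromSpec P
    have hzU : z ∈ U := by
      have : z ∈ Set.range hU.fromSpec := ⟨P, rfl⟩
      rw [hU.range_fromSpec] at this
      exact this
    have hP : hU.primeIdealOf ⟨z, hzU⟩ = P := by
      apply hU.fromSpec.isOpenEmbedding.injective
      exact hU.fromSpec_primeIdealOf ⟨z, hzU⟩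
    have e : ⊤ ≤ (g z) ⁻¹ᵁ U := fun t _ => by
      change g z t ∈ U
      rw [hg]; exact hzU
    letI alg := ((g z).appLE U ⊤ e).hom.toAlgebra
    letI fld : Field Γ(Z z, ⊤) := (hK z).toField
    refine ⟨Γ(Z z, ⊤), fld, alg, ?_, ?_⟩
    · intro a ha
      obtain ⟨t⟩ := (inferInstance : Nonempty (Z z))
      by_contra hna
      have h1 : z ∈ V.basicOpen a := by
        rw [Groth.Agent.Lib.helper28.mem_basicOpen_iff hU z hzU a, hP]
        exact hna
      have h2 := (appLE_ne_zero_iff (hK z) (g z) U e a t).2 (by rw [hg]; exact h1)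
      exact h2 ha
    · rw [← nu_eq N (g z) hU e, ← hn₀]
      exact hW z (hUW hzU)
  have hle : V.basicOpen f ≤ U := V.basicOpen_le f
  letI := algOfLE (X := V) hle
  letI := modOfLE N hle
  haveI := isScalarTower_ofLE N hle
  haveI : IsLocalization.Away f Γ(V, V.basicOpen f) := hU.isLocalization_basicOpen f
  haveI := isLocalizedModule_of_eq_basicOpen N hU f hle rfl
  exact Groth.Agent.Lib.Helper25.ReducedFree.nonempty_equivFun_of_reduced m f hf hyp
    Γ(V, V.basicOpen f) (resLin N hle)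

end Groth.Agent.Lib.Helper25.ReducedFLF
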