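import Mathlib
import Groth.Agent.Lib.Helper25.KSixF
import Groth.Agent.Lib.Helper25.ReducedFLF

/-!
# Locally constant Betti numbers on a reduced scheme ⇒ exactness of `M ↦ H^p(M ⊗^L F)` (helper25; = S6250)

* `site_mono_T`: injectivity of `H^q(M' ⊗ P) ⟶ H^q(M ⊗ P)` transfers to `H^q(M' ⊗^L E) ⟶ H^q(M ⊗^L E)`
  (`P ⟶ E` a K-flat resolution).
* `isFlat_cokernels_of_betti_locally_const`: `X` reduced, `P` K-flat with flat terms, `Q P` `(p-1)`-pseudo-coherent and
  `β_p` locally constant ⇒ `coker(P^{p-1} ⟶ P^p)` and `coker(P^p ⟶ P^{p+1})` are flat.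
* `main` (= S6250).
-/

set_option autoImplicit false
universe u
open CategoryTheory CategoryTheory.Limits AlgebraicGeometry HomologicalComplex Opposite TopologicalSpace
attribute [local instance] HasDerivedCategory.standard

namespace Groth.Agent.Lib.Helper25.KSixG

open Groth.Agent.Lib.Helper25.SiteTFun Groth.Agent.Lib.Helper25.SiteTFun2
  Groth.Agent.Lib.Helper25.KSixA Groth.Agent.Lib.Helper25.LpullAdapted
  Groth.Agent.Lib.Helper25.LpullPerfect
  Groth.Agent.Lib.helper25.IsoAbove Groth.Agent.Lib.helper25.DCohRestrict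
  Groth.Agent.Lib.helper25.FlatClass Groth.Agent.Lib.Helper25.KSixC
  Groth.Agent.Lib.helper13.EulerLocConst Groth.Agent.Lib.helper13.PointGamma
  Groth.Agent.Lib.helper13.FibreNu Groth.Agent.Lib.helper13.BettiFormula
  Groth.Agent.Lib.helper13.BettiUSC Groth.Agent.Lib.helper22.EulerChar
  Groth.Agent.Lib.Helper25.QCohAbelian
  Scheme.Modules

section Site

variable {C : Type u} [SmallCategory C] {J : GrothendieckTopology C} {O : Sheaf J CommRingCat.{u}}

theorem site_mono_T (E P : CochainComplex (ModSite.Mod O) ℤ) [ModSite.HasLTensorCx E]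
    (φ : P ⟶ E) (hPK : ModSite.IsKFlat P) (hφ : QuasiIso φ) (q : ℤ) {M' M : ModSite.Mod O}
    (f : M' ⟶ M) (h : Mono (homologyMap ((TE O P).map f) q)) :
    Mono ((DerivedCategory.singleFunctor (ModSite.Mod O) 0 ⋙ ModSite.LTensorCx E ⋙
      DerivedCategory.homologyFunctor (ModSite.Mod O) q).map f) := by
  obtain ⟨iso⟩ := Groth.Agent.Lib.Helper25.KSixE.nonempty_TIso O E P φ hPK hφ q
  have nat := iso.inv.naturality f
  have h2 : Mono ((TFun O P q).map f) := h
  have e : (DerivedCategory.singleFunctor (ModSite.Mod O) 0 ⋙ ModSite.LTensorCx E ⋙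
        DerivedCategory.homologyFunctor (ModSite.Mod O) q).map f =
      iso.hom.app M' ≫ (TFun O P q).map f ≫ iso.inv.app M := by
    rw [nat]
    exact (Iso.hom_inv_id_app_assoc iso M' _).symm
  rw [e]
  exact Groth.Agent.Lib.Helper25.KSixQ.mono_conj _ _ _

end Site

variable {X : Scheme.{u}}

/-- the fibre dimensions of the two cokernels of a local model are locally constant when `β_p` is -/
theorem nu_locally_const {P : CochainComplex X.Modules ℤ} {p : ℤ} {V : X.Opens}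
    (L : KSixC.LocalModel P (p - 1) V) (hP : P₀ X P)
    [∀ x : X, DCoh.HasLpull (X.fromSpecResidueField x)]
    (hc : IsLocallyConstant (fun x : X => PerfD.betti (DCoh.toD X P) x p))
    (y₀ : (V : Scheme.{u})) :
    ∃ W : (V : Scheme.{u}).Opens, y₀ ∈ W ∧ ∀ z ∈ W,
      nu (cokernel (L.S.d (p - 1) p)) (gy V z) = nu (cokernel (L.S.d (p - 1) p)) (gy V y₀) ∧
      nu (cokernel (L.S.d p (p + 1))) (gy V z) = nu (cokernel (L.S.d p (p + 1))) (gy V y₀) := by
  obtain ⟨-, hf⟩ := id L.hS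
  obtain ⟨U, r, hy₀U, ⟨iso⟩⟩ := hf (p + 1) y₀
  set N₁ := cokernel (L.S.d (p - 1) p) with hN₁
  set N₂ := cokernel (L.S.d p (p + 1)) with hN₂
  haveI hq : ∀ i, (L.S.X i).IsQuasicoherent := fun i =>
    Groth.Agent.Lib.helper16.FLF.isQuasicoherent_of_isFinLocFree _ (hf i)
  haveI : N₁.IsQuasicoherent := Groth.Agent.Lib.helper7.CohKer.isQuasicoherent_cokernel _
  haveI : N₂.IsQuasicoherent := Groth.Agent.Lib.helper7.CohKer.isQuasicoherent_cokernel _
  have hft₁ : SheafOfModules.IsFiniteType (R := (V : Scheme.{u}).ringCatSheaf) N₁ :=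
    Groth.Agent.Lib.helper7.CohKer.isFiniteType_of_epi (cokernel.π _)
      (Groth.Agent.Lib.helper16.FLF.isFiniteType_of_isFinLocFree _ (hf p))
  have hft₂ : SheafOfModules.IsFiniteType (R := (V : Scheme.{u}).ringCatSheaf) N₂ :=
    Groth.Agent.Lib.helper7.CohKer.isFiniteType_of_epi (cokernel.π _)
      (Groth.Agent.Lib.helper16.FLF.isFiniteType_of_isFinLocFree _ (hf (p + 1)))
  have key : ∀ y' : (V : Scheme.{u}), y' ∈ U →
      (PerfD.betti (DCoh.toD X P) (V.ι y') p : ℤ) + r =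
        (nu N₁ (gy V y') : ℤ) + (nu N₂ (gy V y') : ℤ) := by
    intro y' hy'
    have hb := Groth.Agent.Lib.Helper25.KSixD.LocalModel.betti_formula L hP y'
    rw [φ_pullback_of_restrict_iso V y' _ U hy' r iso] at hb
    exact hb
  obtain ⟨z₀⟩ := (inferInstance : Nonempty (Zy (V.ι y₀)))
  obtain ⟨W₁, hW₁, hle₁⟩ := exists_nhd_nu_le N₁ hft₁ (isField_Γtop (V.ι y₀)) (gy V y₀) z₀
  obtain ⟨W₂, hW₂, hle₂⟩ := exists_nhd_nu_le N₂ hft₂ (isField_Γtop (V.ι y₀)) (gy V y₀) z₀
  rw [gy_apply] at hW₁ hW₂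
  -- the open where `β_p` is constant
  have hopen : IsOpen {x : X | PerfD.betti (DCoh.toD X P) x p = PerfD.betti (DCoh.toD X P) (V.ι y₀) p} :=
    hc.isOpen_fiber _
  let W₀ : X.Opens := ⟨_, hopen⟩
  refine ⟨U ⊓ W₁ ⊓ W₂ ⊓ (V.ι ⁻¹ᵁ W₀), ⟨⟨⟨hy₀U, hW₁⟩, hW₂⟩, rfl⟩, ?_⟩
  rintro z ⟨⟨⟨hzU, hzW₁⟩, hzW₂⟩, hzW₀⟩
  have k1 := key z hzU
  have k0 := key y₀ hy₀U
  have l1 := hle₁ (isField_Γtop (V.ι z)) (gy V z) (fun t => by rw [gy_apply]; exact hzW₁)
  have l2 := hle₂ (isField_Γtop (V.ι z)) (gy V z) (fun t => by rw [gy_apply]; exact hzW₂)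
  have hb : PerfD.betti (DCoh.toD X P) (V.ι z) p = PerfD.betti (DCoh.toD X P) (V.ι y₀) p := hzW₀
  rw [hb] at k1
  constructor <;> omega

/-- **flatness of the two cokernels from local constancy of `β_p` on a reduced scheme** -/
theorem isFlat_cokernels_of_betti_locally_const [IsReduced X] (P : CochainComplex X.Modules ℤ)
    (hP : P₀ X P) (p : ℤ) (hpc : DCoh.IsPseudoCoherentD (p - 1) (DCoh.toD X P))
    [∀ x : X, DCoh.HasLpull (X.fromSpecResidueField x)]
    (hc : IsLocallyConstant (fun x : X => PerfD.betti (DCoh.toD X P) x p)) :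
    FlatMod.IsFlat (cokernel (P.d (p - 1) p)) ∧ FlatMod.IsFlat (cokernel (P.d p (p + 1))) := by
  have key : ∀ x₀ : X, ∃ V : X.Opens, x₀ ∈ V ∧
      FlatMod.IsFlat ((cokernel (P.d (p - 1) p)).restrict V.ι) ∧
      FlatMod.IsFlat ((cokernel (P.d p (p + 1))).restrict V.ι) := by
    intro x₀
    obtain ⟨V, hx₀, ⟨L⟩⟩ := exists_local_model P (p - 1) hpc x₀
    obtain ⟨-, hf⟩ := id L.hS
    haveI : IsReduced (V : Scheme.{u}) := isReduced_of_isOpenImmersion V.ι
    let N₁ := cokernel (L.S.d (p - 1) p)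
    let N₂ := cokernel (L.S.d p (p + 1))
    haveI hq : ∀ i, (L.S.X i).IsQuasicoherent := fun i =>
      Groth.Agent.Lib.helper16.FLF.isQuasicoherent_of_isFinLocFree _ (hf i)
    haveI : N₁.IsQuasicoherent := Groth.Agent.Lib.helper7.CohKer.isQuasicoherent_cokernel _
    haveI : N₂.IsQuasicoherent := Groth.Agent.Lib.helper7.CohKer.isQuasicoherent_cokernel _
    have hft₁ : SheafOfModules.IsFiniteType (R := (V : Scheme.{u}).ringCatSheaf) N₁ :=
      Groth.Agent.Lib.helper7.CohKer.isFiniteType_of_epi (cokernel.π _)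
        (Groth.Agent.Lib.helper16.FLF.isFiniteType_of_isFinLocFree _ (hf p))
    have hft₂ : SheafOfModules.IsFiniteType (R := (V : Scheme.{u}).ringCatSheaf) N₂ :=
      Groth.Agent.Lib.helper7.CohKer.isFiniteType_of_epi (cokernel.π _)
        (Groth.Agent.Lib.helper16.FLF.isFiniteType_of_isFinLocFree _ (hf (p + 1)))
    have hN₁ : FlatMod.IsFinLocFree N₁ :=
      Groth.Agent.Lib.Helper25.ReducedFLF.isFinLocFree_of_nu_locally_const N₁ hft₁
        (fun y => Zy (V.ι y)) (fun y => isField_Γtop (V.ι y)) (fun y => gy V y)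
        (fun y t => gy_apply V y t) (fun y => by
          obtain ⟨W, hyW, hW⟩ := nu_locally_const L hP hc y
          exact ⟨W, hyW, fun z hz => (hW z hz).1⟩)
    have hN₂ : FlatMod.IsFinLocFree N₂ :=
      Groth.Agent.Lib.Helper25.ReducedFLF.isFinLocFree_of_nu_locally_const N₂ hft₂
        (fun y => Zy (V.ι y)) (fun y => isField_Γtop (V.ι y)) (fun y => gy V y)
        (fun y t => gy_apply V y t) (fun y => by
          obtain ⟨W, hyW, hW⟩ := nu_locally_const L hP hc y
          exact ⟨W, hyW, fun z hz => (hW z hz).2⟩)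
    refine ⟨V, hx₀, ?_, ?_⟩
    · exact (Groth.Agent.Lib.Helper25.KSixD.LocalModel.isFlat_cokernel_iff' L hP (p - 1) p (by ring)
        le_rfl).1 (Groth.Agent.Lib.helper16.FLF.isFlat_of_isFinLocFree _ hN₁)
    · exact (Groth.Agent.Lib.Helper25.KSixD.LocalModel.isFlat_cokernel_iff' L hP p (p + 1) rfl
        (by omega)).1 (Groth.Agent.Lib.helper16.FLF.isFlat_of_isFinLocFree _ hN₂)
  constructor
  · refine isFlat_of_forall_restrict _ (fun x => ?_)
    obtain ⟨V, hx, h1, -⟩ := key x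
    exact ⟨V, hx, h1⟩
  · refine isFlat_of_forall_restrict _ (fun x => ?_)
    obtain ⟨V, hx, -, h2⟩ := key x
    exact ⟨V, hx, h2⟩

/-- injectivity of `T^{q+1}` on short exact sequences of quasi-coherent modules from flatness of `coker(P^q ⟶ P^{q+1})` -/
theorem mono_GTens_of_isFlat (F P : CochainComplex X.Modules ℤ) [DCoh.HasLTensorCx F] (φ : P ⟶ F)
    (hPK : DCoh.IsKFlat P) (hPf : ∀ i : ℤ, FlatMod.IsFlat (P.X i)) (hφ : QuasiIso φ) (q : ℤ)
    (hfl : FlatMod.IsFlat (cokernel (P.d q (q + 1))))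
    (S : ShortComplex (QCohCat.isQCoh X).FullSubcategory) (hS : S.ShortExact) :
    Mono ((Groth.Agent.Lib.Helper25.DeltaPush.GTens F ⋙
      DerivedCategory.homologyFunctor X.Modules (q + 1)).map S.f) := by
  have hS' := Groth.Agent.Lib.Helper25.DeltaPush.shortExact_map_ι S hS
  haveI : Mono ((QCohCat.isQCoh X).ι.map S.f) := hS'.mono_f
  have h1 := (forall_mono_iff_isFlat P q (hPf _)).2 hfl ((QCohCat.isQCoh X).ι.map S.f) inferInstance
  exact @site_mono_T _ _ _ (OX X) F P ‹DCoh.HasLTensorCx F› φ hPK hφ (q + 1) _ _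
    ((QCohCat.isQCoh X).ι.map S.f) h1

/-- **S6250** -/
theorem main [IsReduced X] (F : CochainComplex X.Modules ℤ) (q : ℤ)
    (hE : DCoh.IsPseudoCoherentD q (DCoh.toD X F))
    [∀ x : X, DCoh.HasLpull (X.fromSpecResidueField x)] [DCoh.HasLTensorCx F]
    (hc : IsLocallyConstant (fun x : X => PerfD.betti (DCoh.toD X F) x (q + 1))) :
    PreservesFiniteLimits ((QCohCat.isQCoh X).ι ⋙ DerivedCategory.singleFunctor X.Modules 0 ⋙
      DCoh.LTensorCx F ⋙ DerivedCategory.homologyFunctor X.Modules (q + 1)) ∧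
    PreservesFiniteColimits ((QCohCat.isQCoh X).ι ⋙ DerivedCategory.singleFunctor X.Modules 0 ⋙
      DCoh.LTensorCx F ⋙ DerivedCategory.homologyFunctor X.Modules (q + 1)) := by
  obtain ⟨P, φ, hPK, hPf, hφ, -⟩ := Groth.Agent.Lib.helper13.KRes.dcoh_exists_kFlat_resolution F
  have hP : P₀ X P := ⟨hPK, hPf⟩
  haveI : IsIso (DerivedCategory.Q.map φ) := (DerivedCategory.isIso_Q_map_iff_quasiIso _ _).2 hφ
  let eP : DCoh.toD X P ≅ DCoh.toD X F := asIso (DerivedCategory.Q.map φ)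
  have hpc : DCoh.IsPseudoCoherentD (q + 1 - 1) (DCoh.toD X P) := by
    rw [show q + 1 - 1 = q by ring]
    exact Groth.Agent.Lib.helper25.DCohPC3.isPseudoCoherentD_of_iso eP.symm hE
  have hc' : IsLocallyConstant (fun x : X => PerfD.betti (DCoh.toD X P) x (q + 1)) := by
    have : (fun x : X => PerfD.betti (DCoh.toD X P) x (q + 1)) =
        fun x : X => PerfD.betti (DCoh.toD X F) x (q + 1) := by
      funext x
      exact Groth.Agent.Lib.Helper25.KSixE.betti_congr eP x (q + 1)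
    rw [this]
    exact hc
  obtain ⟨h1, h2⟩ := isFlat_cokernels_of_betti_locally_const P hP (q + 1) hpc hc'
  rw [show q + 1 - 1 = q by ring] at h1
  have hl1 : PreservesFiniteLimits (Groth.Agent.Lib.Helper25.DeltaPush.GTens F ⋙
      DerivedCategory.homologyFunctor X.Modules (q + 1)) :=
    (Groth.Agent.Lib.Helper25.DeltaExact.preservesFiniteLimits_iff
      (Groth.Agent.Lib.Helper25.DeltaPush.GTens F)
      (Groth.Agent.Lib.Helper25.DeltaPush.exists_distinguished_GTens F) (q + 1)).2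
      (fun S hS => mono_GTens_of_isFlat F P φ hPK hPf hφ q h1 S hS)
  have hl2 : PreservesFiniteLimits (Groth.Agent.Lib.Helper25.DeltaPush.GTens F ⋙
      DerivedCategory.homologyFunctor X.Modules (q + 1 + 1)) :=
    (Groth.Agent.Lib.Helper25.DeltaExact.preservesFiniteLimits_iff
      (Groth.Agent.Lib.Helper25.DeltaPush.GTens F)
      (Groth.Agent.Lib.Helper25.DeltaPush.exists_distinguished_GTens F) (q + 1 + 1)).2
      (fun S hS => mono_GTens_of_isFlat F P φ hPK hPf hφ (q + 1) h2 S hS)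
  have hr1 : PreservesFiniteColimits (Groth.Agent.Lib.Helper25.DeltaPush.GTens F ⋙
      DerivedCategory.homologyFunctor X.Modules (q + 1)) :=
    (Groth.Agent.Lib.Helper25.DeltaExact.preservesFiniteColimits_iff_preservesFiniteLimits_succ
      (Groth.Agent.Lib.Helper25.DeltaPush.GTens F)
      (Groth.Agent.Lib.Helper25.DeltaPush.exists_distinguished_GTens F) (q + 1)).2 hl2
  exact ⟨hl1, hr1⟩

end Groth.Agent.Lib.Helper25.KSixG
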