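import Mathlib

/-!
# Naturality along roofs (helper25)

`A₀` abelian, `L₁ L₂ : D(A₀) ⥤ H`, `B : CochainComplex A₀ ℤ ⥤ H`, `α : Q ⋙ L₁ ⟶ B`, `β : Q ⋙ L₂ ⟶ B` with `β.app P` invertible
for `P` in a class `P₀` of complexes admitting resolutions.

* `θ`, `θ_naturality_chain`, `roof_naturality`: `θ_P := α_P ≫ β_P⁻¹ : L₁(Q P) ⟶ L₂(Q P)` is natural with respect to ALL
  morphisms `Q P ⟶ Q P'` of `D(A₀)` (`P, P' ∈ P₀`), not only those coming from chain maps.
* `nonempty_natIso`: for `R : B₀ ⥤ D(A₀)`, if `α_P` is invertible whenever `P ∈ P₀` represents some `R M`, then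
  `R ⋙ L₁ ≅ R ⋙ L₂`.
-/

set_option autoImplicit false
open CategoryTheory CategoryTheory.Limits

namespace Groth.Agent.Lib.Helper25.NatRoof

variable {A₀ : Type*} [Category A₀] [Abelian A₀] [HasDerivedCategory A₀] {H : Type*} [Category H]
  (P₀ : ObjectProperty (CochainComplex A₀ ℤ))
  (hres₀ : ∀ E : CochainComplex A₀ ℤ, ∃ (P : CochainComplex A₀ ℤ) (s : P ⟶ E), P₀ P ∧ QuasiIso s)
  (L₁ L₂ : DerivedCategory A₀ ⥤ H) (B : CochainComplex A₀ ℤ ⥤ H)
  (α : DerivedCategory.Q ⋙ L₁ ⟶ B) (β : DerivedCategory.Q ⋙ L₂ ⟶ B)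
  (hβ : ∀ P, P₀ P → IsIso (β.app P))

/-- the comparison on a complex of the class `P₀` -/
noncomputable def θ (P : CochainComplex A₀ ℤ) (hP : P₀ P) :
    L₁.obj (DerivedCategory.Q.obj P) ⟶ L₂.obj (DerivedCategory.Q.obj P) :=
  α.app P ≫ @inv _ _ _ _ (β.app P) (hβ P hP)

lemma θ_naturality_chain {K K' : CochainComplex A₀ ℤ} (hK : P₀ K) (hK' : P₀ K') (t : K ⟶ K') :
    L₁.map (DerivedCategory.Q.map t) ≫ θ P₀ L₁ L₂ B α β hβ K' hK' =
      θ P₀ L₁ L₂ B α β hβ K hK ≫ L₂.map (DerivedCategory.Q.map t) := by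
  haveI := hβ K hK
  haveI := hβ K' hK'
  have n1 : L₁.map (DerivedCategory.Q.map t) ≫ α.app K' = α.app K ≫ B.map t := α.naturality t
  have n2 : L₂.map (DerivedCategory.Q.map t) ≫ β.app K' = β.app K ≫ B.map t := β.naturality t
  unfold θ
  rw [← Category.assoc, n1, Category.assoc, Category.assoc]
  congr 1
  rw [IsIso.comp_inv_eq, Category.assoc, n2, IsIso.inv_hom_id_assoc]

include hres₀ in
theorem roof_naturality {P P' : CochainComplex A₀ ℤ} (hP : P₀ P) (hP' : P₀ P')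
    (u : DerivedCategory.Q.obj P ⟶ DerivedCategory.Q.obj P') :
    L₁.map u ≫ θ P₀ L₁ L₂ B α β hβ P' hP' = θ P₀ L₁ L₂ B α β hβ P hP ≫ L₂.map u := by
  obtain ⟨P₁, s, hs, g, rfl⟩ := DerivedCategory.right_fac u
  obtain ⟨P₂, r, hP₂, hr⟩ := hres₀ P₁
  haveI : IsIso (DerivedCategory.Q.map r) := by
    rw [DerivedCategory.isIso_Q_map_iff_quasiIso]; exact hr
  haveI hs' : IsIso (DerivedCategory.Q.map (r ≫ s)) := by
    rw [Functor.map_comp]; infer_instance
  have hu : DerivedCategory.Q.map (r ≫ s) ≫ (inv (DerivedCategory.Q.map s) ≫ DerivedCategory.Q.map g) =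
      DerivedCategory.Q.map (r ≫ g) := by
    rw [Functor.map_comp, Functor.map_comp, Category.assoc, IsIso.hom_inv_id_assoc]
  haveI : IsIso (L₁.map (DerivedCategory.Q.map (r ≫ s))) := Functor.map_isIso _ _
  rw [← cancel_epi (L₁.map (DerivedCategory.Q.map (r ≫ s)))]
  have h1 := θ_naturality_chain P₀ L₁ L₂ B α β hβ hP₂ hP (r ≫ s)
  have h2 := θ_naturality_chain P₀ L₁ L₂ B α β hβ hP₂ hP' (r ≫ g)
  rw [← Category.assoc, ← Functor.map_comp, hu, h2, ← Category.assoc, h1, Category.assoc,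
    ← Functor.map_comp, hu]

include hres₀ β hβ in
/-- **the natural isomorphism along a functor `R`** -/
theorem nonempty_natIso {B₀ : Type*} [Category B₀] (R : B₀ ⥤ DerivedCategory A₀)
    (hα : ∀ (M : B₀) (P : CochainComplex A₀ ℤ), P₀ P →
      Nonempty (DerivedCategory.Q.obj P ≅ R.obj M) → IsIso (α.app P)) :
    Nonempty (R ⋙ L₁ ≅ R ⋙ L₂) := by
  have hex : ∀ M : B₀, ∃ P : CochainComplex A₀ ℤ, P₀ P ∧
      Nonempty (DerivedCategory.Q.obj P ≅ R.obj M) := by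
    intro M
    obtain ⟨P, s, hP, hs⟩ := hres₀ (DerivedCategory.Q.objPreimage (R.obj M))
    haveI : IsIso (DerivedCategory.Q.map s) := by
      rw [DerivedCategory.isIso_Q_map_iff_quasiIso]; exact hs
    exact ⟨P, hP, ⟨asIso (DerivedCategory.Q.map s) ≪≫ DerivedCategory.Q.objObjPreimageIso _⟩⟩
  choose Pm hPm em using hex
  let a : ∀ M, DerivedCategory.Q.obj (Pm M) ≅ R.obj M := fun M => (em M).some
  have hθ : ∀ M, IsIso (θ P₀ L₁ L₂ B α β hβ (Pm M) (hPm M)) := by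
    intro M
    haveI := hβ _ (hPm M)
    haveI := hα M _ (hPm M) (em M)
    unfold θ
    infer_instance
  refine ⟨NatIso.ofComponents
    (fun M => L₁.mapIso (a M).symm ≪≫ @asIso _ _ _ _ (θ P₀ L₁ L₂ B α β hβ (Pm M) (hPm M)) (hθ M) ≪≫
      L₂.mapIso (a M)) ?_⟩
  intro M M' v
  have key := roof_naturality P₀ hres₀ L₁ L₂ B α β hβ (hPm M) (hPm M')
    ((a M).hom ≫ R.map v ≫ (a M').inv)
  have e1 : R.map v ≫ (a M').inv = (a M).inv ≫ ((a M).hom ≫ R.map v ≫ (a M').inv) := by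
    rw [Iso.inv_hom_id_assoc]
  have e2 : ((a M).hom ≫ R.map v ≫ (a M').inv) ≫ (a M').hom = (a M).hom ≫ R.map v := by
    rw [Category.assoc, Category.assoc, Iso.inv_hom_id, Category.comp_id]
  change L₁.map (R.map v) ≫ L₁.map (a M').inv ≫ θ P₀ L₁ L₂ B α β hβ (Pm M') (hPm M') ≫ L₂.map (a M').hom =
    (L₁.map (a M).inv ≫ θ P₀ L₁ L₂ B α β hβ (Pm M) (hPm M) ≫ L₂.map (a M).hom) ≫ L₂.map (R.map v)
  rw [← Category.assoc, ← Functor.map_comp, e1, Functor.map_comp, Category.assoc,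
    ← Category.assoc (L₁.map ((a M).hom ≫ R.map v ≫ (a M').inv)), key, Category.assoc,
    ← Functor.map_comp, e2, Functor.map_comp, Category.assoc, Category.assoc]

end Groth.Agent.Lib.Helper25.NatRoof
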