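import Groth.Agent.Lib.Helper25.PFMain
import Groth.Agent.Lib.Helper25.NatRoof
import Groth.Agent.Lib.Helper25.BraidCx
import Groth.Agent.Lib.Helper25.LpullComp
import Groth.Agent.Lib.Helper13.CurveDual10
import Groth.Prelude.Def_QCohCat

/-!
# The projection formula, naturally in the module variable (helper25)

`f : X ⟶ Y` quasi-compact quasi-separated, `I` a K-injective complex on `X` with quasi-coherent cohomology.

* `cQ f P : Lf^*(Q P) ⟶ Q(f^*P)`, `m_naturality`.
* `α f I : Q ⋙ (- ⊗^L f_*I) ⟶ B`, `β f I : Q ⋙ Lf^* ⋙ (- ⊗^L I) ⋙ Rf_* ⟶ B` with `B P = Rf_*(Q(f^*P ⊗ I))`.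
* `nonempty_natIso` : `M ↦ M ⊗^L f_*I` and `M ↦ Rf_*(Lf^*M ⊗^L I)` are isomorphic functors on quasi-coherent modules.
-/

set_option autoImplicit false
universe u
open CategoryTheory CategoryTheory.Limits AlgebraicGeometry HomologicalComplex

attribute [local instance] HasDerivedCategory.standard

namespace Groth.Agent.Lib.Helper25.PFNat

open Scheme.Modules Groth.Agent.Lib.Helper25.PullTensorCx
  Groth.Agent.Lib.Helper25.PFCx1 Groth.Agent.Lib.Helper25.PFDer1
  Groth.Agent.Lib.Helper25.LTensorComp Groth.Agent.Lib.Helper25.BraidCx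
  Groth.Agent.Lib.Helper25.LpullAdapted

attribute [local instance] Groth.Agent.Lib.Helper25.LTensorRestrict.hasLTensorCx

variable {X Y : Scheme.{u}} (f : X ⟶ Y)

section Pull

variable [DCoh.HasLpull f]

/-- the counit of `Lf^*` on a complex -/
noncomputable def cQ (P : CochainComplex Y.Modules ℤ) :
    (DCoh.Lpull f).obj (DerivedCategory.Q.obj P) ⟶ DerivedCategory.Q.obj ((pullCx f).obj P) :=
  (Groth.Agent.Lib.Helper25.LpullComp.ε f).app ((HomotopyCategory.quotient _ _).obj P)

lemma cQ_naturality {P P' : CochainComplex Y.Modules ℤ} (g : P ⟶ P') :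
    (DCoh.Lpull f).map (DerivedCategory.Q.map g) ≫ cQ f P' =
      cQ f P ≫ DerivedCategory.Q.map ((pullCx f).map g) :=
  (Groth.Agent.Lib.Helper25.LpullComp.ε f).naturality ((HomotopyCategory.quotient _ _).map g)

lemma isIso_cQ (P : CochainComplex Y.Modules ℤ) (hP : P₀ Y P) : IsIso (cQ f P) :=
  Groth.Agent.Lib.Helper25.LpullComp.isIso_ε_app f P hP

end Pull

variable [DCoh.HasRpush f]

/-- naturality of the derived projection morphism in the K-flat variable -/
lemma m_naturality (I : CochainComplex X.Modules ℤ) {P P' : CochainComplex Y.Modules ℤ} (g : P ⟶ P') :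
    DerivedCategory.Q.map (((DCoh.tensorCx (X := Y)).obj ((pushCx f).obj I)).map g) ≫ m f I P' =
      m f I P ≫ (DCoh.Rpush f).map (DerivedCategory.Q.map
        (((DCoh.tensorCx (X := X)).obj I).map ((pullCx f).map g))) := by
  have hn := projCx_naturality f (𝟙 I) g
  rw [CategoryTheory.Functor.map_id] at hn
  have hq := (DerivedCategory.Q.map_comp _ _).symm.trans
    ((congrArg DerivedCategory.Q.map hn).trans (DerivedCategory.Q.map_comp _ _))
  exact aux_sq _ _ (ηQ f (((DCoh.tensorCx (X := X)).obj I).obj ((pullCx f).obj P'))) _ _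
    (ηQ f (((DCoh.tensorCx (X := X)).obj I).obj ((pullCx f).obj P))) _ hq
    (ηQ_naturality f (mapBifunctorMap (𝟙 I) ((pullCx f).map g) (DCoh.tensorBi (X := X))
      (ComplexShape.up ℤ)))

variable [DCoh.HasLpull f] (I : CochainComplex X.Modules ℤ)

/-- the target functor `P ↦ Rf_*(Q(f^*P ⊗ I))` -/
noncomputable abbrev B : CochainComplex Y.Modules ℤ ⥤ DCoh.D Y :=
  pullCx f ⋙ DCoh.tensorCxQ I ⋙ DCoh.Rpush f

/-- the projection morphism `(Q P) ⊗^L f_*I ⟶ Rf_*(Q(f^*P ⊗ I))` -/
noncomputable def α : DerivedCategory.Q ⋙ DCoh.LTensorCx ((pushCx f).obj I) ⟶ B f I where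
  app P := (ε ((pushCx f).obj I)).app P ≫
    DerivedCategory.Q.map ((braidNat ((pushCx f).obj I)).hom.app P) ≫ m f I P ≫
    (DCoh.Rpush f).map (DerivedCategory.Q.map ((braidNat I).inv.app ((pullCx f).obj P)))
  naturality P P' g := by
    have n1 := (ε ((pushCx f).obj I)).naturality g
    have n2 := (braidNat ((pushCx f).obj I)).hom.naturality g
    have n3 := m_naturality f I g
    have n4 := (braidNat I).inv.naturality ((pullCx f).map g)
    have n2' := (DerivedCategory.Q.map_comp _ _).symm.trans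
      ((congrArg DerivedCategory.Q.map n2).trans (DerivedCategory.Q.map_comp _ _))
    have n4' := (DerivedCategory.Q.map_comp _ _).symm.trans
      ((congrArg DerivedCategory.Q.map n4).trans (DerivedCategory.Q.map_comp _ _))
    have n4'' := ((DCoh.Rpush f).map_comp _ _).symm.trans
      ((congrArg (DCoh.Rpush f).map n4').trans ((DCoh.Rpush f).map_comp _ _))
    change (DCoh.LTensorCx ((pushCx f).obj I)).map (DerivedCategory.Q.map g) ≫ _ =
      _ ≫ (DCoh.Rpush f).map (DerivedCategory.Q.map ((tR I).map ((pullCx f).map g)))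
    simp only [Category.assoc]
    rw [← n4'']
    rw [← Category.assoc (m f I P), ← n3]
    simp only [Category.assoc]
    rw [← Category.assoc (DerivedCategory.Q.map ((braidNat ((pushCx f).obj I)).hom.app P)), ← n2']
    simp only [Category.assoc]
    rw [← Category.assoc ((ε ((pushCx f).obj I)).app P)]
    erw [← n1]
    simp only [Category.assoc]
    rfl

/-- the comparison `Rf_*(Lf^*(Q P) ⊗^L I) ⟶ Rf_*(Q(f^*P ⊗ I))` -/
noncomputable def β :
    DerivedCategory.Q ⋙ (DCoh.Lpull f ⋙ DCoh.LTensorCx I ⋙ DCoh.Rpush f) ⟶ B f I where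
  app P := (DCoh.Rpush f).map ((DCoh.LTensorCx I).map (cQ f P) ≫ (ε I).app ((pullCx f).obj P))
  naturality P P' g := by
    have n1 := cQ_naturality f g
    have n2 := (ε I).naturality ((pullCx f).map g)
    change (DCoh.Rpush f).map ((DCoh.LTensorCx I).map ((DCoh.Lpull f).map (DerivedCategory.Q.map g))) ≫
        (DCoh.Rpush f).map _ = (DCoh.Rpush f).map _ ≫ (DCoh.Rpush f).map ((DCoh.tensorCxQ I).map ((pullCx f).map g))
    rw [← Functor.map_comp, ← Functor.map_comp]
    congr 1
    rw [← Category.assoc, ← Functor.map_comp, n1, Functor.map_comp, Category.assoc, Category.assoc]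
    congr 1

theorem isIso_β_app (P : CochainComplex Y.Modules ℤ) (hP : P₀ Y P) : IsIso ((β f I).app P) := by
  haveI := isIso_cQ f P hP
  haveI := isIso_ε_app I ((pullCx f).obj P)
    (Groth.Agent.Lib.Helper25.PullKFlat.isKFlat_pullback f P hP.1)
  change IsIso ((DCoh.Rpush f).map ((DCoh.LTensorCx I).map (cQ f P) ≫ (ε I).app ((pullCx f).obj P)))
  infer_instance

theorem isIso_α_app [QuasiCompact f] [QuasiSeparated f] [I.IsKInjective]
    (hI : DCoh.IsQCohD (DerivedCategory.Q.obj I)) (P : CochainComplex Y.Modules ℤ) (hP : P₀ Y P)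
    (hPq : DCoh.IsQCohD (DerivedCategory.Q.obj P)) : IsIso ((α f I).app P) := by
  haveI := isIso_ε_app ((pushCx f).obj I) P hP.1
  haveI := Groth.Agent.Lib.Helper25.PFMain.isIso_m_of_isQCohD f I hI P hP.1 hPq
  change IsIso ((ε ((pushCx f).obj I)).app P ≫
    DerivedCategory.Q.map ((braidNat ((pushCx f).obj I)).hom.app P) ≫ m f I P ≫
    (DCoh.Rpush f).map (DerivedCategory.Q.map ((braidNat I).inv.app ((pullCx f).obj P))))
  infer_instance

/-- **the projection formula as a natural isomorphism on quasi-coherent modules** -/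
theorem nonempty_natIso [QuasiCompact f] [QuasiSeparated f] [I.IsKInjective]
    (hI : DCoh.IsQCohD (DerivedCategory.Q.obj I)) :
    Nonempty (((QCohCat.isQCoh Y).ι ⋙ DerivedCategory.singleFunctor Y.Modules 0) ⋙
        DCoh.LTensorCx ((pushCx f).obj I) ≅
      ((QCohCat.isQCoh Y).ι ⋙ DerivedCategory.singleFunctor Y.Modules 0) ⋙
        (DCoh.Lpull f ⋙ DCoh.LTensorCx I ⋙ DCoh.Rpush f)) := by
  refine Groth.Agent.Lib.Helper25.NatRoof.nonempty_natIso (P₀ Y) hres₀ _ _ (B f I) (α f I) (β f I)
    (fun P hP => isIso_β_app f I P hP) _ (fun M P hP ⟨e⟩ => ?_)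
  refine isIso_α_app f I hI P hP ?_
  exact Groth.Agent.Lib.Helper25.LiftCover.isQCohD_of_iso e.symm
    (Groth.Agent.Lib.helper13.CurveDual.isQCohD_single M.obj M.property 0)

end Groth.Agent.Lib.Helper25.PFNat
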