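import Mathlib
import Groth.Agent.Lib.Helper25.RelPC
import Groth.Agent.Lib.Helper25.LTensorCoh
import Groth.Agent.Lib.Helper16.QCohPullback2

/-!
# Relative pseudo-coherence over a locally Noetherian base gives coherent cohomology (helper25)

* `isCoh_homology_of_isPseudoCoherentD`: on a locally Noetherian scheme the cohomology sheaves above `m` of an
  `m`-pseudo-coherent complex are coherent.
* `isCoh_of_isCoh_push`: `i` a closed immersion, `i_*M` coherent ⟹ `M` coherent.
* `isCoh_HD_of_isPseudoCoherentRel`, `isCohD_of_isPseudoCoherentRelAll`: `Y` locally Noetherian, `E` pseudo-coherent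
  relative to `f : X ⟶ Y` ⟹ `E ∈ D_Coh(O_X)`.
-/

set_option autoImplicit false
universe u
open CategoryTheory CategoryTheory.Limits AlgebraicGeometry HomologicalComplex Opposite TopologicalSpace

attribute [local instance] HasDerivedCategory.standard

namespace Groth.Agent.Lib.Helper25.RelCoh

open Scheme.Modules Groth.Agent.Lib.Helper25.RelPC Groth.Agent.Lib.helper25.DCohHomology
  Groth.Agent.Lib.Helper25.LTensorCoh

section absolute

variable {A : Scheme.{u}}

theorem isCoh_homology_of_isPseudoCoherentD [IsLocallyNoetherian A] {m : ℤ}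
    (F : CochainComplex A.Modules ℤ) (h : DCoh.IsPseudoCoherentD m (DCoh.toD A F)) (j : ℤ)
    (hj : m < j) : Coh.IsCoh (F.homology j) := by
  choose W P hxW hP eP using exists_local_homology_model F h
  refine isCoh_of_cover _ (fun x : A => W x) ?_ (fun x => ?_)
  · rw [eq_top_iff]
    intro x _
    exact Opens.mem_iSup.mpr ⟨x, hxW x⟩
  · exact isCoh_of_iso (eP x j hj).some.symm (isCoh_homology_of_isStrictlyPerfect (hP x) j)

end absolute

section push

variable {Z A : Scheme.{u}} (i : Z ⟶ A) [IsClosedImmersion i]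

theorem isCoh_of_isCoh_push (M : Z.Modules)
    (h : Coh.IsCoh ((Scheme.Modules.pushforward i).obj M)) : Coh.IsCoh M := by
  haveI := Groth.Agent.Lib.helper21.ClosedFF.full_pushforward i
  haveI := Groth.Agent.Lib.helper21.ClosedFF.faithful_pushforward i
  have e : (Scheme.Modules.pullback i).obj ((Scheme.Modules.pushforward i).obj M) ≅ M :=
    asIso ((Scheme.Modules.pullbackPushforwardAdjunction i).counit.app M)
  exact isCoh_of_iso e (isCoh_pullback i h)

end push

section relative

variable {X Y : Scheme.{u}} (f : X ⟶ Y)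

/-- a closed immersion chart into a locally Noetherian affine scheme -/
lemma exists_closedImmersion_chart_noeth [IsLocallyNoetherian Y] {m : ℤ} (G : CochainComplex X.Modules ℤ)
    (h : DerSch.IsPseudoCoherentRel f m (DCoh.toD X G)) (x : X) :
    ∃ (U : X.Opens) (A : Scheme.{u}) (i : (U : Scheme.{u}) ⟶ A), x ∈ U ∧ IsLocallyNoetherian A ∧
      IsClosedImmersion i ∧
      DCoh.IsPseudoCoherentD m (DCoh.toD A ((DerSch.pushCx i).obj ((DCoh.restrictCx U).obj G))) := by
  obtain ⟨U, V, n, φ, hxU, hU, hV, hφ, hpc⟩ := exists_chart f h x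
  haveI : IsNoetherianRing Γ(Y, V) := IsLocallyNoetherian.component_noetherian ⟨V, hV⟩
  haveI : IsNoetherianRing (MvPolynomial (Fin n) Γ(Y, V)) := inferInstance
  exact ⟨U, _, DerSch.chartImm U φ, hxU, inferInstance, isClosedImmersion_chartImm U hU φ hφ,
    hpc G ⟨Iso.refl _⟩⟩

theorem isCoh_HD_of_isPseudoCoherentRel [IsLocallyNoetherian Y] (m : ℤ) (E : DCoh.D X)
    (hE : DerSch.IsPseudoCoherentRel f m E) (j : ℤ) (hj : m < j) : Coh.IsCoh (DCoh.HD E j) := by
  let G : CochainComplex X.Modules ℤ := DerivedCategory.Q.objPreimage E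
  have e₀ : DCoh.toD X G ≅ E := DerivedCategory.Q.objObjPreimageIso E
  have hG : DerSch.IsPseudoCoherentRel f m (DCoh.toD X G) :=
    isPseudoCoherentRel_of_chartPC_imp f
      (fun U V _ _ _ φ _ hpc F ⟨g⟩ => hpc F ⟨g ≪≫ e₀⟩) hE
  have H : ∀ x : X, ∃ (U : X.Opens), x ∈ U ∧
      Coh.IsCoh ((restrictFunctor U.ι).obj (G.homology j)) := by
    intro x
    obtain ⟨U, A, i, hxU, hA, hi, hpc⟩ := exists_closedImmersion_chart_noeth f G hG x
    have h1 := isCoh_homology_of_isPseudoCoherentD _ hpc j hj
    have h2 : Coh.IsCoh ((Scheme.Modules.pushforward i).obj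
        (((DCoh.restrictCx U).obj G).homology j)) :=
      isCoh_of_iso (homologyPushIso i _ j) h1
    have h3 := isCoh_of_isCoh_push i _ h2
    exact ⟨U, hxU, isCoh_of_iso (homologyResIso U.ι G j) h3⟩
  choose U hxU hU using H
  have hq : Coh.IsCoh (G.homology j) := by
    refine isCoh_of_cover _ (fun x : X => U x) ?_ (fun x => hU x)
    rw [eq_top_iff]
    intro x _
    exact Opens.mem_iSup.mpr ⟨x, hxU x⟩
  exact isCoh_of_iso ((DerivedCategory.homologyFunctor _ j).mapIso e₀.symm ≪≫
      (DerivedCategory.homologyFunctorFactors _ j).app G).symm hq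

theorem isCohD_of_isPseudoCoherentRelAll [IsLocallyNoetherian Y] (E : DCoh.D X)
    (hE : DerSch.IsPseudoCoherentRelAll f E) : DCoh.IsCohD E :=
  fun i => isCoh_HD_of_isPseudoCoherentRel f (i - 1) E (hE (i - 1)) i (by omega)

end relative

end Groth.Agent.Lib.Helper25.RelCoh
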