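import Mathlib
import Groth.Agent.Lib.Helper25.PFNat
import Groth.Agent.Lib.Helper25.RelCoh
import Groth.Agent.Lib.Helper25.KSixG
import Groth.Agent.Lib.Helper25.RpushCohProper
import Groth.Agent.Lib.Helper25.CohPCNoeth
import Groth.Agent.Lib.Helper8.DevMaster

/-!
# The functor `M ↦ R^p f_*(Lf^*M ⊗^L F)` through a complex representing `Rf_*F` (helper25; S6248, S6252)

`Y` Noetherian, `f : X ⟶ Y` proper, `F ∈ D^b(O_X)` pseudo-coherent relative to `f`.

* `exists_model`: a complex `G` on `Y` representing `Rf_*F`, pseudo-coherent, with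
  `M ↦ M ⊗^L G` and `M ↦ Rf_*(Lf^*M ⊗^L F)` isomorphic as functors on quasi-coherent modules (natural projection formula).
* `main48` (= S6248), `main52` (= S6252).
-/

set_option autoImplicit false
universe u
open CategoryTheory CategoryTheory.Limits AlgebraicGeometry HomologicalComplex

attribute [local instance] HasDerivedCategory.standard

namespace Groth.Agent.Lib.Helper25.KSixH

open Scheme.Modules Groth.Agent.Lib.Helper25.PullTensorCx
  Groth.Agent.Lib.Helper25.PFCx1 Groth.Agent.Lib.Helper25.PFDer1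
  Groth.Agent.Lib.Helper25.DeltaPush

attribute [local instance] Groth.Agent.Lib.Helper25.LTensorRestrict.hasLTensorCx

variable {X Y : Scheme.{u}}

theorem exists_model [IsNoetherian Y] (f : X ⟶ Y) [IsProper f]
    (F : CochainComplex X.Modules ℤ) (a b : ℤ) [(DCoh.toD X F).IsGE a] [(DCoh.toD X F).IsLE b]
    (hF : DerSch.IsPseudoCoherentRelAll f (DCoh.toD X F)) [DCoh.HasLpull f] [DCoh.HasLTensorCx F]
    [DCoh.HasRpush f] :
    ∃ G : CochainComplex Y.Modules ℤ,
      Nonempty (DCoh.toD Y G ≅ (DCoh.Rpush f).obj (DCoh.toD X F)) ∧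
      (∀ m : ℤ, DCoh.IsPseudoCoherentD m (DCoh.toD Y G)) ∧
      Nonempty (GTens G ≅ GPush f F) := by
  haveI : IsLocallyNoetherian X := LocallyOfFiniteType.isLocallyNoetherian f
  have hcoh : DCoh.IsCohD (DCoh.toD X F) :=
    Groth.Agent.Lib.Helper25.RelCoh.isCohD_of_isPseudoCoherentRelAll f _ hF
  have hqc : DCoh.IsQCohD (DCoh.toD X F) := fun i => (hcoh i).1
  obtain ⟨J, i, hJ, hi⟩ := Groth.Agent.Lib.Helper25.SchKInj.hKinj X F
  haveI := hJ
  haveI : IsIso (DerivedCategory.Q.map i) := (DerivedCategory.isIso_Q_map_iff_quasiIso _ _).2 hi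
  let eJ : DerivedCategory.Q.obj F ≅ DerivedCategory.Q.obj J := asIso (DerivedCategory.Q.map i)
  have hJq : DCoh.IsQCohD (DerivedCategory.Q.obj J) :=
    Groth.Agent.Lib.Helper25.LiftCover.isQCohD_of_iso eJ hqc
  haveI := isIso_ηQ_of_isKInjective f J
  let eG : DCoh.toD Y ((pushCx f).obj J) ≅ (DCoh.Rpush f).obj (DCoh.toD X F) :=
    asIso (ηQ f J) ≪≫ (DCoh.Rpush f).mapIso eJ.symm
  refine ⟨(pushCx f).obj J, ⟨eG⟩, ?_, ?_⟩
  · -- pseudo-coherence
    obtain ⟨h1, -, b', h3⟩ := Groth.Agent.Lib.Helper25.RpushCohProper.isCohD_Rpush_bounded f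
      (DCoh.toD X F) a b hcoh
      (fun i => ⟨Groth.Agent.Lib.helper8.Dev.isClosed_support_of_isCoh _ (hcoh i), inferInstance⟩)
    intro m
    haveI := h3
    exact Groth.Agent.Lib.helper25.DCohPC3.isPseudoCoherentD_of_iso eG.symm
      (Groth.Agent.Lib.Helper25.CohPCNoeth.isPseudoCoherentD_of_isCohD _ b' h1 m)
  · -- the natural projection formula
    obtain ⟨n⟩ := Groth.Agent.Lib.Helper25.PFNat.nonempty_natIso f J hJq
    obtain ⟨t⟩ := Groth.Agent.Lib.Helper25.DualCx6.nonempty_LTensorCx_iso_of_Q_iso F J eJ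
    exact ⟨(Functor.associator _ _ _).symm ≪≫ n ≪≫
      Functor.isoWhiskerLeft ((QCohCat.isQCoh Y).ι ⋙ DerivedCategory.singleFunctor Y.Modules 0)
        (Functor.isoWhiskerLeft (DCoh.Lpull f) (Functor.isoWhiskerRight t.symm (DCoh.Rpush f))) ≪≫
      Functor.associator _ _ _⟩

/-- **S6248** -/
theorem main48 [IsNoetherian Y] (f : X ⟶ Y) [IsProper f]
    (F : CochainComplex X.Modules ℤ) (a b : ℤ) [(DCoh.toD X F).IsGE a] [(DCoh.toD X F).IsLE b]
    (hF : DerSch.IsPseudoCoherentRelAll f (DCoh.toD X F)) (q : ℤ) [DCoh.HasLpull f]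
    [DCoh.HasLTensorCx F] [DCoh.HasRpush f]
    (hl : PreservesFiniteLimits (GPush f F ⋙ DerivedCategory.homologyFunctor Y.Modules (q + 1)))
    (hr : PreservesFiniteColimits (GPush f F ⋙ DerivedCategory.homologyFunctor Y.Modules (q + 1)))
    [∀ y : Y, DCoh.HasLpull (Y.fromSpecResidueField y)] :
    FlatMod.IsFinLocFree (DCoh.HD ((DCoh.Rpush f).obj (DCoh.toD X F)) (q + 1)) ∧
      IsLocallyConstant (fun y : Y => PerfD.betti ((DCoh.Rpush f).obj (DCoh.toD X F)) y (q + 1)) := by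
  obtain ⟨G, ⟨eG⟩, hpc, ⟨n⟩⟩ := exists_model f F a b hF
  have hl' : PreservesFiniteLimits (GTens G ⋙ DerivedCategory.homologyFunctor Y.Modules (q + 1)) :=
    @preservesFiniteLimits_of_natIso _ _ _ _ _ _
      (Functor.isoWhiskerRight n.symm (DerivedCategory.homologyFunctor Y.Modules (q + 1))) hl
  have hr' : PreservesFiniteColimits (GTens G ⋙ DerivedCategory.homologyFunctor Y.Modules (q + 1)) :=
    @preservesFiniteColimits_of_natIso _ _ _ _ _ _
      (Functor.isoWhiskerRight n.symm (DerivedCategory.homologyFunctor Y.Modules (q + 1))) hr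
  obtain ⟨c1, c2⟩ := @Groth.Agent.Lib.Helper25.KSixF.main Y _ G q (hpc q) _ hl' hr' _
  refine ⟨Groth.Agent.Lib.helper16.FLF.isFinLocFree_of_iso
    ((DerivedCategory.homologyFunctor _ (q + 1)).mapIso eG) c2, ?_⟩
  have : (fun y : Y => PerfD.betti ((DCoh.Rpush f).obj (DCoh.toD X F)) y (q + 1)) =
      fun y : Y => PerfD.betti (DCoh.toD Y G) y (q + 1) := by
    funext y
    exact Groth.Agent.Lib.Helper25.KSixE.betti_congr eG.symm y (q + 1)
  rw [this]
  exact c1

/-- **S6252** -/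
theorem main52 [IsNoetherian Y] [IsReduced Y] (f : X ⟶ Y) [IsProper f]
    (F : CochainComplex X.Modules ℤ) (a b : ℤ) [(DCoh.toD X F).IsGE a] [(DCoh.toD X F).IsLE b]
    (hF : DerSch.IsPseudoCoherentRelAll f (DCoh.toD X F)) (q : ℤ) [DCoh.HasLpull f]
    [DCoh.HasLTensorCx F] [DCoh.HasRpush f]
    [∀ y : Y, DCoh.HasLpull (Y.fromSpecResidueField y)]
    (hc : IsLocallyConstant
      (fun y : Y => PerfD.betti ((DCoh.Rpush f).obj (DCoh.toD X F)) y (q + 1))) :
    PreservesFiniteLimits (GPush f F ⋙ DerivedCategory.homologyFunctor Y.Modules (q + 1)) ∧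
      PreservesFiniteColimits (GPush f F ⋙ DerivedCategory.homologyFunctor Y.Modules (q + 1)) := by
  obtain ⟨G, ⟨eG⟩, hpc, ⟨n⟩⟩ := exists_model f F a b hF
  have hc' : IsLocallyConstant (fun y : Y => PerfD.betti (DCoh.toD Y G) y (q + 1)) := by
    have : (fun y : Y => PerfD.betti (DCoh.toD Y G) y (q + 1)) =
        fun y : Y => PerfD.betti ((DCoh.Rpush f).obj (DCoh.toD X F)) y (q + 1) := by
      funext y
      exact Groth.Agent.Lib.Helper25.KSixE.betti_congr eG y (q + 1)
    rw [this]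
    exact hc
  obtain ⟨l, r⟩ := Groth.Agent.Lib.Helper25.KSixG.main G q (hpc q) hc'
  have l' : PreservesFiniteLimits (GTens G ⋙ DerivedCategory.homologyFunctor Y.Modules (q + 1)) := l
  have r' : PreservesFiniteColimits (GTens G ⋙ DerivedCategory.homologyFunctor Y.Modules (q + 1)) := r
  exact ⟨@preservesFiniteLimits_of_natIso _ _ _ _ _ _
      (Functor.isoWhiskerRight n (DerivedCategory.homologyFunctor Y.Modules (q + 1))) l',
    @preservesFiniteColimits_of_natIso _ _ _ _ _ _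
      (Functor.isoWhiskerRight n (DerivedCategory.homologyFunctor Y.Modules (q + 1))) r'⟩

end Groth.Agent.Lib.Helper25.KSixH
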