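import Mathlib
import Groth.Agent.Lib.Helper25.DCoprodHomology
import Groth.Agent.Lib.Helper25.InjHullCx

/-!
# Functorially killing maps from a set of acyclic complexes (Stacks 079M-style, S0917)

For a family `K : ι → CochainComplex A ℤ` in a Grothendieck abelian category, `N K M` is the mapping cone
of the canonical map `σ : ⨁_{(i, w : K i ⟶ M)} K i ⟶ M` (termwise coproduct `sig` of helper23), and
`j K : 𝟭 ⟶ N K` is `inr`: termwise (split) mono, a quasi-iso if all `K i` are acyclic
(`quasiIso_inr_of_acyclic`, `acyclic_Sobj` using AB4), and each `w ≫ j_M` is null-homotopic (`homotopy_j`).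
Also `isZero_Q_of_acyclic`.
-/

set_option autoImplicit false
universe v u
open CategoryTheory CategoryTheory.Limits HomologicalComplex CochainComplex
open Groth.Agent.Lib.helper23.DCoprod

namespace Groth.Agent.Lib.Helper25.KillAcyclic

variable {A : Type u} [Category.{v} A] [Abelian A]

section General

open CochainComplex.mappingCone Pretriangulated

/-- an acyclic complex is zero in the derived category -/
lemma isZero_Q_of_acyclic [HasDerivedCategory A] {K : CochainComplex A ℤ} (hK : K.Acyclic) :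
    IsZero (DerivedCategory.Q.obj K) := by
  have h : IsIso (0 : DerivedCategory.Q.obj K ⟶ DerivedCategory.Q.obj K) := by
    rw [DerivedCategory.isIso_iff]
    intro n
    have hz : IsZero ((DerivedCategory.homologyFunctor A n).obj (DerivedCategory.Q.obj K)) :=
      IsZero.of_iso ((hK n).isZero_homology) ((DerivedCategory.homologyFunctorFactors A n).app K)
    exact ⟨0, hz.eq_of_src _ _, hz.eq_of_src _ _⟩
  rw [IsZero.iff_id_eq_zero]
  have := IsIso.hom_inv_id (f := (0 : DerivedCategory.Q.obj K ⟶ DerivedCategory.Q.obj K))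
  rw [zero_comp] at this
  exact this.symm

/-- if the source of `φ` is acyclic then `inr φ` is a quasi-isomorphism -/
lemma quasiIso_inr_of_acyclic {K L : CochainComplex A ℤ} (φ : K ⟶ L) (hK : K.Acyclic) :
    QuasiIso (inr φ) := by
  letI : HasDerivedCategory A := HasDerivedCategory.standard A
  rw [← DerivedCategory.isIso_Q_map_iff_quasiIso]
  have hT := DerivedCategory.mappingCone_triangle_distinguished φ
  exact (Triangle.isZero₁_iff_isIso₂ _ hT).1 (isZero_Q_of_acyclic hK)

end General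

section Construction

open CochainComplex.mappingCone

variable [IsGrothendieckAbelian.{v} A] {ι : Type v} (K : ι → CochainComplex A ℤ)

/-- the index type: pairs `(i, w : K i ⟶ M)` -/
abbrev Idx (M : CochainComplex A ℤ) : Type v := Σ i, (K i ⟶ M)

/-- reindexing along `f : M ⟶ M'` -/
abbrev idxMap {M M' : CochainComplex A ℤ} (f : M ⟶ M') (p : Idx K M) : Idx K M' := ⟨p.1, p.2 ≫ f⟩

/-- the family `(i, w) ↦ K i` -/
abbrev famK (M : CochainComplex A ℤ) : Idx K M → CochainComplex A ℤ := fun p => K p.1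

/-- the coproduct of all `K i` over all `w : K i ⟶ M` -/
noncomputable abbrev Sobj (M : CochainComplex A ℤ) : CochainComplex A ℤ := sig (famK K M)

/-- the canonical map `S(M) ⟶ M` -/
noncomputable def σ (M : CochainComplex A ℤ) : Sobj K M ⟶ M := sigDesc (fun p => p.2)

/-- functoriality of `S` -/
noncomputable def Smap {M M' : CochainComplex A ℤ} (f : M ⟶ M') : Sobj K M ⟶ Sobj K M' :=
  sigDesc (fun p => sigι (famK K M') (idxMap K f p))

@[reassoc (attr := simp)]
lemma ι_σ (M : CochainComplex A ℤ) (p : Idx K M) : sigι (famK K M) p ≫ σ K M = p.2 :=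
  sigι_desc _ p

@[reassoc (attr := simp)]
lemma ι_Smap {M M' : CochainComplex A ℤ} (f : M ⟶ M') (p : Idx K M) :
    sigι (famK K M) p ≫ Smap K f = sigι (famK K M') (idxMap K f p) :=
  sigι_desc _ p

@[reassoc (attr := simp)]
lemma σ_comm {M M' : CochainComplex A ℤ} (f : M ⟶ M') : σ K M ≫ f = Smap K f ≫ σ K M' := by
  apply sig_hom_ext
  intro p
  rw [ι_σ_assoc, ι_Smap_assoc, ι_σ]

lemma sigι_congr {M : CochainComplex A ℤ} {i : ι} {w w' : K i ⟶ M} (h : w = w') :
    sigι (famK K M) ⟨i, w⟩ = sigι (famK K M) ⟨i, w'⟩ := by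
  subst h
  rfl

@[simp] lemma Smap_id (M : CochainComplex A ℤ) : Smap K (𝟙 M) = 𝟙 _ := by
  apply sig_hom_ext
  intro p
  rw [ι_Smap, Category.comp_id]
  obtain ⟨i, w⟩ := p
  exact sigι_congr K (Category.comp_id w)

@[simp] lemma Smap_comp {M₁ M₂ M₃ : CochainComplex A ℤ} (f : M₁ ⟶ M₂) (g : M₂ ⟶ M₃) :
    Smap K (f ≫ g) = Smap K f ≫ Smap K g := by
  apply sig_hom_ext
  intro p
  rw [ι_Smap, ι_Smap_assoc, ι_Smap]
  obtain ⟨i, w⟩ := p
  exact sigι_congr K (Category.assoc w f g).symm

/-- the functor `N(M) = cone(S(M) ⟶ M)` -/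
noncomputable def N : CochainComplex A ℤ ⥤ CochainComplex A ℤ where
  obj M := mappingCone (σ K M)
  map {M M'} f := mappingCone.map (σ K M) (σ K M') (Smap K f) f (σ_comm K f)
  map_id M := InjHullCx.mappingCone_map_eq_id _ _ _ (Smap_id K M) rfl _
  map_comp {M₁ M₂ M₃} f g := InjHullCx.mappingCone_map_eq_comp _ _ _ _ _ _ _ _ _
    (Smap_comp K f g) rfl (σ_comm K f) (σ_comm K g) _

/-- the natural transformation `j : 𝟭 ⟶ N` -/
noncomputable def j : 𝟭 (CochainComplex A ℤ) ⟶ N K where
  app M := inr (σ K M)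
  naturality M M' f := by
    refine HomologicalComplex.hom_ext _ _ (fun n => ?_)
    exact (InjHullCx.inr_f_map_f (σ K M) (σ K M') (Smap K f) f (σ_comm K f) n).symm

lemma mono_j_f (M : CochainComplex A ℤ) (n : ℤ) : Mono (((j K).app M).f n) := by
  haveI : Mono ((inr (σ K M)).f n) := mono_of_mono_fac (inr_f_snd_v (σ K M) n)
  exact this

lemma acyclic_Sobj (hK : ∀ i (n : ℤ), IsZero ((K i).homology n)) (M : CochainComplex A ℤ) :
    (Sobj K M).Acyclic := by
  intro n
  rw [HomologicalComplex.exactAt_iff_isZero_homology]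
  haveI : HasFiniteBiproducts A := Abelian.hasFiniteBiproducts
  haveI h4 : AB4OfSize.{v} A := AB4.of_AB5 A
  haveI : HasExactColimitsOfShape (Discrete (Idx K M)) A := h4.ofShape _
  let P : ObjectProperty A := fun X => IsZero X
  haveI : P.IsClosedUnderIsomorphisms := ⟨fun e h => IsZero.of_iso h e.symm⟩
  refine Groth.Agent.Lib.helper25.DCoprodHomology.prop_homology_sig P ?_
    (famK K M) n (fun p => hK p.1 n)
  intro X hX
  change IsZero (∐ X)
  rw [IsZero.iff_id_eq_zero]
  apply Sigma.hom_ext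
  intro b
  exact (hX b).eq_of_src _ _

lemma quasiIso_j (hK : ∀ i (n : ℤ), IsZero ((K i).homology n)) (M : CochainComplex A ℤ) :
    QuasiIso ((j K).app M) :=
  quasiIso_inr_of_acyclic _ (acyclic_Sobj K hK M)

/-- every `w : K i ⟶ M` becomes null-homotopic in `N(M)` -/
noncomputable def homotopy_j (M : CochainComplex A ℤ) (i : ι) (w : K i ⟶ M) :
    Homotopy (w ≫ (j K).app M) 0 :=
  (Homotopy.ofEq (by
    change w ≫ inr (σ K M) = sigι (famK K M) ⟨i, w⟩ ≫ σ K M ≫ inr (σ K M)
    rw [ι_σ_assoc])).trans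
    (((homotopyCofiber.inrCompHomotopy (σ K M) (fun j => ⟨j - 1, by simp⟩)).compLeft
      (sigι (famK K M) ⟨i, w⟩)).trans (Homotopy.ofEq comp_zero))

theorem main (hK : ∀ i (n : ℤ), IsZero ((K i).homology n)) :
    ∃ (N : CochainComplex A ℤ ⥤ CochainComplex A ℤ) (j : 𝟭 _ ⟶ N),
      ∀ M : CochainComplex A ℤ, (∀ n : ℤ, Mono ((j.app M).f n)) ∧ QuasiIso (j.app M) ∧
        ∀ (i : ι) (w : K i ⟶ M), Nonempty (Homotopy (w ≫ j.app M) 0) :=
  ⟨N K, j K, fun M => ⟨mono_j_f K M, quasiIso_j K hK M, fun i w => ⟨homotopy_j K M i w⟩⟩⟩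

end Construction

end Groth.Agent.Lib.Helper25.KillAcyclic
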