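import Mathlib
import Groth.Agent.Lib.Helper25.KosPointed
import Groth.Agent.Lib.Helper25.KosTilde

/-!
# Factoring sections through Koszul objects on powers, on `Spec A` (helper25)

* `isKosP_tilde`: the object attached to `Koszul.koszul A fs`, with its canonical map from `O`, is a pointed
  Koszul-type object (`KosPointed.IsKosP`).
* `factor` (S1045).
-/

set_option autoImplicit false
universe u
open CategoryTheory CategoryTheory.Limits AlgebraicGeometry Opposite

attribute [local instance] HasDerivedCategory.standard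

namespace Groth.Agent.Lib.Helper25.KosTildeP

open Pretriangulated DerivedCategory TopologicalSpace Scheme.Modules
open Groth.Agent.Lib.Helper25.KosObj Groth.Agent.Lib.Helper25.KosPointed
  Groth.Agent.Lib.Helper25.KosTilde Groth.Agent.Lib.Helper25.QCCEv

variable (A : Type u) [CommRing A] [PreservesFiniteLimits (tilde.functor (CommRingCat.of A))]

attribute [local instance 2000] selfOver

/-- the object of `D(O_{Spec A})` attached to the Koszul complex, with its canonical map from `O`, is a pointed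
Koszul-type object -/
theorem isKosP_tilde : ∀ fs : List A, ∃ t : Sp (Spec (CommRingCat.of A)) 0 ⟶
    (DCoh.tildeD (CommRingCat.of A)).obj (Q.obj (Koszul.koszul A fs)),
    IsKosP A (Spec (CommRingCat.of A)) (Sp (Spec (CommRingCat.of A)) 0) fs
      ((DCoh.tildeD (CommRingCat.of A)).obj (Q.obj (Koszul.koszul A fs))) t
  | [] => ⟨(tildeDSingleIso A).inv, (inferInstance : IsIso (tildeDSingleIso A).inv)⟩
  | f :: l => by
    obtain ⟨t₀, h0⟩ := isKosP_tilde l
    let F := DCoh.tildeD (CommRingCat.of A)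
    let φ : Koszul.koszul A l ⟶ Koszul.koszul A l := f • 𝟙 (Koszul.koszul A l)
    have hT := F.map_distinguished _ (DerivedCategory.mappingCone_triangle_distinguished φ)
    refine ⟨t₀ ≫ F.map (Q.map (CochainComplex.mappingCone.inr φ)),
      F.obj (Q.obj (Koszul.koszul A l)), t₀, F.map (Q.map φ),
      F.map (Q.map (CochainComplex.mappingCone.inr φ)),
      F.map (Q.map (CochainComplex.mappingCone.triangle φ).mor₃ ≫
        (Q.commShiftIso (1 : ℤ)).hom.app _) ≫ (F.commShiftIso (1 : ℤ)).hom.app _, h0, ?_, hT, rfl⟩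
    show F.map (Q.map (f • 𝟙 (Koszul.koszul A l))) = _
    rw [Functor.map_smul, Functor.map_smul, CategoryTheory.Functor.map_id,
      CategoryTheory.Functor.map_id]

/-- **S1045** -/
theorem factor (fs : List A) (E : DCoh.D (Spec (CommRingCat.of A))) (hE : DCoh.IsQCohD E)
    (hU : ∀ i : ℤ, -(fs.length : ℤ) < i → i ≤ 0 →
      IsZero ((DCoh.HD E i).restrict (LocCoh.puncturedOpen A (Ideal.span {a | a ∈ fs})).ι))
    (s : Sp (Spec (CommRingCat.of A)) 0 ⟶ E) :
    ∃ (e : ℕ) (ψ : (DCoh.tildeD (CommRingCat.of A)).obj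
        (Q.obj (Koszul.koszul A (fs.map (fun a => a ^ e)))) ⟶ E)
      (t : Sp (Spec (CommRingCat.of A)) 0 ⟶ (DCoh.tildeD (CommRingCat.of A)).obj
        (Q.obj (Koszul.koszul A (fs.map (fun a => a ^ e))))), t ≫ ψ = s := by
  have hle : ∀ a ∈ fs, (Spec (CommRingCat.of A)).basicOpen
      (show Γ(Spec (CommRingCat.of A), ⊤) from
        Coh.toGlobal (Spec (CommRingCat.of A) ↘ Spec (CommRingCat.of A)) a) ≤
      LocCoh.puncturedOpen A (Ideal.span {a | a ∈ fs}) := by
    intro a ha x hx
    rw [basicOpen_toGlobal] at hx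
    exact (mem_puncturedOpen_iff A fs x).2 ⟨a, ha, hx⟩
  obtain ⟨e₀, h⟩ := exists_factor fs _ hle E hE hU s
  obtain ⟨t, ht⟩ := isKosP_tilde A (fs.map (fun a => a ^ e₀))
  obtain ⟨ψ, hψ⟩ := h e₀ le_rfl _ t ht
  exact ⟨e₀, ψ, t, hψ⟩

end Groth.Agent.Lib.Helper25.KosTildeP
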