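import Mathlib
import Groth.Agent.Lib.Helper25.ApproxCover
import Groth.Agent.Lib.Helper25.RestrictDNat
import Groth.Agent.Lib.Helper25.HomVanQcqs

/-!
# Lifting perfect complexes with supports up to a direct summand (helper25)

Stacks 08EJ-type statement.  `Y` quasi-separated, `j : U' ⟶ Y` a quasi-compact open immersion whose complement is covered
by finitely many affine opens, `O ⊆ Y` a quasi-compact open, `E ∈ D_QCoh(Y)`, `P` perfect on `U'` vanishing on `j⁻¹ O`,
`α : P ⟶ E|_{U'}`.  Then there are a perfect `R` on `Y` vanishing on `O`, `β : R ⟶ E` and `i : P ⟶ R|_{U'}`,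
`p : R|_{U'} ⟶ P` with `i ≫ p = 𝟙` and `i ≫ β|_{U'} = α`.

* `Lifts j O E P α`: the conclusion; `lifts_of_isIso` (`j` an isomorphism), `lifts_fin` (induction on the number of
  affine opens, via `ApproxCover.exists_glued_lift`), `lifts_of_qcqs`.
-/

set_option autoImplicit false
universe u
open CategoryTheory CategoryTheory.Limits AlgebraicGeometry Opposite

attribute [local instance] HasDerivedCategory.standard

namespace Groth.Agent.Lib.Helper25.LiftSummand

open Pretriangulated DerivedCategory TopologicalSpace Scheme.Modules ZeroObject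
open Groth.Agent.Lib.Helper25.HomVanQcqs Groth.Agent.Lib.helper25.DCohPerfect
  Groth.Agent.Lib.Helper25.ApproxCover Groth.Agent.Lib.Helper25.RestrictDNat
  Groth.Agent.Lib.Helper25.ThomasonAffine

/-- the conclusion of the lifting statement -/
def Lifts {Y U' : Scheme.{u}} (j : U' ⟶ Y) [IsOpenImmersion j] (O : Y.Opens) (E : DCoh.D Y)
    (P : DCoh.D U') (α : P ⟶ (DCoh.restrictD j).obj E) : Prop :=
  ∃ (R : DCoh.D Y) (β : R ⟶ E) (i : P ⟶ (DCoh.restrictD j).obj R) (p : (DCoh.restrictD j).obj R ⟶ P),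
    DCoh.IsPerfect R ∧ IsZero ((DCoh.restrictD O.ι).obj R) ∧ i ≫ p = 𝟙 P ∧
      i ≫ (DCoh.restrictD j).map β = α

lemma lifts_of_isIso {Y U' : Scheme.{u}} (j : U' ⟶ Y) [IsIso j] (O : Y.Opens) (E : DCoh.D Y)
    (P : DCoh.D U') (hP : DCoh.IsPerfect P)
    (hPO : IsZero ((DCoh.restrictD (j ⁻¹ᵁ O).ι).obj P)) (α : P ⟶ (DCoh.restrictD j).obj E) :
    Lifts j O E P α := by
  let e := equivOfIso j
  refine ⟨e.inverse.obj P, e.inverse.map α ≫ e.unitIso.inv.app E, e.counitIso.inv.app P,
    e.counitIso.hom.app P, ?_, ?_, ?_, ?_⟩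
  · exact isPerfect_restrictD (inv j) hP
  · obtain ⟨c⟩ := nonempty_restrictD_comp_iso O.ι (inv j) P
    refine IsZero.of_iso ?_ c.symm
    refine isZero_restrictD_of_range_subset _ (j ⁻¹ᵁ O) ?_ P hPO
    rintro _ ⟨x, rfl⟩
    show j.base ((O.ι ≫ inv j).base x) ∈ O
    have h1 : (O.ι ≫ inv j) ≫ j = O.ι := by simp
    have h2 : j.base ((O.ι ≫ inv j).base x) = O.ι.base x :=
      congrArg (fun f => f.base x) h1
    rw [h2]
    exact x.2
  · exact e.counitIso.inv_hom_id_app P
  · show e.counitIso.inv.app P ≫ e.functor.map (e.inverse.map α ≫ e.unitIso.inv.app E) = α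
    have h1 := e.counitIso.inv.naturality α
    have h2 : e.counitIso.inv.app (e.functor.obj E) = e.functor.map (e.unitIso.hom.app E) :=
      e.counitInv_app_functor E
    have h3 : e.functor.map (e.unitIso.hom.app E) ≫ e.functor.map (e.unitIso.inv.app E) = 𝟙 _ := by
      rw [← Functor.map_comp, Iso.hom_inv_id_app]
      exact e.functor.map_id _
    calc e.counitIso.inv.app P ≫ e.functor.map (e.inverse.map α ≫ e.unitIso.inv.app E)
        = (e.counitIso.inv.app P ≫ e.functor.map (e.inverse.map α)) ≫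
            e.functor.map (e.unitIso.inv.app E) := by rw [Functor.map_comp, Category.assoc]
      _ = (α ≫ e.counitIso.inv.app (e.functor.obj E)) ≫ e.functor.map (e.unitIso.inv.app E) :=
          congrArg (fun t => t ≫ e.functor.map (e.unitIso.inv.app E)) h1.symm
      _ = α ≫ (e.functor.map (e.unitIso.hom.app E) ≫ e.functor.map (e.unitIso.inv.app E)) := by
          rw [h2, Category.assoc]
      _ = α := (congrArg (fun t => α ≫ t) h3).trans (Category.comp_id α)

theorem lifts_fin : ∀ (n : ℕ) (Y : Scheme.{u}) [QuasiSeparatedSpace Y] (U' : Scheme.{u}) (j : U' ⟶ Y)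
    [IsOpenImmersion j], IsCompact (j.opensRange : Set Y) → ∀ (V : Fin n → Y.Opens),
    (∀ i, IsAffineOpen (V i)) → j.opensRange ⊔ (⨆ i, V i) = ⊤ →
    ∀ (O : Y.Opens), IsCompact (O : Set Y) → ∀ (E : DCoh.D Y), DCoh.IsQCohD E →
    ∀ (P : DCoh.D U'), DCoh.IsPerfect P → IsZero ((DCoh.restrictD (j ⁻¹ᵁ O).ι).obj P) →
    ∀ (α : P ⟶ (DCoh.restrictD j).obj E), Lifts j O E P α := by
  intro n
  induction n with
  | zero =>
    intro Y _ U' j _ _ V _ hcov O _ E _ P hP hPO α
    have h1 : j.opensRange = ⊤ := by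
      rw [← hcov, iSup_of_empty, sup_bot_eq]
    haveI : Epi j.base := by
      rw [TopCat.epi_iff_surjective]
      intro y
      have : y ∈ j.opensRange := by rw [h1]; trivial
      exact this
    haveI : IsIso j := (isIso_iff_isOpenImmersion_and_epi_base j).2 ⟨inferInstance, inferInstance⟩
    exact lifts_of_isIso j O E P hP hPO α
  | succ n ih =>
    intro Y _ U' j _ hjc V haff hcov O hO E hE P hP hPO α
    let A : Y.Opens := ⨆ i : Fin n, V i.castSucc
    let Y' : Y.Opens := j.opensRange ⊔ A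
    let W : Y.Opens := V (Fin.last n)
    have hY'W : Y' ⊔ W = ⊤ := by
      rw [← hcov, Groth.Agent.Lib.helper27.SerreVan.iSup_fin_succ V, sup_assoc]
    haveI : QuasiSeparatedSpace (Y' : Scheme.{u}) :=
      QuasiSeparatedSpace.of_isOpenEmbedding Y'.ι.isOpenEmbedding
    have hAc : IsCompact (A : Set Y) := by
      have : (A : Set Y) = ⋃ i : Fin n, (V i.castSucc : Set Y) := by
        simp [A]
      rw [this]
      exact isCompact_iUnion fun i => (haff i.castSucc).isCompact
    have hY'c : IsCompact (Y' : Set Y) := hjc.union hAc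
    have hc : IsCompact ((Y' ⊓ W : Y.Opens) : Set Y) :=
      hY'c.inter_of_isOpen (haff _).isCompact Y'.isOpen W.isOpen
    have hOW : IsCompact ((W ⊓ O : Y.Opens) : Set Y) :=
      (haff _).isCompact.inter_of_isOpen hO W.isOpen O.isOpen
    -- the factorization of `j` through `Y'`
    have hrj : Set.range j.base ⊆ Set.range Y'.ι.base := by
      rw [Scheme.Opens.range_ι]
      rintro _ ⟨x, rfl⟩
      exact Or.inl ⟨x, rfl⟩
    let j' : U' ⟶ (Y' : Scheme.{u}) := IsOpenImmersion.lift Y'.ι j hrj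
    have hj' : j' ≫ Y'.ι = j := IsOpenImmersion.lift_fac _ _ _
    haveI : IsOpenImmersion (j' ≫ Y'.ι) := by rw [hj']; infer_instance
    haveI : IsOpenImmersion j' := IsOpenImmersion.of_comp j' Y'.ι
    have hj'x : ∀ x : U', Y'.ι.base (j'.base x) = j.base x := fun x => by
      have := congrArg (fun f => f.base x) hj'
      simpa using this
    let c : DCoh.restrictD j ≅ DCoh.restrictD Y'.ι ⋙ DCoh.restrictD j' :=
      congrIso hj'.symm ≪≫ compIso j' Y'.ι
    -- data on `Y'`
    have hj'c : IsCompact (j'.opensRange : Set (Y' : Scheme.{u})) := by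
      rw [Y'.ι.isOpenEmbedding.isEmbedding.isCompact_iff]
      have : Y'.ι.base '' (j'.opensRange : Set (Y' : Scheme.{u})) = (j.opensRange : Set Y) := by
        ext y
        constructor
        · rintro ⟨_, ⟨x, rfl⟩, rfl⟩
          exact ⟨x, (hj'x x).symm⟩
        · rintro ⟨x, rfl⟩
          exact ⟨j'.base x, ⟨x, rfl⟩, hj'x x⟩
      rw [this]
      exact hjc
    let V' : Fin n → (Y' : Scheme.{u}).Opens := fun i => Y'.ι ⁻¹ᵁ V i.castSucc
    have haff' : ∀ i, IsAffineOpen (V' i) := fun i => by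
      refine (haff i.castSucc).preimage_of_isOpenImmersion Y'.ι ?_
      rw [Scheme.Opens.opensRange_ι]
      exact le_sup_of_le_right (le_iSup (fun i : Fin n => V i.castSucc) i)
    have hcov' : j'.opensRange ⊔ (⨆ i, V' i) = ⊤ := by
      rw [eq_top_iff]
      intro x _
      have hx : Y'.ι.base x ∈ Y' := x.2
      rcases hx with h | h
      · obtain ⟨u, hu⟩ := h
        refine Or.inl ⟨u, ?_⟩
        apply Y'.ι.isOpenEmbedding.injective
        rw [hj'x]
        exact hu
      · refine Or.inr ?_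
        obtain ⟨i, hi⟩ := Opens.mem_iSup.1 h
        exact Opens.mem_iSup.2 ⟨i, hi⟩
    let O' : (Y' : Scheme.{u}).Opens := Y'.ι ⁻¹ᵁ O
    have hO' : IsCompact (O' : Set (Y' : Scheme.{u})) := by
      rw [Y'.ι.isOpenEmbedding.isEmbedding.isCompact_iff]
      have h1 : Y'.ι ''ᵁ O' = Y' ⊓ O := by
        rw [Scheme.Hom.image_preimage_eq_opensRange_inf, Scheme.Opens.opensRange_ι]
      have h2 : (Y'.ι.base '' (O' : Set (Y' : Scheme.{u}))) = ((Y' ⊓ O : Y.Opens) : Set Y) := by
        rw [← h1]; rfl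
      rw [h2]
      exact hY'c.inter_of_isOpen hO Y'.isOpen O.isOpen
    have hPO' : IsZero ((DCoh.restrictD (j' ⁻¹ᵁ O').ι).obj P) := by
      refine isZero_congr_open ?_ hPO
      rw [← Scheme.Hom.comp_preimage, hj']
    obtain ⟨R', β', i', p', hR', hR'O, hip', hiβ'⟩ := ih (Y' : Scheme.{u}) U' j' hj'c V' haff' hcov' O'
      hO' ((DCoh.restrictD Y'.ι).obj E) (Groth.Agent.Lib.Helper25.RGZ4.isQCohD_restrictD Y'.ι E hE)
      P hP hPO' (α ≫ c.hom.app E)
    -- glue with the affine open `W`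
    obtain ⟨R, ρ, θ, hR, hRO, hρ⟩ := exists_glued_lift Y' W (haff _) hc hY'W O hOW E hE R' hR' hR'O β'
    refine ⟨R, ρ, i' ≫ (DCoh.restrictD j').map (biprod.inl ≫ θ.inv) ≫ c.inv.app R,
      c.hom.app R ≫ (DCoh.restrictD j').map (θ.hom ≫ biprod.fst) ≫ p', hR, hRO, ?_, ?_⟩
    · simp only [Category.assoc, Iso.inv_hom_id_app_assoc]
      rw [← Functor.map_comp_assoc]
      simp [hip']
    · have hnat : c.inv.app R ≫ (DCoh.restrictD j).map ρ =
          (DCoh.restrictD j').map ((DCoh.restrictD Y'.ι).map ρ) ≫ c.inv.app E :=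
        (c.inv.naturality ρ).symm
      simp only [Category.assoc]
      rw [hnat, hρ, ← Functor.map_comp_assoc]
      have h3 : (biprod.inl ≫ θ.inv) ≫ θ.hom ≫ biprod.fst ≫ β' = β' := by simp
      rw [h3, ← Category.assoc, hiβ', Category.assoc, Iso.hom_inv_id_app, Category.comp_id]

/-- **lifting up to a direct summand** on a quasi-compact quasi-separated scheme, with supports -/
theorem lifts_of_qcqs (X : Scheme.{u}) [CompactSpace ↥X] [QuasiSeparatedSpace ↥X] (U : X.Opens)
    (hU : IsCompact (U : Set X)) (T : Set X) (hT : IsClosed T) (hTc : IsCompact Tᶜ)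
    (E : DCoh.D X) (hE : DCoh.IsQCohD E) (P : DCoh.D (U : Scheme.{u})) (hP : DCoh.IsPerfect P)
    (hPT : ∀ k : ℤ, CohB1.support (DCoh.HD P k) ⊆ {x : ↥(U : Scheme.{u}) | U.ι.base x ∈ T})
    (α : P ⟶ (DCoh.restrictD U.ι).obj E) :
    ∃ (R : DCoh.D X) (β : R ⟶ E) (i : P ⟶ (DCoh.restrictD U.ι).obj R)
      (p : (DCoh.restrictD U.ι).obj R ⟶ P),
      DCoh.IsPerfect R ∧ (∀ k : ℤ, CohB1.support (DCoh.HD R k) ⊆ T) ∧ i ≫ p = 𝟙 P ∧
        i ≫ (DCoh.restrictD U.ι).map β = α := by
  classical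
  obtain ⟨s, hs, hcov⟩ := (isCompact_iff_finite_and_eq_biUnion_affineOpens (X := X)
    (U := (⊤ : X.Opens))).mp isCompact_univ
  obtain ⟨t, e, he⟩ := hs.fin_embedding
  have h1 : (⨆ i ∈ s, (i : X.Opens)) = ⨆ k : Fin t, ((e k : X.affineOpens) : X.Opens) := by
    rw [← he, iSup_range]
  let O : X.Opens := ⟨Tᶜ, hT.isOpen_compl⟩
  have hOc : (O : Set X)ᶜ = T := compl_compl T
  have hPO : IsZero ((DCoh.restrictD (U.ι ⁻¹ᵁ O).ι).obj P) :=
    Groth.Agent.Lib.Helper25.SchKInj.isZero_restrictD_of_support _ P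
      (fun k x hx hxO => hxO (hPT k hx))
  obtain ⟨R, β, i, p, hR, hRO, hip, hiβ⟩ := lifts_fin t X (U : Scheme.{u}) U.ι
    (by rw [Scheme.Opens.opensRange_ι]; exact hU)
    (fun k => ((e k : X.affineOpens) : X.Opens)) (fun k => (e k).2)
    (by rw [← h1, ← hcov, sup_top_eq]) O hTc E hE P hP hPO α
  refine ⟨R, β, i, p, hR, fun k => ?_, hip, hiβ⟩
  have := Groth.Agent.Lib.Helper25.SchKInj.support_HD_restrictD O R hRO k
  rwa [hOc] at this

end Groth.Agent.Lib.Helper25.LiftSummand
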