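import Mathlib

/-!
# Localization of an abelian category at a class of morphisms with two-sided calculus of fractions

If `A` is abelian, `W` has a left and right calculus of fractions and `L : A ⥤ D` is a localization
functor for `W` (with `D` preadditive and `L` additive), then `L` preserves kernels and cokernels,
the class `kerL L` of objects killed by `L` is a Serre class, `L` is also a localization functor for
`(kerL L).isoModSerre`, and therefore `D` is abelian and `L` is exact (`abelian_and_exact`).
-/

set_option autoImplicit false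
universe v' v u' u
open CategoryTheory CategoryTheory.Limits ZeroObject

namespace Groth.Agent.Lib.helper25.LocAbelian

variable {A : Type u} [Category.{v} A] [Abelian A] (W : MorphismProperty A)
  [W.HasLeftCalculusOfFractions] [W.HasRightCalculusOfFractions]
  {D : Type u'} [Category.{v'} D] (L : A ⥤ D) [L.IsLocalization W] [Preadditive D] [L.Additive]

include W

lemma map_eq_zero_iff_precomp {X Y : A} (f : X ⟶ Y) :
    L.map f = 0 ↔ ∃ (Z : A) (s : Z ⟶ X) (_ : W s), s ≫ f = 0 := by
  rw [← L.map_zero, MorphismProperty.map_eq_iff_precomp L W]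
  simp only [comp_zero]

lemma map_eq_zero_iff_postcomp {X Y : A} (f : X ⟶ Y) :
    L.map f = 0 ↔ ∃ (Z : A) (s : Y ⟶ Z) (_ : W s), f ≫ s = 0 := by
  rw [← L.map_zero, MorphismProperty.map_eq_iff_postcomp L W]
  simp only [zero_comp]

lemma mono_map {X Y : A} (f : X ⟶ Y) [Mono f] : Mono (L.map f) := by
  have := Localization.essSurj L W
  apply Preadditive.mono_of_cancel_zero
  intro P g hg
  obtain ⟨φ, hφ⟩ := Localization.exists_rightFraction L W ((L.objObjPreimageIso P).hom ≫ g)
  rw [← cancel_epi (L.map φ.s), MorphismProperty.RightFraction.map_s_comp_map] at hφ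
  have h1 : L.map (φ.f ≫ f) = 0 := by
    rw [L.map_comp, ← hφ, Category.assoc, Category.assoc, hg, comp_zero, comp_zero]
  obtain ⟨Z, t, ht, fac⟩ := (map_eq_zero_iff_precomp W L _).1 h1
  have := Localization.inverts L W t ht
  have := Localization.inverts L W φ.s φ.hs
  have h2 : t ≫ φ.f = 0 := by
    rw [← cancel_mono f, Category.assoc, fac, zero_comp]
  have h3 : L.map φ.f = 0 := by
    rw [← cancel_epi (L.map t), ← L.map_comp, h2, L.map_zero, comp_zero]
  rw [h3] at hφ
  rw [← cancel_epi (L.objObjPreimageIso P).hom, ← cancel_epi (L.map φ.s), hφ, comp_zero, comp_zero]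

lemma epi_map {X Y : A} (f : X ⟶ Y) [Epi f] : Epi (L.map f) := by
  have := Localization.essSurj L W
  apply Preadditive.epi_of_cancel_zero
  intro P g hg
  obtain ⟨φ, hφ⟩ := Localization.exists_leftFraction L W (g ≫ (L.objObjPreimageIso P).inv)
  rw [← cancel_mono (L.map φ.s), Category.assoc, MorphismProperty.LeftFraction.map_comp_map_s] at hφ
  have h1 : L.map (f ≫ φ.f) = 0 := by
    rw [L.map_comp, ← hφ, reassoc_of% hg, zero_comp]
  obtain ⟨Z, t, ht, fac⟩ := (map_eq_zero_iff_postcomp W L _).1 h1
  have := Localization.inverts L W t ht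
  have := Localization.inverts L W φ.s φ.hs
  have h2 : φ.f ≫ t = 0 := by
    rw [← cancel_epi f, ← Category.assoc, fac, comp_zero]
  have h3 : L.map φ.f = 0 := by
    rw [← cancel_mono (L.map t), ← L.map_comp, h2, L.map_zero, zero_comp]
  rw [h3] at hφ
  rw [← cancel_mono (L.objObjPreimageIso P).inv, ← cancel_mono (L.map φ.s), Category.assoc, hφ,
    zero_comp, zero_comp]

set_option backward.isDefEq.respectTransparency false in
lemma preservesKernel {X Y : A} (f : X ⟶ Y) :
    PreservesLimit (parallelPair f 0) L := by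
  have := mono_map W L (kernel.ι f)
  have := Localization.essSurj L W
  suffices ∀ (P : D) (z : P ⟶ L.obj X) (hz : z ≫ L.map f = 0),
      ∃ (l : P ⟶ L.obj (kernel f)), l ≫ L.map (kernel.ι f) = z from
    preservesLimit_of_preserves_limit_cone (kernelIsKernel f)
      ((KernelFork.isLimitMapConeEquiv _ L).2
        (Fork.IsLimit.ofExistsUnique
          (fun s ↦ existsUnique_of_exists_of_unique
            (this _ _ (KernelFork.condition s))
            (fun _ _ h₁ h₂ ↦ by simpa [cancel_mono] using h₁.trans h₂.symm))))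
  intro P w hw
  wlog hw' : ∃ (Z : A) (hZ : P = L.obj Z) (z : Z ⟶ X), w = eqToHom hZ ≫ L.map z
      generalizing P
  · obtain ⟨φ, hφ⟩ := Localization.exists_rightFraction L W
      ((L.objObjPreimageIso P).hom ≫ w)
    rw [← cancel_epi (L.map φ.s),
      MorphismProperty.RightFraction.map_s_comp_map] at hφ
    have hinv := Localization.inverts L W φ.s φ.hs
    obtain ⟨l, hl⟩ := this _ (L.map φ.f) (by
      rw [← hφ, Category.assoc, Category.assoc, hw, comp_zero, comp_zero]) ⟨_, rfl, by simp⟩
    exact ⟨(L.objObjPreimageIso P).inv ≫ inv (L.map φ.s) ≫ l, by simp [hl, ← hφ]⟩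
  obtain ⟨Z, rfl, z, rfl⟩ := hw'
  simp only [eqToHom_refl, Category.id_comp, ← L.map_comp, map_eq_zero_iff_precomp W L] at hw
  obtain ⟨Z', t, ht, fac⟩ := hw
  have := Localization.inverts L W t ht
  rw [← Category.assoc] at fac
  exact ⟨inv (L.map t) ≫ L.map (kernel.lift _ _ fac), by simp [← Functor.map_comp]⟩

set_option backward.isDefEq.respectTransparency false in
lemma preservesCokernel {X Y : A} (f : X ⟶ Y) :
    PreservesColimit (parallelPair f 0) L := by
  have := epi_map W L (cokernel.π f)
  have := Localization.essSurj L W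
  suffices ∀ (P : D) (z : L.obj Y ⟶ P) (hz : L.map f ≫ z = 0),
      ∃ (l : L.obj (cokernel f) ⟶ P), L.map (cokernel.π f) ≫ l = z from
    preservesColimit_of_preserves_colimit_cocone (cokernelIsCokernel f)
      ((CokernelCofork.isColimitMapCoconeEquiv _ L).2
        (Cofork.IsColimit.ofExistsUnique
          (fun s ↦ existsUnique_of_exists_of_unique
            (this _ _ (CokernelCofork.condition s))
            (fun _ _ h₁ h₂ ↦ by simpa [cancel_epi] using h₁.trans h₂.symm))))
  intro P w hw
  wlog hw' : ∃ (Z : A) (hZ : L.obj Z = P) (z : Y ⟶ Z), w = L.map z ≫ eqToHom hZ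
      generalizing P
  · obtain ⟨φ, hφ⟩ := Localization.exists_leftFraction L W
      (w ≫ (L.objObjPreimageIso P).inv)
    rw [← cancel_mono (L.map φ.s), Category.assoc,
      MorphismProperty.LeftFraction.map_comp_map_s] at hφ
    have hinv := Localization.inverts L W φ.s φ.hs
    obtain ⟨l, hl⟩ := this _ (L.map φ.f) (by rw [← hφ, reassoc_of% hw, zero_comp]) ⟨_, rfl, by simp⟩
    exact ⟨l ≫ inv (L.map φ.s) ≫ (L.objObjPreimageIso P).hom, by simp [reassoc_of% hl, ← hφ]⟩
  obtain ⟨Z, rfl, z, rfl⟩ := hw'
  simp only [eqToHom_refl, Category.comp_id, ← L.map_comp, map_eq_zero_iff_postcomp W L] at hw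
  obtain ⟨Z', t, ht, fac⟩ := hw
  rw [Category.assoc] at fac
  have := Localization.inverts L W t ht
  exact ⟨L.map (cokernel.desc _ _ fac) ≫ inv (L.map t), by simp [← L.map_comp_assoc]⟩

/-- the objects killed by `L` -/
def kerL : ObjectProperty A := fun X => IsZero (L.obj X)

omit W in
lemma kerL_iff (X : A) : kerL L X ↔ IsZero (L.obj X) := Iff.rfl

lemma isSerreClass_kerL : (kerL L).IsSerreClass where
  exists_zero := ⟨0, isZero_zero A, L.map_isZero (isZero_zero A)⟩
  prop_of_mono := fun {X Y} f _ hY => by
    have := mono_map W L f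
    exact IsZero.of_mono (L.map f) hY
  prop_of_epi := fun {X Y} f _ hX => by
    have := epi_map W L f
    exact IsZero.of_epi (L.map f) hX
  prop_X₂_of_shortExact := fun {S} hS h₁ h₃ => by
    have hk := hS.fIsKernel
    haveI := preservesKernel W L S.g
    have hk' := (KernelFork.isLimitMapConeEquiv _ L).1 (isLimitOfPreserves L hk)
    obtain ⟨l, hl⟩ := KernelFork.IsLimit.lift' hk' (𝟙 (L.obj S.X₂)) (IsZero.eq_of_tgt h₃ _ _)
    show IsZero (L.obj S.X₂)
    have hl0 : l = 0 := (show IsZero ((KernelFork.ofι S.f S.zero).map L).pt from h₁).eq_of_tgt _ _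
    rw [IsZero.iff_id_eq_zero, ← hl, hl0, zero_comp]

lemma isZero_kernel_of_isIso_map {X Y : A} (f : X ⟶ Y) (hf : IsIso (L.map f)) :
    IsZero (L.obj (kernel f)) := by
  have := mono_map W L (kernel.ι f)
  refine IsZero.of_mono_eq_zero (L.map (kernel.ι f)) ?_
  rw [← cancel_mono (L.map f), ← L.map_comp, kernel.condition, L.map_zero, zero_comp]

lemma isZero_cokernel_of_isIso_map {X Y : A} (f : X ⟶ Y) (hf : IsIso (L.map f)) :
    IsZero (L.obj (cokernel f)) := by
  have := epi_map W L (cokernel.π f)
  refine IsZero.of_epi_eq_zero (L.map (cokernel.π f)) ?_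
  rw [← cancel_epi (L.map f), ← L.map_comp, cokernel.condition, L.map_zero, comp_zero]

lemma isIso_map_cokernel_π {X Y : A} (k : X ⟶ Y) (hX : IsZero (L.obj X)) :
    IsIso (L.map (cokernel.π k)) := by
  have := epi_map W L (cokernel.π k)
  haveI := preservesCokernel W L k
  have hc := (CokernelCofork.isColimitMapCoconeEquiv _ L).1
    (isColimitOfPreserves L (cokernelIsCokernel k))
  obtain ⟨l, hl'⟩ : ∃ l : L.obj (cokernel k) ⟶ L.obj Y, L.map (cokernel.π k) ≫ l = 𝟙 _ :=
    ⟨_, (CokernelCofork.IsColimit.desc' hc (𝟙 (L.obj Y)) (IsZero.eq_of_src hX _ _)).2⟩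
  refine ⟨l, hl', ?_⟩
  rw [← cancel_epi (L.map (cokernel.π k))]
  rw [← Category.assoc, hl', Category.id_comp, Category.comp_id]

lemma isIso_map_kernel_ι {X Y : A} (k : X ⟶ Y) (hY : IsZero (L.obj Y)) :
    IsIso (L.map (kernel.ι k)) := by
  have := mono_map W L (kernel.ι k)
  haveI := preservesKernel W L k
  have hc := (KernelFork.isLimitMapConeEquiv _ L).1 (isLimitOfPreserves L (kernelIsKernel k))
  obtain ⟨l, hl'⟩ : ∃ l : L.obj X ⟶ L.obj (kernel k), l ≫ L.map (kernel.ι k) = 𝟙 _ :=
    ⟨_, (KernelFork.IsLimit.lift' hc (𝟙 (L.obj X)) (IsZero.eq_of_tgt hY _ _)).2⟩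
  refine ⟨l, ?_, hl'⟩
  rw [← cancel_mono (L.map (kernel.ι k))]
  rw [Category.assoc, hl', Category.comp_id, Category.id_comp]

lemma isIso_map_of_kerL {X Y : A} (f : X ⟶ Y) (h₁ : IsZero (L.obj (kernel f)))
    (h₂ : IsZero (L.obj (cokernel f))) : IsIso (L.map f) := by
  have e := Abelian.coimage_image_factorisation f
  haveI : IsIso (L.map (Abelian.coimage.π f)) := isIso_map_cokernel_π W L (kernel.ι f) h₁
  haveI : IsIso (L.map (Abelian.image.ι f)) := isIso_map_kernel_ι W L (cokernel.π f) h₂
  rw [← e, L.map_comp, L.map_comp]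
  infer_instance

/-- **Localization of an abelian category with respect to a class of morphisms with a calculus of left and right
fractions is abelian, and the localization functor is exact.** -/
theorem abelian_and_exact :
    Nonempty (Abelian D) ∧ PreservesFiniteLimits L ∧ PreservesFiniteColimits L := by
  haveI : (kerL L).IsSerreClass := isSerreClass_kerL W L
  have hle : W ≤ (kerL L).isoModSerre := fun X Y f hf =>
    ⟨isZero_kernel_of_isIso_map W L f (Localization.inverts L W f hf),
      isZero_cokernel_of_isIso_map W L f (Localization.inverts L W f hf)⟩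
  have hinv : (kerL L).isoModSerre.IsInvertedBy L := fun X Y f hf =>
    isIso_map_of_kerL W L f hf.1 hf.2
  haveI : L.IsLocalization (kerL L).isoModSerre :=
    Functor.IsLocalization.of_equivalence_source L W L _ (CategoryTheory.Equivalence.refl)
      (fun X Y f hf => MorphismProperty.le_isoClosure _ _ (hle f hf)) hinv (Functor.leftUnitor L)
  exact ⟨⟨ObjectProperty.SerreClassLocalization.abelian L (kerL L)⟩,
    ObjectProperty.SerreClassLocalization.preservesFiniteLimits L (kerL L),
    ObjectProperty.SerreClassLocalization.preservesFiniteColimits L (kerL L)⟩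

end Groth.Agent.Lib.helper25.LocAbelian
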