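import Mathlib

/-!
If every prime `Q` of `S` with `Q ∩ R ⊆ p` is contained in `q` (a prime over `p`), then `S_p = S_q`.
-/

set_option autoImplicit false

namespace Groth.Agent.Lib.helper25

universe u

theorem isLocalization_atPrime_of_forall_le {R S : Type u} [CommRing R] [CommRing S] [Algebra R S]
    (p : Ideal R) [p.IsPrime] (q : Ideal S) [q.IsPrime] [q.LiesOver p]
    (h : ∀ Q : Ideal S, Q.IsPrime → Q.under R ≤ p → Q ≤ q) :
    IsLocalization.AtPrime (Localization (Algebra.algebraMapSubmonoid S p.primeCompl)) q := by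
  unfold IsLocalization.AtPrime
  refine IsLocalization.of_le (Algebra.algebraMapSubmonoid S p.primeCompl) q.primeCompl ?_ ?_
  · rintro x ⟨r, hr, rfl⟩
    intro hx
    apply hr
    rw [Ideal.LiesOver.over (p := p) (P := q)]
    exact hx
  · intro s hs
    by_contra hnu
    obtain ⟨𝔪, h𝔪, hs𝔪⟩ := exists_max_ideal_of_mem_nonunits (mem_nonunits_iff.mpr hnu)
    have hprime := (IsLocalization.isPrime_iff_isPrime_disjoint
      (Algebra.algebraMapSubmonoid S p.primeCompl) _ 𝔪).mp h𝔪.isPrime
    obtain ⟨hQ, hdisj⟩ := hprime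
    have hle : (𝔪.comap (algebraMap S _)).under R ≤ p := by
      intro r hr
      by_contra hrp
      exact Set.disjoint_left.mp hdisj ⟨r, hrp, rfl⟩ hr
    exact hs (h _ hQ hle hs𝔪)

end Groth.Agent.Lib.helper25
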