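import Mathlib
import Groth.Prelude.Def_CxOX
import Groth.Prelude.Def_LocCohZ
import Groth.Agent.Lib.Helper21.KernelLES
import Groth.Agent.Lib.Helper21.LocCohQCoh
import Groth.Agent.Lib.Helper27.RpushVanish
import Groth.Agent.Lib.Helper27.SerreVan5
import Groth.Agent.Lib.Helper11.RpushAbBridge

/-!
# Local cohomology sheaves vanish above the local number of equations (helper25)

* `isZero_rightDerived_succ`: in the abstract setting of helper21's `KernelLES`
  (`Γ = ker (𝟭 ⟶ J)`, `I ⟶ J I` epi for injective `I`), `R^q J M = 0` implies `R^{q+1} Γ M = 0`.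
* `nonempty_rightDerived_restrPush_iso`: `R^p (j_* j^*) ≅ j^* ⋙ R^p j_*` for `j = U.ι`.
* `isZero_rpush_restrict`: if `X ∖ U` is locally cut out by at most `c` functions, then
  `R^p j_* (F|_U) = 0` for `F` quasi-coherent and `p ≥ c` (Čech-type bound of helper27's
  `SerreVan.subsingleton_HU_iSup'` on the basic opens `D(f_i)`).
* `isZero_rightDerived_gammaZ`: `ℋ^i_T(F) = 0` for `i > c` (S7252).
-/

set_option autoImplicit false

universe v u

namespace Groth.Agent.Lib.Helper25.LocCohVan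

open CategoryTheory CategoryTheory.Limits Opposite TopologicalSpace AlgebraicGeometry
open AlgebraicGeometry.Scheme.Modules

section Abstract

open Groth.Agent.Lib.helper21.KernelLES

variable {𝒜 : Type u} [Category.{v} 𝒜] [Abelian 𝒜]
  (Γ J : 𝒜 ⥤ 𝒜) [Γ.Additive] [J.Additive] (ι : Γ ⟶ 𝟭 𝒜) (η : 𝟭 𝒜 ⟶ J)
  (w : ∀ F, ι.app F ≫ η.app F = 0)
  (hex : ∀ F, (ShortComplex.mk (ι.app F) (η.app F) (w F)).Exact)
  (hmono : ∀ F, Mono (ι.app F))
  (hepi : ∀ I, Injective I → Epi (η.app I))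
  [HasInjectiveResolutions 𝒜]

include hex hmono hepi in
/-- vanishing of `R^{q+1} Γ M` from vanishing of `R^q J M` -/
theorem isZero_rightDerived_succ (M : 𝒜) (q : ℕ)
    (hJ : IsZero ((J.rightDerived q).obj M)) :
    IsZero ((Γ.rightDerived (q + 1)).obj M) := by
  let I : InjectiveResolution M := injectiveResolution M
  let S := sc Γ J ι η w I.cocomplex
  have hS : S.ShortExact := sc_shortExact Γ J ι η w hex hmono hepi I.cocomplex I.injective
  have e₁ : ∀ n, (Γ.rightDerived n).obj M ≅ S.X₁.homology n := fun n => I.isoRightDerivedObj Γ n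
  have e₃ : ∀ n, (J.rightDerived n).obj M ≅ S.X₃.homology n := fun n => I.isoRightDerivedObj J n
  have h₂ : ∀ n, IsZero (S.X₂.homology (n + 1)) := fun n =>
    (I.cocomplex_exactAt_succ n).isZero_homology
  refine IsZero.of_iso ?_ (e₁ (q + 1))
  have h3 : IsZero (S.X₃.homology q) := IsZero.of_iso hJ (e₃ q).symm
  have hrel : (ComplexShape.up ℕ).Rel q (q + 1) := rfl
  haveI : Epi (hS.δ q (q + 1) hrel) := hS.epi_δ q (q + 1) hrel (h₂ q)
  rw [IsZero.iff_id_eq_zero, ← cancel_epi (hS.δ q (q + 1) hrel)]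
  exact h3.eq_of_src _ _

end Abstract

section Geometric

open Groth.Agent.Lib.helper27 Groth.Agent.Lib.helper11

variable {X : Scheme.{u}} (U : X.Opens)

/-- `R^p (j_* j^*) ≅ j^* ⋙ R^p j_*` -/
theorem nonempty_rightDerived_restrPush_iso [HasInjectiveResolutions X.Modules]
    [HasInjectiveResolutions (U : Scheme.{u}).Modules] (p : ℕ) :
    Nonempty ((restrictFunctor U.ι ⋙ pushforward U.ι).rightDerived p ≅
      restrictFunctor U.ι ⋙ (pushforward U.ι).rightDerived p) := by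
  classical
  haveI : EnoughInjectives X.Modules :=
    Groth.Agent.Lib.Helper21.ModGroth.enoughInjectives_mod _
  haveI : PreservesFiniteLimits (pushforward U.ι) := by
    haveI : PreservesLimitsOfSize.{u, u} (pushforward U.ι) :=
      (restrictAdjunction U.ι).rightAdjoint_preservesLimits
    exact PreservesLimitsOfSize.preservesFiniteLimits.{u, u} _
  exact DeltaFPre.rightDerived_comp_exact_iso (restrictFunctor U.ι)
    (pushforward U.ι) (fun I hI n => by
      haveI := hI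
      haveI : Injective ((restrictFunctor U.ι).obj I) :=
        (restrictFunctor U.ι).injective_obj I
      exact Functor.isZero_rightDerived_obj_injective_succ _ n _) p

/-- vanishing of `R^p j_* (F|_U)` for `p` at least the local number of equations of `X ∖ U` -/
theorem isZero_rpush_restrict [HasInjectiveResolutions (U : Scheme.{u}).Modules]
    (c : ℕ) (hT : ∀ x : X, ∃ (V : X.Opens) (fs : Finset Γ(X, V)), x ∈ V ∧ fs.card ≤ c ∧
      X.zeroLocus (U := V) (↑fs : Set Γ(X, V)) ∩ (V : Set ↥X) = (U : Set ↥X)ᶜ ∩ (V : Set ↥X))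
    (F : X.Modules) [F.IsQuasicoherent] (p : ℕ) (hp : c ≤ p) :
    IsZero ((Coh.Rpush U.ι p).obj ((restrictFunctor U.ι).obj F)) := by
  classical
  set M := (restrictFunctor U.ι).obj F with hM
  haveI : M.IsQuasicoherent := inferInstanceAs ((restrictFunctor U.ι).obj F).IsQuasicoherent
  apply RpushAbBridge.isZero_rpush_of_isZero_rpushAb U.ι p M
  obtain ⟨e⟩ := RpushSheafify.rpush_iso_top U.ι.base (Coh.toAb M) p
  refine IsZero.of_iso ?_ e
  apply RpushVanish.isZero_sheafify_of_locally_subsingleton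
  intro W y hy
  obtain ⟨V, fs, hyV, hcard, hZ⟩ := hT y
  obtain ⟨A, hA, hyA, hAW⟩ := (Opens.isBasis_iff_nbhd.1 X.isBasis_affineOpens)
    (show y ∈ W ⊓ V from ⟨hy, hyV⟩)
  have hAV : A ≤ V := hAW.trans inf_le_right
  refine ⟨A, hAW.trans inf_le_left, hyA, ?_⟩
  show Subsingleton (CohTop.HU (Coh.toAb M) p (U.ι ⁻¹ᵁ A))
  -- the restricted equations
  let g : Γ(X, V) → Γ(X, A) := fun f => X.presheaf.map (homOfLE hAV).op f
  have hg : ∀ f, X.basicOpen (g f) = A ⊓ X.basicOpen f := fun f =>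
    Scheme.basicOpen_res X f (homOfLE hAV).op
  -- membership in `U` on `V`
  have hmemU : ∀ x : X, x ∈ V → (x ∈ U ↔ ∃ f ∈ fs, x ∈ X.basicOpen f) := by
    intro x hxV
    have h1 : x ∈ X.zeroLocus (U := V) (↑fs : Set Γ(X, V)) ∩ (V : Set ↥X) ↔
        x ∈ (U : Set ↥X)ᶜ ∩ (V : Set ↥X) := by rw [hZ]
    simp only [Set.mem_inter_iff, Scheme.mem_zeroLocus_iff, Set.mem_compl_iff, SetLike.mem_coe,
      hxV, and_true] at h1
    constructor
    · intro hxU
      by_contra hcon
      push Not at hcon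
      exact (h1.1 hcon) hxU
    · rintro ⟨f, hf, hxf⟩
      by_contra hcon
      exact (h1.2 hcon) f hf hxf
  let t := fs.card
  let e : Fin t ≃ fs := fs.equivFin.symm
  let 𝒜 : (U : Scheme.{u}).Opens → Prop := fun W' =>
    ∃ a : Γ(X, A), X.basicOpen a ≤ U ∧ W' = U.ι ⁻¹ᵁ X.basicOpen a
  have h𝒜 : ∀ W', 𝒜 W' → IsAffineOpen W' := by
    rintro W' ⟨a, haU, rfl⟩
    refine (hA.basicOpen a).preimage_of_isOpenImmersion U.ι ?_
    rw [Scheme.Opens.opensRange_ι]
    exact haU
  have hd : ∀ W₁ W₂, 𝒜 W₁ → 𝒜 W₂ → 𝒜 (W₁ ⊓ W₂) := by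
    rintro W₁ W₂ ⟨a, haU, rfl⟩ ⟨b, hbU, rfl⟩
    refine ⟨a * b, ?_, ?_⟩
    · rw [Scheme.basicOpen_mul]
      exact inf_le_left.trans haU
    · rw [Scheme.basicOpen_mul]
      rfl
  have hkey : U.ι ⁻¹ᵁ A = ⨆ k : Fin t, U.ι ⁻¹ᵁ X.basicOpen (g (e k)) := by
    apply le_antisymm
    · intro x hxA
      have hxA' : U.ι.base x ∈ A := hxA
      have hxU : U.ι.base x ∈ U := by
        have h : U.ι.base x ∈ U.ι.opensRange := ⟨x, rfl⟩
        rwa [Scheme.Opens.opensRange_ι] at h
      obtain ⟨f, hf, hxf⟩ := (hmemU _ (hAV hxA')).1 hxU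
      refine Opens.mem_iSup.2 ⟨e.symm ⟨f, hf⟩, ?_⟩
      show U.ι.base x ∈ X.basicOpen (g (e (e.symm ⟨f, hf⟩)))
      rw [hg, Equiv.apply_symm_apply]
      exact ⟨hxA', hxf⟩
    · refine iSup_le fun k => ?_
      intro x hx
      have hx' : U.ι.base x ∈ X.basicOpen (g (e k)) := hx
      rw [hg] at hx'
      exact hx'.1
  rw [hkey]
  refine SerreVan.subsingleton_HU_iSup' 𝒜 h𝒜 hd M t _ (fun k => ?_) p (hcard.trans hp)
  refine ⟨g (e k), ?_, rfl⟩
  intro x hx
  rw [hg] at hx
  exact (hmemU x (hAV hx.1)).2 ⟨(e k).1, (e k).2, hx.2⟩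

/-- **local cohomology sheaves vanish above the local number of equations** -/
theorem isZero_rightDerived_gammaZ [HasInjectiveResolutions X.Modules]
    (c : ℕ) (hT : ∀ x : X, ∃ (V : X.Opens) (fs : Finset Γ(X, V)), x ∈ V ∧ fs.card ≤ c ∧
      X.zeroLocus (U := V) (↑fs : Set Γ(X, V)) ∩ (V : Set ↥X) = (U : Set ↥X)ᶜ ∩ (V : Set ↥X))
    (F : X.Modules) (hF : F.IsQuasicoherent) (i : ℕ) (hi : c < i) :
    IsZero (((DCoh.gammaZ U.ι).rightDerived i).obj F) := by
  obtain ⟨q, rfl⟩ : ∃ q, i = q + 1 := ⟨i - 1, by omega⟩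
  haveI : HasInjectiveResolutions (U : Scheme.{u}).Modules :=
    Groth.Agent.Lib.helper21.ModOpenBC.hasInjectiveResolutions_modules _
  have w : ∀ F : X.Modules, (CxOX.gammaZι U.ι).app F ≫ (restrictAdjunction U.ι).unit.app F = 0 :=
    fun F => kernel.condition _
  refine isZero_rightDerived_succ (DCoh.gammaZ U.ι) (restrictFunctor U.ι ⋙ pushforward U.ι)
    (CxOX.gammaZι U.ι) (restrictAdjunction U.ι).unit w ?_ ?_ ?_ F q ?_
  · exact fun F => ShortComplex.exact_of_f_is_kernel _ (kernelIsKernel _)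
  · exact fun F => inferInstanceAs (Mono (kernel.ι _))
  · intro I hI
    haveI := hI
    exact Groth.Agent.Lib.helper21.LocCohQCoh.epi_unit_of_injective U.ι I
  · obtain ⟨e⟩ := nonempty_rightDerived_restrPush_iso U q
    haveI := hF
    exact IsZero.of_iso (isZero_rpush_restrict U c hT F q (by omega)) (e.app F)

end Geometric

end Groth.Agent.Lib.Helper25.LocCohVan
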