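import Mathlib.CategoryTheory.Localization.Triangulated
import Mathlib.CategoryTheory.Triangulated.Subcategory

/-!
Localization of a pretriangulated category `D` at a class `S` compatible with the triangulation,
for an arbitrary localization functor `Q : D ⥤ E` (no structure assumed on `E`):
statements not mentioning the induced structures on `E`.
-/

set_option autoImplicit false
set_option linter.style.haveILetI false
set_option linter.unusedSectionVars false

namespace Groth.Agent.Lib.helper25

open CategoryTheory CategoryTheory.Limits CategoryTheory.Pretriangulated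

universe v u v' u'

variable {D : Type u} [Category.{v} D] [Preadditive D] [HasZeroObject D] [HasShift D ℤ]
    [∀ n : ℤ, (shiftFunctor D n).Additive] [Pretriangulated D]
    (S : MorphismProperty D) [S.HasLeftCalculusOfFractions]
    [S.IsCompatibleWithTriangulation]
    {E : Type u'} [Category.{v'} E] (Q : D ⥤ E) [Q.IsLocalization S]

include S in
/-- For a distinguished triangle `T`, `Q(T.mor₁)` is an isomorphism iff `Q(T.obj₃)` is zero. -/
theorem isIso_map_mor₁_iff_isZero_obj₃ (T : Triangle D) (hT : T ∈ distinguishedTriangles) :
    IsIso (Q.map T.mor₁) ↔ IsZero (Q.obj T.obj₃) := by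
  letI : Preadditive E := Localization.preadditive Q S
  haveI : Q.Additive := Localization.functor_additive Q S
  haveI : HasZeroObject E := Q.hasZeroObject_of_additive
  letI : HasShift E ℤ := HasShift.localized Q S ℤ
  letI : Q.CommShift ℤ := Functor.CommShift.localized Q S ℤ
  haveI : ∀ n : ℤ, (shiftFunctor E n).Additive := fun n => by
    rw [Localization.functor_additive_iff Q S]
    exact Functor.additive_of_iso (Q.commShiftIso n)
  letI : Pretriangulated E := Triangulated.Localization.pretriangulated Q S
  haveI : Q.IsTriangulated := Triangulated.Localization.isTriangulated_functor Q S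
  have h := Q.map_distinguished T hT
  exact (Triangle.isZero₃_iff_isIso₁ _ h).symm

include S in
/-- `Q` kills `Z` iff `𝟙 Z` and `0` become equal. -/
theorem isZero_obj_iff_map_id_eq (Z : D) :
    IsZero (Q.obj Z) ↔ Q.map (𝟙 Z) = Q.map (0 : Z ⟶ Z) := by
  letI : Preadditive E := Localization.preadditive Q S
  haveI : Q.Additive := Localization.functor_additive Q S
  rw [IsZero.iff_id_eq_zero, CategoryTheory.Functor.map_id, Functor.map_zero]

include S in
/-- `Q` kills a direct summand of an object it kills. -/
theorem isZero_obj_of_retract {Z Y : D} (r : Retract Z Y) (hY : IsZero (Q.obj Y)) :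
    IsZero (Q.obj Z) := by
  letI : Preadditive E := Localization.preadditive Q S
  haveI : Q.Additive := Localization.functor_additive Q S
  rw [IsZero.iff_id_eq_zero]
  have : 𝟙 (Q.obj Z) = Q.map r.i ≫ 𝟙 (Q.obj Y) ≫ Q.map r.r := by
    rw [Category.id_comp, ← Q.map_comp, r.retract, Q.map_id]
  rw [this, hY.eq_of_src (𝟙 _) 0, zero_comp, comp_zero]

omit S Q in
/-- The cone of the zero map `W ⟶ Z` is `Z ⊞ W⟦1⟧`. -/
theorem zero_triangle_distinguished (W Z : D) :
    Triangle.mk (0 : W ⟶ Z) (biprod.inl : Z ⟶ Z ⊞ (shiftFunctor D (1 : ℤ)).obj W) biprod.snd ∈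
      distinguishedTriangles := by
  rw [rotate_distinguished_triangle]
  refine isomorphic_distinguished _
    (binaryBiproductTriangle_distinguished Z ((shiftFunctor D (1 : ℤ)).obj W)) _ ?_
  refine Triangle.isoMk _ _ (Iso.refl _) (Iso.refl _) (Iso.refl _) ?_ ?_ ?_
  · exact (Category.comp_id _).trans (Category.id_comp _).symm
  · exact (Category.comp_id _).trans (Category.id_comp _).symm
  · show (-(shiftFunctor D (1 : ℤ)).map (0 : W ⟶ Z)) ≫ (shiftFunctor D (1 : ℤ)).map (𝟙 Z) = 𝟙 _ ≫ 0
    simp

end Groth.Agent.Lib.helper25
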