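import Mathlib
import Groth.Agent.Lib.Helper25.LocalTorCoh

/-!
# Coherence of the local Tor sheaves of two coherent modules over a flat base (helper25; = S3533)

* `isCohD_single`: a coherent module in degree `0` lies in `D_Coh`.
* `main_single`: the single-module case of `LocalTorCoh.main`.
-/

set_option autoImplicit false
universe u
open CategoryTheory CategoryTheory.Limits AlgebraicGeometry Opposite

attribute [local instance] HasDerivedCategory.standard

namespace Groth.Agent.Lib.Helper25.LocalTorCoh2

open Groth.Agent.Lib.Helper25.LTensorCoh Groth.Agent.Lib.Helper25.LocalTorCoh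

variable {X : Scheme.{u}}

lemma isCohD_single (F : X.Modules) (hF : Coh.IsCoh F) :
    DCoh.IsCohD (DCoh.toD X ((HomologicalComplex.single X.Modules (ComplexShape.up ℤ) 0).obj F)) := by
  intro i
  by_cases hi : i = 0
  · subst hi
    exact isCoh_of_iso ((DerivedCategory.homologyFunctorFactors _ 0).app _ ≪≫
      HomologicalComplex.singleObjHomologySelfIso (ComplexShape.up ℤ) 0 F).symm hF
  · refine Groth.Agent.Lib.helper7.CohKer.isCoh_of_isZero ?_
    exact isZero_HD_toD_of_isZero_X _ i (HomologicalComplex.isZero_single_obj_X _ _ _ _ hi)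

/-- **S3533** -/
theorem main_single (X Y S : Scheme.{u}) (f : X ⟶ S) (g : Y ⟶ S) [Flat f]
    [IsLocallyNoetherian X] [IsLocallyNoetherian (pullback f g)] (F : X.Modules) (G : Y.Modules)
    (hF : Coh.IsCoh F) (hG : Coh.IsCoh G) [DCoh.HasLpull (pullback.fst f g)]
    [DCoh.HasLTensorCx ((HTor.pullCx (pullback.snd f g)).obj
      ((HomologicalComplex.single Y.Modules (ComplexShape.up ℤ) 0).obj G))] (n : ℤ) :
    Coh.IsCoh (DCoh.HD ((DCoh.LTensorCx ((HTor.pullCx (pullback.snd f g)).obj
      ((HomologicalComplex.single Y.Modules (ComplexShape.up ℤ) 0).obj G))).obj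
        ((DCoh.Lpull (pullback.fst f g)).obj (DCoh.inD X F))) n) := by
  have hz : ∀ (Z : Scheme.{u}) (M : Z.Modules), ∃ b : ℤ, ∀ i : ℤ, b < i →
      IsZero (((HomologicalComplex.single Z.Modules (ComplexShape.up ℤ) 0).obj M).X i) :=
    fun Z M => ⟨0, fun i hi => HomologicalComplex.isZero_single_obj_X _ _ _ _ (by omega)⟩
  exact main X Y S f g ((HomologicalComplex.single X.Modules (ComplexShape.up ℤ) 0).obj F)
    ((HomologicalComplex.single Y.Modules (ComplexShape.up ℤ) 0).obj G) (hz X F) (hz Y G)
    (isCohD_single F hF) (isCohD_single G hG) n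

end Groth.Agent.Lib.Helper25.LocalTorCoh2
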