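import Mathlib

/-!
# Total complexes of bifunctors and degreewise split short exact sequences in the second variable (helper25)

Mirror of helper2's `BifunctorExact` (which treats the first variable): for a bifunctor `F : C₁ ⥤ C₂ ⥤ D` additive in each
variable and a fixed cochain complex `K₁`, the functor `Ψ₂ = Tot(F(K₁, -))` preserves degreewise split short exact
sequences.

* `gr₂`, `Ψ₂`, `splittingΨ₂`, `shortExact_map_Ψ₂`.
-/

set_option autoImplicit false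
open CategoryTheory Limits HomologicalComplex

namespace Groth.Agent.Lib.Helper25.PFSes1

variable {C₁ C₂ D : Type*} [Category C₁] [Category C₂] [Category D]
  [Preadditive C₁] [Preadditive C₂] [Preadditive D]
  (F : C₁ ⥤ C₂ ⥤ D) [F.Additive] [∀ X₁, (F.obj X₁).Additive]
  (K₁ : CochainComplex C₁ ℤ)
  [∀ K₂ : CochainComplex C₂ ℤ, HasMapBifunctor K₁ K₂ F (ComplexShape.up ℤ)]

section gr

variable {K L M : CochainComplex C₂ ℤ}

/-- the action of a graded map in the second variable on the total complex, in degree `n` -/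
noncomputable def gr₂ (g : ∀ q, K.X q ⟶ L.X q) (n : ℤ) :
    (mapBifunctor K₁ K F (ComplexShape.up ℤ)).X n ⟶ (mapBifunctor K₁ L F (ComplexShape.up ℤ)).X n :=
  mapBifunctorDesc (fun p q h => (F.obj (K₁.X p)).map (g q) ≫
    ιMapBifunctor K₁ L F (ComplexShape.up ℤ) p q n h)

@[reassoc (attr := simp)]
lemma ι_gr₂ (g : ∀ q, K.X q ⟶ L.X q) (p q n : ℤ)
    (h : ComplexShape.π (ComplexShape.up ℤ) (ComplexShape.up ℤ) (ComplexShape.up ℤ) (p, q) = n) :
    ιMapBifunctor K₁ K F (ComplexShape.up ℤ) p q n h ≫ gr₂ F K₁ g n =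
      (F.obj (K₁.X p)).map (g q) ≫ ιMapBifunctor K₁ L F (ComplexShape.up ℤ) p q n h :=
  ι_mapBifunctorDesc _ _ _ _

lemma gr₂_id (n : ℤ) : gr₂ F K₁ (fun q => 𝟙 (K.X q)) n = 𝟙 _ := by
  ext p q h
  simp

lemma gr₂_comp (g : ∀ q, K.X q ⟶ L.X q) (g' : ∀ q, L.X q ⟶ M.X q) (n : ℤ) :
    gr₂ F K₁ (fun q => g q ≫ g' q) n = gr₂ F K₁ g n ≫ gr₂ F K₁ g' n := by
  ext p q h
  simp

lemma gr₂_add (g g' : ∀ q, K.X q ⟶ L.X q) (n : ℤ) :
    gr₂ F K₁ (fun q => g q + g' q) n = gr₂ F K₁ g n + gr₂ F K₁ g' n := by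
  ext p q h
  simp [Functor.map_add]

lemma gr₂_zero (n : ℤ) : gr₂ F K₁ (fun q => (0 : K.X q ⟶ L.X q)) n = 0 := by
  ext p q h
  simp

lemma mapBifunctorMap_f₂ (f : K ⟶ L) (n : ℤ) :
    (mapBifunctorMap (𝟙 K₁) f F (ComplexShape.up ℤ)).f n = gr₂ F K₁ (fun q => f.f q) n := by
  ext p q h
  simp

end gr

/-- the functor `K ↦ Tot(F(K₁, K))` -/
@[simps]
noncomputable def Ψ₂ : CochainComplex C₂ ℤ ⥤ CochainComplex D ℤ where
  obj K := mapBifunctor K₁ K F (ComplexShape.up ℤ)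
  map f := mapBifunctorMap (𝟙 K₁) f F (ComplexShape.up ℤ)
  map_id K := by
    ext n : 1
    rw [mapBifunctorMap_f₂]
    exact gr₂_id F K₁ n
  map_comp f g := by
    ext n : 1
    rw [HomologicalComplex.comp_f, mapBifunctorMap_f₂, mapBifunctorMap_f₂, mapBifunctorMap_f₂]
    exact gr₂_comp F K₁ _ _ n

instance : (Ψ₂ F K₁).PreservesZeroMorphisms where
  map_zero K L := by
    ext n : 1
    change (mapBifunctorMap (𝟙 K₁) (0 : K ⟶ L) F (ComplexShape.up ℤ)).f n = 0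
    rw [mapBifunctorMap_f₂]
    exact gr₂_zero F K₁ n

section splitting

variable (S : ShortComplex (CochainComplex C₂ ℤ)) (σ : ∀ n, (S.map (eval _ _ n)).Splitting)

/-- the retraction as a graded map -/
def rMap (p : ℤ) : S.X₂.X p ⟶ S.X₁.X p := (σ p).r

/-- the section as a graded map -/
def sMap (p : ℤ) : S.X₃.X p ⟶ S.X₂.X p := (σ p).s

lemma f_rMap (p : ℤ) : S.f.f p ≫ rMap S σ p = 𝟙 _ := (σ p).f_r
lemma sMap_g (p : ℤ) : sMap S σ p ≫ S.g.f p = 𝟙 _ := (σ p).s_g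
lemma rMap_sMap_id (p : ℤ) : rMap S σ p ≫ S.f.f p + S.g.f p ≫ sMap S σ p = 𝟙 _ := (σ p).id

lemma aux_f_r (n : ℤ) :
    (mapBifunctorMap (𝟙 K₁) S.f F (ComplexShape.up ℤ)).f n ≫ gr₂ F K₁ (rMap S σ) n =
      𝟙 ((mapBifunctor K₁ S.X₁ F (ComplexShape.up ℤ)).X n) := by
  rw [mapBifunctorMap_f₂]
  refine (gr₂_comp F K₁ _ _ n).symm.trans ?_
  simp only [f_rMap]
  exact gr₂_id F K₁ n

lemma aux_s_g (n : ℤ) :
    gr₂ F K₁ (sMap S σ) n ≫ (mapBifunctorMap (𝟙 K₁) S.g F (ComplexShape.up ℤ)).f n =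
      𝟙 ((mapBifunctor K₁ S.X₃ F (ComplexShape.up ℤ)).X n) := by
  rw [mapBifunctorMap_f₂]
  refine (gr₂_comp F K₁ _ _ n).symm.trans ?_
  simp only [sMap_g]
  exact gr₂_id F K₁ n

lemma aux_id (n : ℤ) :
    gr₂ F K₁ (rMap S σ) n ≫ (mapBifunctorMap (𝟙 K₁) S.f F (ComplexShape.up ℤ)).f n +
      (mapBifunctorMap (𝟙 K₁) S.g F (ComplexShape.up ℤ)).f n ≫ gr₂ F K₁ (sMap S σ) n =
      𝟙 ((mapBifunctor K₁ S.X₂ F (ComplexShape.up ℤ)).X n) := by
  rw [mapBifunctorMap_f₂, mapBifunctorMap_f₂]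
  rw [← gr₂_comp, ← gr₂_comp, ← gr₂_add]
  simp only [rMap_sMap_id]
  exact gr₂_id F K₁ n

/-- `Ψ₂` preserves degreewise split short exact sequences -/
noncomputable def splittingΨ₂ (n : ℤ) :
    ((S.map (Ψ₂ F K₁)).map (eval _ _ n)).Splitting where
  r := gr₂ F K₁ (rMap S σ) n
  s := gr₂ F K₁ (sMap S σ) n
  f_r := aux_f_r F K₁ S σ n
  s_g := aux_s_g F K₁ S σ n
  id := aux_id F K₁ S σ n

end splitting

section main

variable {C₁' A₂ B : Type*} [Category C₁'] [Category A₂] [Category B]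
  [Preadditive C₁'] [Abelian A₂] [Abelian B]
  (F' : C₁' ⥤ A₂ ⥤ B) [F'.Additive] [∀ X₁, (F'.obj X₁).Additive]
  (K₁' : CochainComplex C₁' ℤ)
  [∀ K₂ : CochainComplex A₂ ℤ, HasMapBifunctor K₁' K₂ F' (ComplexShape.up ℤ)]

theorem shortExact_map_Ψ₂ (S : ShortComplex (CochainComplex A₂ ℤ))
    (σ : ∀ n, (S.map (eval _ _ n)).Splitting) : (S.map (Ψ₂ F' K₁')).ShortExact :=
  shortExact_of_degreewise_shortExact _ (fun n => (splittingΨ₂ F' K₁' S σ n).shortExact)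

end main

end Groth.Agent.Lib.Helper25.PFSes1
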