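import Mathlib
import Groth.Agent.Lib.Helper25.PFSes1
import Groth.Agent.Lib.Helper23.DCoprod6

/-!
# Degreewise coproduct cofans of cochain complexes and total complexes of bifunctors (helper25)

* `DegColim ia`: the cofan `ia j : K j ⟶ L` of cochain complexes is a coproduct cofan in each degree;
  `isColimitOfDegColim`, `degColim_sigι` (helper23's termwise coproduct), `degColim_map` (additive functors preserving
  coproducts), `degColim_Ψ₂` (`Tot F(K₁, -)` for a bifunctor preserving coproducts in the second variable).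
* `isColimit_Q_of_degColim`: under AB4 the image in the derived category of a degreewise coproduct cofan is a coproduct cofan.
-/

set_option autoImplicit false
universe w w' v u
open CategoryTheory Limits HomologicalComplex

namespace Groth.Agent.Lib.Helper25.PFCop1

open Groth.Agent.Lib.Helper25.PFSes1 Groth.Agent.Lib.helper23.DCoprod

section Basic

variable {C : Type*} [Category C] [Preadditive C] {J : Type w}

/-- the cofan of complexes is a coproduct cofan in each degree -/
def DegColim {K : J → CochainComplex C ℤ} {L : CochainComplex C ℤ} (ia : ∀ j, K j ⟶ L) : Prop :=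
  ∀ n : ℤ, Nonempty (IsColimit (Cofan.mk (L.X n) (fun j => (ia j).f n)))

/-- a degreewise coproduct cofan is a coproduct cofan -/
noncomputable def isColimitOfDegColim {K : J → CochainComplex C ℤ} {L : CochainComplex C ℤ}
    (ia : ∀ j, K j ⟶ L) (h : DegColim ia) : IsColimit (Cofan.mk L ia) :=
  HomologicalComplex.isColimitOfEval _ _ (fun n =>
    (isColimitMapCoconeCofanMkEquiv (HomologicalComplex.eval C (ComplexShape.up ℤ) n) K ia).symm
      (h n).some)

lemma degColim_map {D : Type*} [Category D] [Preadditive D] (G : C ⥤ D) [G.Additive]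
    [PreservesColimitsOfShape (Discrete J) G]
    {K : J → CochainComplex C ℤ} {L : CochainComplex C ℤ} (ia : ∀ j, K j ⟶ L) (h : DegColim ia) :
    DegColim (fun j => (G.mapHomologicalComplex (ComplexShape.up ℤ)).map (ia j)) :=
  fun n => ⟨isColimitCofanMkObjOfIsColimit G (fun j => (K j).X n) (fun j => (ia j).f n) (h n).some⟩

end Basic

section Sig

variable {A : Type u} [Category.{v} A] [Abelian A] {J : Type w} [HasCoproductsOfShape J A]

lemma degColim_sigι (K : J → CochainComplex A ℤ) : DegColim (sigι K) :=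
  fun n => ⟨coproductIsCoproduct (fun j => (K j).X n)⟩

end Sig

section Bifunctor

variable {C₁ C₂ D : Type*} [Category C₁] [Category C₂] [Category D]
  [Preadditive C₁] [Preadditive C₂] [Preadditive D]
  (F : C₁ ⥤ C₂ ⥤ D) [F.Additive] [∀ X₁, (F.obj X₁).Additive]
  (K₁ : CochainComplex C₁ ℤ)
  [∀ K₂ : CochainComplex C₂ ℤ, HasMapBifunctor K₁ K₂ F (ComplexShape.up ℤ)]
  {J : Type w} [∀ X₁ : C₁, PreservesColimitsOfShape (Discrete J) (F.obj X₁)]

/-- `Tot F(K₁, -)` preserves degreewise coproduct cofans -/
theorem degColim_Ψ₂ {K : J → CochainComplex C₂ ℤ} {L : CochainComplex C₂ ℤ} (ia : ∀ j, K j ⟶ L)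
    (h : DegColim ia) : DegColim (fun j => (Ψ₂ F K₁).map (ia j)) := by
  intro n
  have hcol : ∀ p q : ℤ, IsColimit (Cofan.mk ((F.obj (K₁.X p)).obj (L.X q))
      (fun j => (F.obj (K₁.X p)).map ((ia j).f q))) := fun p q =>
    isColimitCofanMkObjOfIsColimit (F.obj (K₁.X p)) (fun j => (K j).X q) (fun j => (ia j).f q)
      (h q).some
  have hι : ∀ (j : J) (p q : ℤ)
      (hpq : ComplexShape.π (ComplexShape.up ℤ) (ComplexShape.up ℤ) (ComplexShape.up ℤ) (p, q) = n),
      ιMapBifunctor K₁ (K j) F (ComplexShape.up ℤ) p q n hpq ≫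
        (mapBifunctorMap (𝟙 K₁) (ia j) F (ComplexShape.up ℤ)).f n =
      (F.obj (K₁.X p)).map ((ia j).f q) ≫ ιMapBifunctor K₁ L F (ComplexShape.up ℤ) p q n hpq := by
    intro j p q hpq
    rw [ι_mapBifunctorMap]
    simp
  refine ⟨Cofan.IsColimit.mk _
    (fun t => mapBifunctorDesc (fun p q hpq => Cofan.IsColimit.desc (hcol p q)
      (fun j => ιMapBifunctor K₁ (K j) F (ComplexShape.up ℤ) p q n hpq ≫ t.inj j)))
    (fun t j => ?_) (fun t m hm => ?_)⟩
  · refine HomologicalComplex.mapBifunctor.hom_ext (fun p q hpq => ?_)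
    change ιMapBifunctor K₁ (K j) F (ComplexShape.up ℤ) p q n hpq ≫
      (mapBifunctorMap (𝟙 K₁) (ia j) F (ComplexShape.up ℤ)).f n ≫ _ = _
    rw [reassoc_of% (hι j p q hpq), ι_mapBifunctorDesc]
    exact Cofan.IsColimit.fac (hcol p q) _ j
  · refine HomologicalComplex.mapBifunctor.hom_ext (fun p q hpq => ?_)
    rw [ι_mapBifunctorDesc]
    refine Cofan.IsColimit.hom_ext (hcol p q) _ _ (fun j => ?_)
    rw [Cofan.IsColimit.fac]
    change (F.obj (K₁.X p)).map ((ia j).f q) ≫
      ιMapBifunctor K₁ L F (ComplexShape.up ℤ) p q n hpq ≫ m = _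
    rw [← reassoc_of% (hι j p q hpq)]
    exact congrArg (fun x => ιMapBifunctor K₁ (K j) F (ComplexShape.up ℤ) p q n hpq ≫ x) (hm j)

end Bifunctor

section Derived

variable {A : Type u} [Category.{v} A] [Abelian A] [HasDerivedCategory.{w'} A]
  {J : Type w} [HasCoproductsOfShape J A] [HasExactColimitsOfShape (Discrete J) A]

/-- the image in the derived category of a degreewise coproduct cofan is a coproduct cofan -/
noncomputable def isColimit_Q_of_degColim {K : J → CochainComplex A ℤ} {L : CochainComplex A ℤ}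
    (ia : ∀ j, K j ⟶ L) (h : DegColim ia) :
    IsColimit (Cofan.mk (DerivedCategory.Q.obj L) (fun j => DerivedCategory.Q.map (ia j))) :=
  isColimitCofanMkObjOfIsColimit DerivedCategory.Q K ia (isColimitOfDegColim ia h)

end Derived

end Groth.Agent.Lib.Helper25.PFCop1
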