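import Groth.Agent.Lib.Helper25.PFDer1
import Groth.Agent.Lib.Helper25.PFCop1
import Groth.Agent.Lib.Helper25.DQCohRpushAdj
import Groth.Agent.Lib.Helper25.TensorRightQisAll
import Groth.Agent.Lib.Helper11.TensorACocont

/-!
# The derived projection morphism and coproducts (helper25)

* `m_naturality`: naturality of `PFDer1.m f I P` in `P`.
* `isIso_of_isColimit_cofan`: a morphism between coproducts which is componentwise invertible is invertible.
* `isIso_m_of_degColim`: for `f` quasi-compact quasi-separated and a (degreewise) coproduct cofan `P j ⟶ L` of complexes on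
  `Y` such that every `Q(I ⊗ f^*P_j)` lies in `D_QCoh(X)`: if every `m f I (P j)` is invertible, so is `m f I L`.
-/

set_option autoImplicit false
universe u
open CategoryTheory CategoryTheory.Limits AlgebraicGeometry HomologicalComplex

attribute [local instance] HasDerivedCategory.standard

namespace Groth.Agent.Lib.Helper25.PFCop2

open Groth.Agent.Lib.Helper25.PullTensorCx Groth.Agent.Lib.Helper25.PFCx1
  Groth.Agent.Lib.Helper25.PFDer1 Groth.Agent.Lib.Helper25.PFSes1 Groth.Agent.Lib.Helper25.PFCop1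

lemma isIso_of_isColimit_cofan {C : Type*} [Category C] {J : Type*} {a b : J → C} {A B : C}
    (ia : ∀ j, a j ⟶ A) (ib : ∀ j, b j ⟶ B) (ha : IsColimit (Cofan.mk A ia))
    (hb : IsColimit (Cofan.mk B ib)) (φ : A ⟶ B) (m : ∀ j, a j ⟶ b j) (hm : ∀ j, IsIso (m j))
    (h : ∀ j, ia j ≫ φ = m j ≫ ib j) : IsIso φ := by
  have fac : ∀ j, ib j ≫ Cofan.IsColimit.desc hb (fun j => inv (m j) ≫ ia j) = inv (m j) ≫ ia j :=
    fun j => Cofan.IsColimit.fac hb _ j
  refine ⟨Cofan.IsColimit.desc hb (fun j => inv (m j) ≫ ia j), ?_, ?_⟩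
  · refine Cofan.IsColimit.hom_ext ha _ _ (fun j => ?_)
    change ia j ≫ φ ≫ _ = ia j ≫ 𝟙 _
    rw [reassoc_of% (h j), fac j, IsIso.hom_inv_id_assoc, Category.comp_id]
  · refine Cofan.IsColimit.hom_ext hb _ _ (fun j => ?_)
    change ib j ≫ _ ≫ φ = ib j ≫ 𝟙 _
    rw [reassoc_of% (fac j), h j, IsIso.inv_hom_id_assoc, Category.comp_id]

variable {X Y : Scheme.{u}} (f : X ⟶ Y) [DCoh.HasRpush f] (I : CochainComplex X.Modules ℤ)

/-- naturality of the derived projection morphism in the second variable -/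
lemma m_naturality {P P' : CochainComplex Y.Modules ℤ} (a : P ⟶ P') :
    DerivedCategory.Q.map (mapBifunctorMap (𝟙 ((pushCx f).obj I)) a (DCoh.tensorBi (X := Y))
        (ComplexShape.up ℤ)) ≫ m f I P' =
      m f I P ≫ (DCoh.Rpush f).map (DerivedCategory.Q.map (mapBifunctorMap (𝟙 I)
        ((pullCx f).map a) (DCoh.tensorBi (X := X)) (ComplexShape.up ℤ))) := by
  have hn := projCx_naturality f (𝟙 I) a
  rw [CategoryTheory.Functor.map_id] at hn
  have hq := (DerivedCategory.Q.map_comp _ _).symm.trans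
    ((congrArg DerivedCategory.Q.map hn).trans (DerivedCategory.Q.map_comp _ _))
  exact aux_sq _ _ (ηQ f (((DCoh.tensorCx (X := X)).obj I).obj ((pullCx f).obj P'))) _ _
    (ηQ f (((DCoh.tensorCx (X := X)).obj I).obj ((pullCx f).obj P))) _ hq
    (ηQ_naturality f (mapBifunctorMap (𝟙 I) ((pullCx f).map a) (DCoh.tensorBi (X := X))
      (ComplexShape.up ℤ)))

instance preservesColimits_tensorBi_obj (M : Y.Modules) :
    PreservesColimitsOfSize.{u, u} ((DCoh.tensorBi (X := Y)).obj M) :=
  preservesColimits_of_natIso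
    (Groth.Agent.Lib.Helper25.TensorRightQisAll.tensorRightModIso M).symm

/-- **the derived projection morphism and coproducts** -/
theorem isIso_m_of_degColim [QuasiCompact f] [QuasiSeparated f] {J : Type u}
    {P : J → CochainComplex Y.Modules ℤ} {L : CochainComplex Y.Modules ℤ} (ia : ∀ j, P j ⟶ L)
    (hia : DegColim ia)
    (hq : ∀ j, DCoh.IsQCohD (DerivedCategory.Q.obj
      (((DCoh.tensorCx (X := X)).obj I).obj ((pullCx f).obj (P j)))))
    (hm : ∀ j, IsIso (m f I (P j))) : IsIso (m f I L) := by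
  haveI := Groth.Agent.Lib.Helper25.QCCPerfect.exactCoprod Y J
  haveI := Groth.Agent.Lib.Helper25.QCCPerfect.exactCoprod X J
  haveI : PreservesColimitsOfSize.{u, u} (Scheme.Modules.pullback f) :=
    (Scheme.Modules.pullbackPushforwardAdjunction f).leftAdjoint_preservesColimits
  -- the source is a coproduct
  have hA := isColimit_Q_of_degColim _
    (degColim_Ψ₂ (DCoh.tensorBi (X := Y)) ((pushCx f).obj I) ia hia)
  -- the target is `Rf_*` of a coproduct
  have hB := isColimit_Q_of_degColim _
    (degColim_Ψ₂ (DCoh.tensorBi (X := X)) I _ (degColim_map (Scheme.Modules.pullback f) ia hia))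
  have hRB := Groth.Agent.Lib.Helper25.DQCohRpushAdj.isColimit_Rpush f _ hq _ _ hB
  exact isIso_of_isColimit_cofan _ _ hA hRB (m f I L) (fun j => m f I (P j)) hm
    (fun j => m_naturality f I (ia j))

end Groth.Agent.Lib.Helper25.PFCop2
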