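import Groth.Agent.Lib.Helper25.PFTot
import Groth.Agent.Lib.Helper25.PushProj
import Groth.Agent.Lib.Helper25.PullTensorCx

/-!
# The projection morphism `f_*E ⊗ P ⟶ f_*(E ⊗ f^*P)` for complexes, any `f` (helper25)

* `projBiHom f M N` (`PushProj.projHom` in terms of `DCoh.tensorBi`), naturality in both variables.
* `bicxHom f E P`, `projCx f E P : f_*E ⊗ P ⟶ f_*(E ⊗ f^*P)` (`DCoh.tensorCx`), `ι_projCx` (summandwise description),
  `projCx_naturality`.
-/

set_option autoImplicit false
universe u
open CategoryTheory CategoryTheory.Limits AlgebraicGeometry MonoidalCategory HomologicalComplex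

namespace Groth.Agent.Lib.Helper25.PFCx1

open Groth.Agent.Lib.Lead.ModTensor Groth.Agent.Lib.helper12.PullTensor
  Groth.Agent.Lib.helper13.RestrKFlat Groth.Agent.Lib.Helper25.PushProj
  Groth.Agent.Lib.Helper25.PullTensorCx Groth.Agent.Lib.Helper25.PFTot

variable {X Y : Scheme.{u}} (f : X ⟶ Y)

/-- `f_*M ⊗ N ⟶ f_*(M ⊗ f^*N)` in terms of `DCoh.tensorBi` -/
noncomputable def projBiHom (M : X.Modules) (N : Y.Modules) :
    ((DCoh.tensorBi (X := Y)).obj ((Scheme.Modules.pushforward f).obj M)).obj N ⟶
      (Scheme.Modules.pushforward f).obj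
        (((DCoh.tensorBi (X := X)).obj M).obj ((Scheme.Modules.pullback f).obj N)) :=
  projHom f M N

@[reassoc]
lemma projBiHom_naturality_left {M M' : X.Modules} (a : M ⟶ M') (N : Y.Modules) :
    ((DCoh.tensorBi (X := Y)).map ((Scheme.Modules.pushforward f).map a)).app N ≫
        projBiHom f M' N =
      projBiHom f M N ≫ (Scheme.Modules.pushforward f).map
        (((DCoh.tensorBi (X := X)).map a).app ((Scheme.Modules.pullback f).obj N)) := by
  rw [tensorBi_map_app, tensorBi_map_app]
  have := projHom_naturality f a (𝟙 N)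
  rw [CategoryTheory.Functor.map_id] at this
  exact this

@[reassoc]
lemma projBiHom_naturality_right (M : X.Modules) {N N' : Y.Modules} (b : N ⟶ N') :
    ((DCoh.tensorBi (X := Y)).obj ((Scheme.Modules.pushforward f).obj M)).map b ≫
        projBiHom f M N' =
      projBiHom f M N ≫ (Scheme.Modules.pushforward f).map
        (((DCoh.tensorBi (X := X)).obj M).map ((Scheme.Modules.pullback f).map b)) := by
  rw [tensorBi_obj_map, tensorBi_obj_map]
  have := projHom_naturality f (𝟙 M) b
  rw [CategoryTheory.Functor.map_id] at this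
  exact this

/-- termwise pushforward of complexes -/
noncomputable abbrev pushCx : CochainComplex X.Modules ℤ ⥤ CochainComplex Y.Modules ℤ :=
  (Scheme.Modules.pushforward f).mapHomologicalComplex (ComplexShape.up ℤ)

variable (E : CochainComplex X.Modules ℤ) (P : CochainComplex Y.Modules ℤ)

/-- The morphism of bicomplexes `f_*E^p ⊗ P^q ⟶ f_*(E^p ⊗ f^*P^q)`. -/
noncomputable def bicxHom :
    tenBicx ((pushCx f).obj E) P ⟶
      (TotMap.map₂ (Scheme.Modules.pushforward f) (ComplexShape.up ℤ) (ComplexShape.up ℤ)).obj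
        (tenBicx E ((pullCx f).obj P)) where
  f p :=
    { f := fun q => projBiHom f (E.X p) (P.X q)
      comm' := fun q q' _ => (projBiHom_naturality_right f (E.X p) (P.d q q')).symm }
  comm' p p' _ := HomologicalComplex.hom_ext _ _ (fun q =>
    (projBiHom_naturality_left f (E.d p p') (P.X q)).symm)

/-- **the projection morphism `f_*E ⊗ P ⟶ f_*(E ⊗ f^*P)` for complexes** -/
noncomputable def projCx :
    ((DCoh.tensorCx (X := Y)).obj ((pushCx f).obj E)).obj P ⟶
      (pushCx f).obj (((DCoh.tensorCx (X := X)).obj E).obj ((pullCx f).obj P)) :=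
  HomologicalComplex₂.total.map (bicxHom f E P) (ComplexShape.up ℤ) ≫
    totComp (Scheme.Modules.pushforward f) (tenBicx E ((pullCx f).obj P)) (ComplexShape.up ℤ)

/-- `projCx` on the summand `f_*E^p ⊗ P^q` -/
@[reassoc]
lemma ι_projCx (p q n : ℤ) (h : p + q = n) :
    (tenBicx ((pushCx f).obj E) P).ιTotal (ComplexShape.up ℤ) p q n h ≫ (projCx f E P).f n =
      projBiHom f (E.X p) (P.X q) ≫ (Scheme.Modules.pushforward f).map
        ((tenBicx E ((pullCx f).obj P)).ιTotal (ComplexShape.up ℤ) p q n h) := by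
  change (tenBicx ((pushCx f).obj E) P).ιTotal (ComplexShape.up ℤ) p q n h ≫
    ((HomologicalComplex₂.total.map (bicxHom f E P) (ComplexShape.up ℤ)).f n ≫
      (totComp (Scheme.Modules.pushforward f) (tenBicx E ((pullCx f).obj P))
        (ComplexShape.up ℤ)).f n) = _
  rw [HomologicalComplex₂.ιTotal_map_assoc, ιTotal_totComp_f]
  rfl

/-- `ι_projCx` in terms of `ιMapBifunctor` -/
@[reassoc]
lemma ι_projCx' (p q n : ℤ) (h : p + q = n) :
    ιMapBifunctor ((pushCx f).obj E) P (DCoh.tensorBi (X := Y)) (ComplexShape.up ℤ) p q n h ≫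
        (projCx f E P).f n =
      projBiHom f (E.X p) (P.X q) ≫ (Scheme.Modules.pushforward f).map
        (ιMapBifunctor E ((pullCx f).obj P) (DCoh.tensorBi (X := X)) (ComplexShape.up ℤ) p q n h) :=
  ι_projCx f E P p q n h

variable {E P}

/-- **naturality of `projCx` in both variables** -/
theorem projCx_naturality {E' : CochainComplex X.Modules ℤ} {P' : CochainComplex Y.Modules ℤ}
    (a : E ⟶ E') (b : P ⟶ P') :
    mapBifunctorMap ((pushCx f).map a) b (DCoh.tensorBi (X := Y)) (ComplexShape.up ℤ) ≫
        projCx f E' P' =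
      projCx f E P ≫ (pushCx f).map
        (mapBifunctorMap a ((pullCx f).map b) (DCoh.tensorBi (X := X)) (ComplexShape.up ℤ)) := by
  refine HomologicalComplex.hom_ext _ _ (fun n =>
    HomologicalComplex.mapBifunctor.hom_ext (fun p q h => ?_))
  change ιMapBifunctor ((pushCx f).obj E) P (DCoh.tensorBi (X := Y)) (ComplexShape.up ℤ) p q n h ≫
      (mapBifunctorMap ((pushCx f).map a) b (DCoh.tensorBi (X := Y)) (ComplexShape.up ℤ)).f n ≫
        (projCx f E' P').f n =
    ιMapBifunctor ((pushCx f).obj E) P (DCoh.tensorBi (X := Y)) (ComplexShape.up ℤ) p q n h ≫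
      (projCx f E P).f n ≫ (Scheme.Modules.pushforward f).map
        ((mapBifunctorMap a ((pullCx f).map b) (DCoh.tensorBi (X := X)) (ComplexShape.up ℤ)).f n)
  have hR := ι_projCx'_assoc f E P p q n h ((Scheme.Modules.pushforward f).map
        ((mapBifunctorMap a ((pullCx f).map b) (DCoh.tensorBi (X := X)) (ComplexShape.up ℤ)).f n))
  have hL := ι_projCx' f E' P' p q n h
  have h3 := ι_mapBifunctorMap a ((pullCx f).map b) (DCoh.tensorBi (X := X)) (ComplexShape.up ℤ) p q n h
  refine Eq.trans ?_ hR.symm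
  refine Eq.trans ?_ (Category.assoc _ _ _).symm
  rw [ι_mapBifunctorMap_assoc]
  refine (congrArg (fun t => _ ≫ _ ≫ t) hL).trans ?_
  have hRHS : (Scheme.Modules.pushforward f).map
        (ιMapBifunctor E ((pullCx f).obj P) (DCoh.tensorBi (X := X)) (ComplexShape.up ℤ) p q n h) ≫
      (Scheme.Modules.pushforward f).map
        ((mapBifunctorMap a ((pullCx f).map b) (DCoh.tensorBi (X := X)) (ComplexShape.up ℤ)).f n) =
      (Scheme.Modules.pushforward f).map
          (((DCoh.tensorBi (X := X)).map (a.f p)).app ((Scheme.Modules.pullback f).obj (P.X q))) ≫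
        (Scheme.Modules.pushforward f).map
          (((DCoh.tensorBi (X := X)).obj (E'.X p)).map ((Scheme.Modules.pullback f).map (b.f q))) ≫
        (Scheme.Modules.pushforward f).map
          (ιMapBifunctor E' ((pullCx f).obj P') (DCoh.tensorBi (X := X)) (ComplexShape.up ℤ)
            p q n h) := by
    rw [← Functor.map_comp, h3, Functor.map_comp, Functor.map_comp]
    rfl
  refine Eq.trans ?_ (congrArg (fun t => projBiHom f (E.X p) (P.X q) ≫ t) hRHS.symm)
  change ((DCoh.tensorBi (X := Y)).map ((Scheme.Modules.pushforward f).map (a.f p))).app (P.X q) ≫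
    ((DCoh.tensorBi (X := Y)).obj ((Scheme.Modules.pushforward f).obj (E'.X p))).map (b.f q) ≫
      projBiHom f (E'.X p) (P'.X q) ≫ _ = _
  rw [projBiHom_naturality_right_assoc, projBiHom_naturality_left_assoc]
  rfl

end Groth.Agent.Lib.Helper25.PFCx1
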