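import Groth.Agent.Lib.Helper25.PFTot
import Groth.Agent.Lib.Helper25.DualCx1

/-!
# `Tot(G B) ⟶ G(Tot B)` is invertible for the bicomplex `B = T(N, D)` with `D` of finite support (helper25)

`T : 𝒜 ⥤ 𝒜 ⥤ 𝒜` an additive bifunctor, `N D : CochainComplex 𝒜 ℤ` with `D.X b` zero for `b ∉ s` (`s : Finset ℤ`),
`G : 𝒜 ⥤ ℬ` any additive functor:
* `isIso_totCompX_of_finite`, `isIso_totComp_of_finite`.
-/

set_option autoImplicit false
universe v v' u u'
open CategoryTheory CategoryTheory.Limits HomologicalComplex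

namespace Groth.Agent.Lib.Helper25.PFTot2

open TotMap Groth.Agent.Lib.Helper25.PFTot Groth.Agent.Lib.Helper25.DualCx1

variable {𝒜 : Type u} [Category.{v} 𝒜] [Preadditive 𝒜] {ℬ : Type u'} [Category.{v'} ℬ] [Preadditive ℬ]
  (G : 𝒜 ⥤ ℬ) [G.Additive]
  (T : 𝒜 ⥤ 𝒜 ⥤ 𝒜) [T.Additive] [∀ A, (T.obj A).Additive]
  (N D : CochainComplex 𝒜 ℤ) [HasMapBifunctor N D T (ComplexShape.up ℤ)]

/-- the bicomplex `T(N^p, D^q)` -/
noncomputable abbrev bicx : HomologicalComplex₂ 𝒜 (ComplexShape.up ℤ) (ComplexShape.up ℤ) :=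
  ((T.mapBifunctorHomologicalComplex (ComplexShape.up ℤ) (ComplexShape.up ℤ)).obj N).obj D

instance : (bicx T N D).HasTotal (ComplexShape.up ℤ) :=
  inferInstanceAs (HasMapBifunctor N D T (ComplexShape.up ℤ))

variable [((map₂ G (ComplexShape.up ℤ) (ComplexShape.up ℤ)).obj (bicx T N D)).HasTotal
  (ComplexShape.up ℤ)]
  (s : Finset ℤ) (hs : ∀ b : ℤ, b ∉ s → IsZero (D.X b))

/-- the inverse of the comparison in degree `n` -/
noncomputable def invX (n : ℤ) :
    ((G.mapHomologicalComplex (ComplexShape.up ℤ)).obj ((bicx T N D).total (ComplexShape.up ℤ))).X n ⟶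
      (((map₂ G (ComplexShape.up ℤ) (ComplexShape.up ℤ)).obj (bicx T N D)).total
        (ComplexShape.up ℤ)).X n :=
  ∑ b ∈ s, G.map (π T N D (n - b) b n (by omega)) ≫
    ((map₂ G (ComplexShape.up ℤ) (ComplexShape.up ℤ)).obj (bicx T N D)).ιTotal
      (ComplexShape.up ℤ) (n - b) b n (by dsimp; omega)

include hs in
lemma invX_totCompX (n : ℤ) :
    invX G T N D s n ≫ totCompX G (bicx T N D) (ComplexShape.up ℤ) n = 𝟙 _ := by
  unfold invX
  rw [Preadditive.sum_comp]
  have h : ∀ b ∈ s, (G.map (π T N D (n - b) b n (by omega)) ≫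
      ((map₂ G (ComplexShape.up ℤ) (ComplexShape.up ℤ)).obj (bicx T N D)).ιTotal
        (ComplexShape.up ℤ) (n - b) b n (by dsimp; omega)) ≫
      totCompX G (bicx T N D) (ComplexShape.up ℤ) n =
      G.map (π T N D (n - b) b n (by omega) ≫
        ιMapBifunctor N D T (ComplexShape.up ℤ) (n - b) b n (by dsimp; omega)) := by
    intro b _
    exact (Category.assoc _ _ _).trans ((congrArg (fun t => G.map (π T N D (n - b) b n (by omega)) ≫ t)
      (ιTotal_totCompX G (bicx T N D) (ComplexShape.up ℤ) (n - b) b n (by dsimp; omega))).trans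
      (G.map_comp _ _).symm)
  refine Eq.trans (Finset.sum_congr rfl h) ?_
  refine (G.map_sum _ s).symm.trans ?_
  exact (congrArg G.map (sum_π_ι T N D s hs n)).trans (G.map_id _)

include hs in
lemma totCompX_invX (n : ℤ) :
    totCompX G (bicx T N D) (ComplexShape.up ℤ) n ≫ invX G T N D s n = 𝟙 _ := by
  refine HomologicalComplex₂.total.hom_ext _ (fun a b h => ?_)
  have h1 : a + b = n := h
  refine ((Category.assoc _ _ _).symm.trans (congrArg (fun t => t ≫ invX G T N D s n)
    (ιTotal_totCompX G (bicx T N D) (ComplexShape.up ℤ) a b n h))).trans ?_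
  refine Eq.trans ?_ (Category.comp_id _).symm
  by_cases hb : b ∈ s
  · obtain rfl : a = n - b := by omega
    unfold invX
    rw [Preadditive.comp_sum, Finset.sum_eq_single b]
    · refine (Category.assoc _ _ _).symm.trans ?_
      refine (congrArg (fun t => t ≫ _) ((G.map_comp _ _).symm.trans
        ((congrArg G.map (ι_π_self T N D (n - b) b n (by omega))).trans (G.map_id _)))).trans ?_
      exact Category.id_comp _
    · intro b' _ hne
      refine (Category.assoc _ _ _).symm.trans ?_
      refine (congrArg (fun t => t ≫ _) ((G.map_comp _ _).symm.trans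
        ((congrArg G.map (ι_π_ne T N D (n - b) b (n - b') b' n (by omega) (by omega)
          (by omega))).trans (G.map_zero _ _)))).trans ?_
      exact zero_comp
    · intro h'
      exact absurd hb h'
  · have hz : IsZero (G.obj (((bicx T N D).X a).X b)) :=
      G.map_isZero (isZero_obj T D s hs (N.X a) b hb)
    exact hz.eq_of_src _ _

include hs in
lemma isIso_totCompX_of_finite (n : ℤ) :
    IsIso (totCompX G (bicx T N D) (ComplexShape.up ℤ) n) :=
  ⟨invX G T N D s n, totCompX_invX G T N D s hs n, invX_totCompX G T N D s hs n⟩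

include hs in
/-- **`Tot(G B) ⟶ G(Tot B)` is invertible when `D` has finite support** -/
lemma isIso_totComp_of_finite : IsIso (totComp G (bicx T N D) (ComplexShape.up ℤ)) := by
  haveI : ∀ n, IsIso ((totComp G (bicx T N D) (ComplexShape.up ℤ)).f n) := fun n =>
    isIso_totCompX_of_finite G T N D s hs n
  exact HomologicalComplex.Hom.isIso_of_components _

end Groth.Agent.Lib.Helper25.PFTot2
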