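import Groth.Agent.Lib.Helper25.PFCx1
import Groth.Agent.Lib.Helper25.PFTot2
import Groth.Agent.Lib.Helper18.ProjFormulaLF

/-!
# `projCx f E P` is an isomorphism for `P` a bounded complex of finite locally free modules (helper25)

* `isIso_projBiHom`: the module-level projection morphism for a finite locally free module (helper18).
* `isIso_projCx`: `f_*E ⊗ P ≅ f_*(E ⊗ f^*P)` (any `f`, any complex `E`) for `P` with finite support and finite
  locally free terms.
-/

set_option autoImplicit false
universe u
open CategoryTheory CategoryTheory.Limits AlgebraicGeometry MonoidalCategory HomologicalComplex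

namespace Groth.Agent.Lib.Helper25.PFCx2

open Groth.Agent.Lib.helper13.RestrKFlat Groth.Agent.Lib.Helper25.PullTensorCx
  Groth.Agent.Lib.Helper25.PFTot Groth.Agent.Lib.Helper25.PFTot2 Groth.Agent.Lib.Helper25.PFCx1

variable {X Y : Scheme.{u}} (f : X ⟶ Y)

lemma isIso_projBiHom (M : X.Modules) (N : Y.Modules) (hN : FlatMod.IsFinLocFree N) :
    IsIso (projBiHom f M N) :=
  Groth.Agent.Lib.Helper18.ProjFormulaLF.isIso_projHom f M N hN

variable (E : CochainComplex X.Modules ℤ) (P : CochainComplex Y.Modules ℤ)

lemma isIso_bicxHom (hP : ∀ q, FlatMod.IsFinLocFree (P.X q)) : IsIso (bicxHom f E P) := by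
  haveI : ∀ p, IsIso ((bicxHom f E P).f p) := fun p => by
    haveI : ∀ q, IsIso (((bicxHom f E P).f p).f q) := fun q =>
      isIso_projBiHom f (E.X p) (P.X q) (hP q)
    exact HomologicalComplex.Hom.isIso_of_components _
  exact HomologicalComplex.Hom.isIso_of_components _

/-- **the projection formula for complexes: bounded finite locally free `P`** -/
theorem isIso_projCx (s : Finset ℤ) (hs : ∀ q : ℤ, q ∉ s → IsZero (P.X q))
    (hP : ∀ q, FlatMod.IsFinLocFree (P.X q)) : IsIso (projCx f E P) := by
  haveI := isIso_bicxHom f E P hP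
  have h1 : IsIso (HomologicalComplex₂.total.map (bicxHom f E P) (ComplexShape.up ℤ)) :=
    (HomologicalComplex₂.total.mapIso (asIso (bicxHom f E P)) (ComplexShape.up ℤ)).isIso_hom
  have h2 : IsIso (totComp (Scheme.Modules.pushforward f) (tenBicx E ((pullCx f).obj P))
      (ComplexShape.up ℤ)) :=
    isIso_totComp_of_finite (Scheme.Modules.pushforward f) (DCoh.tensorBi (X := X)) E
      ((pullCx f).obj P) s (fun q hq => (Scheme.Modules.pullback f).map_isZero (hs q hq))
  unfold projCx
  exact @IsIso.comp_isIso _ _ _ _ _ _ _ h1 h2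

end Groth.Agent.Lib.Helper25.PFCx2
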