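import Groth.Agent.Lib.Helper25.PFCx1
import Groth.Agent.Lib.Helper25.SchKInj2
import Groth.Agent.Lib.Helper25.LTensorComp
import Groth.Agent.Lib.Helper25.PullKFlat
import Groth.Agent.Lib.Helper25.PullKFlatQis

/-!
# The derived projection morphism `Q(f_*I ⊗ P) ⟶ Rf_*(Q(I ⊗ f^*P))` (helper25)

* `ηQ f K : Q(f_*K) ⟶ Rf_*(Q K)` (the unit of `Rf_*`), `ηQ_naturality`, `isIso_ηQ_of_isKInjective`.
* `m f I P := Q(projCx f I P) ≫ ηQ f (I ⊗ f^*P)`.
* `isIso_m_iff_quasiIso` (bridge): for a K-injective resolution `j : I ⊗ f^*P ⟶ J`, `m f I P` is invertible iff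
  `projCx f I P ≫ f_* j` is a quasi-isomorphism.
* `isIso_m_iff_of_quasiIso`: invariance under quasi-isomorphisms `P₁ ⟶ P₂` of K-flat complexes.
-/

set_option autoImplicit false
universe u
open CategoryTheory CategoryTheory.Limits AlgebraicGeometry HomologicalComplex

attribute [local instance] HasDerivedCategory.standard

namespace Groth.Agent.Lib.Helper25.PFDer1

open Groth.Agent.Lib.Helper25.PullTensorCx Groth.Agent.Lib.Helper25.PFCx1

lemma aux_iff {C : Type*} [Category C] {A B D E : C} (qa : A ⟶ B) (m' : B ⟶ E) (m : A ⟶ D)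
    (r : D ⟶ E) (hqa : IsIso qa) (hr : IsIso r) (h : qa ≫ m' = m ≫ r) : IsIso m ↔ IsIso m' := by
  constructor
  · intro hm
    have h1 : IsIso (qa ≫ m') := by
      rw [h]
      infer_instance
    exact IsIso.of_isIso_comp_left qa m'
  · intro hm
    have h1 : IsIso (m ≫ r) := by
      rw [← h]
      infer_instance
    exact IsIso.of_isIso_comp_right m r

lemma aux_sq {C : Type*} [Category C] {A B B' D E' E : C} (qa : A ⟶ B) (p' : B ⟶ D) (e' : D ⟶ E)
    (p : A ⟶ B') (fa : B' ⟶ D) (e : B' ⟶ E') (r : E' ⟶ E) (h1 : qa ≫ p' = p ≫ fa)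
    (h2 : fa ≫ e' = e ≫ r) : qa ≫ (p' ≫ e') = (p ≫ e) ≫ r := by
  rw [← Category.assoc, h1, Category.assoc, h2, Category.assoc]

variable {X Y : Scheme.{u}} (f : X ⟶ Y) [DCoh.HasRpush f]

/-- the unit of `Rf_*` -/
noncomputable abbrev η : DCoh.pushKh f ⟶ DerivedCategory.Qh ⋙ DCoh.Rpush f :=
  (DCoh.pushKh f).totalRightDerivedUnit DerivedCategory.Qh
    (HomotopyCategory.quasiIso X.Modules (ComplexShape.up ℤ))

/-- the unit of `Rf_*` on a complex -/
noncomputable def ηQ (K : CochainComplex X.Modules ℤ) :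
    DerivedCategory.Q.obj ((pushCx f).obj K) ⟶ (DCoh.Rpush f).obj (DerivedCategory.Q.obj K) :=
  (η f).app ((HomotopyCategory.quotient _ _).obj K)

lemma ηQ_naturality {K K' : CochainComplex X.Modules ℤ} (a : K ⟶ K') :
    DerivedCategory.Q.map ((pushCx f).map a) ≫ ηQ f K' =
      ηQ f K ≫ (DCoh.Rpush f).map (DerivedCategory.Q.map a) :=
  (η f).naturality ((HomotopyCategory.quotient _ _).map a)

lemma isIso_ηQ_of_isKInjective (I : CochainComplex X.Modules ℤ) [I.IsKInjective] :
    IsIso (ηQ f I) := by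
  haveI : (DCoh.Rpush f).IsLeftKanExtension (η f) :=
    Functor.IsRightDerivedFunctor.isLeftKanExtension _ _
      (HomotopyCategory.quasiIso X.Modules (ComplexShape.up ℤ))
  exact Groth.Agent.Lib.Helper25.DerBC.isIso_unit_app_of_isKInjective
    (Groth.Agent.Lib.Helper25.SchKInj.hKinj X) _ (DCoh.Rpush f) (η f) I

variable (I : CochainComplex X.Modules ℤ) (P : CochainComplex Y.Modules ℤ)

/-- **the derived projection morphism** `Q(f_*I ⊗ P) ⟶ Rf_*(Q(I ⊗ f^*P))` -/
noncomputable def m :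
    DerivedCategory.Q.obj (((DCoh.tensorCx (X := Y)).obj ((pushCx f).obj I)).obj P) ⟶
      (DCoh.Rpush f).obj (DerivedCategory.Q.obj
        (((DCoh.tensorCx (X := X)).obj I).obj ((pullCx f).obj P))) :=
  DerivedCategory.Q.map (projCx f I P) ≫
    ηQ f (((DCoh.tensorCx (X := X)).obj I).obj ((pullCx f).obj P))

/-- the bridge to the chain level -/
theorem isIso_m_iff_quasiIso {J : CochainComplex X.Modules ℤ}
    (j : ((DCoh.tensorCx (X := X)).obj I).obj ((pullCx f).obj P) ⟶ J) [J.IsKInjective]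
    [QuasiIso j] :
    IsIso (m f I P) ↔ QuasiIso (projCx f I P ≫ (pushCx f).map j) := by
  haveI := isIso_ηQ_of_isKInjective f J
  have hj : IsIso (DerivedCategory.Q.map j) := inferInstance
  have h1 : DerivedCategory.Q.map (projCx f I P ≫ (pushCx f).map j) ≫ ηQ f J =
      m f I P ≫ (DCoh.Rpush f).map (DerivedCategory.Q.map j) := by
    unfold m
    rw [Functor.map_comp, Category.assoc, Category.assoc, ηQ_naturality]
  rw [← DerivedCategory.isIso_Q_map_iff_quasiIso]
  constructor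
  · intro h
    have h2 : IsIso (DerivedCategory.Q.map (projCx f I P ≫ (pushCx f).map j) ≫ ηQ f J) := by
      rw [h1]
      infer_instance
    exact IsIso.of_isIso_comp_right _ (ηQ f J)
  · intro h
    have h2 : IsIso (m f I P ≫ (DCoh.Rpush f).map (DerivedCategory.Q.map j)) := by
      rw [← h1]
      infer_instance
    exact IsIso.of_isIso_comp_right _ ((DCoh.Rpush f).map (DerivedCategory.Q.map j))

variable {P}

/-- invariance under quasi-isomorphisms of K-flat complexes -/
theorem isIso_m_iff_of_quasiIso {P' : CochainComplex Y.Modules ℤ} (a : P ⟶ P') (ha : QuasiIso a)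
    (hP : DCoh.IsKFlat P) (hP' : DCoh.IsKFlat P') :
    IsIso (m f I P) ↔ IsIso (m f I P') := by
  -- `1 ⊗ a` is a quasi-isomorphism
  have h1 : QuasiIso (mapBifunctorMap (𝟙 ((pushCx f).obj I)) a (DCoh.tensorBi (X := Y))
      (ComplexShape.up ℤ)) :=
    @Groth.Agent.Lib.helper13.KFlat.quasiIso_tensor_of_isKFlat _ _ _ Y.sheaf P P' hP hP' a
      ha ((pushCx f).obj I)
  -- `1 ⊗ f^*a` is a quasi-isomorphism
  have h2 : QuasiIso ((pullCx f).map a) :=
    Groth.Agent.Lib.Helper25.PullKFlatQis.quasiIso_pullback_map_of_isKFlat f a hP hP' ha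
  have h3 : QuasiIso (mapBifunctorMap (𝟙 I) ((pullCx f).map a) (DCoh.tensorBi (X := X))
      (ComplexShape.up ℤ)) :=
    @Groth.Agent.Lib.helper13.KFlat.quasiIso_tensor_of_isKFlat _ _ _ X.sheaf _ _
      (Groth.Agent.Lib.Helper25.PullKFlat.isKFlat_pullback f P hP)
      (Groth.Agent.Lib.Helper25.PullKFlat.isKFlat_pullback f P' hP') ((pullCx f).map a) h2 I
  have h4 : IsIso (DerivedCategory.Q.map (mapBifunctorMap (𝟙 ((pushCx f).obj I)) a
      (DCoh.tensorBi (X := Y)) (ComplexShape.up ℤ))) :=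
    (DerivedCategory.isIso_Q_map_iff_quasiIso (C := Y.Modules) _).2 h1
  have h5 : IsIso (DerivedCategory.Q.map (mapBifunctorMap (𝟙 I) ((pullCx f).map a)
      (DCoh.tensorBi (X := X)) (ComplexShape.up ℤ))) :=
    (DerivedCategory.isIso_Q_map_iff_quasiIso (C := X.Modules) _).2 h3
  have hn := projCx_naturality f (𝟙 I) a
  rw [CategoryTheory.Functor.map_id] at hn
  have hq := (DerivedCategory.Q.map_comp _ _).symm.trans
    ((congrArg DerivedCategory.Q.map hn).trans (DerivedCategory.Q.map_comp _ _))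
  have h6 := aux_sq _ _ (ηQ f (((DCoh.tensorCx (X := X)).obj I).obj ((pullCx f).obj P'))) _ _
    (ηQ f (((DCoh.tensorCx (X := X)).obj I).obj ((pullCx f).obj P))) _ hq
    (ηQ_naturality f (mapBifunctorMap (𝟙 I) ((pullCx f).map a) (DCoh.tensorBi (X := X))
      (ComplexShape.up ℤ)))
  exact aux_iff _ _ _ _ h4 (@Functor.map_isIso _ _ _ _ _ _ (DCoh.Rpush f) _ h5) h6

end Groth.Agent.Lib.Helper25.PFDer1
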