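import Groth.Agent.Lib.Helper25.PFRes2
import Groth.Agent.Lib.Helper25.PFCx1

/-!
# `projCx` is compatible with restriction to opens (helper25)

For `f : X ⟶ Y`, `V ⊆ Y` open, `U = f⁻¹V`, `g = f ∣_ V`:
* `ι_resTensorCxIso_inv`, `map_ι_resTensorCxIso_hom`: helper13's `resTensorCxIso` on summands.
* `bcCx f V E : (f_*E)|_V ≅ g_*(E|_U)`, `cCx f V P : (f^*P)|_U ≅ g^*(P|_V)` (termwise).
* `projCx_restrict`: the chain-level compatibility.
-/

set_option autoImplicit false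
universe u
open CategoryTheory CategoryTheory.Limits AlgebraicGeometry Opposite TopologicalSpace HomologicalComplex

namespace Groth.Agent.Lib.Helper25.PFRes3

open Scheme.Modules Groth.Agent.Lib.helper21.ModOpenBC Groth.Agent.Lib.helper12.PullTensor
  Groth.Agent.Lib.helper12.TensorRestrict Groth.Agent.Lib.Lead.ModTensor
  Groth.Agent.Lib.helper13.RestrKFlat Groth.Agent.Lib.Helper25.PFRes1
  Groth.Agent.Lib.Helper25.PFRes2 Groth.Agent.Lib.Helper25.PushProj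
  Groth.Agent.Lib.Helper25.PullTensorCx Groth.Agent.Lib.Helper25.PFCx1

lemma aux_hom_of_inv {C : Type*} [Category C] {A B T T' : C} (ι : A ⟶ T') (inv : T' ⟶ T)
    (hom : T ⟶ T') (κ : B ≅ A) (a : B ⟶ T) (h1 : ι ≫ inv = κ.inv ≫ a) (h2 : inv ≫ hom = 𝟙 _) :
    a ≫ hom = κ.hom ≫ ι := by
  rw [← cancel_epi κ.inv, ← Category.assoc, ← h1, Category.assoc, h2, Category.comp_id,
    Iso.inv_hom_id_assoc]

section ResTensor

variable {Y Z : Scheme.{u}} (k : Z ⟶ Y) [IsOpenImmersion k] (K L : CochainComplex Y.Modules ℤ)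

set_option backward.isDefEq.respectTransparency false in
/-- `resTensorCxIso` on summands (inverse direction) -/
lemma ι_resTensorCxIso_inv (p q n : ℤ) (h : p + q = n) :
    ιMapBifunctor ((resCx k).obj K) ((resCx k).obj L) (DCoh.tensorBi (X := Z)) (ComplexShape.up ℤ)
        p q n h ≫ (resTensorCxIso k K L).inv.f n =
      (resTensorBiIso k (K.X p) (L.X q)).inv ≫ (restrictFunctor k).map
        (ιMapBifunctor K L (DCoh.tensorBi (X := Y)) (ComplexShape.up ℤ) p q n h) := by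
  haveI := TotMap.hasTotal_map₂ (restrictFunctor k) (tenBicx K L) (ComplexShape.up ℤ)
  change (tenBicx ((resCx k).obj K) ((resCx k).obj L)).ιTotal (ComplexShape.up ℤ) p q n h ≫
    ((HomologicalComplex₂.total.map (Groth.Agent.Lib.helper13.RestrKFlat.bicxIso k K L).inv
        (ComplexShape.up ℤ)).f n ≫
      (TotMap.mapTotalIso (restrictFunctor k) (tenBicx K L) (ComplexShape.up ℤ)).inv.f n) = _
  rw [HomologicalComplex₂.ιTotal_map_assoc, TotMap.ιTotal_mapTotalIso_inv_f]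
  rfl

/-- `resTensorCxIso` on summands -/
lemma map_ι_resTensorCxIso_hom (p q n : ℤ) (h : p + q = n) :
    (restrictFunctor k).map
        (ιMapBifunctor K L (DCoh.tensorBi (X := Y)) (ComplexShape.up ℤ) p q n h) ≫
      (resTensorCxIso k K L).hom.f n =
    (resTensorBiIso k (K.X p) (L.X q)).hom ≫
      ιMapBifunctor ((resCx k).obj K) ((resCx k).obj L) (DCoh.tensorBi (X := Z)) (ComplexShape.up ℤ)
        p q n h := by
  have h1 := ι_resTensorCxIso_inv k K L p q n h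
  have h2 : (resTensorCxIso k K L).inv.f n ≫ (resTensorCxIso k K L).hom.f n = 𝟙 _ := by
    rw [← HomologicalComplex.comp_f, Iso.inv_hom_id]
    rfl
  exact aux_hom_of_inv _ _ _ (resTensorBiIso k (K.X p) (L.X q)) _ h1 h2

end ResTensor

section

variable {X Y : Scheme.{u}} (f : X ⟶ Y) (V : Y.Opens)

/-- `(f_*E)|_V ≅ g_*(E|_U)` for complexes -/
noncomputable def bcCx (E : CochainComplex X.Modules ℤ) :
    (resCx V.ι).obj ((pushCx f).obj E) ≅ (pushCx (f ∣_ V)).obj ((resCx (f ⁻¹ᵁ V).ι).obj E) :=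
  HomologicalComplex.Hom.isoOfComponents (fun n => (bcIso f V).app (E.X n))
    (fun n n' _ => ((bcIso f V).hom.naturality (E.d n n')).symm)

@[simp]
lemma bcCx_hom_f (E : CochainComplex X.Modules ℤ) (n : ℤ) :
    (bcCx f V E).hom.f n = (bcIso f V).hom.app (E.X n) := rfl

lemma bcCx_hom_naturality {E E' : CochainComplex X.Modules ℤ} (a : E ⟶ E') :
    (resCx V.ι).map ((pushCx f).map a) ≫ (bcCx f V E').hom =
      (bcCx f V E).hom ≫ (pushCx (f ∣_ V)).map ((resCx (f ⁻¹ᵁ V).ι).map a) := by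
  refine HomologicalComplex.hom_ext _ _ (fun n => ?_)
  exact (bcIso f V).hom.naturality (a.f n)

/-- `(f^*P)|_U ≅ g^*(P|_V)` for complexes -/
noncomputable def cCx (P : CochainComplex Y.Modules ℤ) :
    (resCx (f ⁻¹ᵁ V).ι).obj ((pullCx f).obj P) ≅ (pullCx (f ∣_ V)).obj ((resCx V.ι).obj P) :=
  HomologicalComplex.Hom.isoOfComponents (fun n => (cIso f V).symm.app (P.X n))
    (fun n n' _ => ((cIso f V).inv.naturality (P.d n n')).symm)

@[simp]
lemma cCx_hom_f (P : CochainComplex Y.Modules ℤ) (n : ℤ) :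
    (cCx f V P).hom.f n = (cIso f V).inv.app (P.X n) := rfl

lemma cCx_hom_naturality {P P' : CochainComplex Y.Modules ℤ} (b : P ⟶ P') :
    (resCx (f ⁻¹ᵁ V).ι).map ((pullCx f).map b) ≫ (cCx f V P').hom =
      (cCx f V P).hom ≫ (pullCx (f ∣_ V)).map ((resCx V.ι).map b) := by
  refine HomologicalComplex.hom_ext _ _ (fun n => ?_)
  exact (cIso f V).inv.naturality (b.f n)

end

section Main

variable {X Y : Scheme.{u}} (f : X ⟶ Y) (V : Y.Opens)
  (E : CochainComplex X.Modules ℤ) (P : CochainComplex Y.Modules ℤ)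

/-- first part of the left hand side on summands -/
lemma ι_lhs1 (p q n : ℤ) (h : p + q = n) :
    ιMapBifunctor ((resCx V.ι).obj ((pushCx f).obj E)) ((resCx V.ι).obj P)
        (DCoh.tensorBi (X := V.toScheme)) (ComplexShape.up ℤ) p q n h ≫
      (resTensorCxIso V.ι ((pushCx f).obj E) P).inv.f n ≫
        (restrictFunctor V.ι).map ((projCx f E P).f n) =
    (resTensorBiIso V.ι ((pushforward f).obj (E.X p)) (P.X q)).inv ≫
      (restrictFunctor V.ι).map (projBiHom f (E.X p) (P.X q)) ≫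
      (restrictFunctor V.ι).map ((pushforward f).map
        (ιMapBifunctor E ((pullCx f).obj P) (DCoh.tensorBi (X := X)) (ComplexShape.up ℤ) p q n h)) := by
  have h1 := ι_resTensorCxIso_inv V.ι ((pushCx f).obj E) P p q n h
  have h2 := ι_projCx' f E P p q n h
  refine (Category.assoc _ _ _).symm.trans ?_
  refine (congrArg (fun t => t ≫ (restrictFunctor V.ι).map ((projCx f E P).f n)) h1).trans ?_
  refine (Category.assoc _ _ _).trans ?_
  refine congrArg (fun t => (resTensorBiIso V.ι ((pushforward f).obj (E.X p)) (P.X q)).inv ≫ t) ?_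
  refine ((restrictFunctor V.ι).map_comp _ _).symm.trans ?_
  refine (congrArg (restrictFunctor V.ι).map h2).trans ?_
  exact (restrictFunctor V.ι).map_comp _ _

/-- last part of the left hand side on summands -/
lemma ι_lhs3 (p q n : ℤ) (h : p + q = n) :
    (restrictFunctor (f ⁻¹ᵁ V).ι).map
        (ιMapBifunctor E ((pullCx f).obj P) (DCoh.tensorBi (X := X)) (ComplexShape.up ℤ) p q n h) ≫
      (resTensorCxIso (f ⁻¹ᵁ V).ι E ((pullCx f).obj P)).hom.f n ≫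
        (mapBifunctorMap (𝟙 ((resCx (f ⁻¹ᵁ V).ι).obj E)) (cCx f V P).hom
          (DCoh.tensorBi (X := (f ⁻¹ᵁ V).toScheme)) (ComplexShape.up ℤ)).f n =
    (resTensorBiIso (f ⁻¹ᵁ V).ι (E.X p) ((Scheme.Modules.pullback f).obj (P.X q))).hom ≫
      ((DCoh.tensorBi (X := (f ⁻¹ᵁ V).toScheme)).obj ((restrictFunctor (f ⁻¹ᵁ V).ι).obj (E.X p))).map
        ((cIso f V).inv.app (P.X q)) ≫
      ιMapBifunctor ((resCx (f ⁻¹ᵁ V).ι).obj E) ((pullCx (f ∣_ V)).obj ((resCx V.ι).obj P))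
        (DCoh.tensorBi (X := (f ⁻¹ᵁ V).toScheme)) (ComplexShape.up ℤ) p q n h := by
  have h1 := map_ι_resTensorCxIso_hom (f ⁻¹ᵁ V).ι E ((pullCx f).obj P) p q n h
  have h2 := ι_mapBifunctorMap (𝟙 ((resCx (f ⁻¹ᵁ V).ι).obj E)) (cCx f V P).hom
          (DCoh.tensorBi (X := (f ⁻¹ᵁ V).toScheme)) (ComplexShape.up ℤ) p q n h
  refine (Category.assoc _ _ _).symm.trans ?_
  refine (congrArg (fun t => t ≫ (mapBifunctorMap (𝟙 ((resCx (f ⁻¹ᵁ V).ι).obj E)) (cCx f V P).hom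
          (DCoh.tensorBi (X := (f ⁻¹ᵁ V).toScheme)) (ComplexShape.up ℤ)).f n) h1).trans ?_
  refine (Category.assoc _ _ _).trans ?_
  refine congrArg (fun t => (resTensorBiIso (f ⁻¹ᵁ V).ι (E.X p)
    ((Scheme.Modules.pullback f).obj (P.X q))).hom ≫ t) ?_
  refine h2.trans ?_
  have h3 : ((DCoh.tensorBi (X := (f ⁻¹ᵁ V).toScheme)).map
      ((𝟙 ((resCx (f ⁻¹ᵁ V).ι).obj E) : _ ⟶ _).f p)).app
        (((resCx (f ⁻¹ᵁ V).ι).obj ((pullCx f).obj P)).X q) = 𝟙 _ := by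
    change ((DCoh.tensorBi (X := (f ⁻¹ᵁ V).toScheme)).map (𝟙 _)).app _ = 𝟙 _
    rw [CategoryTheory.Functor.map_id]
    rfl
  rw [h3, Category.id_comp]
  rfl

/-- the right hand side on summands -/
lemma ι_rhs (p q n : ℤ) (h : p + q = n) :
    ιMapBifunctor ((resCx V.ι).obj ((pushCx f).obj E)) ((resCx V.ι).obj P)
        (DCoh.tensorBi (X := V.toScheme)) (ComplexShape.up ℤ) p q n h ≫
      (mapBifunctorMap (bcCx f V E).hom (𝟙 ((resCx V.ι).obj P))
          (DCoh.tensorBi (X := V.toScheme)) (ComplexShape.up ℤ)).f n ≫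
        (projCx (f ∣_ V) ((resCx (f ⁻¹ᵁ V).ι).obj E) ((resCx V.ι).obj P)).f n =
    ((DCoh.tensorBi (X := V.toScheme)).map ((bcIso f V).hom.app (E.X p))).app
        ((restrictFunctor V.ι).obj (P.X q)) ≫
      projBiHom (f ∣_ V) ((restrictFunctor (f ⁻¹ᵁ V).ι).obj (E.X p))
        ((restrictFunctor V.ι).obj (P.X q)) ≫
      (pushforward (f ∣_ V)).map
        (ιMapBifunctor ((resCx (f ⁻¹ᵁ V).ι).obj E) ((pullCx (f ∣_ V)).obj ((resCx V.ι).obj P))
          (DCoh.tensorBi (X := (f ⁻¹ᵁ V).toScheme)) (ComplexShape.up ℤ) p q n h) := by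
  have h1 := ι_mapBifunctorMap (bcCx f V E).hom (𝟙 ((resCx V.ι).obj P))
          (DCoh.tensorBi (X := V.toScheme)) (ComplexShape.up ℤ) p q n h
  have h2 := ι_projCx' (f ∣_ V) ((resCx (f ⁻¹ᵁ V).ι).obj E) ((resCx V.ι).obj P) p q n h
  have h3 : ((DCoh.tensorBi (X := V.toScheme)).obj
      (((pushCx (f ∣_ V)).obj ((resCx (f ⁻¹ᵁ V).ι).obj E)).X p)).map
        ((𝟙 ((resCx V.ι).obj P) : _ ⟶ _).f q) = 𝟙 _ := by
    change ((DCoh.tensorBi (X := V.toScheme)).obj _).map (𝟙 _) = 𝟙 _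
    rw [CategoryTheory.Functor.map_id]
  rw [h3, Category.id_comp] at h1
  refine (Category.assoc _ _ _).symm.trans ?_
  refine (congrArg (fun t => t ≫ (projCx (f ∣_ V) ((resCx (f ⁻¹ᵁ V).ι).obj E)
    ((resCx V.ι).obj P)).f n) h1).trans ?_
  refine (Category.assoc _ _ _).trans ?_
  exact congrArg (fun t => ((DCoh.tensorBi (X := V.toScheme)).map ((bcIso f V).hom.app (E.X p))).app
        ((restrictFunctor V.ι).obj (P.X q)) ≫ t) h2

/-- `projHom_restrict` in terms of `DCoh.tensorBi` -/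
lemma projBiHom_restrict (M : X.Modules) (N : Y.Modules) :
    (restrictFunctor V.ι).map (projBiHom f M N) ≫
        (bcIso f V).hom.app (((DCoh.tensorBi (X := X)).obj M).obj
          ((Scheme.Modules.pullback f).obj N)) ≫
        (pushforward (f ∣_ V)).map
          ((resTensorBiIso (f ⁻¹ᵁ V).ι M ((Scheme.Modules.pullback f).obj N)).hom ≫
            ((DCoh.tensorBi (X := (f ⁻¹ᵁ V).toScheme)).obj
              ((restrictFunctor (f ⁻¹ᵁ V).ι).obj M)).map ((cIso f V).inv.app N)) =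
      (resTensorBiIso V.ι ((pushforward f).obj M) N).hom ≫
        ((DCoh.tensorBi (X := V.toScheme)).map ((bcIso f V).hom.app M)).app
          ((restrictFunctor V.ι).obj N) ≫
        projBiHom (f ∣_ V) ((restrictFunctor (f ⁻¹ᵁ V).ι).obj M) ((restrictFunctor V.ι).obj N) := by
  rw [tensorBi_obj_map, tensorBi_map_app]
  exact projHom_restrict f V M N

lemma aux_combine {C D : Type*} [Category C] [Category D] (G : D ⥤ C)
    {a a1 a2 a3 b b1 c d : C} {e e1 e2 t0 t1 t2 : D}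
    (ι : a ⟶ b) (A : b ⟶ c) (R : c ⟶ d) (bcS : d ⟶ G.obj e) (B : e ⟶ e1) (Cc : e1 ⟶ e2)
    (κinv : a ⟶ a1) (r : a1 ⟶ a2) (s : a2 ⟶ d) (bcT : a2 ⟶ G.obj t0) (t : t0 ⟶ e)
    (κ' : t0 ⟶ t1) (c' : t1 ⟶ t2) (ι'' : t2 ⟶ e2) (κ : a1 ⟶ a) (m : a ⟶ a3) (π : a3 ⟶ G.obj t2)
    (Dd : b ⟶ b1) (Pi : b1 ⟶ G.obj e2)
    (hL1 : ι ≫ A ≫ R = κinv ≫ r ≫ s)
    (nat : s ≫ bcS = bcT ≫ G.map t)
    (hL3 : t ≫ B ≫ Cc = κ' ≫ c' ≫ ι'')
    (hP : r ≫ bcT ≫ G.map (κ' ≫ c') = κ ≫ m ≫ π)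
    (hκ : κinv ≫ κ = 𝟙 a)
    (hR : ι ≫ Dd ≫ Pi = m ≫ π ≫ G.map ι'') :
    ι ≫ A ≫ R ≫ bcS ≫ G.map (B ≫ Cc) = ι ≫ Dd ≫ Pi := by
  rw [hR]
  calc ι ≫ A ≫ R ≫ bcS ≫ G.map (B ≫ Cc)
      = (ι ≫ A ≫ R) ≫ bcS ≫ G.map (B ≫ Cc) := by simp only [Category.assoc]
    _ = κinv ≫ r ≫ (s ≫ bcS) ≫ G.map (B ≫ Cc) := by rw [hL1]; simp only [Category.assoc]
    _ = κinv ≫ r ≫ bcT ≫ G.map (t ≫ B ≫ Cc) := by
        rw [nat]; simp only [Category.assoc, Functor.map_comp]
    _ = κinv ≫ (r ≫ bcT ≫ G.map (κ' ≫ c')) ≫ G.map ι'' := by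
        rw [hL3]; simp only [Category.assoc, Functor.map_comp]
    _ = (κinv ≫ κ) ≫ m ≫ π ≫ G.map ι'' := by rw [hP]; simp only [Category.assoc]
    _ = m ≫ π ≫ G.map ι'' := by rw [hκ, Category.id_comp]

/-- **`projCx` is compatible with restriction to opens** -/
theorem projCx_restrict :
    (resTensorCxIso V.ι ((pushCx f).obj E) P).inv ≫ (resCx V.ι).map (projCx f E P) ≫
        (bcCx f V (((DCoh.tensorCx (X := X)).obj E).obj ((pullCx f).obj P))).hom ≫
        (pushCx (f ∣_ V)).map ((resTensorCxIso (f ⁻¹ᵁ V).ι E ((pullCx f).obj P)).hom ≫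
          mapBifunctorMap (𝟙 ((resCx (f ⁻¹ᵁ V).ι).obj E)) (cCx f V P).hom
            (DCoh.tensorBi (X := (f ⁻¹ᵁ V).toScheme)) (ComplexShape.up ℤ)) =
      mapBifunctorMap (bcCx f V E).hom (𝟙 ((resCx V.ι).obj P))
          (DCoh.tensorBi (X := V.toScheme)) (ComplexShape.up ℤ) ≫
        projCx (f ∣_ V) ((resCx (f ⁻¹ᵁ V).ι).obj E) ((resCx V.ι).obj P) := by
  refine HomologicalComplex.hom_ext _ _ (fun n =>
    HomologicalComplex.mapBifunctor.hom_ext (fun p q h => ?_))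
  exact aux_combine (pushforward (f ∣_ V)) _ _ _ _ _ _ _ _ _ _ _ _ _ _ _ _ _ _ _
    (ι_lhs1 f V E P p q n h)
    ((bcIso f V).hom.naturality
      (ιMapBifunctor E ((pullCx f).obj P) (DCoh.tensorBi (X := X)) (ComplexShape.up ℤ) p q n h))
    (ι_lhs3 f V E P p q n h)
    (projBiHom_restrict f V (E.X p) (P.X q))
    (Iso.inv_hom_id _)
    (ι_rhs f V E P p q n h)

end Main

end Groth.Agent.Lib.Helper25.PFRes3
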