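import Groth.Agent.Lib.Helper13.SiteRestrKFlat
import Groth.Agent.Lib.Helper13.RestrKFlat2
import Groth.Agent.Lib.Helper25.ExtZeroUnit
import Groth.Agent.Lib.Helper25.LTensorComp

/-!
# `j_! N' ⊗^L K` is supported on the open (helper25)

`W ⊆ X` open, `j_! = shriek W` (helper21), `adjD W : j_! ⊣ j^*` on derived categories.

* `isIso_counit_app_obj`, `isIso_counit_app_of_iso`: abstract facts on counits.
* `exists_shriekCx_iso`: `j_! F' ⊗ K ≅ j_! Z'` for complexes (helper13's projection formula `extTensorCxIso`).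
* `isIso_counit_LTensor`: for K-flat `K` and `N' ∈ D(O_W)`, the counit `j_! j^* E ⟶ E` is invertible at
  `E = j_! N' ⊗^L K`.
-/

set_option autoImplicit false
universe u
open CategoryTheory CategoryTheory.Limits AlgebraicGeometry HomologicalComplex

attribute [local instance] HasDerivedCategory.standard

namespace Groth.Agent.Lib.Helper25.ShriekSupp

open Groth.Agent.Lib.helper13.RestrKFlat Groth.Agent.Lib.helper21.SchShriek
  Groth.Agent.Lib.helper25.DerivedAdj Groth.Agent.Lib.Helper25.LTensorComp Scheme.Modules DerivedCategory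

section Abstract

variable {𝒳 𝒰 : Type*} [Category 𝒳] [Category 𝒰] {S : 𝒰 ⥤ 𝒳} {Rs : 𝒳 ⥤ 𝒰} (adj : S ⊣ Rs)

lemma isIso_counit_app_obj [IsIso adj.unit] (N' : 𝒰) : IsIso (adj.counit.app (S.obj N')) := by
  have h := adj.left_triangle_components N'
  haveI : IsIso (S.map (adj.unit.app N')) := inferInstance
  have : adj.counit.app (S.obj N') = inv (S.map (adj.unit.app N')) := by
    rw [← cancel_epi (S.map (adj.unit.app N')), h, IsIso.hom_inv_id]
    rfl
  rw [this]
  infer_instance

lemma isIso_counit_app_of_iso {E E' : 𝒳} (e : E ≅ E') (h : IsIso (adj.counit.app E)) :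
    IsIso (adj.counit.app E') :=
  (NatTrans.isIso_app_iff_of_iso adj.counit e).1 h

end Abstract

variable {X : Scheme.{u}} (W : X.Opens)

/-- the derived adjunction `j_! ⊣ j^*` -/
noncomputable abbrev adjD : (shriek W).mapDerivedCategory ⊣ DCoh.restrictD W.ι :=
  mapDerivedCategoryAdj (adj W)

instance isIso_unit_adjD : IsIso (adjD W).unit :=
  haveI : ∀ P, IsIso ((adjD W).unit.app P) := fun P =>
    Groth.Agent.Lib.Helper25.ExtZeroUnit.isIso_unit_app (adj W) P
  NatIso.isIso_of_isIso_app _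

open Groth.Agent.Lib.helper13.SiteRestrKFlat in
/-- complex-level projection formula (weak form): `j_! F' ⊗ K` is `j_!` of a complex -/
lemma exists_shriekCx_iso (F' : CochainComplex (W : Scheme.{u}).Modules ℤ)
    (K : CochainComplex X.Modules ℤ) :
    ∃ Z' : CochainComplex (W : Scheme.{u}).Modules ℤ,
      Nonempty (((DCoh.tensorCx (X := X)).obj ((shriekCx W).obj F')).obj K ≅ (shriekCx W).obj Z') := by
  let M : CochainComplex (ModSite.Mod ((OY X).over W)) ℤ :=
    ((overEquiv W).inverse.mapHomologicalComplex (ComplexShape.up ℤ)).obj F'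
  let Z : CochainComplex (ModSite.Mod ((OY X).over W)) ℤ :=
    ((ModSite.tensorCx ((OY X).over W)).obj M).obj ((resCx (OY X) W).obj K)
  let Z' : CochainComplex (W : Scheme.{u}).Modules ℤ :=
    ((overEquiv W).functor.mapHomologicalComplex (ComplexShape.up ℤ)).obj Z
  let e1 : (extCx (OY X) W).obj Z ≅ ((ModSite.tensorCx (OY X)).obj ((extCx (OY X) W).obj M)).obj K :=
    extTensorCxIso (OY X) W M K
  let e2 : ((overEquiv W).inverse.mapHomologicalComplex (ComplexShape.up ℤ)).obj Z' ≅ Z :=
    HomologicalComplex.Hom.isoOfComponents (fun i => ((overEquiv W).unitIso.app (Z.X i)).symm)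
      (fun i j _ => by
        simp only [Iso.symm_hom, Iso.app_inv]
        exact ((overEquiv W).unitIso.inv.naturality (Z.d i j)).symm)
  exact ⟨Z', ⟨e1.symm ≪≫ (extCx (OY X) W).mapIso e2.symm⟩⟩

/-- **`j_! N' ⊗^L K` is supported on `W`** -/
theorem isIso_counit_LTensor (K : CochainComplex X.Modules ℤ) (hK : DCoh.IsKFlat K)
    [DCoh.HasLTensorCx K] (N' : DCoh.D (W : Scheme.{u})) :
    IsIso ((adjD W).counit.app
      ((DCoh.LTensorCx K).obj (((shriek W).mapDerivedCategory).obj N'))) := by
  haveI := isIso_ε_of_isKFlat K hK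
  let F' := Q.objPreimage N'
  let i : Q.obj F' ≅ N' := Q.objObjPreimageIso N'
  obtain ⟨Z', ⟨e⟩⟩ := exists_shriekCx_iso W F' K
  let a1 : ((shriek W).mapDerivedCategory).obj N' ≅ Q.obj ((shriekCx W).obj F') :=
    ((shriek W).mapDerivedCategory).mapIso i.symm ≪≫ ((shriek W).mapDerivedCategoryFactors).app F'
  let a2 : (DCoh.LTensorCx K).obj (Q.obj ((shriekCx W).obj F')) ≅
      Q.obj (((DCoh.tensorCx (X := X)).obj ((shriekCx W).obj F')).obj K) :=
    (asIso (ε K)).app _
  let a3 : Q.obj ((shriekCx W).obj Z') ≅ ((shriek W).mapDerivedCategory).obj (Q.obj Z') :=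
    (((shriek W).mapDerivedCategoryFactors).app Z').symm
  let a : ((shriek W).mapDerivedCategory).obj (Q.obj Z') ≅
      (DCoh.LTensorCx K).obj (((shriek W).mapDerivedCategory).obj N') :=
    a3.symm ≪≫ Q.mapIso e.symm ≪≫ a2.symm ≪≫ (DCoh.LTensorCx K).mapIso a1.symm
  exact isIso_counit_app_of_iso (adjD W) a (isIso_counit_app_obj (adjD W) (Q.obj Z'))

end Groth.Agent.Lib.Helper25.ShriekSupp
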