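import Groth.Agent.Lib.Helper25.RHomAbs
import Groth.Agent.Lib.Helper25.LTensorRestrict
import Groth.Agent.Lib.Helper25.ShriekSupp
import Groth.Agent.Lib.Helper25.RGZ1
import Groth.Agent.Lib.Helper25.SchKInj2
import Groth.Agent.Lib.Helper25.RestrictDNat

/-!
# The internal Hom `RHom(K, -)` commutes with restriction to opens (helper25)

`K` a K-flat complex on `X`, `H` any right adjoint of `- ⊗^L K`.

* `exists_restrict_opens W K hK adjT`: for `W ⊆ X` open there is a right adjoint `H'` of `- ⊗^L K|_W` on `D(O_W)` with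
  `(H L)|_W ≅ H' (L|_W)` for all `L`.
* `exists_restrict_iso j K hK adjT`: the same along an isomorphism of schemes `j : U ⟶ X`.
* `exists_iso_comp_counit W K hK N`: `(ε_N) ⊗^L K = φ ≫ ε_{N ⊗^L K}` for an isomorphism `φ` (`ε` the counit of `j_! ⊣ j^*`).
-/

set_option autoImplicit false
universe u
open CategoryTheory CategoryTheory.Limits AlgebraicGeometry

attribute [local instance] HasDerivedCategory.standard

namespace Groth.Agent.Lib.Helper25.RHomRestrict

open Groth.Agent.Lib.Helper25.LTensorRestrict Groth.Agent.Lib.Helper25.ShriekSupp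
  Groth.Agent.Lib.helper13.RestrKFlat Groth.Agent.Lib.helper21.SchShriek Scheme.Modules

variable {X : Scheme.{u}}

/-- **`RHom(K, -)` restricts to opens** -/
theorem exists_restrict_opens (W : X.Opens) (K : CochainComplex X.Modules ℤ) (hK : DCoh.IsKFlat K)
    [DCoh.HasLTensorCx K] [DCoh.HasLTensorCx ((resCx W.ι).obj K)]
    {H : DCoh.D X ⥤ DCoh.D X} (adjT : DCoh.LTensorCx K ⊣ H) :
    ∃ (H' : DCoh.D (W : Scheme.{u}) ⥤ DCoh.D (W : Scheme.{u}))
      (_ : DCoh.LTensorCx ((resCx W.ι).obj K) ⊣ H'),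
      ∀ L : DCoh.D X, Nonempty ((DCoh.restrictD W.ι).obj (H.obj L) ≅
        H'.obj ((DCoh.restrictD W.ι).obj L)) := by
  haveI : DCoh.HasRpush W.ι := Groth.Agent.Lib.Helper25.SchKInj.hasRpush _
  obtain ⟨adjG⟩ := Groth.Agent.Lib.Helper25.RGZ1.nonempty_adj W.ι
  let c := restrictLTensorIso W.ι K hK
  let adj' := RHomAbs.adjRestrict (adjD W) adjG adjT c
  exact ⟨_, adj', fun L => RHomAbs.nonempty_iso_restrict (adjD W) adjG adjT c
    (fun N' => isIso_counit_LTensor W K hK N') adj' L⟩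

open Groth.Agent.Lib.Helper25.RestrictDNat in
/-- **`RHom(K, -)` is transported along isomorphisms of schemes** -/
theorem exists_restrict_iso {U : Scheme.{u}} (j : U ⟶ X) [IsIso j]
    (K : CochainComplex X.Modules ℤ) (hK : DCoh.IsKFlat K)
    [DCoh.HasLTensorCx K] [DCoh.HasLTensorCx ((resCx j).obj K)]
    {H : DCoh.D X ⥤ DCoh.D X} (adjT : DCoh.LTensorCx K ⊣ H) :
    ∃ (H' : DCoh.D U ⥤ DCoh.D U) (_ : DCoh.LTensorCx ((resCx j).obj K) ⊣ H'),
      ∀ L : DCoh.D X, Nonempty ((DCoh.restrictD j).obj (H.obj L) ≅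
        H'.obj ((DCoh.restrictD j).obj L)) := by
  let adj : DCoh.restrictD (inv j) ⊣ DCoh.restrictD j := (equivOfIso j).symm.toAdjunction
  let adjG : DCoh.restrictD j ⊣ DCoh.restrictD (inv j) := (equivOfIso j).toAdjunction
  haveI : IsIso adj.unit := by
    change IsIso (equivOfIso j).symm.unit
    infer_instance
  have hc : ∀ E, IsIso (adj.counit.app E) := fun E => by
    change IsIso ((equivOfIso j).symm.counit.app E)
    infer_instance
  let c := restrictLTensorIso j K hK
  let adj' := RHomAbs.adjRestrict adj adjG adjT c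
  exact ⟨_, adj', fun L => RHomAbs.nonempty_iso_restrict adj adjG adjT c
    (fun N' => hc _) adj' L⟩

/-- `(ε_N) ⊗^L K = φ ≫ ε_{N ⊗^L K}` for an isomorphism `φ` -/
theorem exists_iso_comp_counit (W : X.Opens) (K : CochainComplex X.Modules ℤ) (hK : DCoh.IsKFlat K)
    [DCoh.HasLTensorCx K] [DCoh.HasLTensorCx ((resCx W.ι).obj K)] (N : DCoh.D X) :
    ∃ φ : (DCoh.LTensorCx K).obj (((shriek W).mapDerivedCategory).obj ((DCoh.restrictD W.ι).obj N)) ≅
        ((shriek W).mapDerivedCategory).obj ((DCoh.restrictD W.ι).obj ((DCoh.LTensorCx K).obj N)),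
      (DCoh.LTensorCx K).map ((adjD W).counit.app N) =
        φ.hom ≫ (adjD W).counit.app ((DCoh.LTensorCx K).obj N) :=
  RHomAbs.exists_iso_comp_counit (adjD W) (restrictLTensorIso W.ι K hK)
    (fun N' => isIso_counit_LTensor W K hK N') N

end Groth.Agent.Lib.Helper25.RHomRestrict
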