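import Groth.Agent.Lib.Helper25.PerfDual8
import Groth.Agent.Lib.Helper25.RHomRestrict

/-!
# `A ⊗^L RHom(K, N) ≅ RHom(K, A ⊗^L N)` for perfect `K` (helper25)

* `dRs`, `ρT`, `ρP`: restriction to an open and its compatibility with `- ⊗^L K`, `A ⊗ -` on `D(O_X)`.
* `restrict_γ`: compatibility of the derived associators with restriction.
* `isIso_restrict_mateApp`: the restriction to `W` of the mate `A ⊗ RHom(K, N) ⟶ RHom(K, A ⊗ N)` is invertible
  when `K|_W` is represented by a bounded complex of finite free modules.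
* `isIso_mateApp`: for `K` perfect the mate is invertible.
-/

set_option autoImplicit false
universe u
open CategoryTheory CategoryTheory.Limits AlgebraicGeometry HomologicalComplex

attribute [local instance] HasDerivedCategory.standard
attribute [local instance] Groth.Agent.Lib.Helper25.LTensorRestrict.hasLTensorCx

namespace Groth.Agent.Lib.Helper25.PerfDual9

open Groth.Agent.Lib.helper13.RestrKFlat Groth.Agent.Lib.Helper25.LTensorComp Scheme.Modules
  Groth.Agent.Lib.Helper25.ResTensorNat Groth.Agent.Lib.Helper25.PerfDual1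
  Groth.Agent.Lib.Helper25.PerfDual4 Groth.Agent.Lib.Helper25.PerfDual5
  Groth.Agent.Lib.Helper25.PerfDual6 Groth.Agent.Lib.Helper25.PerfDual8
  Groth.Agent.Lib.Helper25.LTensorRestrict DerivedCategory

variable {X U : Scheme.{u}} (j : U ⟶ X) [IsOpenImmersion j]

/-- `restrictD j` is induced by `resCx j` -/
noncomputable def dRs : Desc (Q : CochainComplex X.Modules ℤ ⥤ DCoh.D X)
    (Q : CochainComplex U.Modules ℤ ⥤ DCoh.D U) (resCx j) (DCoh.restrictD j) :=
  ⟨(restrictFunctor j).mapDerivedCategoryFactors⟩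

variable (A : CochainComplex X.Modules ℤ) (hA : DCoh.IsKFlat A)
  (K : CochainComplex X.Modules ℤ) (hK : DCoh.IsKFlat K)

/-- `N|_U ⊗^L K|_U ⟶ (N ⊗^L K)|_U` -/
noncomputable def ρT : DCoh.restrictD j ⋙ DCoh.LTensorCx ((resCx j).obj K) ⟶
    DCoh.LTensorCx K ⋙ DCoh.restrictD j :=
  lift ((dRs j).comp (dT ((resCx j).obj K) (isKFlat_res j K hK))) ((dT K hK).comp (dRs j)) (W X)
    (resTensorNatIso j K).inv

lemma isDesc_ρT : IsDesc ((dRs j).comp (dT ((resCx j).obj K) (isKFlat_res j K hK)))
    ((dT K hK).comp (dRs j)) (resTensorNatIso j K).inv (ρT j K hK) :=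
  isDesc_lift (W X) _

instance isIso_ρT : IsIso (ρT j K hK) := (isDesc_ρT j K hK).isIso (W X)

/-- `(A ⊗ N)|_U ⟶ A|_U ⊗ N|_U` -/
noncomputable def ρPhom : SL A hA ⋙ DCoh.restrictD j ⟶
    DCoh.restrictD j ⋙ SL ((resCx j).obj A) (isKFlat_res j A hA) :=
  lift ((dSL A hA).comp (dRs j)) ((dRs j).comp (dSL ((resCx j).obj A) (isKFlat_res j A hA))) (W X)
    (resTensorLeftNatIso j A).hom

lemma isDesc_ρPhom : IsDesc ((dSL A hA).comp (dRs j))
    ((dRs j).comp (dSL ((resCx j).obj A) (isKFlat_res j A hA)))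
    (resTensorLeftNatIso j A).hom (ρPhom j A hA) :=
  isDesc_lift (W X) _

instance isIso_ρPhom : IsIso (ρPhom j A hA) := (isDesc_ρPhom j A hA).isIso (W X)

/-- `(A ⊗ N)|_U ≅ A|_U ⊗ N|_U` -/
noncomputable def ρP : SL A hA ⋙ DCoh.restrictD j ≅
    DCoh.restrictD j ⋙ SL ((resCx j).obj A) (isKFlat_res j A hA) :=
  asIso (ρPhom j A hA)

lemma ρP_hom : (ρP j A hA).hom = ρPhom j A hA := rfl

/-- **compatibility of the derived associators with restriction** -/
theorem restrict_γ' (N : DCoh.D X) :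
    (DCoh.LTensorCx ((resCx j).obj K)).map ((ρPhom j A hA).app N) ≫
        (γ ((resCx j).obj A) (isKFlat_res j A hA) ((resCx j).obj K) (isKFlat_res j K hK)).app
          ((DCoh.restrictD j).obj N) ≫
        (SL ((resCx j).obj A) (isKFlat_res j A hA)).map ((ρT j K hK).app N) =
      (ρT j K hK).app ((SL A hA).obj N) ≫ (DCoh.restrictD j).map ((γ A hA K hK).app N) ≫
        (ρPhom j A hA).app ((DCoh.LTensorCx K).obj N) := by
  let dP := dSL A hA
  let dP' := dSL ((resCx j).obj A) (isKFlat_res j A hA)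
  let dTK := dT K hK
  let dT' := dT ((resCx j).obj K) (isKFlat_res j K hK)
  let dR := dRs j
  have hρP := isDesc_ρPhom j A hA
  have hρT := isDesc_ρT j K hK
  have hγ := isDesc_γ A hA K hK
  have hγ' := isDesc_γ ((resCx j).obj A) (isKFlat_res j A hA) ((resCx j).obj K) (isKFlat_res j K hK)
  have hL := (((((hρP.whiskerRight dT').comp (isDesc_associator_hom dR dP' dT')).comp
    (IsDesc.whiskerLeft dR hγ')).comp (isDesc_associator_inv dR dT' dP')).comp
    (hρT.whiskerRight dP')).comp (isDesc_associator_hom dTK dR dP')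
  have hR := (((((isDesc_associator_hom dP dR dT').comp (IsDesc.whiskerLeft dP hρT)).comp
    (isDesc_associator_inv dP dTK dR)).comp (hγ.whiskerRight dR)).comp
    (isDesc_associator_hom dTK dP dR)).comp (IsDesc.whiskerLeft dTK hρP)
  have e := IsDesc.ext' (W X) hL hR (by
    apply NatTrans.ext
    funext N
    simp only [NatTrans.comp_app, Functor.whiskerRight_app, Functor.whiskerLeft_app,
      Functor.associator_hom_app, Functor.associator_inv_app, Category.id_comp, Category.comp_id,
      assocMid_hom_app, Category.assoc]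
    exact res_assoc j A N K)
  have e' := congrArg (fun t => t.app N) e
  simp only [NatTrans.comp_app, Functor.whiskerRight_app, Functor.whiskerLeft_app,
    Functor.associator_hom_app, Functor.associator_inv_app, Category.id_comp, Category.comp_id,
    Category.assoc] at e'
  exact e'

theorem restrict_γ (N : DCoh.D X) :
    (DCoh.LTensorCx ((resCx j).obj K)).map ((ρP j A hA).hom.app N) ≫
        (γ ((resCx j).obj A) (isKFlat_res j A hA) ((resCx j).obj K) (isKFlat_res j K hK)).app
          ((DCoh.restrictD j).obj N) ≫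
        (SL ((resCx j).obj A) (isKFlat_res j A hA)).map ((ρT j K hK).app N) =
      (ρT j K hK).app ((SL A hA).obj N) ≫ (DCoh.restrictD j).map ((γ A hA K hK).app N) ≫
        (ρP j A hA).hom.app ((DCoh.LTensorCx K).obj N) := by
  rw [ρP_hom]
  exact restrict_γ' j A hA K hK N

section Local

open Groth.Agent.Lib.Helper25.DualCx6
open Groth.Agent.Lib.helper25.DCohRestrict (resDQIso)

/-- **the restriction to `W` of the mate `A ⊗ RHom(K, N) ⟶ RHom(K, A ⊗ N)` is invertible** when `K|_W` is represented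
by a bounded complex of finite free modules -/
theorem isIso_restrict_mateApp (W : X.Opens) {H : DCoh.D X ⥤ DCoh.D X}
    (adjT : DCoh.LTensorCx K ⊣ H) (hW : SPD ((DCoh.restrictD W.ι).obj (Q.obj K))) (N : DCoh.D X) :
    IsIso ((DCoh.restrictD W.ι).map (mateApp adjT (γ A hA K hK) N)) := by
  have h' : SPD (Q.obj ((resCx W.ι).obj K)) := spd_of_iso (resDQIso W.ι K) hW
  obtain ⟨H', adj', hmate⟩ := exists_adj_isIso_mateApp ((resCx W.ι).obj K)
    (isKFlat_res W.ι K hK) h' ((resCx W.ι).obj A) (isKFlat_res W.ι A hA)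
  exact isIso_map_mateApp adjT (γ A hA K hK) adj'
    (γ ((resCx W.ι).obj A) (isKFlat_res W.ι A hA) ((resCx W.ι).obj K) (isKFlat_res W.ι K hK))
    (ρT W.ι K hK) (ρP W.ι A hA) (Groth.Agent.Lib.Helper25.ShriekSupp.adjD W)
    (fun Z' => Groth.Agent.Lib.Helper25.ShriekSupp.isIso_counit_LTensor W K hK Z')
    (fun N' => restrict_γ W.ι A hA K hK N') N (hmate _)

/-- an object of `D(O_X)` which vanishes locally is zero -/
theorem isZero_of_locally (C : DCoh.D X)
    (h : ∀ x : X, ∃ W : X.Opens, x ∈ W ∧ IsZero ((DCoh.restrictD W.ι).obj C)) : IsZero C := by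
  choose W hxW hW using h
  apply Groth.Agent.Lib.Helper25.DerBC.isZero_of_homology
  intro i
  refine Groth.Agent.Lib.helper25.DCohHomology.isZero_of_cover _ W ?_ (fun x => ?_)
  · rw [eq_top_iff]
    intro x _
    exact TopologicalSpace.Opens.mem_iSup.mpr ⟨x, hxW x⟩
  · obtain ⟨e⟩ := Groth.Agent.Lib.Helper25.DerBC.nonempty_homology_mapDerivedCategory_iso
      (restrictFunctor (W x).ι) C i
    exact IsZero.of_iso (Functor.map_isZero _ (hW x)) e.symm

open Pretriangulated in
/-- a morphism of `D(O_X)` which is locally invertible is invertible -/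
theorem isIso_of_locally {C C' : DCoh.D X} (φ : C ⟶ C')
    (h : ∀ x : X, ∃ W : X.Opens, x ∈ W ∧ IsIso ((DCoh.restrictD W.ι).map φ)) : IsIso φ := by
  obtain ⟨C'', q, w, hT⟩ := distinguished_cocone_triangle φ
  refine (Triangle.isZero₃_iff_isIso₁ _ hT).1 (isZero_of_locally C'' (fun x => ?_))
  obtain ⟨W, hxW, hW⟩ := h x
  exact ⟨W, hxW,
    (Triangle.isZero₃_iff_isIso₁ _ ((DCoh.restrictD W.ι).map_distinguished _ hT)).2 hW⟩

/-- **`A ⊗ RHom(K, N) ⟶ RHom(K, A ⊗ N)` is invertible for perfect `K`** -/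
theorem isIso_mateApp {H : DCoh.D X ⥤ DCoh.D X} (adjT : DCoh.LTensorCx K ⊣ H)
    (hKp : DCoh.IsPerfect (Q.obj K)) (N : DCoh.D X) :
    IsIso (mateApp adjT (γ A hA K hK) N) := by
  refine isIso_of_locally _ (fun x => ?_)
  obtain ⟨W, hxW, -, hW⟩ := exists_spd_of_isPerfect hKp x
  exact ⟨W, hxW, isIso_restrict_mateApp A hA K hK W adjT hW N⟩

end Local

end Groth.Agent.Lib.Helper25.PerfDual9
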