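import Groth.Agent.Lib.Helper25.PFDer1
import Groth.Agent.Lib.Helper25.PFRes3
import Groth.Agent.Lib.Helper25.PerfDual9

/-!
# The derived projection morphism is local on the base (helper25)

* `quasiIso_of_locally`: a morphism of complexes of `O_Y`-modules which is locally a quasi-isomorphism is a
  quasi-isomorphism.
* `isIso_m_of_locally`: for `I` K-injective, `PFDer1.m f I P` is invertible if `m (f∣_V) (I|_{f⁻¹V}) (P|_V)` is so
  locally on `Y`.
-/

set_option autoImplicit false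
universe u
open CategoryTheory CategoryTheory.Limits AlgebraicGeometry HomologicalComplex

attribute [local instance] HasDerivedCategory.standard

namespace Groth.Agent.Lib.Helper25.PFDer2

open Scheme.Modules Groth.Agent.Lib.helper13.RestrKFlat Groth.Agent.Lib.Helper25.PullTensorCx
  Groth.Agent.Lib.Helper25.PFCx1 Groth.Agent.Lib.Helper25.PFRes3 Groth.Agent.Lib.Helper25.PFDer1

lemma aux_loc {C D : Type*} [Category C] [Category D] (G : D ⥤ C)
    {T T' T'' SC RJ : C} {SU S' JU : D}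
    (A : T ≅ T') (rp : T ⟶ SC) (bS : SC ≅ G.obj SU) (B : SU ≅ S') (Dd : T' ≅ T'')
    (pg : T'' ⟶ G.obj S') (rj : SC ⟶ RJ) (bJ : RJ ≅ G.obj JU) (ju : SU ⟶ JU)
    (h1 : A.inv ≫ rp ≫ bS.hom ≫ G.map B.hom = Dd.hom ≫ pg)
    (h2 : rj ≫ bJ.hom = bS.hom ≫ G.map ju) :
    rp ≫ rj = A.hom ≫ Dd.hom ≫ (pg ≫ G.map (B.inv ≫ ju)) ≫ bJ.inv := by
  rw [← cancel_mono bJ.hom]
  simp only [Category.assoc, Iso.inv_hom_id, Category.comp_id]
  rw [h2, ← reassoc_of% h1, Iso.hom_inv_id_assoc, ← G.map_comp, Iso.hom_inv_id_assoc]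

lemma aux_conj {C : Type*} [Category C] {A B A' B' : C} (x : A ⟶ B) (y : A' ⟶ B') (a : A ⟶ A')
    (b : B ⟶ B') (binv : B' ⟶ B) (hb : b ≫ binv = 𝟙 _) (h : x ≫ b = a ≫ y) :
    x = (a ≫ y) ≫ binv := by
  rw [← h, Category.assoc, hb, Category.comp_id]

variable {X Y : Scheme.{u}}

/-- quasi-isomorphisms are local -/
theorem quasiIso_of_locally {K L : CochainComplex Y.Modules ℤ} (φ : K ⟶ L)
    (h : ∀ y : Y, ∃ V : Y.Opens, y ∈ V ∧ QuasiIso ((resCx V.ι).map φ)) : QuasiIso φ := by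
  rw [← DerivedCategory.isIso_Q_map_iff_quasiIso]
  refine Groth.Agent.Lib.Helper25.PerfDual9.isIso_of_locally _ (fun y => ?_)
  obtain ⟨V, hy, hV⟩ := h y
  refine ⟨V, hy, ?_⟩
  have h1 := ((restrictFunctor V.ι).mapDerivedCategoryFactors).hom.naturality φ
  have h2 : IsIso (DerivedCategory.Q.map ((resCx V.ι).map φ)) :=
    (DerivedCategory.isIso_Q_map_iff_quasiIso (C := (V : Scheme.{u}).Modules) _).2 hV
  have h3 : (DCoh.restrictD V.ι).map (DerivedCategory.Q.map φ) =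
      ((restrictFunctor V.ι).mapDerivedCategoryFactors).hom.app K ≫
        DerivedCategory.Q.map ((resCx V.ι).map φ) ≫
        ((restrictFunctor V.ι).mapDerivedCategoryFactors).inv.app L := by
    rw [← Category.assoc]
    exact aux_conj _ _ _ _ _
      (((restrictFunctor V.ι).mapDerivedCategoryFactors).hom_inv_id_app L) h1
  rw [h3]
  infer_instance

variable (f : X ⟶ Y) [DCoh.HasRpush f]

/-- **the derived projection morphism is invertible if it is so locally on the base** -/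
theorem isIso_m_of_locally (I : CochainComplex X.Modules ℤ) [I.IsKInjective]
    (P : CochainComplex Y.Modules ℤ)
    (h : ∀ y : Y, ∃ V : Y.Opens, y ∈ V ∧ ∀ [DCoh.HasRpush (f ∣_ V)],
      IsIso (m (f ∣_ V) ((resCx (f ⁻¹ᵁ V).ι).obj I) ((resCx V.ι).obj P))) :
    IsIso (m f I P) := by
  obtain ⟨J, j, hJ, hj⟩ := Groth.Agent.Lib.Helper25.SchKInj.hKinj X
    (((DCoh.tensorCx (X := X)).obj I).obj ((pullCx f).obj P))
  rw [isIso_m_iff_quasiIso f I P j]
  refine quasiIso_of_locally _ (fun y => ?_)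
  obtain ⟨V, hy, hV⟩ := h y
  refine ⟨V, hy, ?_⟩
  haveI : DCoh.HasRpush (f ∣_ V) := Groth.Agent.Lib.Helper25.SchKInj.hasRpush _
  haveI hIU : ((resCx (f ⁻¹ᵁ V).ι).obj I).IsKInjective :=
    Groth.Agent.Lib.Helper25.SchKInj.isKInjective_restrict _ I inferInstance
  haveI hJU : ((resCx (f ⁻¹ᵁ V).ι).obj J).IsKInjective :=
    Groth.Agent.Lib.Helper25.SchKInj.isKInjective_restrict _ J hJ
  -- the isomorphisms
  let A := resTensorCxIso V.ι ((pushCx f).obj I) P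
  let B : (resCx (f ⁻¹ᵁ V).ι).obj (((DCoh.tensorCx (X := X)).obj I).obj ((pullCx f).obj P)) ≅
      ((DCoh.tensorCx (X := (f ⁻¹ᵁ V).toScheme)).obj ((resCx (f ⁻¹ᵁ V).ι).obj I)).obj
        ((pullCx (f ∣_ V)).obj ((resCx V.ι).obj P)) :=
    resTensorCxIso (f ⁻¹ᵁ V).ι I ((pullCx f).obj P) ≪≫
      ((DCoh.tensorCx (X := (f ⁻¹ᵁ V).toScheme)).obj ((resCx (f ⁻¹ᵁ V).ι).obj I)).mapIso
        (cCx f V P)
  let Dd : ((DCoh.tensorCx (X := V.toScheme)).obj ((resCx V.ι).obj ((pushCx f).obj I))).obj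
        ((resCx V.ι).obj P) ≅
      ((DCoh.tensorCx (X := V.toScheme)).obj
        ((pushCx (f ∣_ V)).obj ((resCx (f ⁻¹ᵁ V).ι).obj I))).obj ((resCx V.ι).obj P) :=
    ((DCoh.tensorCx (X := V.toScheme)).mapIso (bcCx f V I)).app ((resCx V.ι).obj P)
  have h1 := projCx_restrict f V I P
  have h2 := bcCx_hom_naturality f V j
  have key := aux_loc (pushCx (f ∣_ V)) A ((resCx V.ι).map (projCx f I P))
    (bcCx f V (((DCoh.tensorCx (X := X)).obj I).obj ((pullCx f).obj P))) B Dd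
    (projCx (f ∣_ V) ((resCx (f ⁻¹ᵁ V).ι).obj I) ((resCx V.ι).obj P))
    ((resCx V.ι).map ((pushCx f).map j)) (bcCx f V J) ((resCx (f ⁻¹ᵁ V).ι).map j) h1 h2
  -- the resolution on `V`
  haveI hj' : QuasiIso ((resCx (f ⁻¹ᵁ V).ι).map j) := inferInstance
  haveI hj'' : QuasiIso (B.inv ≫ (resCx (f ⁻¹ᵁ V).ι).map j) := inferInstance
  have hV' := (isIso_m_iff_quasiIso (f ∣_ V) ((resCx (f ⁻¹ᵁ V).ι).obj I) ((resCx V.ι).obj P)
    (B.inv ≫ (resCx (f ⁻¹ᵁ V).ι).map j)).1 hV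
  rw [Functor.map_comp, key]
  infer_instance

end Groth.Agent.Lib.Helper25.PFDer2
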