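import Mathlib
import Groth.Agent.Lib.Helper25.DualCx4

/-!
# The predual of a bounded complex of based objects; tensoring with it preserves K-injectives (helper25)

`T : 𝒜 ⥤ 𝒜 ⥤ 𝒜` an additive bifunctor with unit object `O` and unitors `ρ`, `lam` as in `DualCx4`.

* `tr_tr`: the transpose is an involution; `unit_tr_mirror`: the mirrored mate identity.
* `predualCx G b`: the predual complex of a complex `G` of based objects, `predualData : DualData T (predualCx G b) G`,
  hence `DualCx2.adjCx : - ⊗ predualCx G b ⊣ - ⊗ G`.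
* `isKInjective_of_adj`: a right adjoint endofunctor of `C(𝒜)` preserving null-homotopic maps whose left adjoint preserves
  acyclic complexes preserves K-injective complexes.
-/

set_option autoImplicit false
open CategoryTheory Limits HomologicalComplex

namespace Groth.Agent.Lib.Helper25.PFKInj1

open Groth.Agent.Lib.Helper25.DualCx2 Groth.Agent.Lib.Helper25.DualCx3
  Groth.Agent.Lib.Helper25.DualCx4

section Tr

variable {𝒜 : Type*} [Category 𝒜] [Preadditive 𝒜] {O P P' : 𝒜} (b : Based O P) (b' : Based O P')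

lemma e_tr_p (φ : P ⟶ P') (i : Fin b.n) (j : Fin b'.n) :
    b'.e j ≫ tr b b' φ ≫ b.p i = b.e i ≫ φ ≫ b'.p j := by
  unfold tr
  rw [Preadditive.sum_comp, Preadditive.comp_sum, Finset.sum_eq_single i]
  · rw [Preadditive.sum_comp, Preadditive.comp_sum, Finset.sum_eq_single j]
    · simp only [Category.assoc]
      rw [b.e_p, if_pos rfl, Category.comp_id, ← Category.assoc, ← Category.assoc, ← Category.assoc,
        b'.e_p, if_pos rfl, Category.id_comp, Category.assoc]
    · intro j' _ hj'
      rw [← Category.assoc, ← Category.assoc, ← Category.assoc, b'.e_p, if_neg (Ne.symm hj'),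
        zero_comp, zero_comp, zero_comp]
    · intro h
      exact absurd (Finset.mem_univ j) h
  · intro i' _ hi'
    rw [Preadditive.sum_comp, Preadditive.comp_sum]
    refine Finset.sum_eq_zero (fun j' _ => ?_)
    simp only [Category.assoc]
    rw [b.e_p, if_neg hi', comp_zero, comp_zero, comp_zero, comp_zero, comp_zero]
  · intro h
    exact absurd (Finset.mem_univ i) h

/-- the transpose is an involution -/
lemma tr_tr (φ : P ⟶ P') : tr b' b (tr b b' φ) = φ := by
  have h : tr b' b (tr b b' φ) =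
      ∑ j : Fin b'.n, ∑ i : Fin b.n, b.p i ≫ (b'.e j ≫ tr b b' φ ≫ b.p i) ≫ b'.e j := rfl
  rw [h]
  have h1 : ∀ (j : Fin b'.n), ∑ i : Fin b.n, b.p i ≫ (b'.e j ≫ tr b b' φ ≫ b.p i) ≫ b'.e j =
      φ ≫ b'.p j ≫ b'.e j := by
    intro j
    have h2 : ∀ i : Fin b.n, b.p i ≫ (b'.e j ≫ tr b b' φ ≫ b.p i) ≫ b'.e j =
        (b.p i ≫ b.e i) ≫ φ ≫ b'.p j ≫ b'.e j := by
      intro i
      rw [e_tr_p]
      simp only [Category.assoc]
    rw [Finset.sum_congr rfl (fun i _ => h2 i), ← Preadditive.sum_comp, b.sum_p_e, Category.id_comp]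
  rw [Finset.sum_congr rfl (fun j _ => h1 j), ← Preadditive.comp_sum, b'.sum_p_e, Category.comp_id]

variable (T : 𝒜 ⥤ 𝒜 ⥤ 𝒜) [T.Additive] [∀ A, (T.obj A).Additive] (ρ : T.flip.obj O ≅ 𝟭 𝒜)

/-- the mirrored mate identity -/
lemma unit_tr_mirror (φ : P ⟶ P') (A : 𝒜) :
    (b'.decomp T ρ).adj.unit.app A ≫
        (T.flip.obj P').map ((T.flip.map (tr b b' φ)).app A) =
      (b.decomp T ρ).adj.unit.app A ≫ (T.flip.map φ).app ((T.flip.obj P).obj A) := by
  have h1 := unit_trN (b'.decomp T ρ) (b.decomp T ρ) (T.flip.map (tr b b' φ)) A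
  rw [← flip_map_tr, tr_tr] at h1
  exact h1.symm

end Tr

section Complex

variable {𝒜 : Type*} [Category 𝒜] [Preadditive 𝒜] (T : 𝒜 ⥤ 𝒜 ⥤ 𝒜) [T.Additive]
  [∀ A, (T.obj A).Additive] {O : 𝒜} (ρ : T.flip.obj O ≅ 𝟭 𝒜) (lam : T.obj O ≅ 𝟭 𝒜)
  (G : CochainComplex 𝒜 ℤ) (b : ∀ q : ℤ, Based O (G.X q))

/-- the predual of a complex of based objects -/
noncomputable def predualCx : CochainComplex 𝒜 ℤ where
  X q := G.X (-q)
  d q q' := q.negOnePow • tr (b (-q')) (b (-q)) (G.d (-q') (-q))
  shape q q' h := by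
    rw [G.shape, tr_zero, smul_zero]
    intro h'
    apply h
    have h1 : -q' + 1 = -q := h'
    change q + 1 = q'
    omega
  d_comp_d' q q' q'' _ _ := by
    rw [Linear.units_smul_comp, Linear.comp_units_smul,
      tr_comp_eq_zero T ρ (b (-q'')) (b (-q')) (b (-q)) lam _ _ (G.d_comp_d _ _ _), smul_zero,
      smul_zero]

lemma predualCx_d (q q' : ℤ) :
    (predualCx T ρ lam G b).d q q' = q.negOnePow • tr (b (-q')) (b (-q)) (G.d (-q') (-q)) := rfl

/-- the termwise adjunctions -/
noncomputable def predualAdj (q r : ℤ) (h : q + r = 0) :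
    T.flip.obj ((predualCx T ρ lam G b).X q) ⊣ T.flip.obj (G.X r) :=
  adjOfEq T (show G.X (-q) = G.X r by
    have : -q = r := by omega
    rw [this]) ((b (-q)).decomp T ρ).adj

lemma predualAdj_self (q : ℤ) (h : q + -q = 0) :
    predualAdj T ρ lam G b q (-q) h = ((b (-q)).decomp T ρ).adj := rfl

/-- **the duality data between the predual of a bounded complex of based objects and the complex** -/
noncomputable def predualData (s₀ : Finset ℤ) (hs₀ : ∀ q : ℤ, q ∉ s₀ → IsZero (G.X q)) :
    DualData T (predualCx T ρ lam G b) G where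
  adj q r h := predualAdj T ρ lam G b q r h
  s := s₀
  hs := hs₀
  mate q r q' r' h h' hq A := by
    obtain rfl : r = -q := by omega
    obtain rfl : r' = -q' := by omega
    have hmap : ∀ (X : 𝒜) {Q Q' : 𝒜} (u : ℤˣ) (t : Q ⟶ Q'),
        (T.obj X).map (u • t) = u • (T.obj X).map t := by
      intro X Q Q' u t
      rw [Units.smul_def, Units.smul_def, Functor.map_zsmul]
    have hmap' : ∀ (Y : 𝒜) {Q Q' : 𝒜} (u : ℤˣ) (t : Q ⟶ Q'),
        (T.map (u • t)).app Y = u • (T.map t).app Y := by
      intro Y Q Q' u t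
      rw [Units.smul_def, Units.smul_def, Functor.map_zsmul]
      rfl
    change ((b (-q)).decomp T ρ).adj.unit.app A ≫
        (T.map ((T.obj A).map (q.negOnePow • tr (b (-q')) (b (-q)) (G.d (-q') (-q))))).app
          (G.X (-q)) =
      (-q).negOnePow • (((b (-q')).decomp T ρ).adj.unit.app A ≫
        (T.obj ((T.obj A).obj (G.X (-q')))).map (G.d (-q') (-q)))
    rw [hmap, hmap', Linear.comp_units_smul, Int.negOnePow_neg]
    congr 1
    exact unit_tr_mirror (b (-q')) (b (-q)) T ρ (G.d (-q') (-q)) A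

end Complex

section KInj

variable {C : Type*} [Category C] [Abelian C]

/-- a right adjoint endofunctor of complexes which preserves null-homotopic maps and whose left adjoint preserves
acyclic complexes preserves K-injective complexes -/
theorem isKInjective_of_adj {Φ Ψ : CochainComplex C ℤ ⥤ CochainComplex C ℤ} (adj : Φ ⊣ Ψ)
    (hΦ : ∀ K : CochainComplex C ℤ, K.Acyclic → (Φ.obj K).Acyclic)
    (hΨ : ∀ {K L : CochainComplex C ℤ} (f : K ⟶ L), Nonempty (Homotopy f 0) →
      Nonempty (Homotopy (Ψ.map f) 0))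
    (I : CochainComplex C ℤ) [I.IsKInjective] : (Ψ.obj I).IsKInjective := by
  refine ⟨fun {K} f hK => ?_⟩
  obtain ⟨h⟩ := hΨ ((adj.homEquiv K I).symm f)
    ⟨CochainComplex.IsKInjective.homotopyZero _ (hΦ K hK)⟩
  have hf : f = adj.unit.app K ≫ Ψ.map ((adj.homEquiv K I).symm f) := by
    have h0 := (adj.homEquiv K I).apply_symm_apply f
    rw [Adjunction.homEquiv_unit] at h0
    exact h0.symm
  rw [hf]
  exact ⟨(h.compLeft (adj.unit.app K)).trans (Homotopy.ofEq (by simp))⟩

end KInj

end Groth.Agent.Lib.Helper25.PFKInj1
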