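import Mathlib
import Groth.Agent.Lib.Helper25.PFKInj1
import Groth.Agent.Lib.Helper25.DualCx6

/-!
# `I ⊗ G` is K-injective for `I` K-injective and `G` a bounded complex of finite free modules (helper25)

* `predual G b`: the predual of a complex `G` with bases; `adjPre G b s hs : tR (predual G b) ⊣ tR G` on complexes;
  `isKFlat_predual`.
* `isKInjective_tensor_of_based`, `isKInjective_tensor_of_isFreeCx`: `I ⊗ G` is K-injective.
-/

set_option autoImplicit false
universe u
open CategoryTheory Limits AlgebraicGeometry HomologicalComplex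

namespace Groth.Agent.Lib.Helper25.PFKInj2

open DCoh Groth.Agent.Lib.Helper25.DualCx2 Groth.Agent.Lib.Helper25.DualCx4
  Groth.Agent.Lib.Helper25.DualCx5 Groth.Agent.Lib.Helper25.DualCx6
  Groth.Agent.Lib.Helper25.LTensorComp Groth.Agent.Lib.Helper25.PFKInj1

variable {X : Scheme.{u}} (G : CochainComplex X.Modules ℤ)
  (b : ∀ q : ℤ, Based (Coh.structureModule X) (G.X q))

/-- the predual complex -/
noncomputable def predual : CochainComplex X.Modules ℤ :=
  predualCx (DCoh.tensorBi (X := X)) ρ lam G b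

lemma predual_X (q : ℤ) : (predual G b).X q = G.X (-q) := rfl

/-- the chain-level adjunction `- ⊗ G^∨ ⊣ - ⊗ G` -/
noncomputable def adjPre (s : Finset ℤ) (hs : ∀ q : ℤ, q ∉ s → IsZero (G.X q)) :
    tR (predual G b) ⊣ tR G :=
  DualCx2.adjCx (predualData (DCoh.tensorBi (X := X)) ρ lam G b s hs)

lemma isKFlat_predual (a : ℤ) (ha : ∀ q, q < a → IsZero (G.X q)) : DCoh.IsKFlat (predual G b) :=
  Groth.Agent.Lib.helper13.KFlat.dcoh_isKFlat_of_bounded_above (predual G b) (-a)
    (fun r hr => ha (-r) (by omega)) (fun n => isFlat_of_based (b (-n)))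

lemma mapBifunctorMap_zero_left {K L : CochainComplex X.Modules ℤ} :
    mapBifunctorMap (0 : K ⟶ L) (𝟙 G) (DCoh.tensorBi (X := X)) (ComplexShape.up ℤ) = 0 := by
  refine HomologicalComplex.hom_ext _ _ (fun n =>
    HomologicalComplex.mapBifunctor.hom_ext (fun p q h => ?_))
  have h1 : ((DCoh.tensorBi (X := X)).map ((0 : K ⟶ L).f p)).app (G.X q) = 0 := by
    rw [HomologicalComplex.zero_f, Functor.map_zero]
    rfl
  have h2 : ιMapBifunctor K G (DCoh.tensorBi (X := X)) (ComplexShape.up ℤ) p q n h ≫
      (0 : mapBifunctor K G (DCoh.tensorBi (X := X)) (ComplexShape.up ℤ) ⟶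
        mapBifunctor L G (DCoh.tensorBi (X := X)) (ComplexShape.up ℤ)).f n = 0 := by
    rw [HomologicalComplex.zero_f, comp_zero]
  rw [ι_mapBifunctorMap, h1, zero_comp]
  exact h2.symm

include b in
/-- **`I ⊗ G` is K-injective** for `I` K-injective and `G` a bounded complex with bases -/
theorem isKInjective_tensor_of_based (a c : ℤ) (ha : ∀ q, q < a → IsZero (G.X q))
    (hc : ∀ q, c < q → IsZero (G.X q)) (I : CochainComplex X.Modules ℤ) [I.IsKInjective] :
    ((DCoh.tensorCx (X := X)).obj I).obj G |>.IsKInjective := by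
  have hs : ∀ q : ℤ, q ∉ Finset.Icc a c → IsZero (G.X q) := by
    intro q hq
    rw [Finset.mem_Icc, not_and_or, not_le, not_le] at hq
    rcases hq with hq | hq
    · exact ha q hq
    · exact hc q hq
  have hΦ : ∀ K : CochainComplex X.Modules ℤ, K.Acyclic → ((tR (predual G b)).obj K).Acyclic := by
    intro K hK
    have h1 : ∀ i : ℤ, IsZero (K.homology i) := fun i =>
      (HomologicalComplex.exactAt_iff_isZero_homology K i).1 (hK i)
    intro i
    exact (HomologicalComplex.exactAt_iff_isZero_homology _ i).2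
      (isKFlat_predual G b a ha K h1 i)
  have hΨ : ∀ {K L : CochainComplex X.Modules ℤ} (f : K ⟶ L), Nonempty (Homotopy f 0) →
      Nonempty (Homotopy ((tR G).map f) 0) := by
    intro K L f ⟨h⟩
    have h1 := mapBifunctorMapHomotopy₁ h (𝟙 G) (DCoh.tensorBi (X := X)) (ComplexShape.up ℤ)
    rw [mapBifunctorMap_zero_left] at h1
    exact ⟨h1⟩
  exact isKInjective_of_adj (adjPre G b (Finset.Icc a c) hs) hΦ hΨ I

/-- **`I ⊗ G` is K-injective** for `I` K-injective and `G` a bounded complex of finite free modules -/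
theorem isKInjective_tensor_of_isFreeCx (hG : IsFreeCx G) (I : CochainComplex X.Modules ℤ)
    [I.IsKInjective] : ((DCoh.tensorCx (X := X)).obj I).obj G |>.IsKInjective := by
  obtain ⟨⟨a, c, hac⟩, hf⟩ := hG
  choose n hn using hf
  exact isKInjective_tensor_of_based G
    (fun q => basedOfIso (basedFree X (n q)) (hn q).some.symm) a c
    (fun q hq => hac q (Or.inl hq)) (fun q hq => hac q (Or.inr hq)) I

end Groth.Agent.Lib.Helper25.PFKInj2
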