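import Groth.Agent.Lib.Helper25.PFDer2
import Groth.Agent.Lib.Helper25.PFCx2
import Groth.Agent.Lib.Helper25.PFKInj2
import Groth.Agent.Lib.Helper16.FLF5

/-!
# The projection formula `Rf_*E ⊗^L P ≅ Rf_*(E ⊗^L f^*P)` for a K-flat `P` representing a perfect object (helper25)

Any morphism of schemes `f : X ⟶ Y`, any `E ∈ D(O_X)`.

* `isFreeCx_pull`: the termwise pullback of a bounded complex of finite free modules is such.
* `isIso_m_of_isFreeCx` (base case), `isIso_m_of_Q_iso` (roof + invariance), `isIso_m_of_isPerfect`.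
* `nonempty_projection_iso` (= S0961).
-/

set_option autoImplicit false
universe u
open CategoryTheory CategoryTheory.Limits AlgebraicGeometry HomologicalComplex

attribute [local instance] HasDerivedCategory.standard

namespace Groth.Agent.Lib.Helper25.PFDer3

open Scheme.Modules Groth.Agent.Lib.helper13.RestrKFlat Groth.Agent.Lib.Helper25.PullTensorCx
  Groth.Agent.Lib.Helper25.PFCx1 Groth.Agent.Lib.Helper25.PFDer1 Groth.Agent.Lib.Helper25.PFDer2
  Groth.Agent.Lib.Helper25.DualCx6 Groth.Agent.Lib.Helper25.LTensorComp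

variable {X Y : Scheme.{u}} (f : X ⟶ Y)

lemma isFreeCx_pull {F : CochainComplex Y.Modules ℤ} (hF : IsFreeCx F) :
    IsFreeCx ((pullCx f).obj F) := by
  obtain ⟨⟨a, c, hac⟩, hf⟩ := hF
  refine ⟨⟨a, c, fun q hq => (Scheme.Modules.pullback f).map_isZero (hac q hq)⟩, fun q => ?_⟩
  obtain ⟨n, ⟨e⟩⟩ := hf q
  exact ⟨n, ⟨(Scheme.Modules.pullback f).mapIso e ≪≫
    Groth.Agent.Lib.helper16.FLF.pullbackFreeModIso f n⟩⟩

variable [DCoh.HasRpush f] (I : CochainComplex X.Modules ℤ) [I.IsKInjective]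

/-- the base case: bounded complexes of finite free modules -/
theorem isIso_m_of_isFreeCx {F : CochainComplex Y.Modules ℤ} (hF : IsFreeCx F) :
    IsIso (m f I F) := by
  have hF' := hF
  obtain ⟨⟨a, c, hac⟩, -⟩ := hF'
  have hs : ∀ q : ℤ, q ∉ Finset.Icc a c → IsZero (F.X q) := by
    intro q hq
    rw [Finset.mem_Icc, not_and_or, not_le, not_le] at hq
    exact hac q hq
  haveI h1 : IsIso (projCx f I F) :=
    Groth.Agent.Lib.Helper25.PFCx2.isIso_projCx f I F (Finset.Icc a c) hs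
      (isStrictlyPerfect_of_isFreeCx hF).2
  haveI h2 : (((DCoh.tensorCx (X := X)).obj I).obj ((pullCx f).obj F)).IsKInjective :=
    Groth.Agent.Lib.Helper25.PFKInj2.isKInjective_tensor_of_isFreeCx _ (isFreeCx_pull f hF) I
  haveI h3 := isIso_ηQ_of_isKInjective f (((DCoh.tensorCx (X := X)).obj I).obj ((pullCx f).obj F))
  unfold m
  infer_instance

/-- roof + invariance -/
theorem isIso_m_of_Q_iso {P F : CochainComplex Y.Modules ℤ} (hP : DCoh.IsKFlat P)
    (hF : IsFreeCx F) (e : DerivedCategory.Q.obj P ≅ DerivedCategory.Q.obj F) :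
    IsIso (m f I P) := by
  obtain ⟨Z, s, hs, g, hg⟩ := DerivedCategory.right_fac e.hom
  have hs' : QuasiIso s := (DerivedCategory.isIso_Q_map_iff_quasiIso (φ := s)).1 hs
  have hg' : IsIso (DerivedCategory.Q.map g) := by
    have h1 : DerivedCategory.Q.map g = DerivedCategory.Q.map s ≫ e.hom := by
      rw [hg, IsIso.hom_inv_id_assoc]
    rw [h1]
    infer_instance
  have hg'' : QuasiIso g := (DerivedCategory.isIso_Q_map_iff_quasiIso (φ := g)).1 hg'
  obtain ⟨Z', r, hZ', hr⟩ := Groth.Agent.Lib.Helper25.LTensorDCoh.hres₀ Z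
  have h1 : QuasiIso (r ≫ s) := inferInstance
  have h2 : QuasiIso (r ≫ g) := inferInstance
  exact (isIso_m_iff_of_quasiIso f I (r ≫ s) h1 hZ' hP).1
    ((isIso_m_iff_of_quasiIso f I (r ≫ g) h2 hZ' (isKFlat_of_isFreeCx hF)).2
      (isIso_m_of_isFreeCx f I hF))

/-- **the derived projection morphism is invertible for `P` K-flat representing a perfect object** -/
theorem isIso_m_of_isPerfect (P : CochainComplex Y.Modules ℤ) (hP : DCoh.IsKFlat P)
    (hperf : DCoh.IsPerfect (DerivedCategory.Q.obj P)) : IsIso (m f I P) := by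
  refine isIso_m_of_locally f I P (fun y => ?_)
  obtain ⟨V, hyV, -, F, hF, ⟨e⟩⟩ := exists_spd_of_isPerfect hperf y
  refine ⟨V, hyV, ?_⟩
  intro _
  haveI : ((resCx (f ⁻¹ᵁ V).ι).obj I).IsKInjective :=
    Groth.Agent.Lib.Helper25.SchKInj.isKInjective_restrict _ I inferInstance
  exact isIso_m_of_Q_iso (f ∣_ V) _
    (Groth.Agent.Lib.helper13.RestrKFlat.dcoh_isKFlat_restrict V P hP) hF
    ((Groth.Agent.Lib.helper25.DCohRestrict.resDQIso V.ι P).symm ≪≫ e)

/-- **the projection formula** `Rf_*E ⊗^L P ≅ Rf_*(E ⊗^L f^*P)` -/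
theorem nonempty_projection_iso (P : CochainComplex Y.Modules ℤ) (hP : DCoh.IsKFlat P)
    (hperf : DCoh.IsPerfect (DerivedCategory.Q.obj P))
    [DCoh.HasLTensorCx P] [DCoh.HasLTensorCx ((pullCx f).obj P)] (E : DCoh.D X) :
    Nonempty ((DCoh.LTensorCx P).obj ((DCoh.Rpush f).obj E) ≅
      (DCoh.Rpush f).obj ((DCoh.LTensorCx ((pullCx f).obj P)).obj E)) := by
  obtain ⟨E', ⟨eE⟩⟩ : ∃ F : CochainComplex X.Modules ℤ, Nonempty (DerivedCategory.Q.obj F ≅ E) :=
    ⟨DerivedCategory.Q.objPreimage E, ⟨DerivedCategory.Q.objObjPreimageIso E⟩⟩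
  obtain ⟨J, i, hJ, hi⟩ := Groth.Agent.Lib.Helper25.SchKInj.hKinj X E'
  haveI : IsIso (DerivedCategory.Q.map i) := inferInstance
  let eI : DerivedCategory.Q.obj J ≅ E := (asIso (DerivedCategory.Q.map i)).symm ≪≫ eE
  have hP' : DCoh.IsKFlat ((pullCx f).obj P) :=
    Groth.Agent.Lib.Helper25.PullKFlat.isKFlat_pullback f P hP
  haveI h1 := isIso_ε_of_isKFlat P hP
  haveI h2 := isIso_ε_of_isKFlat ((pullCx f).obj P) hP'
  haveI h3 := isIso_m_of_isPerfect f J P hP hperf
  haveI h4 := isIso_ηQ_of_isKInjective f J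
  let e1 : (DCoh.LTensorCx P).obj (DerivedCategory.Q.obj ((pushCx f).obj J)) ≅
      DerivedCategory.Q.obj ((DCoh.tensorCx.obj ((pushCx f).obj J)).obj P) :=
    asIso ((ε P).app ((pushCx f).obj J))
  let e2 : (DCoh.LTensorCx ((pullCx f).obj P)).obj (DerivedCategory.Q.obj J) ≅
      DerivedCategory.Q.obj ((DCoh.tensorCx.obj J).obj ((pullCx f).obj P)) :=
    asIso ((ε ((pullCx f).obj P)).app J)
  exact ⟨(DCoh.LTensorCx P).mapIso ((DCoh.Rpush f).mapIso eI.symm ≪≫ (asIso (ηQ f J)).symm) ≪≫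
    e1 ≪≫ asIso (m f J P) ≪≫
    (DCoh.Rpush f).mapIso (e2.symm ≪≫ (DCoh.LTensorCx ((pullCx f).obj P)).mapIso eI)⟩

end Groth.Agent.Lib.Helper25.PFDer3
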