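import Mathlib
import Groth.Agent.Lib.Helper25.BrownSub

/-!
# A triangulated subcategory closed under coproducts which contains a compact generator is everything (helper25)

Setting of `BrownSub`: `C` pretriangulated, `Ψ : C' ⥤ C` a triangulated equivalence from a model with small
morphism types and `w`-small coproducts.  `T ≤ PQ` triangulated subcategories of `C` closed under isomorphisms,
`T` closed under `w`-small coproducts; `G ∈ T` generates `PQ` and maps from `G` to `w`-small coproducts of objects of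
`PQ` have finite support.  Then `PQ ≤ T` (`le_of_generator`): the inclusion of `T` has a right adjoint
(`BrownSub.isLeftAdjoint_ι`), and the cone of the counit is right orthogonal to all shifts of `G`, hence zero.
-/

set_option autoImplicit false
universe w v₁ u₁ u₂
open CategoryTheory CategoryTheory.Limits Pretriangulated

namespace Groth.Agent.Lib.Helper25.PFGen

open Groth.Agent.Lib.Helper25.FinFac Groth.Agent.Lib.Helper25.BrownSub

variable {C : Type u₁} [Category.{v₁} C] [Preadditive C] [HasZeroObject C] [HasShift C ℤ]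
  [∀ n : ℤ, (shiftFunctor C n).Additive] [Pretriangulated C]
  {C' : Type u₂} [Category.{w} C'] [Preadditive C'] [HasZeroObject C'] [HasShift C' ℤ]
  [∀ n : ℤ, (shiftFunctor C' n).Additive] [Pretriangulated C']
  (Ψ : C' ⥤ C) [Ψ.CommShift ℤ] [Ψ.IsTriangulated] [Ψ.IsEquivalence]
  (T PQ : ObjectProperty C) [T.IsTriangulated] [T.IsClosedUnderIsomorphisms]
  [PQ.IsTriangulated] [PQ.IsClosedUnderIsomorphisms]
  [∀ J : Type w, T.IsClosedUnderColimitsOfShape (Discrete J)] [HasCoproducts.{w} C']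

section

variable {T}
variable {R : C ⥤ T.FullSubcategory} (adj : T.ι ⊣ R) (K : C)

include adj in
lemma exists_lift {t : C} (ht : T t) (ψ : t ⟶ K) :
    ∃ ψ' : t ⟶ T.ι.obj (R.obj K), ψ' ≫ adj.counit.app K = ψ := by
  refine ⟨T.ι.map ((adj.homEquiv ⟨t, ht⟩ K) ψ), ?_⟩
  have := adj.homEquiv_counit (X := (⟨t, ht⟩ : T.FullSubcategory)) (Y := K)
    (g := (adj.homEquiv ⟨t, ht⟩ K) ψ)
  rw [← this, Equiv.symm_apply_apply]

include adj in
lemma eq_zero_of_comp_counit {t : C} (ht : T t) (β : t ⟶ T.ι.obj (R.obj K))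
    (h : β ≫ adj.counit.app K = 0) : β = 0 := by
  obtain ⟨β', rfl⟩ := T.ι.map_surjective (X := (⟨t, ht⟩ : T.FullSubcategory)) (Y := R.obj K) β
  have h1 := adj.homEquiv_counit (X := (⟨t, ht⟩ : T.FullSubcategory)) (Y := K) (g := β')
  rw [h] at h1
  have h2 := adj.homEquiv_counit (X := (⟨t, ht⟩ : T.FullSubcategory)) (Y := K) (g := 0)
  rw [Functor.map_zero, zero_comp] at h2
  have : β' = 0 := (adj.homEquiv ⟨t, ht⟩ K).symm.injective (h1.trans h2.symm)
  rw [this, Functor.map_zero]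

include adj in
lemma eq_zero_of_comp_counit_shift {t : C} (ht : T t) (α : t ⟶ (T.ι.obj (R.obj K))⟦(1 : ℤ)⟧)
    (h : α ≫ (adj.counit.app K)⟦(1 : ℤ)⟧' = 0) : α = 0 := by
  let e := shiftFunctorCompIsoId C (1 : ℤ) (-1) (by norm_num)
  have hβ : (α⟦(-1 : ℤ)⟧' ≫ e.hom.app _) ≫ adj.counit.app K = 0 := by
    have nat := e.hom.naturality (adj.counit.app K)
    simp only [Functor.comp_obj, Functor.comp_map, Functor.id_obj, Functor.id_map] at nat
    rw [Category.assoc, ← nat, ← Category.assoc, ← Functor.map_comp, h, Functor.map_zero, zero_comp]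
  have h0 := eq_zero_of_comp_counit adj K (T.le_shift (-1) _ ht) _ hβ
  have h1 : α⟦(-1 : ℤ)⟧' = 0 := by
    rw [← cancel_mono (e.hom.app _), h0, zero_comp]
  exact (shiftFunctor C (-1 : ℤ)).map_injective (by rw [h1, Functor.map_zero])

end

include Ψ in
/-- **a triangulated subcategory closed under coproducts containing a compact generator of `PQ` contains `PQ`** -/
theorem le_of_generator (hle : T ≤ PQ) (G : C) (hG : T G)
    (hgen : ∀ K : C, PQ K → (∀ (n : ℤ) (φ : G⟦n⟧ ⟶ K), φ = 0) → IsZero K)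
    (hcpt : FF.{w} PQ G) : PQ ≤ T := by
  haveI : T.ι.IsLeftAdjoint := isLeftAdjoint_ι Ψ T G hG (fun K hK h => hgen K (hle _ hK) h)
    (fun ι M hM A g hc x => hcpt ι M (fun i => hle _ (hM i)) A g hc x)
  let adj := Adjunction.ofIsLeftAdjoint T.ι
  intro K hK
  let ε : T.ι.obj (T.ι.rightAdjoint.obj K) ⟶ K := adj.counit.app K
  have hε : ε = adj.counit.app K := rfl
  obtain ⟨C₀, g, h, hT⟩ := distinguished_cocone_triangle ε
  have hC₀ : PQ C₀ := PQ.ext_of_isTriangulatedClosed₃ _ hT (hle _ (T.ι.rightAdjoint.obj K).property) hK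
  have hz : IsZero C₀ := by
    apply hgen C₀ hC₀
    intro n φ
    have ht : T (G⟦n⟧) := T.le_shift n _ hG
    have h31 : h ≫ ε⟦(1 : ℤ)⟧' = 0 := comp_distTriang_mor_zero₃₁ _ hT
    have h12 : ε ≫ g = 0 := comp_distTriang_mor_zero₁₂ _ hT
    have h1 : φ ≫ h = 0 := by
      apply eq_zero_of_comp_counit_shift adj K ht
      rw [Category.assoc, ← hε, h31, comp_zero]
    obtain ⟨ψ, hψ⟩ : ∃ ψ : G⟦n⟧ ⟶ K, φ = ψ ≫ g := Triangle.coyoneda_exact₃ _ hT φ h1
    obtain ⟨ψ', hψ'⟩ : ∃ ψ' : G⟦n⟧ ⟶ T.ι.obj (T.ι.rightAdjoint.obj K), ψ' ≫ ε = ψ :=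
      exists_lift adj K ht ψ
    rw [hψ, ← hψ', Category.assoc, h12, comp_zero]
  haveI : IsIso ε := (Triangle.isZero₃_iff_isIso₁ _ hT).1 hz
  exact T.prop_of_iso (asIso ε) (T.ι.rightAdjoint.obj K).property

end Groth.Agent.Lib.Helper25.PFGen
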