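import Mathlib
import Groth.Agent.Lib.Helper25.KInjMain
import Groth.Agent.Lib.Helper25.RDerTri

/-!
# A horseshoe lemma for K-injective resolutions (helper25)

`A` a Grothendieck abelian category.

* `exists_kInjective_ses`: every short exact sequence `0 ⟶ S₁ ⟶ S₂ ⟶ S₃ ⟶ 0` of cochain complexes admits a morphism to a
  degreewise split short exact sequence `0 ⟶ J₁ ⟶ J₂ ⟶ J₃ ⟶ 0` of K-injective complexes whose three components are
  quasi-isomorphisms.
-/

set_option autoImplicit false
universe v u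
open CategoryTheory CategoryTheory.Limits

namespace Groth.Agent.Lib.Helper25.PFHorse

open Groth.Agent.Lib.Helper25.KInjW Groth.Agent.Lib.Helper25.KInjMain

variable {A : Type u} [Category.{v} A] [Abelian A]

/-- a degreewise split short exact sequence of complexes whose first two terms are K-injective has a K-injective third
term -/
lemma isKInjective_X₃ (J : ShortComplex (CochainComplex A ℤ))
    (σ : ∀ n, (J.map (HomologicalComplex.eval A _ n)).Splitting)
    [h₁ : J.X₁.IsKInjective] [h₂ : J.X₂.IsKInjective] : J.X₃.IsKInjective := by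
  have hT : CochainComplex.trianglehOfDegreewiseSplit J σ ∈
      Pretriangulated.distinguishedTriangles :=
    (HomotopyCategory.distinguished_iff_iso_trianglehOfDegreewiseSplit _).2 ⟨J, σ, ⟨Iso.refl _⟩⟩
  exact Groth.Agent.Lib.Helper25.RDerTri.isKInjective_of_distinguished _ hT J.X₁ J.X₂
    (Iso.refl _) (Iso.refl _)

variable [IsGrothendieckAbelian.{v} A]

/-- **the horseshoe lemma for K-injective resolutions** -/
theorem exists_kInjective_ses (S : ShortComplex (CochainComplex A ℤ)) (hS : S.ShortExact) :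
    ∃ (J : ShortComplex (CochainComplex A ℤ)) (j : S ⟶ J)
      (_ : ∀ n, (J.map (HomologicalComplex.eval A _ n)).Splitting),
      J.X₁.IsKInjective ∧ J.X₂.IsKInjective ∧ J.X₃.IsKInjective ∧
      QuasiIso j.τ₁ ∧ QuasiIso j.τ₂ ∧ QuasiIso j.τ₃ := by
  obtain ⟨J₁, j₁, hJ₁, hj₁, hm₁, hi₁⟩ := exists_kInjective_resolution S.X₁
  haveI : Mono S.f := hS.mono_f
  haveI : Mono j₁ := HomologicalComplex.mono_of_mono_f j₁ hm₁
  -- the pushout
  have hW₁ : W j₁ := (W_iff j₁).2 ⟨inferInstance, hj₁⟩
  have hinl : W (pushout.inl S.f j₁) :=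
    MorphismProperty.of_isPushout (P := W) (IsPushout.of_hasPushout S.f j₁) hW₁
  obtain ⟨hinl₁, hinl₂⟩ := (W_iff _).1 hinl
  haveI : Mono (pushout.inr S.f j₁) := inferInstance
  obtain ⟨J₂, jT, hJ₂, hjT, hmT, hi₂⟩ := exists_kInjective_resolution (pushout S.f j₁)
  haveI : Mono jT := HomologicalComplex.mono_of_mono_f jT hmT
  let i : J₁ ⟶ J₂ := pushout.inr S.f j₁ ≫ jT
  let j₂ : S.X₂ ⟶ J₂ := pushout.inl S.f j₁ ≫ jT
  haveI : Mono i := mono_comp _ _
  haveI hj₂ : QuasiIso j₂ := inferInstance
  have comm : S.f ≫ j₂ = j₁ ≫ i := by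
    change S.f ≫ pushout.inl S.f j₁ ≫ jT = j₁ ≫ pushout.inr S.f j₁ ≫ jT
    rw [← Category.assoc, pushout.condition, Category.assoc]
  -- the short exact sequence of K-injectives
  let J : ShortComplex (CochainComplex A ℤ) :=
    ShortComplex.mk i (cokernel.π i) (cokernel.condition i)
  have hJ : J.ShortExact := shortExact_cokernel i
  have hJn : ∀ n, (J.map (HomologicalComplex.eval A _ n)).ShortExact := fun n =>
    (HomologicalComplex.shortExact_iff_degreewise_shortExact J).1 hJ n
  let σ : ∀ n, (J.map (HomologicalComplex.eval A _ n)).Splitting := fun n => by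
    haveI : Injective ((J.map (HomologicalComplex.eval A _ n)).X₁) := hi₁ n
    haveI : Mono (J.map (HomologicalComplex.eval A _ n)).f := (hJn n).mono_f
    haveI := (hJn n).epi_g
    exact ShortComplex.Splitting.ofExactOfRetraction _ (hJn n).exact
      (Injective.factorThru (𝟙 _) (J.map (HomologicalComplex.eval A _ n)).f)
      (Injective.comp_factorThru _ _) inferInstance
  -- the third map
  have h0 : S.f ≫ j₂ ≫ cokernel.π i = 0 := by
    rw [← Category.assoc, comm, Category.assoc, cokernel.condition, comp_zero]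
  haveI := hS.epi_g
  let j₃ : S.X₃ ⟶ cokernel i := hS.exact.desc (j₂ ≫ cokernel.π i) h0
  have hj₃ : S.g ≫ j₃ = j₂ ≫ cokernel.π i := hS.exact.g_desc _ _
  let j : S ⟶ J := ⟨j₁, j₂, j₃, comm.symm, hj₃.symm⟩
  haveI := hJ₁
  haveI := hJ₂
  refine ⟨J, j, σ, hJ₁, hJ₂, isKInjective_X₃ J σ, hj₁, hj₂, ?_⟩
  exact HomologicalComplex.HomologySequence.quasiIso_τ₃ j hS hJ hj₁ hj₂

end Groth.Agent.Lib.Helper25.PFHorse
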