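import Groth.Agent.Lib.Helper25.PFRes1
import Groth.Agent.Lib.Helper25.PushProj
import Groth.Agent.Lib.Helper12.TensorSec

/-!
# The projection morphism `f_*M ⊗ N ⟶ f_*(M ⊗ f^*N)` is compatible with restriction to opens (helper25)

For `f : X ⟶ Y`, `V ⊆ Y` open, `U = f⁻¹V`, `g = f ∣_ V`:

* `projHom_restrict`: `(projHom f M N)|_V ≫ bcIso ≫ g_*(κ ≫ (1 ⊗ c⁻¹)) = κ ≫ (bcIso ⊗ 1) ≫ projHom g (M|_U) (N|_V)`
  (`κ = restrictTensorIso`, `c = PFRes1.cIso`).
-/

set_option autoImplicit false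
universe u
open CategoryTheory CategoryTheory.Limits AlgebraicGeometry Opposite TopologicalSpace

namespace Groth.Agent.Lib.Helper25.PFRes2

open Scheme.Modules Groth.Agent.Lib.helper21.ModOpenBC Groth.Agent.Lib.helper12.PullTensor
  Groth.Agent.Lib.helper12.TensorRestrict Groth.Agent.Lib.helper12.TensorSec
  Groth.Agent.Lib.Lead.ModTensor Groth.Agent.Lib.Helper25.PFRes1 Groth.Agent.Lib.Helper25.PushProj

variable {X Y : Scheme.{u}} (f : X ⟶ Y) (V : Y.Opens) (M : X.Modules) (N : Y.Modules)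

/-- **the projection morphism is compatible with restriction to opens** -/
theorem projHom_restrict :
    (restrictFunctor V.ι).map (projHom f M N) ≫
        (bcIso f V).hom.app (CohB1.tensorMod M ((Scheme.Modules.pullback f).obj N)) ≫
        (pushforward (f ∣_ V)).map
          ((restrictTensorIso (f ⁻¹ᵁ V).ι M ((Scheme.Modules.pullback f).obj N)).hom ≫
            tensorMap (𝟙 ((restrictFunctor (f ⁻¹ᵁ V).ι).obj M)) ((cIso f V).inv.app N)) =
      (restrictTensorIso V.ι ((pushforward f).obj M) N).hom ≫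
        tensorMap ((bcIso f V).hom.app M) (𝟙 ((restrictFunctor V.ι).obj N)) ≫
        projHom (f ∣_ V) ((restrictFunctor (f ⁻¹ᵁ V).ι).obj M) ((restrictFunctor V.ι).obj N) := by
  rw [← cancel_epi (restrictTensorIso V.ι ((pushforward f).obj M) N).inv, Iso.inv_hom_id_assoc]
  apply tensorMod_hom_ext
  intro W a n
  change (((pushforward (f ∣_ V)).map
        ((restrictTensorIso (f ⁻¹ᵁ V).ι M ((Scheme.Modules.pullback f).obj N)).hom ≫
          tensorMap (𝟙 ((restrictFunctor (f ⁻¹ᵁ V).ι).obj M)) ((cIso f V).inv.app N))).val.app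
        (op W)).hom
      ((((bcIso f V).hom.app (CohB1.tensorMod M ((Scheme.Modules.pullback f).obj N))).val.app
        (op W)).hom
        ((((restrictFunctor V.ι).map (projHom f M N)).val.app (op W)).hom
          (((restrictTensorIso V.ι ((pushforward f).obj M) N).inv.val.app (op W)).hom
            (SecTwist.tmul _ _ W a n)))) =
    ((projHom (f ∣_ V) ((restrictFunctor (f ⁻¹ᵁ V).ι).obj M)
        ((restrictFunctor V.ι).obj N)).val.app (op W)).hom
      (((tensorMap ((bcIso f V).hom.app M) (𝟙 ((restrictFunctor V.ι).obj N))).val.app (op W)).hom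
        (SecTwist.tmul _ _ W a n))
  -- right hand side
  refine Eq.trans ?_ (congrArg _ (tensorMap_tmul _ _ W a n)).symm
  refine Eq.trans ?_ (projHom_tmul (f ∣_ V) _ _ W _ _).symm
  -- left hand side
  refine (congrArg _ (congrArg _ (congrArg _
    (restrictTensorIso_inv_tmul V.ι ((pushforward f).obj M) N W a n)))).trans ?_
  change (((pushforward (f ∣_ V)).map
        ((restrictTensorIso (f ⁻¹ᵁ V).ι M ((Scheme.Modules.pullback f).obj N)).hom ≫
          tensorMap (𝟙 ((restrictFunctor (f ⁻¹ᵁ V).ι).obj M)) ((cIso f V).inv.app N))).val.app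
        (op W)).hom
      ((((bcIso f V).hom.app (CohB1.tensorMod M ((Scheme.Modules.pullback f).obj N))).val.app
        (op W)).hom
        (((projHom f M N).val.app (op (V.ι ''ᵁ W))).hom
          (SecTwist.tmul ((pushforward f).obj M) N (V.ι ''ᵁ W) a n))) = _
  refine (congrArg _ (congrArg _ (projHom_tmul f M N (V.ι ''ᵁ W) a n))).trans ?_
  change ((tensorMap (𝟙 ((restrictFunctor (f ⁻¹ᵁ V).ι).obj M)) ((cIso f V).inv.app N)).val.app
        (op ((f ∣_ V) ⁻¹ᵁ W))).hom
      (((restrictTensorIso (f ⁻¹ᵁ V).ι M ((Scheme.Modules.pullback f).obj N)).hom.val.app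
        (op ((f ∣_ V) ⁻¹ᵁ W))).hom
        ((CohB1.tensorMod M ((Scheme.Modules.pullback f).obj N)).val.map
          (eqToHom (image_morphismRestrict_preimage f V W)).op
          (SecTwist.tmul M ((Scheme.Modules.pullback f).obj N) (f ⁻¹ᵁ (V.ι ''ᵁ W)) a
            (unitSec f N (V.ι ''ᵁ W) n)))) = _
  refine (congrArg _ (congrArg _ (SecTwist.map_tmul M ((Scheme.Modules.pullback f).obj N)
    (eqToHom (image_morphismRestrict_preimage f V W)) a (unitSec f N (V.ι ''ᵁ W) n)))).trans ?_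
  refine (congrArg _ (restrictTensorIso_hom_tmul (f ⁻¹ᵁ V).ι M
    ((Scheme.Modules.pullback f).obj N) ((f ∣_ V) ⁻¹ᵁ W) _ _)).trans ?_
  refine (tensorMap_tmul _ _ ((f ∣_ V) ⁻¹ᵁ W) _ _).trans ?_
  refine congrArg₂ (SecTwist.tmul _ _ ((f ∣_ V) ⁻¹ᵁ W)) rfl ?_
  exact cIso_inv_unitSec f V N W n

end Groth.Agent.Lib.Helper25.PFRes2
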