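import Groth.Agent.Lib.Helper25.PFDer1
import Groth.Agent.Lib.Helper25.PFSes1
import Groth.Agent.Lib.Helper25.PFHorse
import Groth.Agent.Lib.Helper21.ModGroth

/-!
# Two out of three for the derived projection morphism on degreewise split short exact sequences (helper25)

* `isIso_m_X₃`: for a degreewise split short exact sequence `0 ⟶ P₁ ⟶ P₂ ⟶ P₃ ⟶ 0` of complexes on `Y` and `I` K-injective
  on `X`: if `PFDer1.m f I P₁` and `m f I P₂` are invertible then so is `m f I P₃` (horseshoe lemma for K-injective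
  resolutions + the homology sequence).
-/

set_option autoImplicit false
universe u
open CategoryTheory CategoryTheory.Limits AlgebraicGeometry HomologicalComplex

attribute [local instance] HasDerivedCategory.standard

namespace Groth.Agent.Lib.Helper25.PFSes2

open Groth.Agent.Lib.Helper25.PullTensorCx Groth.Agent.Lib.Helper25.PFCx1
  Groth.Agent.Lib.Helper25.PFDer1 Groth.Agent.Lib.Helper25.PFSes1

lemma aux_comm {C D : Type*} [Category C] [Category D] (G : D ⥤ C) {A₁ A₂ : C} {s₁ s₂ J₁ J₂ : D}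
    (j₁ : s₁ ⟶ J₁) (Jf : J₁ ⟶ J₂) (sf : s₁ ⟶ s₂) (j₂ : s₂ ⟶ J₂) (p₁ : A₁ ⟶ G.obj s₁)
    (p₂ : A₂ ⟶ G.obj s₂) (af : A₁ ⟶ A₂) (hj : j₁ ≫ Jf = sf ≫ j₂) (hn : af ≫ p₂ = p₁ ≫ G.map sf) :
    (p₁ ≫ G.map j₁) ≫ G.map Jf = af ≫ p₂ ≫ G.map j₂ := by
  rw [Category.assoc, ← G.map_comp, hj, G.map_comp, reassoc_of% hn]

variable {X Y : Scheme.{u}} (f : X ⟶ Y) [DCoh.HasRpush f]
  (I : CochainComplex X.Modules ℤ) [I.IsKInjective]

/-- **two out of three for degreewise split short exact sequences** -/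
theorem isIso_m_X₃ (S : ShortComplex (CochainComplex Y.Modules ℤ))
    (σ : ∀ n, (S.map (HomologicalComplex.eval _ _ n)).Splitting)
    (h₁ : IsIso (m f I S.X₁)) (h₂ : IsIso (m f I S.X₂)) : IsIso (m f I S.X₃) := by
  haveI : IsGrothendieckAbelian.{u} X.Modules :=
    Groth.Agent.Lib.Helper21.ModGroth.isGrothendieckAbelian_mod _
  -- the sequence on `Y`
  let SA : ShortComplex (CochainComplex Y.Modules ℤ) :=
    S.map (Ψ₂ (DCoh.tensorBi (X := Y)) ((pushCx f).obj I))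
  have hSA : SA.ShortExact := shortExact_map_Ψ₂ _ _ S σ
  -- the sequence on `X`
  let S' : ShortComplex (CochainComplex X.Modules ℤ) := S.map (pullCx f)
  let σ' : ∀ n, (S'.map (HomologicalComplex.eval _ _ n)).Splitting :=
    fun n => (σ n).map (Scheme.Modules.pullback f)
  let SX : ShortComplex (CochainComplex X.Modules ℤ) := S'.map (Ψ₂ (DCoh.tensorBi (X := X)) I)
  have hSX : SX.ShortExact := shortExact_map_Ψ₂ _ _ S' σ'
  obtain ⟨J, j, σJ, hJ₁, hJ₂, hJ₃, hj₁, hj₂, hj₃⟩ :=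
    Groth.Agent.Lib.Helper25.PFHorse.exists_kInjective_ses SX hSX
  -- the direct image of the K-injective sequence
  let SB : ShortComplex (CochainComplex Y.Modules ℤ) := J.map (pushCx f)
  let σB : ∀ n, (SB.map (HomologicalComplex.eval _ _ n)).Splitting :=
    fun n => (σJ n).map (Scheme.Modules.pushforward f)
  have hSB : SB.ShortExact :=
    HomologicalComplex.shortExact_of_degreewise_shortExact _ (fun n => (σB n).shortExact)
  -- the morphism of short exact sequences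
  have n₁₂ := projCx_naturality f (𝟙 I) S.f
  have n₂₃ := projCx_naturality f (𝟙 I) S.g
  rw [CategoryTheory.Functor.map_id] at n₁₂ n₂₃
  let φ : SA ⟶ SB :=
    { τ₁ := projCx f I S.X₁ ≫ (pushCx f).map j.τ₁
      τ₂ := projCx f I S.X₂ ≫ (pushCx f).map j.τ₂
      τ₃ := projCx f I S.X₃ ≫ (pushCx f).map j.τ₃
      comm₁₂ := aux_comm (pushCx f) j.τ₁ J.f SX.f j.τ₂ (projCx f I S.X₁) (projCx f I S.X₂) SA.f
        j.comm₁₂ n₁₂
      comm₂₃ := aux_comm (pushCx f) j.τ₂ J.g SX.g j.τ₃ (projCx f I S.X₂) (projCx f I S.X₃) SA.g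
        j.comm₂₃ n₂₃ }
  haveI := hJ₁
  haveI := hJ₂
  haveI := hJ₃
  have q₁ : QuasiIso φ.τ₁ := (@isIso_m_iff_quasiIso X Y f _ I S.X₁ J.X₁ j.τ₁ hJ₁ hj₁).1 h₁
  have q₂ : QuasiIso φ.τ₂ := (@isIso_m_iff_quasiIso X Y f _ I S.X₂ J.X₂ j.τ₂ hJ₂ hj₂).1 h₂
  have q₃ : QuasiIso φ.τ₃ := HomologicalComplex.HomologySequence.quasiIso_τ₃ φ hSA hSB q₁ q₂
  exact (@isIso_m_iff_quasiIso X Y f _ I S.X₃ J.X₃ j.τ₃ hJ₃ hj₃).2 q₃

end Groth.Agent.Lib.Helper25.PFSes2
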