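import Mathlib
import Groth.Prelude.Def_TotMap

/-!
# The comparison `Tot(G K) ⟶ G(Tot K)` for an additive functor `G` (helper25)

For an additive functor `G` and a bicomplex `K` (no preservation hypothesis):
* `totCompX G K c n`, `totComp G K c : Tot(G K) ⟶ G(Tot K)` with `ιTotal_totComp_f` (on the summand `G(K^{p,q})` it is
  `G` of the inclusion), `totComp_naturality`.
* `totComp_eq_mapTotalIso_inv`, `isIso_totComp`: under `TotMap.PreservesTotal` it is the inverse of the prelude's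
  `TotMap.mapTotalIso`.
-/

set_option autoImplicit false
set_option backward.isDefEq.respectTransparency false
universe v v' u u' w₁ w₂ w₃
open CategoryTheory CategoryTheory.Limits

namespace Groth.Agent.Lib.Helper25.PFTot

open TotMap

variable {C : Type u} {D : Type u'} [Category.{v} C] [Category.{v'} D] [Preadditive C] [Preadditive D]
  (G : C ⥤ D) [G.Additive]
  {I₁ : Type w₁} {I₂ : Type w₂} {I₁₂ : Type w₃} {c₁ : ComplexShape I₁} {c₂ : ComplexShape I₂}
  (K : HomologicalComplex₂ C c₁ c₂) (c : ComplexShape I₁₂) [TotalComplexShape c₁ c₂ c]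
  [DecidableEq I₁₂] [K.HasTotal c] [((map₂ G c₁ c₂).obj K).HasTotal c]

/-- degree `n` of the comparison `Tot(G K) ⟶ G(Tot K)` -/
noncomputable def totCompX (n : I₁₂) :
    (((map₂ G c₁ c₂).obj K).total c).X n ⟶ ((G.mapHomologicalComplex c).obj (K.total c)).X n :=
  HomologicalComplex₂.totalDesc _ (fun i₁ i₂ h => G.map (K.ιTotal c i₁ i₂ n h))

@[reassoc (attr := simp)]
lemma ιTotal_totCompX (i₁ : I₁) (i₂ : I₂) (n : I₁₂) (h : ComplexShape.π c₁ c₂ c (i₁, i₂) = n) :
    ((map₂ G c₁ c₂).obj K).ιTotal c i₁ i₂ n h ≫ totCompX G K c n = G.map (K.ιTotal c i₁ i₂ n h) :=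
  HomologicalComplex₂.ι_totalDesc _ _ _ _ _

@[reassoc]
lemma ιTotalOrZero_totCompX (i₁ : I₁) (i₂ : I₂) (n : I₁₂) :
    ((map₂ G c₁ c₂).obj K).ιTotalOrZero c i₁ i₂ n ≫ totCompX G K c n =
      G.map (K.ιTotalOrZero c i₁ i₂ n) := by
  by_cases h : ComplexShape.π c₁ c₂ c (i₁, i₂) = n
  · rw [HomologicalComplex₂.ιTotalOrZero_eq _ _ _ _ _ h, HomologicalComplex₂.ιTotalOrZero_eq _ _ _ _ _ h,
      ιTotal_totCompX]
  · rw [HomologicalComplex₂.ιTotalOrZero_eq_zero _ _ _ _ _ h,
      HomologicalComplex₂.ιTotalOrZero_eq_zero _ _ _ _ _ h, zero_comp, G.map_zero]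

@[reassoc]
lemma d₁_totCompX (i₁ : I₁) (i₂ : I₂) (n : I₁₂) :
    ((map₂ G c₁ c₂).obj K).d₁ c i₁ i₂ n ≫ totCompX G K c n = G.map (K.d₁ c i₁ i₂ n) := by
  by_cases h : c₁.Rel i₁ (c₁.next i₁)
  · rw [HomologicalComplex₂.d₁_eq' _ _ h, HomologicalComplex₂.d₁_eq' _ _ h, Linear.units_smul_comp,
      Category.assoc, ιTotalOrZero_totCompX, Units.smul_def, Units.smul_def, G.map_zsmul,
      G.map_comp]
    rfl
  · rw [HomologicalComplex₂.d₁_eq_zero _ _ _ _ _ h, HomologicalComplex₂.d₁_eq_zero _ _ _ _ _ h, zero_comp,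
      G.map_zero]

@[reassoc]
lemma d₂_totCompX (i₁ : I₁) (i₂ : I₂) (n : I₁₂) :
    ((map₂ G c₁ c₂).obj K).d₂ c i₁ i₂ n ≫ totCompX G K c n = G.map (K.d₂ c i₁ i₂ n) := by
  by_cases h : c₂.Rel i₂ (c₂.next i₂)
  · rw [HomologicalComplex₂.d₂_eq' _ _ _ h, HomologicalComplex₂.d₂_eq' _ _ _ h, Linear.units_smul_comp,
      Category.assoc, ιTotalOrZero_totCompX, Units.smul_def, Units.smul_def, G.map_zsmul,
      G.map_comp]
    rfl
  · rw [HomologicalComplex₂.d₂_eq_zero _ _ _ _ _ h, HomologicalComplex₂.d₂_eq_zero _ _ _ _ _ h, zero_comp,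
      G.map_zero]

/-- **the comparison `Tot(G K) ⟶ G(Tot K)`** -/
noncomputable def totComp :
    ((map₂ G c₁ c₂).obj K).total c ⟶ (G.mapHomologicalComplex c).obj (K.total c) where
  f n := totCompX G K c n
  comm' n n' _ := by
    refine HomologicalComplex₂.total.hom_ext _ (fun i₁ i₂ h => ?_)
    simp only [Functor.mapHomologicalComplex_obj_d, HomologicalComplex₂.total_d, G.map_add, Preadditive.comp_add,
      Preadditive.add_comp, ιTotal_totCompX_assoc, ← G.map_comp,
      HomologicalComplex₂.ι_D₁, HomologicalComplex₂.ι_D₂, HomologicalComplex₂.ι_D₁_assoc,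
      HomologicalComplex₂.ι_D₂_assoc, d₁_totCompX, d₂_totCompX]

@[simp]
lemma totComp_f (n : I₁₂) : (totComp G K c).f n = totCompX G K c n := rfl

@[reassoc]
lemma ιTotal_totComp_f (i₁ : I₁) (i₂ : I₂) (n : I₁₂) (h : ComplexShape.π c₁ c₂ c (i₁, i₂) = n) :
    ((map₂ G c₁ c₂).obj K).ιTotal c i₁ i₂ n h ≫ (totComp G K c).f n = G.map (K.ιTotal c i₁ i₂ n h) := by
  rw [totComp_f, ιTotal_totCompX]

variable {K} {L : HomologicalComplex₂ C c₁ c₂} (f : K ⟶ L)
  [L.HasTotal c] [((map₂ G c₁ c₂).obj L).HasTotal c]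

@[reassoc]
lemma totComp_naturality :
    HomologicalComplex₂.total.map ((map₂ G c₁ c₂).map f) c ≫ totComp G L c =
      totComp G K c ≫ (G.mapHomologicalComplex c).map (HomologicalComplex₂.total.map f c) := by
  refine HomologicalComplex.hom_ext _ _ (fun n => HomologicalComplex₂.total.hom_ext _ (fun i₁ i₂ h => ?_))
  simp only [HomologicalComplex.comp_f, totComp_f, Functor.mapHomologicalComplex_map_f,
    HomologicalComplex₂.ιTotal_map_assoc, ιTotal_totCompX G L c, ιTotal_totCompX_assoc G K c,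
    ← G.map_comp, HomologicalComplex₂.ιTotal_map]

variable (K)

lemma totComp_eq_mapTotalIso_inv [PreservesTotal G K c] :
    totComp G K c = (mapTotalIso G K c).inv := by
  refine HomologicalComplex.hom_ext _ _ (fun n => ?_)
  rw [totComp_f, mapTotalIso_inv_f]
  exact mapTotalXIso_inv_unique G K c n _ (fun i₁ i₂ h => ιTotal_totCompX G K c i₁ i₂ n h)

lemma isIso_totComp [PreservesTotal G K c] : IsIso (totComp G K c) := by
  rw [totComp_eq_mapTotalIso_inv]
  infer_instance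

end Groth.Agent.Lib.Helper25.PFTot
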