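import Groth.Agent.Lib.Helper25.PFDer3
import Groth.Agent.Lib.Helper25.PFSes2
import Groth.Agent.Lib.Helper25.PFCop2
import Groth.Agent.Lib.Helper25.KFlatTri
import Groth.Agent.Lib.Helper13.KFlat4

/-!
# The derived projection morphism: invariance, cones, K-flatness of coproducts (helper25)

* `acyclic_of_degColim`, `isKFlat_of_degColim`: a degreewise coproduct of acyclic (K-flat) complexes is such (AB4).
* `isIso_m_iff_of_Q_iso`: for K-flat `P`, `P'` isomorphic in the derived category, `PFDer1.m f I P` is invertible iff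
  `m f I P'` is.
* `isIso_m_shift_of_cone`: for a chain map `a : P₁ ⟶ P₂`, if `m f I P₂` and `m f I (cone a)` are invertible, so is
  `m f I (P₁⟦1⟧)`.
-/

set_option autoImplicit false
universe u
open CategoryTheory CategoryTheory.Limits AlgebraicGeometry HomologicalComplex

attribute [local instance] HasDerivedCategory.standard

namespace Groth.Agent.Lib.Helper25.PFTri1

open Groth.Agent.Lib.Helper25.PullTensorCx Groth.Agent.Lib.Helper25.PFCx1
  Groth.Agent.Lib.Helper25.PFDer1 Groth.Agent.Lib.Helper25.PFSes1 Groth.Agent.Lib.Helper25.PFCop1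
  Groth.Agent.Lib.Helper25.PFSes2

section Acyclic

variable {A : Type*} [Category A] [Abelian A] {J : Type*} [HasColimitsOfShape (Discrete J) A]
  [HasExactColimitsOfShape (Discrete J) A]

lemma acyclic_of_degColim {K : J → CochainComplex A ℤ} {L : CochainComplex A ℤ} (ia : ∀ j, K j ⟶ L)
    (h : DegColim ia) (hK : ∀ j, (K j).Acyclic) : L.Acyclic :=
  Groth.Agent.Lib.helper13.KFlat.acyclic_of_isColimit (Discrete.functor K) (Cofan.mk L ia)
    (fun n => (isColimitMapCoconeCofanMkEquiv (HomologicalComplex.eval A (ComplexShape.up ℤ) n) K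
      ia).symm (h n).some) (fun ⟨j⟩ => hK j)

end Acyclic

variable {X Y : Scheme.{u}}

/-- a degreewise coproduct of K-flat complexes is K-flat -/
theorem isKFlat_of_degColim {J : Type u} {P : J → CochainComplex Y.Modules ℤ}
    {L : CochainComplex Y.Modules ℤ} (ia : ∀ j, P j ⟶ L) (hia : DegColim ia)
    (hP : ∀ j, DCoh.IsKFlat (P j)) : DCoh.IsKFlat L := by
  haveI := Groth.Agent.Lib.Helper25.QCCPerfect.exactCoprod Y J
  intro A hA i
  have h1 := degColim_Ψ₂ (DCoh.tensorBi (X := Y)) A ia hia
  have h2 := acyclic_of_degColim _ h1 (fun j n =>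
    (exactAt_iff_isZero_homology _ _).2 (hP j A hA n))
  exact (exactAt_iff_isZero_homology _ _).1 (h2 i)

variable (f : X ⟶ Y) [DCoh.HasRpush f] (I : CochainComplex X.Modules ℤ)

/-- invariance of the invertibility of the derived projection morphism under isomorphisms in the derived
category between K-flat complexes -/
theorem isIso_m_iff_of_Q_iso {P P' : CochainComplex Y.Modules ℤ} (hP : DCoh.IsKFlat P)
    (hP' : DCoh.IsKFlat P') (e : DerivedCategory.Q.obj P ≅ DerivedCategory.Q.obj P') :
    IsIso (m f I P) ↔ IsIso (m f I P') := by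
  obtain ⟨Z, s, hs, g, hg⟩ := DerivedCategory.right_fac e.hom
  have hs' : QuasiIso s := (DerivedCategory.isIso_Q_map_iff_quasiIso (φ := s)).1 hs
  have hg' : IsIso (DerivedCategory.Q.map g) := by
    have h1 : DerivedCategory.Q.map g = DerivedCategory.Q.map s ≫ e.hom := by
      rw [hg, IsIso.hom_inv_id_assoc]
    rw [h1]
    infer_instance
  have hg'' : QuasiIso g := (DerivedCategory.isIso_Q_map_iff_quasiIso (φ := g)).1 hg'
  obtain ⟨Z', r, hZ', hr⟩ := Groth.Agent.Lib.Helper25.LTensorDCoh.hres₀ Z
  have h1 : QuasiIso (r ≫ s) := inferInstance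
  have h2 : QuasiIso (r ≫ g) := inferInstance
  exact (isIso_m_iff_of_quasiIso f I (r ≫ s) h1 hZ' hP).symm.trans
    (isIso_m_iff_of_quasiIso f I (r ≫ g) h2 hZ' hP')

/-- the cone step -/
theorem isIso_m_shift_of_cone [I.IsKInjective] {P₁ P₂ : CochainComplex Y.Modules ℤ} (a : P₁ ⟶ P₂)
    (h₂ : IsIso (m f I P₂)) (hc : IsIso (m f I (CochainComplex.mappingCone a))) :
    IsIso (m f I (P₁⟦(1 : ℤ)⟧)) :=
  isIso_m_X₃ f I (CochainComplex.mappingCone.triangleRotateShortComplex a)
    (CochainComplex.mappingCone.triangleRotateShortComplexSplitting a) h₂ hc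

end Groth.Agent.Lib.Helper25.PFTri1
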