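import Groth.Agent.Lib.Helper25.PFTri1
import Groth.Agent.Lib.Helper25.DQCohTri
import Groth.Agent.Lib.Helper25.ApproxExtend
import Groth.Agent.Lib.Helper25.StalkPullFlat
import Groth.Agent.Lib.Helper13.LpullQCoh
import Groth.Agent.Lib.Helper13.LTensorQCoh

/-!
# The objects of `D(O_Y)` for which the derived projection morphism is invertible (helper25)

`f : X ⟶ Y`, `I` a complex of `O_X`-modules.

* `𝒢 f I K`: for every K-flat complex `P` representing `K`, `PFDer1.m f I P` is invertible; `G_of_iso`, `G_of_exists`,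
  `G_of_isPerfect`.
* `G_shift_obj₁`: for a distinguished triangle `(U, V, W)`, `𝒢 V → 𝒢 W → 𝒢 (U⟦1⟧)` (`I` K-injective).
* `G_of_isColimit`: `𝒢` is closed under coproducts of objects of `D_QCoh` (`f` quasi-compact quasi-separated, `I`
  with quasi-coherent cohomology).
-/

set_option autoImplicit false
universe u
open CategoryTheory CategoryTheory.Limits AlgebraicGeometry HomologicalComplex Pretriangulated

attribute [local instance] HasDerivedCategory.standard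

namespace Groth.Agent.Lib.Helper25.PFTri2

open Groth.Agent.Lib.Helper25.PullTensorCx Groth.Agent.Lib.Helper25.PFCx1
  Groth.Agent.Lib.Helper25.PFDer1 Groth.Agent.Lib.Helper25.PFCop1 Groth.Agent.Lib.Helper25.PFTri1
  Groth.Agent.Lib.Helper25.KFlatTri Groth.Agent.Lib.helper23.DCoprod

variable {X Y : Scheme.{u}} (f : X ⟶ Y) [DCoh.HasRpush f] (I : CochainComplex X.Modules ℤ)

/-- for every K-flat complex representing `K` the derived projection morphism is invertible -/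
def 𝒢 (K : DCoh.D Y) : Prop :=
  ∀ P : CochainComplex Y.Modules ℤ, DCoh.IsKFlat P → Nonempty (DerivedCategory.Q.obj P ≅ K) →
    IsIso (m f I P)

variable {f I}

lemma G_of_iso {K K' : DCoh.D Y} (e : K ≅ K') (h : 𝒢 f I K) : 𝒢 f I K' :=
  fun P hP ⟨e'⟩ => h P hP ⟨e' ≪≫ e.symm⟩

lemma G_of_exists {K : DCoh.D Y} (P : CochainComplex Y.Modules ℤ) (hP : DCoh.IsKFlat P)
    (e : DerivedCategory.Q.obj P ≅ K) (h : IsIso (m f I P)) : 𝒢 f I K :=
  fun P' hP' ⟨e'⟩ => (isIso_m_iff_of_Q_iso f I hP hP' (e ≪≫ e'.symm)).1 h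

lemma G_of_isPerfect [I.IsKInjective] {K : DCoh.D Y} (hK : DCoh.IsPerfect K) : 𝒢 f I K :=
  fun P hP ⟨e⟩ => Groth.Agent.Lib.Helper25.PFDer3.isIso_m_of_isPerfect f I P hP
    (Groth.Agent.Lib.helper25.DCohPerfect.isPerfect_of_iso e.symm hK)

/-- the triangle step -/
theorem G_shift_obj₁ [I.IsKInjective] (T : Triangle (DCoh.D Y)) (hT : T ∈ distTriang (DCoh.D Y))
    (h₂ : 𝒢 f I T.obj₂) (h₃ : 𝒢 f I T.obj₃) : 𝒢 f I (T.obj₁⟦(1 : ℤ)⟧) := by
  obtain ⟨PU, hPU, ⟨eU⟩⟩ := Groth.Agent.Lib.helper13.LpullQCoh.exists_P₀_rep T.obj₁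
  obtain ⟨PV, hPV, ⟨eV⟩⟩ := Groth.Agent.Lib.helper13.LpullQCoh.exists_P₀_rep T.obj₂
  obtain ⟨Z, s, hs, g, hg⟩ := DerivedCategory.right_fac (eU.hom ≫ T.mor₁ ≫ eV.inv)
  have hs' : QuasiIso s := (DerivedCategory.isIso_Q_map_iff_quasiIso (φ := s)).1 hs
  obtain ⟨Z', r, hZ', hr⟩ := Groth.Agent.Lib.Helper25.LTensorDCoh.hres₀ Z
  have hrs : QuasiIso (r ≫ s) := inferInstance
  haveI : IsIso (DerivedCategory.Q.map (r ≫ s)) := inferInstance
  let e₁ : DerivedCategory.Q.obj Z' ≅ T.obj₁ := asIso (DerivedCategory.Q.map (r ≫ s)) ≪≫ eU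
  have comm : DerivedCategory.Q.map (r ≫ g) ≫ eV.hom = e₁.hom ≫ T.mor₁ := by
    have h1 : DerivedCategory.Q.map g = DerivedCategory.Q.map s ≫ eU.hom ≫ T.mor₁ ≫ eV.inv := by
      rw [hg, IsIso.hom_inv_id_assoc]
    change _ = (DerivedCategory.Q.map (r ≫ s) ≫ eU.hom) ≫ T.mor₁
    rw [Functor.map_comp, Functor.map_comp, h1]
    simp
  have hdist := DerivedCategory.mappingCone_triangle_distinguished (r ≫ g)
  let iso := isoTriangleOfIso₁₂ _ _ hdist hT e₁ eV comm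
  let e₃ : DerivedCategory.Q.obj (CochainComplex.mappingCone (r ≫ g)) ≅ T.obj₃ :=
    Triangle.π₃.mapIso iso
  have hc : IsIso (m f I (CochainComplex.mappingCone (r ≫ g))) :=
    h₃ _ (dcoh_isKFlat_mappingCone (r ≫ g) hZ' hPV.1) ⟨e₃⟩
  have h2 : IsIso (m f I PV) := h₂ _ hPV.1 ⟨eV⟩
  have h1 := isIso_m_shift_of_cone f I (r ≫ g) h2 hc
  exact G_of_exists (Z'⟦(1 : ℤ)⟧) (dcoh_isKFlat_shift Z' 1 hZ')
    ((DerivedCategory.Q.commShiftIso (1 : ℤ)).app Z' ≪≫ (shiftFunctor _ (1 : ℤ)).mapIso e₁) h1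

open Groth.Agent.Lib.Helper25.LTensorComp in
/-- the coproduct step -/
theorem G_of_isColimit [QuasiCompact f] [QuasiSeparated f]
    (hI : DCoh.IsQCohD (DerivedCategory.Q.obj I))
    {J : Type u} (M : J → DCoh.D Y) (hM : ∀ j, DCoh.IsQCohD (M j)) (hG : ∀ j, 𝒢 f I (M j))
    (A : DCoh.D Y) (g : ∀ j, M j ⟶ A) (hc : IsColimit (Cofan.mk A g)) : 𝒢 f I A := by
  haveI := Groth.Agent.Lib.Helper25.QCCPerfect.exactCoprod Y J
  choose P hP eP using fun j => Groth.Agent.Lib.helper13.LpullQCoh.exists_P₀_rep (M j)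
  let e : ∀ j, DerivedCategory.Q.obj (P j) ≅ M j := fun j => (eP j).some
  have hia := degColim_sigι P
  have hL : DCoh.IsKFlat (sig P) := isKFlat_of_degColim (sigι P) hia (fun j => (hP j).1)
  have hQ := isColimit_Q_of_degColim (sigι P) hia
  let eL : DerivedCategory.Q.obj (sig P) ≅ A :=
    IsColimit.coconePointsIsoOfNatIso hQ hc (Discrete.natIso (fun ⟨j⟩ => e j))
  refine G_of_exists (sig P) hL eL ?_
  refine Groth.Agent.Lib.Helper25.PFCop2.isIso_m_of_degColim f I (sigι P) hia (fun j => ?_)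
    (fun j => hG j (P j) (hP j).1 ⟨e j⟩)
  haveI := Groth.Agent.Lib.Helper25.LpullAdapted.hasLpull f
  haveI := Groth.Agent.Lib.Helper25.LTensorRestrict.hasLTensorCx ((pullCx f).obj (P j))
  obtain ⟨b⟩ := Groth.Agent.Lib.Helper25.StalkPullFlat.nonempty_Lpull_iso f (P j) (hP j)
  have h1 : DCoh.IsQCohD (DCoh.toD X ((pullCx f).obj (P j))) :=
    Groth.Agent.Lib.Helper25.LiftCover.isQCohD_of_iso b
      (Groth.Agent.Lib.helper13.LpullQCoh.main f _
        (Groth.Agent.Lib.Helper25.LiftCover.isQCohD_of_iso (e j).symm (hM j)))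
  have h2 := Groth.Agent.Lib.helper13.LTensorQCoh.main ((pullCx f).obj (P j)) h1
    (DerivedCategory.Q.obj I) hI
  haveI := isIso_ε_of_isKFlat ((pullCx f).obj (P j))
    (Groth.Agent.Lib.Helper25.PullKFlat.isKFlat_pullback f (P j) (hP j).1)
  exact Groth.Agent.Lib.Helper25.LiftCover.isQCohD_of_iso
    (asIso ((ε ((pullCx f).obj (P j))).app I)) h2

end Groth.Agent.Lib.Helper25.PFTri2
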