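import Groth.Agent.Lib.Helper25.PFTri2
import Groth.Agent.Lib.Helper25.PFGen
import Groth.Agent.Lib.Helper25.DQCohSmall

/-!
# The projection formula on a quasi-compact quasi-separated base (helper25)

`f : X ⟶ Y` quasi-compact quasi-separated, `I` a K-injective complex of `O_X`-modules with quasi-coherent cohomology.

* `𝒯 f I`: the objects `K` of `D_QCoh(O_Y)` all of whose shifts satisfy `PFTri2.𝒢 f I`; a triangulated subcategory
  closed under isomorphisms and small coproducts which contains the perfect objects.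
* `isIso_m_of_isQCohD` (`Y` quasi-compact quasi-separated): `PFDer1.m f I P` is invertible for every K-flat `P` with
  quasi-coherent cohomology (`PFGen.le_of_generator`).
-/

set_option autoImplicit false
universe u
open CategoryTheory CategoryTheory.Limits AlgebraicGeometry HomologicalComplex Pretriangulated

attribute [local instance] HasDerivedCategory.standard

namespace Groth.Agent.Lib.Helper25.PFTri3

open Groth.Agent.Lib.Helper25.PFDer1 Groth.Agent.Lib.Helper25.PFTri2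
  Groth.Agent.Lib.Helper25.DQCohTri Groth.Agent.Lib.Helper25.DQCohSmall

variable {X Y : Scheme.{u}} (f : X ⟶ Y) [DCoh.HasRpush f] (I : CochainComplex X.Modules ℤ)

/-- the objects of `D_QCoh(O_Y)` all of whose shifts satisfy the projection formula against `I` -/
def 𝒯 : ObjectProperty (DCoh.D Y) := fun K => DCoh.IsQCohD K ∧ ∀ n : ℤ, 𝒢 f I (K⟦n⟧)

lemma T_le : 𝒯 f I ≤ DCoh.IsQCohD := fun _ h => h.1

instance : (𝒯 f I).IsClosedUnderIsomorphisms where
  of_iso e h := ⟨Groth.Agent.Lib.Helper25.LiftCover.isQCohD_of_iso e h.1,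
    fun n => G_of_iso ((shiftFunctor _ n).mapIso e) (h.2 n)⟩

lemma T_shift {K : DCoh.D Y} (h : 𝒯 f I K) (a : ℤ) : 𝒯 f I (K⟦a⟧) :=
  ⟨Groth.Agent.Lib.Helper25.HomVanMV.isQCohD_shift K h.1 a,
    fun n => G_of_iso ((shiftFunctorAdd' (DCoh.D Y) a n (a + n) rfl).app K) (h.2 (a + n))⟩

lemma T_of_isPerfect [I.IsKInjective] {K : DCoh.D Y} (hK : DCoh.IsPerfect K) : 𝒯 f I K :=
  ⟨Groth.Agent.Lib.Helper25.ApproxAffine.isQCohD_of_isPerfect hK,
    fun n => G_of_isPerfect (Groth.Agent.Lib.helper25.DCohPerfect.isPerfect_shift hK n)⟩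

lemma T_obj₁ [I.IsKInjective] (T : Triangle (DCoh.D Y)) (hT : T ∈ distTriang (DCoh.D Y))
    (h₂ : 𝒯 f I T.obj₂) (h₃ : 𝒯 f I T.obj₃) : 𝒯 f I T.obj₁ := by
  refine ⟨(DCoh.IsQCohD (X := Y)).ext_of_isTriangulatedClosed₁ T hT h₂.1 h₃.1, fun n => ?_⟩
  have hT' := Triangle.shift_distinguished T hT (n - 1)
  have h := G_shift_obj₁ (f := f) (I := I) _ hT' (h₂.2 (n - 1)) (h₃.2 (n - 1))
  exact G_of_iso ((shiftFunctorAdd' (DCoh.D Y) (n - 1) 1 n (by omega)).app T.obj₁).symm h

open ZeroObject in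
instance [I.IsKInjective] : (𝒯 f I).IsTriangulated where
  exists_zero := ⟨0, isZero_zero _, T_of_isPerfect f I
    (Groth.Agent.Lib.Helper25.ApproxExtend.isPerfect_of_isZero (isZero_zero _))⟩
  isStableUnderShiftBy n := ⟨fun K hK => T_shift f I hK n⟩
  toIsTriangulatedClosed₂ := ObjectProperty.IsTriangulatedClosed₂.mk' (fun T hT h₁ h₃ =>
    T_obj₁ f I T.rotate (rot_of_distTriang _ hT) h₃ (T_shift f I h₁ 1))

lemma T_closedUnderCoprod [QuasiCompact f] [QuasiSeparated f]
    (hI : DCoh.IsQCohD (DerivedCategory.Q.obj I)) (J : Type u) :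
    (𝒯 f I).IsClosedUnderColimitsOfShape (Discrete J) where
  colimitsOfShape_le := by
    rintro K ⟨h⟩
    let M : J → DCoh.D Y := fun j => h.diag.obj ⟨j⟩
    let g : ∀ j, M j ⟶ K := fun j => h.ι.app ⟨j⟩
    have hc : IsColimit (Cofan.mk K g) :=
      Cofan.IsColimit.mk _
        (fun s => h.isColimit.desc (Cocone.mk s.pt (Discrete.natTrans fun ⟨j⟩ => s.inj j)))
        (fun s j => h.isColimit.fac (Cocone.mk s.pt (Discrete.natTrans fun ⟨j⟩ => s.inj j)) ⟨j⟩)
        (fun s m hm => h.isColimit.uniq (Cocone.mk s.pt (Discrete.natTrans fun ⟨j⟩ => s.inj j)) m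
          (fun ⟨j⟩ => hm j))
    have hM : ∀ j, 𝒯 f I (M j) := fun j => h.prop_diag_obj ⟨j⟩
    refine ⟨Groth.Agent.Lib.Helper25.QCCPerfect.isQCohD_of_isColimit M (fun j => (hM j).1) K g hc,
      fun n => ?_⟩
    exact G_of_isColimit hI (fun j => (M j)⟦n⟧)
      (fun j => Groth.Agent.Lib.Helper25.HomVanMV.isQCohD_shift _ (hM j).1 n)
      (fun j => (hM j).2 n) (K⟦n⟧) (fun j => (g j)⟦n⟧')
      (isColimitCofanMkObjOfIsColimit (shiftFunctor (DCoh.D Y) n) M g hc)

/-- **the derived projection morphism is invertible for K-flat complexes with quasi-coherent cohomology on a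
quasi-compact quasi-separated base** -/
theorem isIso_m_of_isQCohD [CompactSpace Y] [QuasiSeparatedSpace Y] [QuasiCompact f]
    [QuasiSeparated f] [I.IsKInjective] (hI : DCoh.IsQCohD (DerivedCategory.Q.obj I))
    (P : CochainComplex Y.Modules ℤ) (hP : DCoh.IsKFlat P)
    (hPq : DCoh.IsQCohD (DerivedCategory.Q.obj P)) : IsIso (m f I P) := by
  haveI := fun J : Type u => T_closedUnderCoprod f I hI J
  haveI : IsEmpty ((⊥ : Y.Opens) : Scheme.{u}) := ⟨fun x => x.2⟩
  obtain ⟨G, hG, -, hgen⟩ := Groth.Agent.Lib.Helper25.PerfGen.gen_qcqs Y ⊥ (by simp)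
  have hle := Groth.Agent.Lib.Helper25.PFGen.le_of_generator (Ψ Y.Modules) (𝒯 f I) DCoh.IsQCohD
    (T_le f I) G (T_of_isPerfect f I hG)
    (fun K hK h => (hgen K hK (Groth.Agent.Lib.Helper25.HomVanQcqs.isZero_of_isEmpty _)).2 h)
    (Groth.Agent.Lib.Helper25.QCCPerfect.qff_of_isPerfect Y G hG)
  have h := (hle _ hPq).2 0
  exact h P hP ⟨((shiftFunctorZero (DCoh.D Y) ℤ).app _).symm⟩

end Groth.Agent.Lib.Helper25.PFTri3
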