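import Groth.Agent.Lib.Helper25.TotSingle
import Groth.Agent.Lib.Helper25.LTensorComp
import Groth.Agent.Lib.Helper25.LpullRpushAdj
import Groth.Agent.Lib.Helper25.LpullPerfect
import Groth.Agent.Lib.Helper25.PerfGen
import Groth.Agent.Lib.Helper25.DCohSingle
import Groth.Agent.Lib.Helper25.DQCohTri
import Groth.Agent.Lib.Helper25.PerfectTor
import Groth.Agent.Lib.Helper21.TensorMon
import Groth.Agent.Lib.Helper11.InvMod
import Groth.Agent.Lib.Helper16.FLF5

/-!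
# Isomorphisms in `D⁺_QCoh` are detected by `Rf_* RHom(F, -)`, `F` pseudo-coherent (helper25; = S11113)

* `O₀ X`: the structure sheaf in degree `0`; `isKFlat_O₀`, `P₀_O₀`.
* `unitCxIso F : O_X[0] ⊗ F ≅ F` (chain level, via `TotSingle.totIso`), `unitD F : O_X[0] ⊗^L F ≅ F` in `D(O_X)`.
* `pullO f : Lf^* O_Y[0] ≅ O_X[0]`.
* `bijective_comp_of_isIso_map` (abstract): for `L ⊣ R` and `φ` with `R φ` invertible, `Hom(L N, φ)` is bijective.
* `isZero_of_bijective` (abstract): in a pretriangulated category, vanishing of maps into the cone.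
* `main`.
-/

set_option autoImplicit false
universe u
open CategoryTheory CategoryTheory.Limits AlgebraicGeometry

attribute [local instance] HasDerivedCategory.standard

namespace Groth.Agent.Lib.Helper25.RHomDetect

section abstract

variable {C D : Type*} [Category C] [Category D]

/-- for `L ⊣ R` and `φ` with `R φ` invertible, post-composition with `φ` is bijective on `Hom(L N, -)` -/
lemma bijective_comp_of_isIso_map {L : D ⥤ C} {R : C ⥤ D} (adj : L ⊣ R) {A₁ A₂ : C} (φ : A₁ ⟶ A₂)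
    [IsIso (R.map φ)] (N : D) : Function.Bijective (fun k : L.obj N ⟶ A₁ => k ≫ φ) := by
  have h : (fun k : L.obj N ⟶ A₁ => k ≫ φ) =
      (adj.homEquiv N A₂).symm ∘ (fun k : N ⟶ R.obj A₁ => k ≫ R.map φ) ∘ (adj.homEquiv N A₁) := by
    funext k
    simp only [Function.comp_apply]
    rw [← adj.homEquiv_naturality_right, Equiv.symm_apply_apply]
  rw [h]
  refine (Equiv.bijective _).comp (Function.Bijective.comp ?_ (Equiv.bijective _))
  constructor
  · intro a b hab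
    exact (cancel_mono (R.map φ)).1 hab
  · intro b
    exact ⟨b ≫ inv (R.map φ), by simp⟩

/-- transport along an isomorphism of the source -/
lemma bijective_comp_of_iso {P P' A₁ A₂ : C} (e : P ≅ P') (φ : A₁ ⟶ A₂)
    (h : Function.Bijective (fun k : P ⟶ A₁ => k ≫ φ)) :
    Function.Bijective (fun k : P' ⟶ A₁ => k ≫ φ) := by
  constructor
  · intro a b hab
    have : e.hom ≫ a = e.hom ≫ b := h.1 (by simpa using congrArg (fun t => e.hom ≫ t) hab)
    exact (cancel_epi e.hom).1 this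
  · intro b
    obtain ⟨a, ha⟩ := h.2 (e.hom ≫ b)
    refine ⟨e.inv ≫ a, ?_⟩
    have : a ≫ φ = e.hom ≫ b := ha
    simp [this]

end abstract

section tri

open Pretriangulated

variable {C : Type*} [Category C] [Preadditive C] [HasZeroObject C] [HasShift C ℤ]
  [∀ n : ℤ, (shiftFunctor C n).Additive] [Pretriangulated C]

/-- maps into the cone vanish when `Hom(P, -)` and `Hom(P⟦-1⟧, -)` are bijective on the first map -/
lemma hom_cone_eq_zero (T : Triangle C) (hT : T ∈ distTriang C) (P : C)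
    (hsurj : Function.Surjective (fun k : P ⟶ T.obj₁ => k ≫ T.mor₁))
    (hinj : Function.Injective (fun k : P⟦(-1 : ℤ)⟧ ⟶ T.obj₁ => k ≫ T.mor₁))
    (ψ : P ⟶ T.obj₃) : ψ = 0 := by
  have h0 : (ψ ≫ T.mor₃) ≫ T.mor₁⟦(1 : ℤ)⟧' = 0 := by
    rw [Category.assoc, comp_distTriang_mor_zero₃₁ _ hT, comp_zero]
  -- transfer to `P⟦-1⟧`
  have h1 : ψ ≫ T.mor₃ = 0 := by
    let k : P⟦(-1 : ℤ)⟧ ⟶ T.obj₁ :=
      (ψ ≫ T.mor₃)⟦(-1 : ℤ)⟧' ≫ (shiftFunctorCompIsoId C (1 : ℤ) (-1) (by omega)).hom.app T.obj₁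
    have hk : k ≫ T.mor₁ = 0 := by
      have hnat := (shiftFunctorCompIsoId C (1 : ℤ) (-1) (by omega)).hom.naturality T.mor₁
      dsimp only [Functor.comp_map, Functor.id_map] at hnat
      change ((ψ ≫ T.mor₃)⟦(-1 : ℤ)⟧' ≫ _) ≫ T.mor₁ = 0
      rw [Category.assoc, ← hnat, ← Category.assoc, ← Functor.map_comp, h0, Functor.map_zero,
        zero_comp]
    have hk0 : k = 0 := hinj (by simpa using hk)
    have h2 : (ψ ≫ T.mor₃)⟦(-1 : ℤ)⟧' = 0 := by
      have : (ψ ≫ T.mor₃)⟦(-1 : ℤ)⟧' =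
          k ≫ (shiftFunctorCompIsoId C (1 : ℤ) (-1) (by omega)).inv.app T.obj₁ := by
        simp [k]
      rw [this, hk0, zero_comp]
    exact (shiftFunctor C (-1 : ℤ)).map_injective (by rw [h2, Functor.map_zero])
  obtain ⟨ψ', hψ'⟩ := Triangle.coyoneda_exact₃ T hT ψ h1
  obtain ⟨k, hk⟩ := hsurj ψ'
  have hk' : k ≫ T.mor₁ = ψ' := hk
  rw [hψ', ← hk', Category.assoc, comp_distTriang_mor_zero₁₂ _ hT, comp_zero]

end tri

variable {X Y : Scheme.{u}}

/-- the structure sheaf placed in degree `0` -/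
noncomputable abbrev O₀ (X : Scheme.{u}) : CochainComplex X.Modules ℤ :=
  (HomologicalComplex.single X.Modules (ComplexShape.up ℤ) 0).obj (Coh.structureModule X)

lemma P₀_O₀ (X : Scheme.{u}) : Groth.Agent.Lib.Helper25.LpullAdapted.P₀ X (O₀ X) :=
  Groth.Agent.Lib.Helper25.LpullPerfect.P₀_of_isStrictlyPerfect _
    (Groth.Agent.Lib.helper25.DCohSingle.isStrictlyPerfect_single
      (Groth.Agent.Lib.helper16.FLF.isFinLocFree_structureModule X))

lemma isKFlat_O₀ (X : Scheme.{u}) : DCoh.IsKFlat (O₀ X) := (P₀_O₀ X).1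

lemma isZero_O₀_X (p : ℤ) (hp : p ≠ 0) : IsZero ((O₀ X).X p) :=
  HomologicalComplex.isZero_single_obj_X _ _ _ _ hp

/-- `O_X ⊗ - ≅ id` on modules, in the `DCoh.tensorBi` spelling -/
noncomputable def unitModIso (X : Scheme.{u}) :
    (DCoh.tensorBi (X := X)).obj ((O₀ X).X 0) ≅ 𝟭 X.Modules :=
  (DCoh.tensorBi (X := X)).mapIso
      (HomologicalComplex.singleObjXSelf (ComplexShape.up ℤ) 0 (Coh.structureModule X)) ≪≫
    Groth.Agent.Lib.Helper21.TensorMon.unitIso X.sheaf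

/-- `O_X[0] ⊗ F ≅ F` -/
noncomputable def unitCxIso (F : CochainComplex X.Modules ℤ) :
    (DCoh.tensorCx.obj (O₀ X)).obj F ≅ F :=
  (Groth.Agent.Lib.Helper25.TotSingle.totIso (DCoh.tensorBi (X := X)) (O₀ X)
      (fun p hp => isZero_O₀_X p hp) F).symm ≪≫
    (NatIso.mapHomologicalComplex (unitModIso X) (ComplexShape.up ℤ)).app F ≪≫
    (Functor.mapHomologicalComplexIdIso X.Modules (ComplexShape.up ℤ)).app F

/-- `O_X` in degree `0`, the two spellings -/
noncomputable def inDIso (X : Scheme.{u}) :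
    DCoh.inD X (Coh.structureModule X) ≅ DCoh.toD X (O₀ X) :=
  (DerivedCategory.singleFunctorIsoCompQ X.Modules 0).app (Coh.structureModule X)

open Groth.Agent.Lib.Helper25.LTensorComp in
/-- `O_X[0] ⊗^L F ≅ F` in `D(O_X)` -/
noncomputable def unitD (F : CochainComplex X.Modules ℤ) [DCoh.HasLTensorCx F] :
    (DCoh.LTensorCx F).obj (DCoh.inD X (Coh.structureModule X)) ≅ DCoh.toD X F :=
  (DCoh.LTensorCx F).mapIso (inDIso X) ≪≫
    @asIso _ _ _ _ ((ε F).app (O₀ X)) (isIso_ε_app F (O₀ X) (isKFlat_O₀ X)) ≪≫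
    DerivedCategory.Q.mapIso (unitCxIso F)

/-- `Lf^* O_Y[0] ≅ O_X[0]` -/
theorem nonempty_pullO (f : X ⟶ Y) [DCoh.HasLpull f] :
    Nonempty ((DCoh.Lpull f).obj (DCoh.inD Y (Coh.structureModule Y)) ≅
      DCoh.inD X (Coh.structureModule X)) := by
  obtain ⟨e⟩ := Groth.Agent.Lib.Helper25.StalkPullFlat.nonempty_Lpull_iso f (O₀ Y) (P₀_O₀ Y)
  refine ⟨(DCoh.Lpull f).mapIso (inDIso Y) ≪≫ e ≪≫ DerivedCategory.Q.mapIso ?_ ≪≫ (inDIso X).symm⟩
  exact (HomologicalComplex.singleMapHomologicalComplex (Scheme.Modules.pullback f)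
      (ComplexShape.up ℤ) 0).app (Coh.structureModule Y) ≪≫
    (HomologicalComplex.single X.Modules (ComplexShape.up ℤ) 0).mapIso
      (Groth.Agent.Lib.helper11.InvMod.pullbackUnitIso f)

/-- **Key bijection.** For `F` a complex on `X` with `Rf_* RHom(F, φ)` invertible, `Hom(F, φ)` is bijective. -/
theorem bijective_comp (f : X ⟶ Y) [DCoh.HasRpush f] (F : CochainComplex X.Modules ℤ)
    [DCoh.HasLTensorCx F] [DCoh.HasRSheafHom F] {A₁ A₂ : DCoh.D X} (φ : A₁ ⟶ A₂)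
    (h : IsIso ((DCoh.Rpush f).map ((DCoh.RSheafHom F).map φ))) :
    Function.Bijective (fun k : DCoh.toD X F ⟶ A₁ => k ≫ φ) := by
  haveI : DCoh.HasLpull f := Groth.Agent.Lib.Helper25.LpullAdapted.hasLpull f
  let adjC : DCoh.Lpull f ⋙ DCoh.LTensorCx F ⊣ DCoh.RSheafHom F ⋙ DCoh.Rpush f :=
    (Groth.Agent.Lib.Helper25.LpullRpushAdj.adj f).comp (DCoh.RSheafHomAdj F)
  haveI : IsIso ((DCoh.RSheafHom F ⋙ DCoh.Rpush f).map φ) := h
  have hb := bijective_comp_of_isIso_map adjC φ (DCoh.inD Y (Coh.structureModule Y))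
  obtain ⟨e⟩ := nonempty_pullO f
  exact bijective_comp_of_iso ((DCoh.LTensorCx F).mapIso e ≪≫ unitD F) φ hb

open Pretriangulated in
/-- **S11113.** -/
theorem main [CompactSpace X] [QuasiSeparatedSpace X]
    (f : X ⟶ Y) [DCoh.HasRpush f]
    [hT : ∀ F : CochainComplex X.Modules ℤ, DCoh.HasLTensorCx F]
    [hR : ∀ F : CochainComplex X.Modules ℤ, DCoh.HasRSheafHom F]
    {A₁ A₂ : DCoh.D X} (h₁ : DCoh.IsQCohD A₁) (h₂ : DCoh.IsQCohD A₂)
    (φ : A₁ ⟶ A₂)
    (h : ∀ F : CochainComplex X.Modules ℤ, (∀ m : ℤ, DCoh.IsPseudoCoherentD m (DCoh.toD X F)) →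
      IsIso ((DCoh.Rpush f).map ((DCoh.RSheafHom F).map φ))) :
    IsIso φ := by
  -- bijectivity on all perfect objects
  have hbij : ∀ P : DCoh.D X, DCoh.IsPerfect P →
      Function.Bijective (fun k : P ⟶ A₁ => k ≫ φ) := by
    intro P hP
    obtain ⟨F, ⟨e⟩⟩ := Groth.Agent.Lib.helper25.DCohRestrict.exists_rep P
    have hF : ∀ m : ℤ, DCoh.IsPseudoCoherentD m (DCoh.toD X F) := fun m =>
      Groth.Agent.Lib.helper25.PerfectTor.isPseudoCoherentD_of_isPerfect
        (Groth.Agent.Lib.helper25.DCohPerfect.isPerfect_of_iso e.symm hP) m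
    exact bijective_comp_of_iso e φ (bijective_comp f F φ (h F hF))
  obtain ⟨C, g, δ, hT'⟩ := distinguished_cocone_triangle φ
  have hC : DCoh.IsQCohD C :=
    (DCoh.IsQCohD (X := X)).ext_of_isTriangulatedClosed₃ _ hT' h₁ h₂
  haveI : IsEmpty ((⊥ : X.Opens) : Scheme.{u}) := ⟨fun x => x.2⟩
  obtain ⟨G, hG, -, hgen⟩ := Groth.Agent.Lib.Helper25.PerfGen.gen_qcqs X ⊥ (by simp)
  have hCz : IsZero C := by
    rw [hgen C hC (Groth.Agent.Lib.Helper25.HomVanQcqs.isZero_of_isEmpty _)]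
    intro n ψ
    have hGn : DCoh.IsPerfect (G⟦n⟧) := Groth.Agent.Lib.helper25.DCohPerfect.isPerfect_shift hG n
    have hGn' : DCoh.IsPerfect ((G⟦n⟧)⟦(-1 : ℤ)⟧) :=
      Groth.Agent.Lib.helper25.DCohPerfect.isPerfect_shift hGn (-1)
    exact hom_cone_eq_zero (Triangle.mk φ g δ) hT' (G⟦n⟧) (hbij _ hGn).2 (hbij _ hGn').1 ψ
  exact (Triangle.isZero₃_iff_isIso₁ _ hT').1 hCz

end Groth.Agent.Lib.Helper25.RHomDetect
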