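import Groth.Agent.Lib.Helper25.PerfDual9
import Groth.Agent.Lib.Helper25.DualCx7
import Groth.Agent.Lib.Helper25.RHomDetect

/-!
# The dual of a perfect complex (helper25; = S0965)

`K` K-flat with `Q K` perfect, `H` a right adjoint of `- ⊗^L K`:
* `rightUnitCxIso A : A ⊗ O_X[0] ≅ A` (chain level);
* `isPerfect_dual`: `H(O_X)` is perfect;
* `nonempty_LTensorCx_iso_RHom`: `M ⊗^L D ≅ H M` for every K-flat `D` with `Q D ≅ H(O_X)`.
-/

set_option autoImplicit false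
universe u
open CategoryTheory CategoryTheory.Limits AlgebraicGeometry HomologicalComplex

attribute [local instance] HasDerivedCategory.standard
attribute [local instance] Groth.Agent.Lib.Helper25.LTensorRestrict.hasLTensorCx

namespace Groth.Agent.Lib.Helper25.PerfDual10

open Groth.Agent.Lib.Helper25.LTensorComp Scheme.Modules
  Groth.Agent.Lib.Helper25.PerfDual1 Groth.Agent.Lib.Helper25.PerfDual5
  Groth.Agent.Lib.Helper25.PerfDual6 Groth.Agent.Lib.Helper25.PerfDual9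
  Groth.Agent.Lib.Helper25.RHomDetect Groth.Agent.Lib.Helper25.DualCx6 DerivedCategory

variable {X : Scheme.{u}}

/-- `A ⊗ O_X[0] ≅ A` -/
noncomputable def rightUnitCxIso (A : CochainComplex X.Modules ℤ) : (tL A).obj (O₀ X) ≅ A :=
  (mapBifunctorFlipIso A (O₀ X) (DCoh.tensorBi (X := X)) (ComplexShape.up ℤ)).symm ≪≫
    (Groth.Agent.Lib.Helper25.TotSingle.totIso (DCoh.tensorBi (X := X)).flip (O₀ X)
      (fun p hp => isZero_O₀_X p hp) A).symm ≪≫
    (NatIso.mapHomologicalComplex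
      ((DCoh.tensorBi (X := X)).flip.mapIso
        (HomologicalComplex.singleObjXSelf (ComplexShape.up ℤ) 0 (Coh.structureModule X)) ≪≫
        Groth.Agent.Lib.Helper25.DualCx5.ρ) (ComplexShape.up ℤ)).app A ≪≫
    (Functor.mapHomologicalComplexIdIso X.Modules (ComplexShape.up ℤ)).app A

variable (K : CochainComplex X.Modules ℤ) (hK : DCoh.IsKFlat K)
  {H : DCoh.D X ⥤ DCoh.D X} (adj : DCoh.LTensorCx K ⊣ H)

include hK adj in
/-- **the dual `RHom(K, O_X)` of a perfect complex is perfect** -/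
theorem isPerfect_dual (hKp : DCoh.IsPerfect (Q.obj K)) :
    DCoh.IsPerfect (H.obj (DCoh.inD X (Coh.structureModule X))) := by
  intro x
  obtain ⟨U, hxU, -, hU⟩ := exists_spd_of_isPerfect hKp x
  obtain ⟨K', hK', H', adj', ⟨e⟩, hL⟩ :=
    Groth.Agent.Lib.Helper25.RHomQCoh.exists_restrict U.ι K hK adj
  obtain ⟨D, hD, ⟨t⟩⟩ := exists_dual K' adj' (spd_of_iso e.symm hU)
  obtain ⟨i₁⟩ := hL (DCoh.inD X (Coh.structureModule X))
  let i₂ : (DCoh.restrictD U.ι).obj (DCoh.inD X (Coh.structureModule X)) ≅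
      DCoh.inD (U : Scheme.{u}) (Coh.structureModule (U : Scheme.{u})) :=
    Groth.Agent.Lib.helper25.DCohPC5.restrictD_single_iso (Coh.structureModule X) U ≪≫
      (DerivedCategory.singleFunctor (U : Scheme.{u}).Modules 0).mapIso
        (Scheme.Modules.restrictUnitIso U.ι)
  have hx : x ∈ U.ι.opensRange := by
    rw [Scheme.Opens.opensRange_ι]
    exact hxU
  exact Groth.Agent.Lib.helper25.DCohPerfect.isPerfect_at_of_restrictD_iso _ x U.ι hx D
    (isStrictlyPerfect_of_isFreeCx hD) ⟨i₁ ≪≫ H'.mapIso i₂ ≪≫ t.app _ ≪≫ unitD D⟩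

include hK adj in
/-- **`M ⊗^L D ≅ RHom(K, M)` for `K` perfect and `D` a K-flat complex representing `RHom(K, O_X)`** -/
theorem nonempty_LTensorCx_iso_RHom (hKp : DCoh.IsPerfect (Q.obj K))
    (D : CochainComplex X.Modules ℤ) (hD : DCoh.IsKFlat D)
    (e : Q.obj D ≅ H.obj (DCoh.inD X (Coh.structureModule X))) (M : DCoh.D X) :
    Nonempty ((DCoh.LTensorCx D).obj M ≅ H.obj M) := by
  -- a K-flat representative of `M`
  obtain ⟨A, q, hA, hq⟩ := Groth.Agent.Lib.Helper25.LTensorDCoh.hres₀ (Q.objPreimage M)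
  haveI := hq
  let a : Q.obj A ≅ M := asIso (Q.map q) ≪≫ Q.objObjPreimageIso M
  -- `M ⊗^L D ≅ A ⊗ D ≅ A ⊗ RHom(K, O)`
  let e₁ : (DCoh.LTensorCx D).obj (Q.obj A) ≅ Q.obj ((tR D).obj A) := (dT D hD).iso.app A
  let e₂ : (SL A hA).obj (Q.obj D) ≅ Q.obj ((tL A).obj D) := (dSL A hA).iso.app D
  -- the mate
  haveI := isIso_mateApp A hA K hK adj hKp (DCoh.inD X (Coh.structureModule X))
  let c := asIso (mateApp adj (γ A hA K hK) (DCoh.inD X (Coh.structureModule X)))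
  -- `A ⊗ O ≅ A`
  let e₃ : (SL A hA).obj (DCoh.inD X (Coh.structureModule X)) ≅ Q.obj A :=
    (SL A hA).mapIso (inDIso X) ≪≫ (dSL A hA).iso.app (O₀ X) ≪≫ Q.mapIso (rightUnitCxIso A)
  exact ⟨(DCoh.LTensorCx D).mapIso a.symm ≪≫ e₁ ≪≫ e₂.symm ≪≫ (SL A hA).mapIso e ≪≫ c ≪≫
    H.mapIso (e₃ ≪≫ a)⟩

end Groth.Agent.Lib.Helper25.PerfDual10
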