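import Mathlib
import Groth.Agent.Lib.Helper25.FinCdVan
import Groth.Agent.Lib.Helper25.CompactVan
import Groth.Agent.Lib.Helper25.K0Regular
import Groth.Agent.Lib.Helper25.PerfDual10
import Groth.Agent.Lib.Helper25.RHomExists
import Groth.Agent.Lib.Helper25.TensorCxAmp
import Groth.Agent.Lib.Helper25.BddFF
import Groth.Agent.Lib.Helper25.CompactRel
import Groth.Agent.Lib.Helper20.ExtDual

/-!
# Perfect objects are compact in `D(O_X)` when `X` has finite cohomological dimension (helper25; = S0893)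

`X` a scheme such that `H^i(X, F) = 0` for all `i > d` and all `O_X`-modules `F`.
* `hom_unit_eq_zero`: `Hom(O_X[0], L) = 0` for `L ∈ D^{≤ b}`, `b + d < 0`.
* `exists_bound_hom_eq_zero`: for `K` perfect on a quasi-compact quasi-separated `X` there is `N` with `Hom(K, L) = 0` for
  all `L ∈ D^{≤ N}` (through `Hom(K, L) = Hom(O_X, L ⊗^L K^∨)`).
* `ff_of_isPerfect`: every map from a perfect object to a coproduct is supported on finitely many summands.
-/

set_option autoImplicit false
universe u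
open CategoryTheory CategoryTheory.Limits AlgebraicGeometry

attribute [local instance] HasDerivedCategory.standard

namespace Groth.Agent.Lib.Helper25.PerfCompact

open DerivedCategory Groth.Agent.Lib.Helper25.FinFac

variable {X : Scheme.{u}}

/-- `Hom(O_X[0], L) = 0` for `L ∈ D^{≤ b}`, `b + d < 0`, if `X` has cohomological dimension `≤ d` -/
theorem hom_unit_eq_zero (d : ℕ)
    (hd : ∀ (F : X.Modules) (i : ℕ), d < i → Subsingleton (Coh.HH X F i))
    (L : DCoh.D X) (b : ℤ) (hL : L.IsLE b) (hbd : b + d < 0)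
    (φ : DCoh.inD X (Coh.structureModule X) ⟶ L) : φ = 0 := by
  haveI : IsGrothendieckAbelian.{u} X.Modules :=
    Groth.Agent.Lib.Helper21.ModGroth.isGrothendieckAbelian_mod _
  haveI : EnoughInjectives X.Modules :=
    Groth.Agent.Lib.Helper21.ModGroth.enoughInjectives_mod X.ringCatSheaf
  haveI : HasExt.{u} X.Modules := hasExt_of_enoughInjectives _
  have hP : ∀ (F : X.Modules) (i : ℕ), d < i →
      ∀ e : Abelian.Ext.{u} (Coh.structureModule X) F i, e = 0 := fun F i hi e =>
    (Groth.Agent.Lib.Helper20.ExtDual.subsingleton_ext_unit F i (hd F i hi)).elim _ _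
  obtain ⟨I, f, hI, hf, -, hinj⟩ :=
    Groth.Agent.Lib.Helper25.KInjMain.exists_kInjective_resolution (Q.objPreimage L)
  haveI := hI
  haveI := hinj
  haveI := hf
  let e : L ≅ Q.obj I := (Q.objObjPreimageIso L).symm ≪≫ asIso (Q.map f)
  have hex : ∀ n : ℤ, -(d : ℤ) ≤ n → I.ExactAt n := by
    intro n hn
    rw [HomologicalComplex.exactAt_iff_isZero_homology]
    have h1 : IsZero ((homologyFunctor X.Modules n).obj L) := L.isZero_of_isLE b n (by omega)
    exact (h1.of_iso ((homologyFunctor X.Modules n).mapIso e.symm)).of_iso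
      ((homologyFunctorFactors X.Modules n).app I).symm
  let s : DCoh.inD X (Coh.structureModule X) ≅
      Q.obj ((HomologicalComplex.single X.Modules (ComplexShape.up ℤ) 0).obj (Coh.structureModule X)) :=
    (DerivedCategory.singleFunctorIsoCompQ X.Modules 0).app (Coh.structureModule X)
  have h0 := Groth.Agent.Lib.Helper25.FinCdVan.hom_single_eq_zero (Coh.structureModule X) d hP I hex
    (s.inv ≫ φ ≫ e.hom)
  have h1 : φ = s.hom ≫ (s.inv ≫ φ ≫ e.hom) ≫ e.inv := by simp
  rw [h1, h0, zero_comp, comp_zero]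

attribute [local instance] Groth.Agent.Lib.Helper25.LTensorRestrict.hasLTensorCx

/-- amplitude of `L ⊗^L D` for `D` K-flat bounded above -/
lemma isLE_LTensorCx (D : CochainComplex X.Modules ℤ) (L : DCoh.D X)
    (N b : ℤ) (hL : L.IsLE N) (hD : (Q.obj D).IsLE b) :
    ((DCoh.LTensorCx D).obj L).IsLE (N + b) := by
  obtain ⟨P, q, hP, hq⟩ := Groth.Agent.Lib.Helper25.LTensorDCoh.hres₀ (Q.objPreimage L)
  haveI := hq
  let eL : Q.obj P ≅ L := asIso (Q.map q) ≪≫ Q.objObjPreimageIso L
  haveI := Groth.Agent.Lib.Helper25.LTensorComp.isIso_ε_app D P hP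
  let e₁ : (DCoh.LTensorCx D).obj L ≅ Q.obj ((DCoh.tensorCx.obj P).obj D) :=
    (DCoh.LTensorCx D).mapIso eL.symm ≪≫ asIso ((Groth.Agent.Lib.Helper25.LTensorComp.ε D).app P)
  haveI : P.IsLE N := by
    rw [← DerivedCategory.isLE_Q_obj_iff]
    exact TStructure.t.isLE_of_iso eL.symm N
  haveI : D.IsLE b := by
    rw [← DerivedCategory.isLE_Q_obj_iff]
    exact hD
  rw [DerivedCategory.isLE_iff]
  intro i hi
  have h1 := Groth.Agent.Lib.Helper25.TensorCxAmp.isZero_homology_tensorCx P D hP N b i hi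
  exact (h1.of_iso ((homologyFunctorFactors X.Modules i).app _)).of_iso
    ((homologyFunctor X.Modules i).mapIso e₁)

/-- for `K` perfect on a quasi-compact scheme of finite cohomological dimension, `Hom(K, L) = 0` for `L` sufficiently
negative -/
theorem exists_bound_hom_eq_zero [CompactSpace X] (K : DCoh.D X) (hK : DCoh.IsPerfect K) (d : ℕ)
    (hd : ∀ (F : X.Modules) (i : ℕ), d < i → Subsingleton (Coh.HH X F i)) :
    ∃ N : ℤ, ∀ L : DCoh.D X, L.IsLE N → ∀ φ : K ⟶ L, φ = 0 := by
  obtain ⟨E, q, hE, hq⟩ := Groth.Agent.Lib.Helper25.LTensorDCoh.hres₀ (Q.objPreimage K)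
  haveI := hq
  let eK : Q.obj E ≅ K := asIso (Q.map q) ≪≫ Q.objObjPreimageIso K
  haveI : DCoh.HasRSheafHom E := Groth.Agent.Lib.Helper25.RHomExists.hasRSheafHom E
  have hEp : DCoh.IsPerfect (Q.obj E) :=
    Groth.Agent.Lib.helper25.DCohPerfect.isPerfect_of_iso eK.symm hK
  have hDp := Groth.Agent.Lib.Helper25.PerfDual10.isPerfect_dual E hE (DCoh.RSheafHomAdj E) hEp
  obtain ⟨a, b, -, hb⟩ := Groth.Agent.Lib.Helper25.K0Regular.exists_bounds_of_isPerfect _ hDp
  obtain ⟨D, r, hD, hr⟩ := Groth.Agent.Lib.Helper25.LTensorDCoh.hres₀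
    (Q.objPreimage ((DCoh.RSheafHom E).obj (DCoh.inD X (Coh.structureModule X))))
  haveI := hr
  let eD : Q.obj D ≅ (DCoh.RSheafHom E).obj (DCoh.inD X (Coh.structureModule X)) :=
    asIso (Q.map r) ≪≫ Q.objObjPreimageIso _
  have hDb : (Q.obj D).IsLE b := TStructure.t.isLE_of_iso eD.symm b
  refine ⟨-(d : ℤ) - 1 - b, fun L hL φ => ?_⟩
  obtain ⟨t⟩ := Groth.Agent.Lib.Helper25.PerfDual10.nonempty_LTensorCx_iso_RHom E hE
    (DCoh.RSheafHomAdj E) hEp D hD eD L
  have hamp : ((DCoh.LTensorCx D).obj L).IsLE (-(d : ℤ) - 1 - b + b) :=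
    isLE_LTensorCx D L _ b hL hDb
  let ψ : (DCoh.LTensorCx E).obj (DCoh.inD X (Coh.structureModule X)) ⟶ L :=
    (Groth.Agent.Lib.Helper25.RHomDetect.unitD E).hom ≫ eK.hom ≫ φ
  have h1 : (DCoh.RSheafHomAdj E).homEquiv _ _ ψ ≫ t.inv = 0 :=
    hom_unit_eq_zero d hd _ _ hamp (by omega) _
  have h2 : (DCoh.RSheafHomAdj E).homEquiv _ _ ψ = 0 := by
    rw [← cancel_mono t.inv, h1, zero_comp]
  have h3 : ψ = 0 := by
    rw [← ((DCoh.RSheafHomAdj E).homEquiv _ _).symm_apply_apply ψ, h2]
    haveI := Groth.Agent.Lib.Helper25.RHomExists.additive_LTensorCx E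
    rw [Adjunction.homEquiv_counit, Functor.map_zero, zero_comp]
  have h4 : φ = eK.inv ≫ (Groth.Agent.Lib.Helper25.RHomDetect.unitD E).inv ≫ ψ := by simp [ψ]
  rw [h4, h3, comp_zero, comp_zero]

/-- every map from a perfect object to a coproduct in `D(O_X)` is supported on finitely many summands, for `X`
quasi-compact quasi-separated of finite cohomological dimension -/
theorem ff_of_isPerfect [CompactSpace X] [QuasiSeparatedSpace X] (K : DCoh.D X) (hK : DCoh.IsPerfect K)
    (d : ℕ) (hd : ∀ (F : X.Modules) (i : ℕ), d < i → Subsingleton (Coh.HH X F i)) :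
    FF.{u} (fun _ : DCoh.D X => True) K := by
  obtain ⟨N, hN⟩ := exists_bound_hom_eq_zero K hK d hd
  refine Groth.Agent.Lib.Helper25.CompactVan.ff_of_vanishing TStructure.t K (N + 1)
    (fun L hL x => hN L ?_ x) (Groth.Agent.Lib.Helper25.BddFF.bff_of_isPerfect X K hK (N + 1))
    (fun ι Y _ => ?_)
  · have : N + 1 - 1 = N := by omega
    rw [this] at hL
    exact hL
  · haveI := Groth.Agent.Lib.Helper25.QCCPerfect.exactCoprod X ι
    haveI : HasCoproductsOfShape ι (DCoh.D X) :=
      Groth.Agent.Lib.helper23.DCoprod.hasCoproductsOfShape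
    infer_instance

section glue

universe u'

variable {D : Type u'} [Category.{u + 1} D] [Preadditive D]

/-- from finite support to bijectivity of `⊕ Hom(K, M i) ⟶ Hom(K, ∐ M i)`, with the index type lifted one universe -/
theorem bijective_of_ff (Q : D → Prop) (K : D) (h : FF.{u} Q K) (I : Type u) (M : I → D)
    (hM : ∀ i, Q (M i)) [HasCoproduct fun i : ULift.{u + 1} I => M i.down] :
    Function.Bijective (CohDer.homSumToHomCoprod K (fun i : ULift.{u + 1} I => M i.down)) := by
  classical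
  have hrfl : ∀ x, CohDer.homSumToHomCoprod K (fun i : ULift.{u + 1} I => M i.down) x =
      PerfAux.homSumToHomCoprod K (fun i : ULift.{u + 1} I => M i.down) x := fun _ => rfl
  constructor
  · rw [injective_iff_map_eq_zero]
    intro x hx
    rw [hrfl] at hx
    ext j
    rw [← Groth.Agent.Lib.Helper25.CompactRel.homSum_π K _ x j, hx, zero_comp]
    rfl
  · intro α
    let g : ∀ i : I, M i ⟶ ∐ (fun i : ULift.{u + 1} I => M i.down) := fun i =>
      Sigma.ι (fun i : ULift.{u + 1} I => M i.down) ⟨i⟩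
    have hc : IsColimit (Cofan.mk _ g) :=
      mkCofanColimit _
        (fun s => (Limits.Sigma.desc (fun i : ULift.{u + 1} I => s.inj i.down) :
          (∐ fun i : ULift.{u + 1} I => M i.down) ⟶ s.pt))
        (fun s i => Limits.Sigma.ι_desc (f := fun i : ULift.{u + 1} I => M i.down)
          (fun i : ULift.{u + 1} I => s.inj i.down) ⟨i⟩)
        (fun s m hm => by
          refine Limits.Sigma.hom_ext (f := fun i : ULift.{u + 1} I => M i.down) m _ (fun i => ?_)
          rw [Limits.Sigma.ι_desc]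
          exact hm i.down)
    obtain ⟨S, σ, hσ⟩ := h.exists_sum hM g hc α
    refine ⟨∑ i ∈ S, DirectSum.of (fun i : ULift.{u + 1} I => K ⟶ M i.down) ⟨i⟩ (σ i), ?_⟩
    rw [hrfl, map_sum, hσ]
    refine Finset.sum_congr rfl (fun i _ => ?_)
    rw [Groth.Agent.Lib.Helper25.CompactRel.homSum_of]

end glue

/-- **S0893** -/
theorem main [CompactSpace X] [QuasiSeparatedSpace X] (K : DCoh.D X) (hK : DCoh.IsPerfect K) :
    (∀ (I : Type u) (M : I → DCoh.D X) [HasCoproduct fun i : ULift.{u + 1} I => M i.down] (a : ℤ),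
      (∀ i, (M i).IsGE a) →
      Function.Bijective (CohDer.homSumToHomCoprod K (fun i : ULift.{u + 1} I => M i.down))) ∧
    ((∃ d : ℕ, ∀ (F : X.Modules) (i : ℕ), d < i → Subsingleton (Coh.HH X F i)) →
      ∀ (I : Type u) (M : I → DCoh.D X) [HasCoproduct fun i : ULift.{u + 1} I => M i.down],
      Function.Bijective (CohDer.homSumToHomCoprod K (fun i : ULift.{u + 1} I => M i.down))) := by
  refine ⟨fun I M _ a hM => ?_, fun ⟨d, hd⟩ I M _ => ?_⟩
  · exact bijective_of_ff (fun L : DCoh.D X => L.IsGE a) K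
      (Groth.Agent.Lib.Helper25.BddFF.bff_of_isPerfect X K hK a) I M hM
  · exact bijective_of_ff (fun _ : DCoh.D X => True) K (ff_of_isPerfect K hK d hd) I M
      (fun _ => trivial)

end Groth.Agent.Lib.Helper25.PerfCompact
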