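import Mathlib

/-!
# Mates of "linearity" isomorphisms and their restriction to an open (helper25)

Abstract nonsense for `A ⊗ RHom(K, N) ⟶ RHom(K, A ⊗ N)`.

On a category `𝒳`: an adjunction `adjT : T ⊣ H` (think `- ⊗^L K ⊣ RHom(K, -)`), an endofunctor `P` (think `A ⊗ -`)
and `γ : P ⋙ T ⟶ T ⋙ P` (think of the associator `(A ⊗ N) ⊗ K ≅ A ⊗ (N ⊗ K)`).

* `mateApp adjT γ N : P (H N) ⟶ H (P N)`: the mate of `γ`; `map_mateApp_counit`, `mateApp_eq` (recognition).
* `mateApp_ofNatIsoLeft`: the mate does not change when `T` is replaced by an isomorphic functor (compatibly with `γ`).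
* `θ`: the base change map `Rs (H N) ⟶ H' (Rs N)` for a "restriction" functor `Rs : 𝒳 ⥤ 𝒰`; `isIso_θ`: it is
  invertible when `Rs` has a fully faithful left adjoint `S` and the objects `T (S Z')` are supported on the open.
* `restrict_mate`: compatibility of the mates on `𝒳` and `𝒰`; `isIso_map_mateApp`.
-/

set_option autoImplicit false
universe v₁ v₂ u₁ u₂
open CategoryTheory

namespace Groth.Agent.Lib.Helper25.PerfDual1

section Mate

variable {𝒳 : Type u₁} [Category.{v₁} 𝒳] {T H P : 𝒳 ⥤ 𝒳} (adjT : T ⊣ H) (γ : P ⋙ T ⟶ T ⋙ P)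

/-- the mate `P (H N) ⟶ H (P N)` of `γ : T (P -) ⟶ P (T -)` -/
noncomputable def mateApp (N : 𝒳) : P.obj (H.obj N) ⟶ H.obj (P.obj N) :=
  adjT.homEquiv (P.obj (H.obj N)) (P.obj N) (γ.app (H.obj N) ≫ P.map (adjT.counit.app N))

lemma map_mateApp_counit (N : 𝒳) :
    T.map (mateApp adjT γ N) ≫ adjT.counit.app (P.obj N) =
      γ.app (H.obj N) ≫ P.map (adjT.counit.app N) := by
  have h := Equiv.symm_apply_apply (adjT.homEquiv (P.obj (H.obj N)) (P.obj N))
    (γ.app (H.obj N) ≫ P.map (adjT.counit.app N))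
  rw [Adjunction.homEquiv_counit] at h
  exact h

/-- recognition of the mate -/
lemma mateApp_eq (N : 𝒳) (δ : P.obj (H.obj N) ⟶ H.obj (P.obj N))
    (h : T.map δ ≫ adjT.counit.app (P.obj N) = γ.app (H.obj N) ≫ P.map (adjT.counit.app N)) :
    mateApp adjT γ N = δ := by
  unfold mateApp
  rw [← h]
  have h' := Equiv.apply_symm_apply (adjT.homEquiv (P.obj (H.obj N)) (P.obj N)) δ
  rw [Adjunction.homEquiv_counit] at h'
  exact h'

/-- the mate is unchanged under replacing `T` by an isomorphic functor -/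
lemma mateApp_ofNatIsoLeft {T₁ : 𝒳 ⥤ 𝒳} (t : T ≅ T₁) (γ₁ : P ⋙ T₁ ⟶ T₁ ⋙ P)
    (hγ : ∀ M : 𝒳, γ.app M ≫ P.map (t.hom.app M) = t.hom.app (P.obj M) ≫ γ₁.app M) (N : 𝒳) :
    mateApp (adjT.ofNatIsoLeft t) γ₁ N = mateApp adjT γ N := by
  apply mateApp_eq
  change T₁.map (mateApp adjT γ N) ≫ (adjT.ofNatIsoLeft t).counit.app (P.obj N) =
    γ₁.app (H.obj N) ≫ P.map ((adjT.ofNatIsoLeft t).counit.app N)
  have hc : (adjT.ofNatIsoLeft t).counit.app N = t.inv.app (H.obj N) ≫ adjT.counit.app N := by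
    simp [Adjunction.ofNatIsoLeft]
  have hc' : (adjT.ofNatIsoLeft t).counit.app (P.obj N) =
      t.inv.app (H.obj (P.obj N)) ≫ adjT.counit.app (P.obj N) := by
    simp [Adjunction.ofNatIsoLeft]
  rw [hc, hc', Functor.map_comp]
  have h1 := map_mateApp_counit adjT γ N
  have h2 : T₁.map (mateApp adjT γ N) ≫ t.inv.app (H.obj (P.obj N)) =
      t.inv.app (P.obj (H.obj N)) ≫ T.map (mateApp adjT γ N) := (t.inv.naturality _)
  rw [reassoc_of% h2, h1]
  have h3 : γ₁.app (H.obj N) ≫ P.map (t.inv.app (H.obj N)) =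
      t.inv.app (P.obj (H.obj N)) ≫ γ.app (H.obj N) := by
    have e1 : P.map (t.hom.app (H.obj N)) ≫ P.map (t.inv.app (H.obj N)) = 𝟙 _ := by
      rw [← Functor.map_comp, Iso.hom_inv_id_app, CategoryTheory.Functor.map_id]
    have e2 : t.inv.app (P.obj (H.obj N)) ≫ t.hom.app (P.obj (H.obj N)) = 𝟙 _ :=
      Iso.inv_hom_id_app t _
    calc γ₁.app (H.obj N) ≫ P.map (t.inv.app (H.obj N))
        = (t.inv.app (P.obj (H.obj N)) ≫ t.hom.app (P.obj (H.obj N))) ≫ γ₁.app (H.obj N) ≫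
            P.map (t.inv.app (H.obj N)) := by
          rw [e2]; exact (Category.id_comp _).symm
      _ = t.inv.app (P.obj (H.obj N)) ≫ (γ.app (H.obj N) ≫ P.map (t.hom.app (H.obj N))) ≫
            P.map (t.inv.app (H.obj N)) := by
          rw [hγ]; simp only [Category.assoc]
      _ = t.inv.app (P.obj (H.obj N)) ≫ γ.app (H.obj N) := by
          rw [Category.assoc, e1]; erw [Category.comp_id]
  rw [reassoc_of% h3]

end Mate

section Restrict

variable {𝒳 : Type u₁} [Category.{v₁} 𝒳] {𝒰 : Type u₂} [Category.{v₂} 𝒰]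
  {T H P : 𝒳 ⥤ 𝒳} (adjT : T ⊣ H) (γ : P ⋙ T ⟶ T ⋙ P)
  {T' H' P' : 𝒰 ⥤ 𝒰} (adj' : T' ⊣ H') (γ' : P' ⋙ T' ⟶ T' ⋙ P')
  {Rs : 𝒳 ⥤ 𝒰} (ρT : Rs ⋙ T' ⟶ T ⋙ Rs) (ρP : P ⋙ Rs ≅ Rs ⋙ P')

/-- the base change map `Rs (H N) ⟶ H' (Rs N)` -/
noncomputable def θ (N : 𝒳) : Rs.obj (H.obj N) ⟶ H'.obj (Rs.obj N) :=
  adj'.homEquiv (Rs.obj (H.obj N)) (Rs.obj N) (ρT.app (H.obj N) ≫ Rs.map (adjT.counit.app N))

lemma map_θ_counit (N : 𝒳) :
    T'.map (θ adjT adj' ρT N) ≫ adj'.counit.app (Rs.obj N) =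
      ρT.app (H.obj N) ≫ Rs.map (adjT.counit.app N) := by
  have h := Equiv.symm_apply_apply (adj'.homEquiv (Rs.obj (H.obj N)) (Rs.obj N))
    (ρT.app (H.obj N) ≫ Rs.map (adjT.counit.app N))
  rw [Adjunction.homEquiv_counit] at h
  exact h

/-- **compatibility of the mates with restriction** -/
theorem restrict_mate
    (hC : ∀ N : 𝒳, T'.map (ρP.hom.app N) ≫ γ'.app (Rs.obj N) ≫ P'.map (ρT.app N) =
      ρT.app (P.obj N) ≫ Rs.map (γ.app N) ≫ ρP.hom.app (T.obj N)) (N : 𝒳) :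
    Rs.map (mateApp adjT γ N) ≫ θ adjT adj' ρT (P.obj N) ≫ H'.map (ρP.hom.app N) =
      ρP.hom.app (H.obj N) ≫ P'.map (θ adjT adj' ρT N) ≫ mateApp adj' γ' (Rs.obj N) := by
  apply (adj'.homEquiv _ _).symm.injective
  rw [Adjunction.homEquiv_counit, Adjunction.homEquiv_counit]
  simp only [Functor.map_comp, Category.assoc]
  -- left hand side
  have hL1 : T'.map (H'.map (ρP.hom.app N)) ≫ adj'.counit.app (P'.obj (Rs.obj N)) =
      adj'.counit.app (Rs.obj (P.obj N)) ≫ ρP.hom.app N :=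
    adj'.counit.naturality (ρP.hom.app N)
  have hL2 := map_θ_counit adjT adj' ρT (P.obj N)
  have hL3 : T'.map (Rs.map (mateApp adjT γ N)) ≫ ρT.app (H.obj (P.obj N)) =
      ρT.app (P.obj (H.obj N)) ≫ Rs.map (T.map (mateApp adjT γ N)) :=
    ρT.naturality (mateApp adjT γ N)
  have hL4 := map_mateApp_counit adjT γ N
  -- right hand side
  have hR1 := map_mateApp_counit adj' γ' (Rs.obj N)
  have hR2 : T'.map (P'.map (θ adjT adj' ρT N)) ≫ γ'.app (H'.obj (Rs.obj N)) =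
      γ'.app (Rs.obj (H.obj N)) ≫ P'.map (T'.map (θ adjT adj' ρT N)) :=
    γ'.naturality (θ adjT adj' ρT N)
  have hR3 := map_θ_counit adjT adj' ρT N
  have hR4 : Rs.map (P.map (adjT.counit.app N)) ≫ ρP.hom.app N =
      ρP.hom.app (T.obj (H.obj N)) ≫ P'.map (Rs.map (adjT.counit.app N)) :=
    ρP.hom.naturality (adjT.counit.app N)
  calc T'.map (Rs.map (mateApp adjT γ N)) ≫ T'.map (θ adjT adj' ρT (P.obj N)) ≫
        T'.map (H'.map (ρP.hom.app N)) ≫ adj'.counit.app (P'.obj (Rs.obj N))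
      = T'.map (Rs.map (mateApp adjT γ N)) ≫ (T'.map (θ adjT adj' ρT (P.obj N)) ≫
          adj'.counit.app (Rs.obj (P.obj N))) ≫ ρP.hom.app N := by
        rw [hL1]; simp only [Category.assoc]
    _ = (T'.map (Rs.map (mateApp adjT γ N)) ≫ ρT.app (H.obj (P.obj N))) ≫
          Rs.map (adjT.counit.app (P.obj N)) ≫ ρP.hom.app N := by
        rw [hL2]; simp only [Category.assoc]
    _ = ρT.app (P.obj (H.obj N)) ≫ Rs.map (T.map (mateApp adjT γ N) ≫
          adjT.counit.app (P.obj N)) ≫ ρP.hom.app N := by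
        rw [hL3, Functor.map_comp]; simp only [Category.assoc]
    _ = ρT.app (P.obj (H.obj N)) ≫ Rs.map (γ.app (H.obj N)) ≫
          Rs.map (P.map (adjT.counit.app N)) ≫ ρP.hom.app N := by
        rw [hL4, Functor.map_comp]; simp only [Category.assoc]
    _ = (ρT.app (P.obj (H.obj N)) ≫ Rs.map (γ.app (H.obj N)) ≫
          ρP.hom.app (T.obj (H.obj N))) ≫ P'.map (Rs.map (adjT.counit.app N)) := by
        rw [hR4]; simp only [Category.assoc]
    _ = (T'.map (ρP.hom.app (H.obj N)) ≫ γ'.app (Rs.obj (H.obj N)) ≫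
          P'.map (ρT.app (H.obj N))) ≫ P'.map (Rs.map (adjT.counit.app N)) := by
        rw [hC]
    _ = T'.map (ρP.hom.app (H.obj N)) ≫ γ'.app (Rs.obj (H.obj N)) ≫
          P'.map (T'.map (θ adjT adj' ρT N) ≫ adj'.counit.app (Rs.obj N)) := by
        rw [hR3, Functor.map_comp]; simp only [Category.assoc]
    _ = T'.map (ρP.hom.app (H.obj N)) ≫ (T'.map (P'.map (θ adjT adj' ρT N)) ≫
          γ'.app (H'.obj (Rs.obj N))) ≫ P'.map (adj'.counit.app (Rs.obj N)) := by
        rw [hR2, Functor.map_comp]; simp only [Category.assoc]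
    _ = T'.map (ρP.hom.app (H.obj N)) ≫ T'.map (P'.map (θ adjT adj' ρT N)) ≫
          T'.map (mateApp adj' γ' (Rs.obj N)) ≫ adj'.counit.app (P'.obj (Rs.obj N)) := by
        rw [hR1]; simp only [Category.assoc]

variable {S : 𝒰 ⥤ 𝒳} (adjS : S ⊣ Rs)

include adjS in
/-- **the base change map is invertible** when `Rs` has a fully faithful left adjoint `S` and the objects
`T (S Z')` are "supported on the open" -/
theorem isIso_θ [IsIso adjS.unit] [IsIso ρT]
    (h : ∀ Z' : 𝒰, IsIso (adjS.counit.app (T.obj (S.obj Z')))) (N : 𝒳) :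
    IsIso (θ adjT adj' ρT N) := by
  rw [isIso_iff_yoneda_map_bijective]
  intro Z'
  haveI := h Z'
  -- the isomorphism `T' Z' ≅ Rs (T (S Z'))`
  haveI : IsIso (adjS.unit.app Z') := inferInstance
  haveI : IsIso (ρT.app (S.obj Z')) := inferInstance
  let κ : T'.obj Z' ⟶ Rs.obj (T.obj (S.obj Z')) := T'.map (adjS.unit.app Z') ≫ ρT.app (S.obj Z')
  haveI : IsIso κ := by dsimp only [κ]; infer_instance
  -- the bijection `Hom(Z', Rs (H N)) ≃ Hom(T (S Z'), N)`
  let Φ : (Z' ⟶ Rs.obj (H.obj N)) ≃ (T.obj (S.obj Z') ⟶ N) :=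
    (adjS.homEquiv Z' (H.obj N)).symm.trans (adjT.homEquiv (S.obj Z') N).symm
  have key : ∀ β : Z' ⟶ Rs.obj (H.obj N),
      (adj'.homEquiv Z' (Rs.obj N)).symm (β ≫ θ adjT adj' ρT N) = κ ≫ Rs.map (Φ β) := by
    intro β
    rw [Adjunction.homEquiv_counit, Functor.map_comp, Category.assoc, map_θ_counit]
    -- `β = η_{Z'} ≫ Rs (b♯)`
    obtain ⟨b, rfl⟩ := Φ.symm.surjective β
    rw [Equiv.apply_symm_apply]
    have hb : Φ.symm b = adjS.unit.app Z' ≫ Rs.map (adjT.homEquiv _ _ b) := by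
      change adjS.homEquiv _ _ (adjT.homEquiv _ _ b) = _
      rw [Adjunction.homEquiv_unit]
    rw [hb, Functor.map_comp, Category.assoc]
    have n1 : T'.map (Rs.map (adjT.homEquiv (S.obj Z') N b)) ≫ ρT.app (H.obj N) =
        ρT.app (S.obj Z') ≫ Rs.map (T.map (adjT.homEquiv (S.obj Z') N b)) :=
      ρT.naturality _
    rw [reassoc_of% n1, ← Functor.map_comp]
    have n2 : T.map (adjT.homEquiv (S.obj Z') N b) ≫ adjT.counit.app N = b := by
      have h' := Equiv.symm_apply_apply (adjT.homEquiv (S.obj Z') N) b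
      rw [Adjunction.homEquiv_counit] at h'
      exact h'
    rw [n2]
    simp only [κ, Category.assoc]
  have hfun : (fun β : Z' ⟶ Rs.obj (H.obj N) => β ≫ θ adjT adj' ρT N) =
      (adj'.homEquiv Z' (Rs.obj N)) ∘ (fun g : Rs.obj (T.obj (S.obj Z')) ⟶ Rs.obj N => κ ≫ g) ∘
        (fun b : T.obj (S.obj Z') ⟶ N => Rs.map b) ∘ Φ := by
    funext β
    simp only [Function.comp_apply]
    rw [← key, Equiv.apply_symm_apply]
  change Function.Bijective (fun β : Z' ⟶ Rs.obj (H.obj N) => β ≫ θ adjT adj' ρT N)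
  rw [hfun]
  refine (Equiv.bijective _).comp (Function.Bijective.comp ?_ (Function.Bijective.comp ?_
    (Equiv.bijective _)))
  · constructor
    · intro g g' hg
      exact (cancel_epi κ).1 hg
    · intro g
      exact ⟨inv κ ≫ g, by simp⟩
  · -- `b ↦ Rs b` is bijective since the counit at `T (S Z')` is invertible
    have hmap : ∀ b : T.obj (S.obj Z') ⟶ N,
        Rs.map b = adjS.homEquiv _ _ (adjS.counit.app (T.obj (S.obj Z')) ≫ b) := by
      intro b
      rw [Adjunction.homEquiv_unit, Functor.map_comp, ← Category.assoc,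
        adjS.right_triangle_components, Category.id_comp]
    have hf : (fun b : T.obj (S.obj Z') ⟶ N => Rs.map b) =
        (adjS.homEquiv _ _) ∘ (fun b : T.obj (S.obj Z') ⟶ N =>
          adjS.counit.app (T.obj (S.obj Z')) ≫ b) := by
      funext b
      exact hmap b
    rw [hf]
    refine (Equiv.bijective _).comp ?_
    constructor
    · intro b b' hb
      exact (cancel_epi (adjS.counit.app (T.obj (S.obj Z')))).1 hb
    · intro b
      exact ⟨inv (adjS.counit.app (T.obj (S.obj Z'))) ≫ b, by simp⟩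

include adjS in
/-- **if the mate on the open is invertible at `Rs N`, the restriction of the mate at `N` is invertible** -/
theorem isIso_map_mateApp [IsIso adjS.unit] [IsIso ρT]
    (h : ∀ Z' : 𝒰, IsIso (adjS.counit.app (T.obj (S.obj Z'))))
    (hC : ∀ N : 𝒳, T'.map (ρP.hom.app N) ≫ γ'.app (Rs.obj N) ≫ P'.map (ρT.app N) =
      ρT.app (P.obj N) ≫ Rs.map (γ.app N) ≫ ρP.hom.app (T.obj N)) (N : 𝒳)
    (hN : IsIso (mateApp adj' γ' (Rs.obj N))) : IsIso (Rs.map (mateApp adjT γ N)) := by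
  have e := restrict_mate adjT γ adj' γ' ρT ρP hC N
  haveI := isIso_θ adjT adj' ρT adjS h N
  haveI := isIso_θ adjT adj' ρT adjS h (P.obj N)
  haveI : IsIso (θ adjT adj' ρT (P.obj N) ≫ H'.map (ρP.hom.app N)) := inferInstance
  have h1 : IsIso (Rs.map (mateApp adjT γ N) ≫ θ adjT adj' ρT (P.obj N) ≫
      H'.map (ρP.hom.app N)) := by
    rw [e]
    infer_instance
  exact IsIso.of_isIso_comp_right _ (θ adjT adj' ρT (P.obj N) ≫ H'.map (ρP.hom.app N))

end Restrict

end Groth.Agent.Lib.Helper25.PerfDual1
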