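import Mathlib
import Groth.Agent.Lib.Helper25.DualCx2

/-!
# The chain-level adjunction `- ⊗ E ⊣ - ⊗ D` is linear for left tensoring (helper25)

`T : 𝒜 ⥤ 𝒜 ⥤ 𝒜` an additive bifunctor with an associator `assoc : T(T(-,-),-) ≅ T(-,T(-,-))`.
If the termwise adjunctions of `dd : DualData T E D` are `assoc`-linear (`DualData.IsLinear`), then so is the
adjunction on complexes:

* `ι_assoc_inv_π`: the inverse associator of complexes between an inclusion and a projection;
* `homEquiv_linear`: `(α ≫ (A ⊗ f))♯ = (A ⊗ f♯) ≫ α⁻¹` for `f : L ⊗ E ⟶ N`.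
-/

set_option autoImplicit false
open CategoryTheory Limits HomologicalComplex

namespace Groth.Agent.Lib.Helper25.PerfDual2

open Groth.Agent.Lib.Helper25.DualCx1 Groth.Agent.Lib.Helper25.DualCx2

variable {𝒜 : Type*} [Category 𝒜] [Preadditive 𝒜]
  (T : 𝒜 ⥤ 𝒜 ⥤ 𝒜) [T.Additive] [∀ A, (T.obj A).Additive]
  (assoc : bifunctorComp₁₂ T T ≅ bifunctorComp₂₃ T T)

/-- components of the associator, with explicit types -/
abbrev aHom (X Y Z : 𝒜) : (T.obj ((T.obj X).obj Y)).obj Z ⟶ (T.obj X).obj ((T.obj Y).obj Z) :=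
  ((assoc.hom.app X).app Y).app Z

/-- components of the inverse associator, with explicit types -/
abbrev aInv (X Y Z : 𝒜) : (T.obj X).obj ((T.obj Y).obj Z) ⟶ (T.obj ((T.obj X).obj Y)).obj Z :=
  ((assoc.inv.app X).app Y).app Z

@[reassoc (attr := simp)]
lemma aInv_aHom (X Y Z : 𝒜) : aInv T assoc X Y Z ≫ aHom T assoc X Y Z = 𝟙 _ := by
  change ((assoc.inv.app X).app Y).app Z ≫ ((assoc.hom.app X).app Y).app Z = 𝟙 _
  rw [← NatTrans.comp_app, ← NatTrans.comp_app, ← NatTrans.comp_app, Iso.inv_hom_id]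
  rfl

@[reassoc (attr := simp)]
lemma aHom_aInv (X Y Z : 𝒜) : aHom T assoc X Y Z ≫ aInv T assoc X Y Z = 𝟙 _ := by
  change ((assoc.hom.app X).app Y).app Z ≫ ((assoc.inv.app X).app Y).app Z = 𝟙 _
  rw [← NatTrans.comp_app, ← NatTrans.comp_app, ← NatTrans.comp_app, Iso.hom_inv_id]
  rfl

/-- the termwise adjunctions are linear for left tensoring -/
def IsLinear {E D : CochainComplex 𝒜 ℤ} (dd : DualData T E D) : Prop :=
  ∀ (q r : ℤ) (h : q + r = 0) (A L B : 𝒜) (g : (T.obj L).obj (E.X q) ⟶ B),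
    (dd.adj q r h).homEquiv ((T.obj A).obj L) ((T.obj A).obj B)
      (aHom T assoc A L (E.X q) ≫ (T.obj A).map g) =
    (T.obj A).map ((dd.adj q r h).homEquiv L B g) ≫ aInv T assoc A B (D.X r)

variable [∀ K L : CochainComplex 𝒜 ℤ, HasMapBifunctor K L T (ComplexShape.up ℤ)]
  [∀ K₁ K₂ K₃ : CochainComplex 𝒜 ℤ, HasGoodTrifunctor₁₂Obj T T K₁ K₂ K₃ (ComplexShape.up ℤ)
    (ComplexShape.up ℤ)]
  [∀ K₁ K₂ K₃ : CochainComplex 𝒜 ℤ, HasGoodTrifunctor₂₃Obj T T K₁ K₂ K₃ (ComplexShape.up ℤ)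
    (ComplexShape.up ℤ) (ComplexShape.up ℤ)]

/-- the tensor product of complexes -/
noncomputable abbrev tens (K L : CochainComplex 𝒜 ℤ) : CochainComplex 𝒜 ℤ :=
  mapBifunctor K L T (ComplexShape.up ℤ)

/-- the associator of complexes -/
noncomputable abbrev α (K₁ K₂ K₃ : CochainComplex 𝒜 ℤ) :
    tens T (tens T K₁ K₂) K₃ ≅ tens T K₁ (tens T K₂ K₃) :=
  mapBifunctorAssociator assoc K₁ K₂ K₃ (ComplexShape.up ℤ) (ComplexShape.up ℤ) (ComplexShape.up ℤ)

@[reassoc]
lemma ι₁₂_α_hom (K₁ K₂ K₃ : CochainComplex 𝒜 ℤ) (i₁ i₂ i₃ j : ℤ)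
    (h : ComplexShape.r (ComplexShape.up ℤ) (ComplexShape.up ℤ) (ComplexShape.up ℤ)
      (ComplexShape.up ℤ) (ComplexShape.up ℤ) (i₁, i₂, i₃) = j) :
    mapBifunctor₁₂.ι T T K₁ K₂ K₃ (ComplexShape.up ℤ) (ComplexShape.up ℤ) i₁ i₂ i₃ j h ≫
        (α T assoc K₁ K₂ K₃).hom.f j =
      aHom T assoc (K₁.X i₁) (K₂.X i₂) (K₃.X i₃) ≫
        mapBifunctor₂₃.ι T T K₁ K₂ K₃ (ComplexShape.up ℤ) (ComplexShape.up ℤ) (ComplexShape.up ℤ)
          i₁ i₂ i₃ j h :=
  ι_mapBifunctorAssociatorX_hom assoc K₁ K₂ K₃ (ComplexShape.up ℤ) (ComplexShape.up ℤ)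
    (ComplexShape.up ℤ) i₁ i₂ i₃ j h

@[reassoc]
lemma ι₂₃_α_inv (K₁ K₂ K₃ : CochainComplex 𝒜 ℤ) (i₁ i₂ i₃ j : ℤ)
    (h : ComplexShape.r (ComplexShape.up ℤ) (ComplexShape.up ℤ) (ComplexShape.up ℤ)
      (ComplexShape.up ℤ) (ComplexShape.up ℤ) (i₁, i₂, i₃) = j) :
    mapBifunctor₂₃.ι T T K₁ K₂ K₃ (ComplexShape.up ℤ) (ComplexShape.up ℤ) (ComplexShape.up ℤ)
        i₁ i₂ i₃ j h ≫ (α T assoc K₁ K₂ K₃).inv.f j =
      aInv T assoc (K₁.X i₁) (K₂.X i₂) (K₃.X i₃) ≫
        mapBifunctor₁₂.ι T T K₁ K₂ K₃ (ComplexShape.up ℤ) (ComplexShape.up ℤ) i₁ i₂ i₃ j h := by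
  have h2 : (α T assoc K₁ K₂ K₃).hom.f j ≫ (α T assoc K₁ K₂ K₃).inv.f j = 𝟙 _ := by
    rw [← comp_f, Iso.hom_inv_id, id_f]
  have key : aHom T assoc (K₁.X i₁) (K₂.X i₂) (K₃.X i₃) ≫
      mapBifunctor₂₃.ι T T K₁ K₂ K₃ (ComplexShape.up ℤ) (ComplexShape.up ℤ) (ComplexShape.up ℤ)
        i₁ i₂ i₃ j h ≫ (α T assoc K₁ K₂ K₃).inv.f j =
      mapBifunctor₁₂.ι T T K₁ K₂ K₃ (ComplexShape.up ℤ) (ComplexShape.up ℤ) i₁ i₂ i₃ j h := by
    rw [← ι₁₂_α_hom_assoc, h2, Category.comp_id]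
  rw [← key, aInv_aHom_assoc]

section

variable (A N D : CochainComplex 𝒜 ℤ) (s₀ : Finset ℤ) (hs : ∀ b : ℤ, b ∉ s₀ → IsZero (D.X b))

include hs in
/-- the inverse associator between an inclusion and a projection -/
lemma ι_assoc_inv_π (s p m b : ℤ) (hm : s + p = m) :
    ιMapBifunctor A (tens T N D) T (ComplexShape.up ℤ) s p m hm ≫
      (α T assoc A N D).inv.f m ≫ π T (tens T A N) D (s + p - b) b m (by omega) =
    (T.obj (A.X s)).map (π T N D (p - b) b p (by omega)) ≫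
      aInv T assoc (A.X s) (N.X (p - b)) (D.X b) ≫
      (T.map (ιMapBifunctor A N T (ComplexShape.up ℤ) s (p - b) (s + p - b)
        (by dsimp; omega))).app (D.X b) := by
  by_cases hb : b ∈ s₀
  swap
  · exact ((T.obj _).map_isZero (hs b hb)).eq_of_tgt _ _
  have h0 : ιMapBifunctor A (tens T N D) T (ComplexShape.up ℤ) s p m hm =
      (T.obj (A.X s)).map (𝟙 _) ≫ ιMapBifunctor A (tens T N D) T (ComplexShape.up ℤ) s p m hm := by
    rw [CategoryTheory.Functor.map_id, Category.id_comp]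
  rw [h0, ← sum_π_ι T N D s₀ hs p, Functor.map_sum, Preadditive.sum_comp, Preadditive.sum_comp,
    Finset.sum_eq_single b]
  · rw [Functor.map_comp, Category.assoc, Category.assoc]
    congr 1
    have h1 : (T.obj (A.X s)).map (ιMapBifunctor N D T (ComplexShape.up ℤ) (p - b) b p
          (by dsimp; omega)) ≫
        ιMapBifunctor A (tens T N D) T (ComplexShape.up ℤ) s p m hm =
        mapBifunctor₂₃.ι T T A N D (ComplexShape.up ℤ) (ComplexShape.up ℤ) (ComplexShape.up ℤ)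
          s (p - b) b m (by dsimp [ComplexShape.r]; omega) :=
      (mapBifunctor₂₃.ι_eq T T A N D (ComplexShape.up ℤ) (ComplexShape.up ℤ) (ComplexShape.up ℤ)
        s (p - b) b p m (by dsimp; omega) (by dsimp; omega)).symm
    rw [reassoc_of% h1, ι₂₃_α_inv_assoc,
      mapBifunctor₁₂.ι_eq T T A N D (ComplexShape.up ℤ) (ComplexShape.up ℤ) s (p - b) b
        (s + p - b) m (by dsimp; omega) (by dsimp; omega), Category.assoc, ι_π_self,
      Category.comp_id]
  · intro b' _ hne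
    rw [Functor.map_comp, Category.assoc, Category.assoc]
    have h1 : (T.obj (A.X s)).map (ιMapBifunctor N D T (ComplexShape.up ℤ) (p - b') b' p
          (by dsimp; omega)) ≫
        ιMapBifunctor A (tens T N D) T (ComplexShape.up ℤ) s p m hm =
        mapBifunctor₂₃.ι T T A N D (ComplexShape.up ℤ) (ComplexShape.up ℤ) (ComplexShape.up ℤ)
          s (p - b') b' m (by dsimp [ComplexShape.r]; omega) :=
      (mapBifunctor₂₃.ι_eq T T A N D (ComplexShape.up ℤ) (ComplexShape.up ℤ) (ComplexShape.up ℤ)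
        s (p - b') b' p m (by dsimp; omega) (by dsimp; omega)).symm
    rw [reassoc_of% h1, ι₂₃_α_inv_assoc,
      mapBifunctor₁₂.ι_eq T T A N D (ComplexShape.up ℤ) (ComplexShape.up ℤ) s (p - b') b'
        (s + p - b') m (by dsimp; omega) (by dsimp; omega), Category.assoc,
      ι_π_ne T (tens T A N) D (s + p - b') b' (s + p - b) b m _ _ (by omega), comp_zero,
      comp_zero, comp_zero]
  · intro h
    exact absurd hb h

end

variable {T} in
/-- **linearity of the chain-level adjunction** -/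
theorem homEquiv_linear {E D : CochainComplex 𝒜 ℤ} (dd : DualData T E D)
    (hlin : IsLinear T assoc dd) (A L N : CochainComplex 𝒜 ℤ)
    (f : tens T L E ⟶ N) :
    homEquiv dd (tens T A L) (tens T A N)
        ((α T assoc A L E).hom ≫ mapBifunctorMap (𝟙 A) f T (ComplexShape.up ℤ)) =
      mapBifunctorMap (𝟙 A) (homEquiv dd L N f) T (ComplexShape.up ℤ) ≫
        (α T assoc A N D).inv := by
  ext m s p hsp
  have hm : s + p = m := hsp
  apply ext_π T (tens T A N) D dd.s dd.hs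
  intro n' b hn
  obtain rfl : n' = s + p - b := by omega
  -- right hand side
  have hR : ιMapBifunctor A L T (ComplexShape.up ℤ) s p m hsp ≫
      (mapBifunctorMap (𝟙 A) (homEquiv dd L N f) T (ComplexShape.up ℤ) ≫
        (α T assoc A N D).inv).f m ≫ π T (tens T A N) D (s + p - b) b m hn =
      (T.obj (A.X s)).map ((homEquiv dd L N f).f p ≫ π T N D (p - b) b p (by omega)) ≫
        aInv T assoc (A.X s) (N.X (p - b)) (D.X b) ≫
        (T.map (ιMapBifunctor A N T (ComplexShape.up ℤ) s (p - b) (s + p - b)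
          (by dsimp; omega))).app (D.X b) := by
    rw [comp_f, Category.assoc, ι_mapBifunctorMap_assoc, id_f, CategoryTheory.Functor.map_id,
      NatTrans.id_app, Category.id_comp,
      ι_assoc_inv_π T assoc A N D dd.s dd.hs s p m b hm, Functor.map_comp, Category.assoc]
  -- left hand side
  have hL : ιMapBifunctor A L T (ComplexShape.up ℤ) s p m hsp ≫
      (homEquiv dd (tens T A L) (tens T A N)
        ((α T assoc A L E).hom ≫ mapBifunctorMap (𝟙 A) f T (ComplexShape.up ℤ))).f m ≫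
        π T (tens T A N) D (s + p - b) b m hn =
      (T.obj (A.X s)).map ((homEquiv dd L N f).f p ≫ π T N D (p - b) b p (by omega)) ≫
        aInv T assoc (A.X s) (N.X (p - b)) (D.X b) ≫
        (T.map (ιMapBifunctor A N T (ComplexShape.up ℤ) s (p - b) (s + p - b)
          (by dsimp; omega))).app (D.X b) := by
    change _ ≫ toFunF dd (tens T A L) (tens T A N) _ m ≫ _ = _
    rw [toFunF_π dd (tens T A L) (tens T A N) _ m (s + p - b) b (-b) hn (by omega)]
    have e1 := (dd.adj (-b) b (by omega)).homEquiv_naturality_left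
      (ιMapBifunctor A L T (ComplexShape.up ℤ) s p m hsp)
      (ιMapBifunctor (tens T A L) E T (ComplexShape.up ℤ) m (-b) (s + p - b) (by dsimp; omega) ≫
        ((α T assoc A L E).hom ≫ mapBifunctorMap (𝟙 A) f T (ComplexShape.up ℤ)).f (s + p - b))
    rw [← e1]
    -- the inner morphism
    have e2 : (T.flip.obj (E.X (-b))).map (ιMapBifunctor A L T (ComplexShape.up ℤ) s p m hsp) ≫
        ιMapBifunctor (tens T A L) E T (ComplexShape.up ℤ) m (-b) (s + p - b) (by dsimp; omega) ≫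
        ((α T assoc A L E).hom ≫ mapBifunctorMap (𝟙 A) f T (ComplexShape.up ℤ)).f (s + p - b) =
        (aHom T assoc (A.X s) (L.X p) (E.X (-b)) ≫
          (T.obj (A.X s)).map (ιMapBifunctor L E T (ComplexShape.up ℤ) p (-b) (p - b)
            (by dsimp; omega) ≫ f.f (p - b))) ≫
          ιMapBifunctor A N T (ComplexShape.up ℤ) s (p - b) (s + p - b) (by dsimp; omega) := by
      have h12 : (T.flip.obj (E.X (-b))).map (ιMapBifunctor A L T (ComplexShape.up ℤ) s p m hsp) ≫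
          ιMapBifunctor (tens T A L) E T (ComplexShape.up ℤ) m (-b) (s + p - b)
            (by dsimp; omega) =
          mapBifunctor₁₂.ι T T A L E (ComplexShape.up ℤ) (ComplexShape.up ℤ) s p (-b) (s + p - b)
            (by dsimp [ComplexShape.r]; omega) :=
        (mapBifunctor₁₂.ι_eq T T A L E (ComplexShape.up ℤ) (ComplexShape.up ℤ) s p (-b) m
          (s + p - b) hsp (by dsimp; omega)).symm
      rw [reassoc_of% h12, comp_f, ι₁₂_α_hom_assoc,
        mapBifunctor₂₃.ι_eq T T A L E (ComplexShape.up ℤ) (ComplexShape.up ℤ) (ComplexShape.up ℤ)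
          s p (-b) (p - b) (s + p - b) (by dsimp; omega) (by dsimp; omega),
        Category.assoc, ι_mapBifunctorMap, id_f, CategoryTheory.Functor.map_id, NatTrans.id_app,
        Category.id_comp, Functor.map_comp]
      simp only [Category.assoc]
    rw [e2]
    have e3 := (dd.adj (-b) b (by omega)).homEquiv_naturality_right
      (aHom T assoc (A.X s) (L.X p) (E.X (-b)) ≫
        (T.obj (A.X s)).map (ιMapBifunctor L E T (ComplexShape.up ℤ) p (-b) (p - b)
          (by dsimp; omega) ≫ f.f (p - b)))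
      (ιMapBifunctor A N T (ComplexShape.up ℤ) s (p - b) (s + p - b) (by dsimp; omega))
    rw [e3, hlin (-b) b (by omega) (A.X s) (L.X p) (N.X (p - b)),
      ← toFunF_π dd L N f p (p - b) b (-b) (by omega) (by omega), Category.assoc]
    rfl
  rw [Category.assoc, Category.assoc, hL, hR]

end Groth.Agent.Lib.Helper25.PerfDual2
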