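import Mathlib
import Groth.Agent.Lib.Helper25.DualCx4
import Groth.Agent.Lib.Helper25.PerfDual2

/-!
# The termwise adjunctions of a complex of based objects are linear (helper25)

`T : 𝒜 ⥤ 𝒜 ⥤ 𝒜` with associator `assoc`, unit object `O`, right unitor `ρ`, and the unit coherence
`hρ : assoc_{A,L,O} ≫ T(A, ρ_L) = ρ_{T(A,L)}`.

* `u_assoc`: `u_i(T(A,L)) ≫ assoc = T(A, u_i(L))` for the inclusions of `Based.decomp`;
* `decomp_adj_linear`: the self-adjunction of `T(-, P)` (`P` based) is linear;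
* `dualData_isLinear`: `PerfDual2.IsLinear` for `DualCx4.dualData`.
-/

set_option autoImplicit false
open CategoryTheory Limits HomologicalComplex

namespace Groth.Agent.Lib.Helper25.PerfDual3

open Groth.Agent.Lib.Helper25.DualCx2 Groth.Agent.Lib.Helper25.DualCx3
  Groth.Agent.Lib.Helper25.DualCx4 Groth.Agent.Lib.Helper25.PerfDual2

variable {𝒜 : Type*} [Category 𝒜] [Preadditive 𝒜]
  (T : 𝒜 ⥤ 𝒜 ⥤ 𝒜) [T.Additive] [∀ A, (T.obj A).Additive]
  (assoc : bifunctorComp₁₂ T T ≅ bifunctorComp₂₃ T T)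
  {O : 𝒜} (ρ : T.flip.obj O ≅ 𝟭 𝒜)

/-- the unit coherence -/
def UnitCoh : Prop :=
  ∀ A L : 𝒜, aHom T assoc A L O ≫ (T.obj A).map (ρ.hom.app L) = ρ.hom.app ((T.obj A).obj L)

variable {T assoc ρ}

lemma ρ_inv_assoc (hρ : UnitCoh T assoc ρ) (A L : 𝒜) :
    ρ.inv.app ((T.obj A).obj L) ≫ aHom T assoc A L O = (T.obj A).map (ρ.inv.app L) := by
  have h1 : (T.obj A).map (ρ.hom.app L) ≫ (T.obj A).map (ρ.inv.app L) = 𝟙 _ := by
    rw [← Functor.map_comp, Iso.hom_inv_id_app, CategoryTheory.Functor.map_id]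
  have h2 : ρ.inv.app ((T.obj A).obj L) ≫ ρ.hom.app ((T.obj A).obj L) = 𝟙 _ :=
    Iso.inv_hom_id_app ρ _
  calc ρ.inv.app ((T.obj A).obj L) ≫ aHom T assoc A L O
      = ρ.inv.app ((T.obj A).obj L) ≫ aHom T assoc A L O ≫
          (T.obj A).map (ρ.hom.app L) ≫ (T.obj A).map (ρ.inv.app L) := by
        rw [h1]; erw [Category.comp_id]
    _ = (ρ.inv.app ((T.obj A).obj L) ≫ ρ.hom.app ((T.obj A).obj L)) ≫
          (T.obj A).map (ρ.inv.app L) := by
        rw [← hρ A L]; simp only [Category.assoc]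
    _ = _ := by rw [h2]; exact Category.id_comp _

lemma aHom_naturality₃ (A L : 𝒜) {P P' : 𝒜} (e : P ⟶ P') :
    (T.obj ((T.obj A).obj L)).map e ≫ aHom T assoc A L P' =
      aHom T assoc A L P ≫ (T.obj A).map ((T.obj L).map e) :=
  ((assoc.hom.app A).app L).naturality e

variable {P : 𝒜} (b : Based O P)

/-- `u_i(T(A,L)) ≫ assoc = T(A, u_i(L))` -/
lemma u_assoc (hρ : UnitCoh T assoc ρ) (i : Fin b.n) (A L : 𝒜) :
    ((b.decomp T ρ).u i).app ((T.obj A).obj L) ≫ aHom T assoc A L P =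
      (T.obj A).map (((b.decomp T ρ).u i).app L) := by
  change (ρ.inv.app ((T.obj A).obj L) ≫ (T.obj ((T.obj A).obj L)).map (b.e i)) ≫
    aHom T assoc A L P = (T.obj A).map (ρ.inv.app L ≫ (T.obj L).map (b.e i))
  rw [Category.assoc, aHom_naturality₃, ← Category.assoc, ρ_inv_assoc hρ, Functor.map_comp]

/-- `u_i(T(A,B)) = T(A, u_i(B)) ≫ assoc⁻¹` -/
lemma u_assoc' (hρ : UnitCoh T assoc ρ) (i : Fin b.n) (A B : 𝒜) :
    ((b.decomp T ρ).u i).app ((T.obj A).obj B) =
      (T.obj A).map (((b.decomp T ρ).u i).app B) ≫ aInv T assoc A B P := by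
  rw [← u_assoc b hρ i A B, Category.assoc, aHom_aInv]
  exact (Category.comp_id _).symm

/-- **the self-adjunction of `T(-, P)` for a based object `P` is linear** -/
theorem decomp_adj_linear (hρ : UnitCoh T assoc ρ) (A L B : 𝒜) (g : (T.obj L).obj P ⟶ B) :
    (b.decomp T ρ).adj.homEquiv ((T.obj A).obj L) ((T.obj A).obj B)
        (aHom T assoc A L P ≫ (T.obj A).map g) =
      (T.obj A).map ((b.decomp T ρ).adj.homEquiv L B g) ≫ aInv T assoc A B P := by
  have hE : ∀ (X Y : 𝒜) (φ : (T.obj X).obj P ⟶ Y),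
      (b.decomp T ρ).adj.homEquiv X Y φ =
        ∑ i, ((b.decomp T ρ).u i).app X ≫ φ ≫ ((b.decomp T ρ).u i).app Y := by
    intro X Y φ
    rw [Adjunction.homEquiv_unit, Decomp.adj_unit_app, Preadditive.sum_comp]
    refine Finset.sum_congr rfl (fun i _ => ?_)
    rw [Category.assoc]
    congr 1
    exact (((b.decomp T ρ).u i).naturality φ).symm
  rw [hE, hE, Functor.map_sum, Preadditive.sum_comp]
  refine Finset.sum_congr rfl (fun i _ => ?_)
  rw [← Category.assoc, ← Category.assoc, u_assoc b hρ i A L, u_assoc' b hρ i A B,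
    Functor.map_comp, Functor.map_comp]
  simp only [Category.assoc]

section Complex

variable (lam : T.obj O ≅ 𝟭 𝒜) (E : CochainComplex 𝒜 ℤ) (bE : ∀ q : ℤ, Based O (E.X q))
  (s₀ : Finset ℤ) (hs₀ : ∀ q : ℤ, q ∉ s₀ → IsZero (E.X q))

/-- **the duality data of a complex of based objects is linear** -/
theorem dualData_isLinear (hρ : UnitCoh T assoc ρ) :
    IsLinear T assoc (dualData T ρ lam E bE s₀ hs₀) := by
  intro q r h A L B g
  obtain rfl : q = -r := by omega
  exact decomp_adj_linear (bE (-r)) hρ A L B g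

end Complex

end Groth.Agent.Lib.Helper25.PerfDual3
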