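import Groth.Agent.Lib.Helper25.DualCx5
import Groth.Agent.Lib.Helper25.PerfDual3

/-!
# Unit coherence and linearity of the duality adjunction for sheaves of modules on a scheme (helper25)

* `unitorS_coh`: on a ringed site, `assoc_{A,L,O} ≫ (A ⊗ ρ_L) = ρ_{A ⊗ L}` for the right unitor induced by a
  right unitor of presheaves of modules.
* `assocX`, `unitCoh`: the associator of `DCoh.tensorBi` and its unit coherence with `DualCx5.ρ`.
* `isLinear_dual`: the duality data of a bounded complex of based modules is linear.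
* `adjCx_homEquiv_linear`, `map_assoc_inv_counit`: the chain-level adjunction `- ⊗ E ⊣ - ⊗ E^∨` is linear for left
  tensoring; the inverse associator `A ⊗ (N ⊗ E^∨) ≅ (A ⊗ N) ⊗ E^∨` satisfies the mate equation.
-/

set_option autoImplicit false
universe u
open CategoryTheory Limits AlgebraicGeometry HomologicalComplex MonoidalCategory

namespace Groth.Agent.Lib.Helper25.PerfDual4

open Groth.Agent.Lib.Helper21.TensorW Groth.Agent.Lib.Helper21.TensorAdj
  Groth.Agent.Lib.Helper25.TensorAssoc1 Groth.Agent.Lib.Helper25.PerfDual2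
  Groth.Agent.Lib.Helper25.PerfDual3

section Site

variable {C : Type u} [SmallCategory C] {J : GrothendieckTopology C} {O : Sheaf J CommRingCat.{u}}
  (U : ModSite.Mod O) (r : ∀ P : PM O, P ⊗ pv U ≅ P)

/-- the right unitor of sheaves of modules induced by a right unitor `r` of presheaves -/
noncomputable def unitorS (F : ModSite.Mod O) : ((T O).obj F).obj U ≅ F :=
  (shf O).mapIso (r (pv F)) ≪≫
    @asIso _ _ _ _ ((shfAdj O).counit.app F) (NatIso.isIso_app_of_isIso _ _)

lemma unitorS_hom (F : ModSite.Mod O) :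
    (unitorS U r F).hom = (shf O).map (r (pv F)).hom ≫ (shfAdj O).counit.app F := rfl

/-- the unit coherence for sheaves of modules on a ringed site -/
theorem unitorS_coh
    (hnat : ∀ {P Q : PM O} (f : P ⟶ Q), (f ▷ pv U) ≫ (r Q).hom = (r P).hom ≫ f)
    (hten : ∀ P Q : PM O, (r (P ⊗ Q)).hom = (α_ P Q (pv U)).hom ≫ P ◁ (r Q).hom)
    (A L : ModSite.Mod O) :
    (assocApp A L U).hom ≫ ((T O).obj A).map (unitorS U r L).hom =
      (unitorS U r (((T O).obj A).obj L)).hom := by
  -- the presheaf level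
  have hv : vMap A L U ≫ (pv A ◁ pvMap (unitorS U r L).hom) = pv A ◁ (r (pv L)).hom := by
    have h3 : unitP O (pv L ⊗ pv U) ≫ pvMap ((shf O).map (r (pv L)).hom) =
        (r (pv L)).hom ≫ unitP O (pv L) := (unitP_naturality O (r (pv L)).hom).symm
    have h4 : unitP O (pv L) ≫ pvMap ((shfAdj O).counit.app L) = 𝟙 _ :=
      (shfAdj O).right_triangle_components L
    have h5 : pvMap (unitorS U r L).hom =
        pvMap ((shf O).map (r (pv L)).hom) ≫ pvMap ((shfAdj O).counit.app L) := by
      rw [unitorS_hom]; rfl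
    change (pv A ◁ unitP O (pv L ⊗ pv U)) ≫ (pv A ◁ pvMap (unitorS U r L).hom) = _
    rw [← MonoidalCategory.whiskerLeft_comp, h5, ← Category.assoc, h3, Category.assoc, h4,
      Category.comp_id]
  have hu : uMap A L U ≫ (r (pv ((shf O).obj (pv A ⊗ pv L)))).hom =
      (r (pv A ⊗ pv L)).hom ≫ unitP O (pv A ⊗ pv L) := hnat (unitP O (pv A ⊗ pv L))
  have ht : (shf O).map (unitP O (pv A ⊗ pv L)) ≫
      (shfAdj O).counit.app ((shf O).obj (pv A ⊗ pv L)) = 𝟙 _ :=
    (shfAdj O).left_triangle_components ((pv A ⊗ pv L : PM O))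
  -- the two composites
  have e1 : (shf O).map ((α_ (pv A) (pv L) (pv U)).hom ≫ vMap A L U) ≫
      (shf O).map (pv A ◁ pvMap (unitorS U r L).hom) = (shf O).map (r (pv A ⊗ pv L)).hom := by
    rw [← Functor.map_comp, Category.assoc, hv, ← hten]
  have e2 : (shf O).map (uMap A L U) ≫ (shf O).map (r (pv ((shf O).obj (pv A ⊗ pv L)))).hom ≫
      (shfAdj O).counit.app ((shf O).obj (pv A ⊗ pv L)) = (shf O).map (r (pv A ⊗ pv L)).hom := by
    rw [← Category.assoc, ← Functor.map_comp, hu, Functor.map_comp, Category.assoc, ht,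
      Category.comp_id]
  have e3 : inv ((shf O).map (uMap A L U)) ≫ (shf O).map ((α_ (pv A) (pv L) (pv U)).hom ≫
      vMap A L U) ≫ (shf O).map (pv A ◁ pvMap (unitorS U r L).hom) =
      (shf O).map (r (pv ((shf O).obj (pv A ⊗ pv L)))).hom ≫
        (shfAdj O).counit.app ((shf O).obj (pv A ⊗ pv L)) := by
    rw [IsIso.inv_comp_eq, e1, e2]
  rw [assocApp_hom]
  exact (Category.assoc _ _ _).trans e3

end Site

section Scheme

open Groth.Agent.Lib.Helper25.DualCx2 Groth.Agent.Lib.Helper25.DualCx4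
  Groth.Agent.Lib.Helper25.LTensorComp

variable {X : Scheme.{u}}

/-- the associator of `DCoh.tensorBi` -/
noncomputable def assocX : bifunctorComp₁₂ (DCoh.tensorBi (X := X)) (DCoh.tensorBi (X := X)) ≅
    bifunctorComp₂₃ (DCoh.tensorBi (X := X)) (DCoh.tensorBi (X := X)) :=
  associator X.sheaf

lemma ρ_hom_app (L : X.Modules) :
    (DualCx5.ρ (X := X)).hom.app L = (SecTwist.unitorR L).hom := by
  simp [DualCx5.ρ]
  rfl

/-- **unit coherence for `DCoh.tensorBi`** -/
theorem unitCoh : UnitCoh (DCoh.tensorBi (X := X)) assocX DualCx5.ρ := by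
  intro A L
  have h := unitorS_coh (O := X.sheaf) (Coh.structureModule X) (fun P => ρ_ P)
    (fun f => rightUnitor_naturality f) (fun P Q => rightUnitor_tensor_hom P Q) A L
  rw [ρ_hom_app, ρ_hom_app]
  exact h

instance good₁₂X (K₁ K₂ K₃ : CochainComplex X.Modules ℤ) :
    HasGoodTrifunctor₁₂Obj (DCoh.tensorBi (X := X)) (DCoh.tensorBi (X := X)) K₁ K₂ K₃
      (ComplexShape.up ℤ) (ComplexShape.up ℤ) :=
  Groth.Agent.Lib.Helper25.TensorAssoc2.good₁₂ X.sheaf K₁ K₂ K₃

instance good₂₃X (K₁ K₂ K₃ : CochainComplex X.Modules ℤ) :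
    HasGoodTrifunctor₂₃Obj (DCoh.tensorBi (X := X)) (DCoh.tensorBi (X := X)) K₁ K₂ K₃
      (ComplexShape.up ℤ) (ComplexShape.up ℤ) (ComplexShape.up ℤ) :=
  Groth.Agent.Lib.Helper25.TensorAssoc2.good₂₃ X.sheaf K₁ K₂ K₃

variable (E : CochainComplex X.Modules ℤ) (b : ∀ q : ℤ, Based (Coh.structureModule X) (E.X q))
  (s : Finset ℤ) (hs : ∀ q : ℤ, q ∉ s → IsZero (E.X q))

/-- the duality data of a bounded complex of based modules is linear -/
theorem isLinear_dual :
    IsLinear (DCoh.tensorBi (X := X)) assocX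
      (dualData (DCoh.tensorBi (X := X)) DualCx5.ρ DualCx5.lam E b s hs) :=
  dualData_isLinear DualCx5.lam E b s hs unitCoh

/-- the associator of complexes of modules -/
noncomputable abbrev αX (K₁ K₂ K₃ : CochainComplex X.Modules ℤ) :=
  α (DCoh.tensorBi (X := X)) assocX K₁ K₂ K₃

/-- **the chain-level adjunction `- ⊗ E ⊣ - ⊗ E^∨` is linear for left tensoring** -/
theorem adjCx_homEquiv_linear (A L N : CochainComplex X.Modules ℤ)
    (f : (tR E).obj L ⟶ N) :
    (DualCx5.adjCx E b s hs).homEquiv (((DCoh.tensorCx (X := X)).obj A).obj L)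
        (((DCoh.tensorCx (X := X)).obj A).obj N)
        ((αX A L E).hom ≫ ((DCoh.tensorCx (X := X)).obj A).map f) =
      ((DCoh.tensorCx (X := X)).obj A).map ((DualCx5.adjCx E b s hs).homEquiv L N f) ≫
        (αX A N (DualCx5.dual E b)).inv := by
  have h := homEquiv_linear assocX
    (dualData (DCoh.tensorBi (X := X)) DualCx5.ρ DualCx5.lam E b s hs) (isLinear_dual E b s hs)
    A L N f
  have e : ∀ M M' : CochainComplex X.Modules ℤ, (DualCx5.adjCx E b s hs).homEquiv M M' =
      homEquiv (dualData (DCoh.tensorBi (X := X)) DualCx5.ρ DualCx5.lam E b s hs) M M' := by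
    intro M M'
    exact congrFun (congrFun (Adjunction.mkOfHomEquiv_homEquiv _) M) M'
  rw [e, e]
  exact h

/-- **the chain-level mate equation**: the inverse associator `A ⊗ (N ⊗ E^∨) ≅ (A ⊗ N) ⊗ E^∨` is the mate of
the associator `(A ⊗ M) ⊗ E ≅ A ⊗ (M ⊗ E)` for the adjunction `- ⊗ E ⊣ - ⊗ E^∨`. -/
theorem map_assoc_inv_counit (A N : CochainComplex X.Modules ℤ) :
    (tR E).map (αX A N (DualCx5.dual E b)).inv ≫
        (DualCx5.adjCx E b s hs).counit.app (((DCoh.tensorCx (X := X)).obj A).obj N) =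
      (αX A ((tR (DualCx5.dual E b)).obj N) E).hom ≫
        ((DCoh.tensorCx (X := X)).obj A).map ((DualCx5.adjCx E b s hs).counit.app N) := by
  have h := adjCx_homEquiv_linear E b s hs A ((tR (DualCx5.dual E b)).obj N) N
    ((DualCx5.adjCx E b s hs).counit.app N)
  have h1 : (DualCx5.adjCx E b s hs).homEquiv ((tR (DualCx5.dual E b)).obj N) N
      ((DualCx5.adjCx E b s hs).counit.app N) = 𝟙 _ := by
    rw [Adjunction.homEquiv_unit]
    exact (DualCx5.adjCx E b s hs).right_triangle_components N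
  rw [h1, CategoryTheory.Functor.map_id, Category.id_comp] at h
  have h2 := congrArg ((DualCx5.adjCx E b s hs).homEquiv _ _).symm h
  rw [Equiv.symm_apply_apply, Adjunction.homEquiv_counit] at h2
  exact h2.symm

end Scheme

end Groth.Agent.Lib.Helper25.PerfDual4
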