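import Mathlib

/-!
# A calculus of functors and natural transformations descending to localizations (helper25)

`Q₁ : C₁ ⥤ D₁`, `Q₂ : C₂ ⥤ D₂`, ... (localization functors).

* `Desc Q₁ Q₂ Φ Φb`: an isomorphism `Q₁ ⋙ Φb ≅ Φ ⋙ Q₂` ("`Φb : D₁ ⥤ D₂` is induced by `Φ : C₁ ⥤ C₂`");
  `Desc.id`, `Desc.comp`.
* `IsDesc d d' τ τb`: the natural transformation `τb : Φb ⟶ Ψb` is induced by `τ : Φ ⟶ Ψ`.
  `IsDesc.ext` (uniqueness), `lift`/`isDesc_lift` (existence), `IsDesc.comp`, `IsDesc.whiskerRight`,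
  `IsDesc.whiskerLeft`, `IsDesc.isIso`, `IsDesc.id`, associators and unitors.
-/

set_option autoImplicit false
open CategoryTheory

namespace Groth.Agent.Lib.Helper25.PerfDual5

variable {C₁ C₂ C₃ C₄ D₁ D₂ D₃ D₄ : Type*} [Category C₁] [Category C₂] [Category C₃] [Category C₄]
  [Category D₁] [Category D₂] [Category D₃] [Category D₄]
  (Q₁ : C₁ ⥤ D₁) (Q₂ : C₂ ⥤ D₂) (Q₃ : C₃ ⥤ D₃) (Q₄ : C₄ ⥤ D₄)

/-- `Φb` is induced by `Φ` on the localized categories -/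
structure Desc (Φ : C₁ ⥤ C₂) (Φb : D₁ ⥤ D₂) where
  /-- the comparison isomorphism -/
  iso : Q₁ ⋙ Φb ≅ Φ ⋙ Q₂

/-- the identity functor descends to the identity functor -/
def Desc.id : Desc Q₁ Q₁ (𝟭 C₁) (𝟭 D₁) :=
  ⟨Functor.rightUnitor _ ≪≫ (Functor.leftUnitor _).symm⟩

@[simp]
lemma Desc.id_iso_hom_app (N : C₁) : (Desc.id Q₁).iso.hom.app N = 𝟙 (Q₁.obj N) := by
  simp [Desc.id]

variable {Q₁ Q₂ Q₃ Q₄}

/-- composition of induced functors -/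
def Desc.comp {Φ : C₁ ⥤ C₂} {Φb : D₁ ⥤ D₂} {Ψ : C₂ ⥤ C₃} {Ψb : D₂ ⥤ D₃}
    (d : Desc Q₁ Q₂ Φ Φb) (e : Desc Q₂ Q₃ Ψ Ψb) : Desc Q₁ Q₃ (Φ ⋙ Ψ) (Φb ⋙ Ψb) :=
  ⟨(Functor.associator _ _ _).symm ≪≫ Functor.isoWhiskerRight d.iso Ψb ≪≫
    Functor.associator _ _ _ ≪≫ Functor.isoWhiskerLeft Φ e.iso ≪≫ (Functor.associator _ _ _).symm⟩

@[simp]
lemma Desc.comp_iso_hom_app {Φ : C₁ ⥤ C₂} {Φb : D₁ ⥤ D₂} {Ψ : C₂ ⥤ C₃} {Ψb : D₂ ⥤ D₃}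
    (d : Desc Q₁ Q₂ Φ Φb) (e : Desc Q₂ Q₃ Ψ Ψb) (N : C₁) :
    (d.comp e).iso.hom.app N = Ψb.map (d.iso.hom.app N) ≫ e.iso.hom.app (Φ.obj N) := by
  simp [Desc.comp]

/-- `τb` is induced by `τ` -/
def IsDesc {Φ Ψ : C₁ ⥤ C₂} {Φb Ψb : D₁ ⥤ D₂} (d : Desc Q₁ Q₂ Φ Φb) (d' : Desc Q₁ Q₂ Ψ Ψb)
    (τ : Φ ⟶ Ψ) (τb : Φb ⟶ Ψb) : Prop :=
  ∀ N : C₁, τb.app (Q₁.obj N) ≫ d'.iso.hom.app N = d.iso.hom.app N ≫ Q₂.map (τ.app N)

section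

variable {Φ Ψ Θ : C₁ ⥤ C₂} {Φb Ψb Θb : D₁ ⥤ D₂} {d : Desc Q₁ Q₂ Φ Φb} {d' : Desc Q₁ Q₂ Ψ Ψb}
  {d'' : Desc Q₁ Q₂ Θ Θb}

lemma IsDesc.app_eq {τ : Φ ⟶ Ψ} {τb : Φb ⟶ Ψb} (h : IsDesc d d' τ τb) (N : C₁) :
    τb.app (Q₁.obj N) = d.iso.hom.app N ≫ Q₂.map (τ.app N) ≫ d'.iso.inv.app N := by
  have := h N
  rw [← Category.assoc, ← this, Category.assoc, Iso.hom_inv_id_app]
  exact (Category.comp_id _).symm

/-- uniqueness of the induced natural transformation -/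
lemma IsDesc.ext (W₁ : MorphismProperty C₁) [Q₁.IsLocalization W₁] {τ : Φ ⟶ Ψ} {τb τb' : Φb ⟶ Ψb}
    (h : IsDesc d d' τ τb) (h' : IsDesc d d' τ τb') : τb = τb' := by
  apply Localization.natTrans_ext Q₁ W₁
  intro N
  rw [h.app_eq, h'.app_eq]

/-- uniqueness of the induced natural transformation, given an equality upstairs -/
lemma IsDesc.ext' (W₁ : MorphismProperty C₁) [Q₁.IsLocalization W₁] {τ τ' : Φ ⟶ Ψ}
    {τb τb' : Φb ⟶ Ψb} (h : IsDesc d d' τ τb) (h' : IsDesc d d' τ' τb') (e : τ = τ') :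
    τb = τb' := by
  subst e
  exact h.ext W₁ h'

variable (d d') in
/-- the induced natural transformation -/
noncomputable def lift (W₁ : MorphismProperty C₁) [Q₁.IsLocalization W₁] (τ : Φ ⟶ Ψ) : Φb ⟶ Ψb :=
  letI : Localization.Lifting Q₁ W₁ (Φ ⋙ Q₂) Φb := ⟨d.iso⟩
  letI : Localization.Lifting Q₁ W₁ (Ψ ⋙ Q₂) Ψb := ⟨d'.iso⟩
  Localization.liftNatTrans Q₁ W₁ (Φ ⋙ Q₂) (Ψ ⋙ Q₂) Φb Ψb (Functor.whiskerRight τ Q₂)

lemma isDesc_lift (W₁ : MorphismProperty C₁) [Q₁.IsLocalization W₁] (τ : Φ ⟶ Ψ) :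
    IsDesc d d' τ (lift d d' W₁ τ) := by
  intro N
  let _ : Localization.Lifting Q₁ W₁ (Φ ⋙ Q₂) Φb := ⟨d.iso⟩
  let _ : Localization.Lifting Q₁ W₁ (Ψ ⋙ Q₂) Ψb := ⟨d'.iso⟩
  change (Localization.liftNatTrans Q₁ W₁ (Φ ⋙ Q₂) (Ψ ⋙ Q₂) Φb Ψb
    (Functor.whiskerRight τ Q₂)).app (Q₁.obj N) ≫ d'.iso.hom.app N = _
  rw [Localization.liftNatTrans_app]
  change (d.iso.hom.app N ≫ Q₂.map (τ.app N) ≫ d'.iso.inv.app N) ≫ d'.iso.hom.app N = _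
  simp

lemma IsDesc.id : IsDesc d d (𝟙 Φ) (𝟙 Φb) := by
  intro N
  simp

lemma IsDesc.comp {τ : Φ ⟶ Ψ} {τb : Φb ⟶ Ψb} {σ : Ψ ⟶ Θ} {σb : Ψb ⟶ Θb}
    (h : IsDesc d d' τ τb) (h' : IsDesc d' d'' σ σb) : IsDesc d d'' (τ ≫ σ) (τb ≫ σb) := by
  intro N
  rw [NatTrans.comp_app, NatTrans.comp_app, Category.assoc, h' N, ← Category.assoc, h N,
    Category.assoc, ← Functor.map_comp]

/-- an induced natural transformation of an isomorphism is an isomorphism -/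
lemma IsDesc.isIso (W₁ : MorphismProperty C₁) [Q₁.IsLocalization W₁] {τ : Φ ⟶ Ψ} {τb : Φb ⟶ Ψb}
    (h : IsDesc d d' τ τb) [IsIso τ] : IsIso τb := by
  have : Q₁.EssSurj := Localization.essSurj Q₁ W₁
  rw [NatTrans.isIso_iff_isIso_app]
  intro Y
  have h1 : IsIso (τb.app (Q₁.obj (Q₁.objPreimage Y))) := by
    rw [h.app_eq]
    infer_instance
  exact (NatTrans.isIso_app_iff_of_iso τb (Q₁.objObjPreimageIso Y)).1 h1

lemma IsDesc.inv (W₁ : MorphismProperty C₁) [Q₁.IsLocalization W₁] {τ : Φ ⟶ Ψ} {τb : Φb ⟶ Ψb}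
    (h : IsDesc d d' τ τb) [IsIso τ] [IsIso τb] : IsDesc d' d (inv τ) (inv τb) := by
  intro N
  have := h N
  rw [← cancel_epi (τb.app (Q₁.obj N)), ← Category.assoc, ← NatTrans.comp_app, IsIso.hom_inv_id,
    NatTrans.id_app, Category.id_comp, ← Category.assoc, this, Category.assoc, ← Functor.map_comp,
    ← NatTrans.comp_app, IsIso.hom_inv_id, NatTrans.id_app, CategoryTheory.Functor.map_id]
  exact (Category.comp_id _).symm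

end

section Whisker

variable {Φ Ψ : C₁ ⥤ C₂} {Φb Ψb : D₁ ⥤ D₂} {d : Desc Q₁ Q₂ Φ Φb} {d' : Desc Q₁ Q₂ Ψ Ψb}
  {Θ Ξ : C₂ ⥤ C₃} {Θb Ξb : D₂ ⥤ D₃} {e : Desc Q₂ Q₃ Θ Θb} {e' : Desc Q₂ Q₃ Ξ Ξb}

lemma IsDesc.whiskerRight {τ : Φ ⟶ Ψ} {τb : Φb ⟶ Ψb} (h : IsDesc d d' τ τb)
    (e : Desc Q₂ Q₃ Θ Θb) :
    IsDesc (d.comp e) (d'.comp e) (Functor.whiskerRight τ Θ) (Functor.whiskerRight τb Θb) := by
  intro N
  rw [Desc.comp_iso_hom_app, Desc.comp_iso_hom_app, Functor.whiskerRight_app,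
    Functor.whiskerRight_app, ← Category.assoc, ← Functor.map_comp, h N, Functor.map_comp,
    Category.assoc, Category.assoc]
  congr 1
  exact e.iso.hom.naturality (τ.app N)

lemma IsDesc.whiskerLeft (d : Desc Q₁ Q₂ Φ Φb) {σ : Θ ⟶ Ξ} {σb : Θb ⟶ Ξb}
    (h : IsDesc e e' σ σb) :
    IsDesc (d.comp e) (d.comp e') (Functor.whiskerLeft Φ σ) (Functor.whiskerLeft Φb σb) := by
  intro N
  rw [Desc.comp_iso_hom_app, Desc.comp_iso_hom_app, Functor.whiskerLeft_app,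
    Functor.whiskerLeft_app, ← Category.assoc]
  have h1 : σb.app (Φb.obj (Q₁.obj N)) ≫ Ξb.map (d.iso.hom.app N) =
      Θb.map (d.iso.hom.app N) ≫ σb.app (Q₂.obj (Φ.obj N)) := (σb.naturality _).symm
  rw [h1, Category.assoc, Category.assoc]
  congr 1
  exact h (Φ.obj N)

end Whisker

section Assoc

variable {Φ : C₁ ⥤ C₂} {Φb : D₁ ⥤ D₂} {Ψ : C₂ ⥤ C₃} {Ψb : D₂ ⥤ D₃} {Θ : C₃ ⥤ C₄} {Θb : D₃ ⥤ D₄}
  (d : Desc Q₁ Q₂ Φ Φb) (e : Desc Q₂ Q₃ Ψ Ψb) (f : Desc Q₃ Q₄ Θ Θb)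

lemma isDesc_associator_hom :
    IsDesc ((d.comp e).comp f) (d.comp (e.comp f)) (Functor.associator Φ Ψ Θ).hom
      (Functor.associator Φb Ψb Θb).hom := by
  intro N
  simp

lemma isDesc_associator_inv :
    IsDesc (d.comp (e.comp f)) ((d.comp e).comp f) (Functor.associator Φ Ψ Θ).inv
      (Functor.associator Φb Ψb Θb).inv := by
  intro N
  simp

lemma isDesc_leftUnitor_hom :
    IsDesc ((Desc.id Q₁).comp d) d (Functor.leftUnitor Φ).hom (Functor.leftUnitor Φb).hom := by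
  intro N
  simp

lemma isDesc_leftUnitor_inv :
    IsDesc d ((Desc.id Q₁).comp d) (Functor.leftUnitor Φ).inv (Functor.leftUnitor Φb).inv := by
  intro N
  simp

lemma isDesc_rightUnitor_hom :
    IsDesc (d.comp (Desc.id Q₂)) d (Functor.rightUnitor Φ).hom (Functor.rightUnitor Φb).hom := by
  intro N
  simp

lemma isDesc_rightUnitor_inv :
    IsDesc d (d.comp (Desc.id Q₂)) (Functor.rightUnitor Φ).inv (Functor.rightUnitor Φb).inv := by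
  intro N
  simp

end Assoc

end Groth.Agent.Lib.Helper25.PerfDual5
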