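import Groth.Agent.Lib.Helper25.PerfDual1
import Groth.Agent.Lib.Helper25.PerfDual4
import Groth.Agent.Lib.Helper25.PerfDual5
import Groth.Agent.Lib.Helper25.DualCx6

/-!
# The linearity map `A ⊗^L RHom(K, N) ⟶ RHom(K, A ⊗^L N)` on a scheme (helper25)

* `tL A`: `A ⊗ -` on complexes; `assocMid A K : tL A ⋙ tR K ≅ tR K ⋙ tL A` (the associator, natural in the middle variable).
* `SL A hA : D(O_X) ⥤ D(O_X)`: `A ⊗ -` for a K-flat complex `A`; `dSL`, `dT`: the descent data of `SL A hA` and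
  `LTensorCx K` (`K` K-flat).
* `γ A hA K hK : SL A ⋙ LTensorCx K ≅ LTensorCx K ⋙ SL A`: the derived associator.
* `isDesc_counit`: the counit of `DualCx5.adjD` is induced by the counit of `DualCx5.adjCx`.
* `isIso_mateApp_adjD`: for a bounded complex `F` of finite free modules, the mate of `γ A hA F hF` for the adjunction
  `- ⊗^L F ⊣ - ⊗^L F^∨` is invertible (it is the inverse of the derived associator for `F^∨`).
* `isDesc_LTensorCxIsoOfQuasiIso`, `γ_natural`: compatibility of `γ` with `LTensorCxIsoOfQuasiIso`.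
-/

set_option autoImplicit false
universe u
open CategoryTheory Limits AlgebraicGeometry HomologicalComplex

attribute [local instance] HasDerivedCategory.standard
attribute [local instance] Groth.Agent.Lib.Helper25.LTensorRestrict.hasLTensorCx

namespace Groth.Agent.Lib.Helper25.PerfDual6

open Groth.Agent.Lib.Helper25.LTensorComp Groth.Agent.Lib.Helper25.PerfDual1
  Groth.Agent.Lib.Helper25.PerfDual4 Groth.Agent.Lib.Helper25.PerfDual5

variable {X : Scheme.{u}}

/-- `A ⊗ -` on complexes -/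
noncomputable abbrev tL (A : CochainComplex X.Modules ℤ) :
    CochainComplex X.Modules ℤ ⥤ CochainComplex X.Modules ℤ :=
  (DCoh.tensorCx (X := X)).obj A

lemma tL_map (A : CochainComplex X.Modules ℤ) {N N' : CochainComplex X.Modules ℤ} (f : N ⟶ N') :
    (tL A).map f = mapBifunctorMap (𝟙 A) f (DCoh.tensorBi (X := X)) (ComplexShape.up ℤ) := rfl

/-- the associator as a natural isomorphism in the middle variable -/
noncomputable def assocMid (A K : CochainComplex X.Modules ℤ) : tL A ⋙ tR K ≅ tR K ⋙ tL A :=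
  NatIso.ofComponents (fun N => αX A N K) (fun {N N'} φ => by
    have h := Groth.Agent.Lib.Helper25.TensorAssoc3.mapBifunctorAssociator_hom_naturality
      (assocX (X := X)) (𝟙 A) φ (𝟙 K) (ComplexShape.up ℤ) (ComplexShape.up ℤ) (ComplexShape.up ℤ)
    exact h)

@[simp]
lemma assocMid_hom_app (A K N : CochainComplex X.Modules ℤ) :
    (assocMid A K).hom.app N = (αX A N K).hom := rfl

@[simp]
lemma assocMid_inv_app (A K N : CochainComplex X.Modules ℤ) :
    (assocMid A K).inv.app N = (αX A N K).inv := rfl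

section Derived

open DerivedCategory

/-- `A ⊗ -` preserves quasi-isomorphisms for K-flat `A` -/
lemma inverts_tL (A : CochainComplex X.Modules ℤ) (hA : DCoh.IsKFlat A) :
    (W X).IsInvertedBy (tL A ⋙ Q) := by
  intro N N' φ hφ
  haveI : QuasiIso φ := (HomologicalComplex.mem_quasiIso_iff φ).1 hφ
  change IsIso (Q.map (mapBifunctorMap (𝟙 A) φ (DCoh.tensorBi (X := X)) (ComplexShape.up ℤ)))
  rw [DerivedCategory.isIso_Q_map_iff_quasiIso]
  exact @Groth.Agent.Lib.Helper25.SiteLTensor2.quasiIso_tensorLeft_of_isKFlat _ _ _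
    X.sheaf A hA N N' φ ‹QuasiIso φ›

/-- `A ⊗ -` on `D(O_X)` for a K-flat complex `A` -/
noncomputable def SL (A : CochainComplex X.Modules ℤ) (hA : DCoh.IsKFlat A) : DCoh.D X ⥤ DCoh.D X :=
  Localization.lift (tL A ⋙ Q) (inverts_tL A hA) Q

/-- `SL A hA` is induced by `tL A` -/
noncomputable def dSL (A : CochainComplex X.Modules ℤ) (hA : DCoh.IsKFlat A) :
    Desc (Q : CochainComplex X.Modules ℤ ⥤ DCoh.D X) Q (tL A) (SL A hA) :=
  ⟨Localization.fac (tL A ⋙ Q) (inverts_tL A hA) Q⟩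

/-- `- ⊗^L K` is induced by `tR K` for K-flat `K` -/
noncomputable def dT (K : CochainComplex X.Modules ℤ) (hK : DCoh.IsKFlat K) :
    Desc (Q : CochainComplex X.Modules ℤ ⥤ DCoh.D X) Q (tR K) (DCoh.LTensorCx K) :=
  ⟨@asIso _ _ _ _ (ε K) (isIso_ε_of_isKFlat K hK)⟩

lemma dT_iso_hom (K : CochainComplex X.Modules ℤ) (hK : DCoh.IsKFlat K) :
    (dT K hK).iso.hom = ε K := rfl

variable (A : CochainComplex X.Modules ℤ) (hA : DCoh.IsKFlat A)
  (K : CochainComplex X.Modules ℤ) (hK : DCoh.IsKFlat K)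

/-- the derived associator `(A ⊗ N) ⊗^L K ⟶ A ⊗ (N ⊗^L K)` -/
noncomputable def γ : SL A hA ⋙ DCoh.LTensorCx K ⟶ DCoh.LTensorCx K ⋙ SL A hA :=
  lift ((dSL A hA).comp (dT K hK)) ((dT K hK).comp (dSL A hA)) (W X) (assocMid A K).hom

lemma isDesc_γ : IsDesc ((dSL A hA).comp (dT K hK)) ((dT K hK).comp (dSL A hA))
    (assocMid A K).hom (γ A hA K hK) :=
  isDesc_lift (W X) _

instance isIso_γ : IsIso (γ A hA K hK) := (isDesc_γ A hA K hK).isIso (W X)

/-- the inverse derived associator `A ⊗ (N ⊗^L K) ⟶ (A ⊗ N) ⊗^L K` -/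
noncomputable def δ : DCoh.LTensorCx K ⋙ SL A hA ⟶ SL A hA ⋙ DCoh.LTensorCx K :=
  lift ((dT K hK).comp (dSL A hA)) ((dSL A hA).comp (dT K hK)) (W X) (assocMid A K).inv

lemma isDesc_δ : IsDesc ((dT K hK).comp (dSL A hA)) ((dSL A hA).comp (dT K hK))
    (assocMid A K).inv (δ A hA K hK) :=
  isDesc_lift (W X) _

instance isIso_δ : IsIso (δ A hA K hK) := (isDesc_δ A hA K hK).isIso (W X)

end Derived

section Local

open DerivedCategory Groth.Agent.Lib.Helper25.DualCx5 Groth.Agent.Lib.Helper25.DualCx4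

variable (F : CochainComplex X.Modules ℤ) (b : ∀ q : ℤ, Based (Coh.structureModule X) (F.X q))
  (a c : ℤ) (ha : ∀ q, q < a → IsZero (F.X q)) (hc : ∀ q, c < q → IsZero (F.X q))

include ha hc in
lemma hs_Icc : ∀ q : ℤ, q ∉ Finset.Icc a c → IsZero (F.X q) := by
  intro q hq
  rw [Finset.mem_Icc, not_and_or, not_le, not_le] at hq
  rcases hq with hq | hq
  · exact ha q hq
  · exact hc q hq

/-- the counit of `adjD` is induced by the counit of `adjCx` -/
lemma isDesc_counit :
    IsDesc ((dT (dual F b) (isKFlat_dual F b a ha)).comp (dT F (isKFlat_of_based F b c hc)))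
      (Desc.id (Q : CochainComplex X.Modules ℤ ⥤ DCoh.D X))
      (adjCx F b (Finset.Icc a c) (hs_Icc F a c ha hc)).counit (adjD F b a c ha hc).counit := by
  intro N
  rw [Desc.id_iso_hom_app, Desc.comp_iso_hom_app]
  unfold adjD
  erw [Adjunction.localization_counit_app]
  refine (Category.comp_id _).trans ?_
  refine Eq.trans ?_ (Category.assoc _ _ _).symm
  rfl

variable (A : CochainComplex X.Modules ℤ) (hA : DCoh.IsKFlat A)

/-- the mate equation on `D(O_X)` -/
lemma map_δ_counit (N : DCoh.D X) :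
    (DCoh.LTensorCx F).map ((δ A hA (dual F b) (isKFlat_dual F b a ha)).app N) ≫
        (adjD F b a c ha hc).counit.app ((SL A hA).obj N) =
      (γ A hA F (isKFlat_of_based F b c hc)).app ((DCoh.LTensorCx (dual F b)).obj N) ≫
        (SL A hA).map ((adjD F b a c ha hc).counit.app N) := by
  let dTF := dT F (isKFlat_of_based F b c hc)
  let dH := dT (dual F b) (isKFlat_dual F b a ha)
  let dP := dSL A hA
  let T := DCoh.LTensorCx F
  let H := DCoh.LTensorCx (dual F b)
  let P := SL A hA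
  let cu := (adjD F b a c ha hc).counit
  let cu₀ := (adjCx F b (Finset.Icc a c) (hs_Icc F a c ha hc)).counit
  let γb := γ A hA F (isKFlat_of_based F b c hc)
  let δb := δ A hA (dual F b) (isKFlat_dual F b a ha)
  have hcu : IsDesc (dH.comp dTF) (Desc.id Q) cu₀ cu := isDesc_counit F b a c ha hc
  have hγ : IsDesc (dP.comp dTF) (dTF.comp dP) (assocMid A F).hom γb := isDesc_γ A hA F _
  have hδ : IsDesc (dH.comp dP) (dP.comp dH) (assocMid A (dual F b)).inv δb := isDesc_δ A hA _ _
  -- the two natural transformations `(H ⋙ P) ⋙ T ⟶ P`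
  have hL := (((hδ.whiskerRight dTF).comp (isDesc_associator_hom dP dH dTF)).comp
    (IsDesc.whiskerLeft dP hcu)).comp (isDesc_rightUnitor_hom dP)
  have hR := ((((isDesc_associator_hom dH dP dTF).comp (IsDesc.whiskerLeft dH hγ)).comp
    (isDesc_associator_inv dH dTF dP)).comp (hcu.whiskerRight dP)).comp (isDesc_leftUnitor_hom dP)
  have e := IsDesc.ext' (W X) hL hR (by
    apply NatTrans.ext
    funext N
    simp only [NatTrans.comp_app, Functor.whiskerRight_app, Functor.whiskerLeft_app,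
      Functor.associator_hom_app, Functor.associator_inv_app, Functor.rightUnitor_hom_app,
      Functor.leftUnitor_hom_app, Category.id_comp, Category.comp_id, assocMid_hom_app,
      assocMid_inv_app]
    exact congrArg (fun t => t ≫ 𝟙 _)
      (map_assoc_inv_counit F b (Finset.Icc a c) (hs_Icc F a c ha hc) A N))
  have e' := congrArg (fun t => t.app N) e
  simp only [NatTrans.comp_app, Functor.whiskerRight_app, Functor.whiskerLeft_app,
    Functor.associator_hom_app, Functor.associator_inv_app, Functor.rightUnitor_hom_app,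
    Functor.leftUnitor_hom_app, Category.id_comp, Category.comp_id] at e'
  exact (Category.comp_id _).symm.trans (e'.trans (Category.comp_id _))

/-- **the mate of the derived associator for `- ⊗^L F ⊣ - ⊗^L F^∨` is the inverse derived associator** -/
theorem mateApp_adjD (N : DCoh.D X) :
    mateApp (adjD F b a c ha hc) (γ A hA F (isKFlat_of_based F b c hc)) N =
      (δ A hA (dual F b) (isKFlat_dual F b a ha)).app N :=
  mateApp_eq _ _ N _ (map_δ_counit F b a c ha hc A hA N)

theorem isIso_mateApp_adjD (N : DCoh.D X) :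
    IsIso (mateApp (adjD F b a c ha hc) (γ A hA F (isKFlat_of_based F b c hc)) N) := by
  rw [mateApp_adjD]
  infer_instance

end Local

section Natural

open DerivedCategory Groth.Agent.Lib.Helper25.LTensorQis

variable {Z K : CochainComplex X.Modules ℤ} (φ : Z ⟶ K) [QuasiIso φ]
  (hZ : DCoh.IsKFlat Z) (hK : DCoh.IsKFlat K)

/-- `LTensorCxIsoOfQuasiIso φ` is induced by `- ⊗ φ` -/
lemma isDesc_LTensorCxIsoOfQuasiIso :
    IsDesc (dT Z hZ) (dT K hK) ((DCoh.tensorCx (X := X)).flip.map φ)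
      (LTensorCxIsoOfQuasiIso φ).hom := by
  intro N
  exact Functor.leftDerived_fac_app (DCoh.LTensorCx K) (ε K) (W X) (DCoh.LTensorCx Z) (βφ φ) N

variable (A : CochainComplex X.Modules ℤ) (hA : DCoh.IsKFlat A)

/-- the derived associator is natural in the third variable -/
lemma γ_natural (M : DCoh.D X) :
    (γ A hA Z hZ).app M ≫ (SL A hA).map ((LTensorCxIsoOfQuasiIso φ).hom.app M) =
      (LTensorCxIsoOfQuasiIso φ).hom.app ((SL A hA).obj M) ≫ (γ A hA K hK).app M := by
  have ht := isDesc_LTensorCxIsoOfQuasiIso φ hZ hK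
  have hL := (isDesc_γ A hA Z hZ).comp (ht.whiskerRight (dSL A hA))
  have hR := (IsDesc.whiskerLeft (dSL A hA) ht).comp (isDesc_γ A hA K hK)
  have e := IsDesc.ext' (W X) hL hR (by
    apply NatTrans.ext
    funext N
    simp only [NatTrans.comp_app, Functor.whiskerRight_app, Functor.whiskerLeft_app,
      assocMid_hom_app]
    have h := Groth.Agent.Lib.Helper25.TensorAssoc3.mapBifunctorAssociator_hom_naturality
      (assocX (X := X)) (𝟙 A) (𝟙 N) φ (ComplexShape.up ℤ) (ComplexShape.up ℤ) (ComplexShape.up ℤ)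
    have e1 : mapBifunctorMap (𝟙 A) (𝟙 N) (DCoh.tensorBi (X := X)) (ComplexShape.up ℤ) = 𝟙 _ :=
      ((DCoh.tensorCx (X := X)).obj A).map_id N
    rw [e1] at h
    exact h.symm)
  have e' := congrArg (fun t => t.app M) e
  simp only [NatTrans.comp_app, Functor.whiskerRight_app, Functor.whiskerLeft_app] at e'
  exact e'

end Natural

section Exists

open DerivedCategory Groth.Agent.Lib.Helper25.LTensorQis Groth.Agent.Lib.Helper25.DualCx5
  Groth.Agent.Lib.Helper25.DualCx6 Groth.Agent.Lib.Helper25.DualCx4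

/-- inverting the compatibility of a natural isomorphism `t` with two "associators" -/
lemma compat_symm {𝒳 : Type*} [Category 𝒳] {T T₁ P : 𝒳 ⥤ 𝒳} (t : T ≅ T₁) (γ : P ⋙ T ⟶ T ⋙ P)
    (γ₁ : P ⋙ T₁ ⟶ T₁ ⋙ P)
    (hγ : ∀ M : 𝒳, γ.app M ≫ P.map (t.hom.app M) = t.hom.app (P.obj M) ≫ γ₁.app M) (M : 𝒳) :
    γ₁.app M ≫ P.map (t.symm.hom.app M) = t.symm.hom.app (P.obj M) ≫ γ.app M := by
  have e1 : P.map (t.hom.app M) ≫ P.map (t.inv.app M) = 𝟙 _ := by
    rw [← Functor.map_comp, Iso.hom_inv_id_app, CategoryTheory.Functor.map_id]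
  have e2 : t.inv.app (P.obj M) ≫ t.hom.app (P.obj M) = 𝟙 _ := Iso.inv_hom_id_app t _
  change γ₁.app M ≫ P.map (t.inv.app M) = t.inv.app (P.obj M) ≫ γ.app M
  calc γ₁.app M ≫ P.map (t.inv.app M)
      = (t.inv.app (P.obj M) ≫ t.hom.app (P.obj M)) ≫ γ₁.app M ≫ P.map (t.inv.app M) := by
        rw [e2]; exact (Category.id_comp _).symm
    _ = t.inv.app (P.obj M) ≫ (γ.app M ≫ P.map (t.hom.app M)) ≫ P.map (t.inv.app M) := by
        rw [hγ]; simp only [Category.assoc]
    _ = t.inv.app (P.obj M) ≫ γ.app M := by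
        rw [Category.assoc, e1]; erw [Category.comp_id]

/-- **the mate of the derived associator is invertible** for a K-flat complex `K` which is isomorphic in `D(O_X)` to a
bounded complex of finite free modules, for a suitable right adjoint of `- ⊗^L K` -/
theorem exists_adj_isIso_mateApp (K : CochainComplex X.Modules ℤ) (hK : DCoh.IsKFlat K)
    (h : SPD (Q.obj K)) (A : CochainComplex X.Modules ℤ) (hA : DCoh.IsKFlat A) :
    ∃ (H' : DCoh.D X ⥤ DCoh.D X) (adj' : DCoh.LTensorCx K ⊣ H'),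
      ∀ N : DCoh.D X, IsIso (mateApp adj' (γ A hA K hK) N) := by
  obtain ⟨F, ⟨⟨a, c, hac⟩, hf⟩, ⟨e⟩⟩ := h
  choose n hn using hf
  let b : ∀ q : ℤ, Based (Coh.structureModule X) (F.X q) :=
    fun q => basedOfIso (basedFree X (n q)) (hn q).some.symm
  have ha : ∀ q, q < a → IsZero (F.X q) := fun q hq => hac q (Or.inl hq)
  have hc : ∀ q, c < q → IsZero (F.X q) := fun q hq => hac q (Or.inr hq)
  have hF : DCoh.IsKFlat F := isKFlat_of_based F b c hc
  -- a K-flat roof `K ⟵ Z ⟶ F`
  obtain ⟨Z₀, s₀, hs₀, g₀, hg₀⟩ := DerivedCategory.right_fac e.hom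
  obtain ⟨Z, r, hZ, hr⟩ := Groth.Agent.Lib.Helper25.LTensorDCoh.hres₀ Z₀
  haveI : QuasiIso s₀ := (DerivedCategory.isIso_Q_map_iff_quasiIso (φ := s₀)).1 hs₀
  have hg' : IsIso (Q.map g₀) := by
    have h1 : Q.map g₀ = Q.map s₀ ≫ e.hom := by
      rw [hg₀, IsIso.hom_inv_id_assoc]
    rw [h1]
    infer_instance
  haveI : QuasiIso g₀ := (DerivedCategory.isIso_Q_map_iff_quasiIso (φ := g₀)).1 hg'
  haveI : QuasiIso (r ≫ s₀) := inferInstance
  haveI : QuasiIso (r ≫ g₀) := inferInstance
  let ts := LTensorCxIsoOfQuasiIso (r ≫ s₀)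
  let tg := LTensorCxIsoOfQuasiIso (r ≫ g₀)
  let adjF := adjD F b a c ha hc
  let adjZ := adjF.ofNatIsoLeft tg.symm
  let adjK := adjZ.ofNatIsoLeft ts
  refine ⟨_, adjK, fun N => ?_⟩
  have h1 : mateApp adjK (γ A hA K hK) N = mateApp adjZ (γ A hA Z hZ) N :=
    mateApp_ofNatIsoLeft adjZ (γ A hA Z hZ) ts (γ A hA K hK)
      (fun M => γ_natural (r ≫ s₀) hZ hK A hA M) N
  have h2 : mateApp adjZ (γ A hA Z hZ) N = mateApp adjF (γ A hA F hF) N :=
    mateApp_ofNatIsoLeft adjF (γ A hA F hF) tg.symm (γ A hA Z hZ)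
      (fun M => compat_symm tg (γ A hA Z hZ) (γ A hA F hF)
        (fun M' => γ_natural (r ≫ g₀) hZ hF A hA M') M) N
  rw [h1, h2]
  exact isIso_mateApp_adjD F b a c ha hc A hA N

end Exists

end Groth.Agent.Lib.Helper25.PerfDual6
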