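import Groth.Agent.Lib.Helper25.PerfDual4
import Groth.Agent.Lib.Helper13.RestrKFlat1
import Groth.Agent.Lib.Helper12.TensorSec

/-!
# Restriction to an open is compatible with the associator of modules (helper25)

* site level: `t₃L`, `t₃R` (the universal trilinear maps), `t₃L_assoc` (characterisation of `TensorAssoc1.assocApp`),
  `hom_ext₃` (morphisms out of `(A ⊗ B) ⊗ D` are determined on `t₃L`).
* scheme level: `assoc_tmul` (`α((m ⊗ n) ⊗ l) = m ⊗ (n ⊗ l)`), `hom_ext_tmul₃`.
* `res_assoc_mod`: `(κ_{M,N} ⊗ L|_U) ≫ κ_{M ⊗ N,L} ≫ (α)|_U = α ≫ (M|_U ⊗ κ_{N,L}) ≫ κ_{M,N ⊗ L}` for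
  `κ = (resTensorBiIso g - -).inv`.
-/

set_option autoImplicit false
universe u
open CategoryTheory Limits AlgebraicGeometry MonoidalCategory Opposite

namespace Groth.Agent.Lib.Helper25.PerfDual7

open Groth.Agent.Lib.Helper21.TensorW Groth.Agent.Lib.Helper21.TensorAdj
  Groth.Agent.Lib.Helper25.TensorAssoc1

section Site

variable {C : Type u} [SmallCategory C] {J : GrothendieckTopology C} {O : Sheaf J CommRingCat.{u}}
  (A B D : ModSite.Mod O)

/-- `(A ⊗ B) ⊗ D` -/
noncomputable abbrev tenL : ModSite.Mod O := (shf O).obj (pv ((shf O).obj (pv A ⊗ pv B)) ⊗ pv D)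

/-- `A ⊗ (B ⊗ D)` -/
noncomputable abbrev tenR : ModSite.Mod O := (shf O).obj (pv A ⊗ pv ((shf O).obj (pv B ⊗ pv D)))

/-- the associator, with explicit types -/
noncomputable def aS : tenL A B D ⟶ tenR A B D := (assocApp A B D).hom

/-- the universal trilinear map `(A ⊗ B) ⊗ D` (presheaf tensor products) `⟶ (A ⊗ B) ⊗ D` (sheaves) -/
noncomputable def t₃L : (pv A ⊗ pv B) ⊗ pv D ⟶ pv (tenL A B D) :=
  uMap A B D ≫ unitP O (pv ((shf O).obj (pv A ⊗ pv B)) ⊗ pv D)

/-- the universal trilinear map `A ⊗ (B ⊗ D)` (presheaf tensor products) `⟶ A ⊗ (B ⊗ D)` (sheaves) -/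
noncomputable def t₃R : pv A ⊗ (pv B ⊗ pv D) ⟶ pv (tenR A B D) :=
  vMap A B D ≫ unitP O (pv A ⊗ pv ((shf O).obj (pv B ⊗ pv D)))

lemma unit_map_u :
    unitP O ((pv A ⊗ pv B) ⊗ pv D) ≫ pvMap ((shf O).map (uMap A B D)) = t₃L A B D :=
  (unitP_naturality O (uMap A B D)).symm

lemma map_u_aS : (shf O).map (uMap A B D) ≫ aS A B D =
    (shf O).map ((α_ (pv A) (pv B) (pv D)).hom ≫ vMap A B D) := by
  have h : aS A B D = @inv _ _ _ _ ((shf O).map (uMap A B D)) (isIso_u A B D) ≫
      (shf O).map ((α_ (pv A) (pv B) (pv D)).hom ≫ vMap A B D) := assocApp_hom A B D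
  rw [h]
  exact IsIso.hom_inv_id_assoc _ _

/-- characterisation of the associator -/
lemma t₃L_assoc :
    t₃L A B D ≫ pvMap (aS A B D) = (α_ (pv A) (pv B) (pv D)).hom ≫ t₃R A B D := by
  have h2 : pvMap ((shf O).map (uMap A B D)) ≫ pvMap (aS A B D) =
      pvMap ((shf O).map ((α_ (pv A) (pv B) (pv D)).hom ≫ vMap A B D)) :=
    congrArg (fun φ => pvMap φ) (map_u_aS A B D)
  have h3 : ((α_ (pv A) (pv B) (pv D)).hom ≫ vMap A B D) ≫
      unitP O (pv A ⊗ pv ((shf O).obj (pv B ⊗ pv D))) =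
      unitP O ((pv A ⊗ pv B) ⊗ pv D) ≫
        pvMap ((shf O).map ((α_ (pv A) (pv B) (pv D)).hom ≫ vMap A B D)) :=
    unitP_naturality O ((α_ (pv A) (pv B) (pv D)).hom ≫ vMap A B D)
  calc t₃L A B D ≫ pvMap (aS A B D)
      = (unitP O ((pv A ⊗ pv B) ⊗ pv D) ≫ pvMap ((shf O).map (uMap A B D))) ≫
          pvMap (aS A B D) := by rw [unit_map_u]
    _ = unitP O ((pv A ⊗ pv B) ⊗ pv D) ≫ pvMap ((shf O).map (uMap A B D)) ≫
          pvMap (aS A B D) := Category.assoc _ _ _
    _ = unitP O ((pv A ⊗ pv B) ⊗ pv D) ≫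
          pvMap ((shf O).map ((α_ (pv A) (pv B) (pv D)).hom ≫ vMap A B D)) := by rw [h2]
    _ = ((α_ (pv A) (pv B) (pv D)).hom ≫ vMap A B D) ≫
          unitP O (pv A ⊗ pv ((shf O).obj (pv B ⊗ pv D))) := h3.symm
    _ = (α_ (pv A) (pv B) (pv D)).hom ≫ t₃R A B D := Category.assoc _ _ _

/-- morphisms out of `(A ⊗ B) ⊗ D` are determined on the universal trilinear map -/
lemma hom_ext₃ {E : ModSite.Mod O} (f f' : tenL A B D ⟶ E)
    (h : t₃L A B D ≫ pvMap f = t₃L A B D ≫ pvMap f') : f = f' := by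
  haveI := isIso_u A B D
  rw [← cancel_epi ((shf O).map (uMap A B D))]
  apply ((shfAdj O).homEquiv _ _).injective
  rw [Adjunction.homEquiv_unit, Adjunction.homEquiv_unit]
  have e : ∀ k : tenL A B D ⟶ E,
      (shfAdj O).unit.app (((pv A ⊗ pv B) ⊗ pv D : PM O)) ≫
        (SheafOfModules.forget _ ⋙ PresheafOfModules.restrictScalars
          (𝟙 (ModSite.ringSh O).obj)).map ((shf O).map (uMap A B D) ≫ k) = t₃L A B D ≫ pvMap k := by
    intro k
    rw [← unit_map_u, Category.assoc]
    rfl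
  rw [e f, e f', h]

end Site

section Scheme

open Groth.Agent.Lib.helper12.TensorRestrict Groth.Agent.Lib.helper12.TensorSec
  Groth.Agent.Lib.helper12.PullTensor Groth.Agent.Lib.helper13.RestrKFlat
  Groth.Agent.Lib.Helper25.PerfDual2 Groth.Agent.Lib.Helper25.PerfDual4 TensorProduct

variable {X : Scheme.{u}} (M N L : X.Modules)

/-- the associator of `DCoh.tensorBi`, typed with `CohB1.tensorMod` -/
noncomputable def aX :
    CohB1.tensorMod (CohB1.tensorMod M N) L ⟶ CohB1.tensorMod M (CohB1.tensorMod N L) :=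
  aHom (DCoh.tensorBi (X := X)) assocX M N L

lemma aX_eq : aX M N L = aS (O := X.sheaf) M N L := rfl

/-- **section formula for the associator**: `α((m ⊗ n) ⊗ l) = m ⊗ (n ⊗ l)` -/
theorem aX_tmul (U : X.Opens) (m : M.val.obj (op U)) (n : N.val.obj (op U)) (l : L.val.obj (op U)) :
    ((aX M N L).val.app (op U)).hom
        (SecTwist.tmul (CohB1.tensorMod M N) L U (SecTwist.tmul M N U m n) l) =
      SecTwist.tmul M (CohB1.tensorMod N L) U m (SecTwist.tmul N L U n l) := by
  have h := t₃L_assoc (O := X.sheaf) M N L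
  have h' := congrArg (fun φ => (PresheafOfModules.Hom.app φ (op U)).hom
    ((m ⊗ₜ n) ⊗ₜ l : ↥(((pv (O := X.sheaf) M ⊗ pv (O := X.sheaf) N) ⊗ pv (O := X.sheaf) L :
      PM X.sheaf).obj (op U)))) h
  exact h'

/-- two morphisms out of `(M ⊗ N) ⊗ L` which agree on all sections `(m ⊗ n) ⊗ l` are equal -/
theorem hom_ext_tmul₃ {E : X.Modules} (f f' : CohB1.tensorMod (CohB1.tensorMod M N) L ⟶ E)
    (H : ∀ (U : X.Opens) (m : M.val.obj (op U)) (n : N.val.obj (op U)) (l : L.val.obj (op U)),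
      (f.val.app (op U)).hom
          (SecTwist.tmul (CohB1.tensorMod M N) L U (SecTwist.tmul M N U m n) l) =
        (f'.val.app (op U)).hom
          (SecTwist.tmul (CohB1.tensorMod M N) L U (SecTwist.tmul M N U m n) l)) :
    f = f' := by
  refine hom_ext₃ (O := X.sheaf) M N L f f' ?_
  ext V : 1
  apply ModuleCat.MonoidalCategory.tensor_ext₃'
  intro m n l
  exact H V.unop m n l

end Scheme

section Res

open Groth.Agent.Lib.helper12.TensorRestrict Groth.Agent.Lib.helper12.TensorSec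
  Groth.Agent.Lib.helper12.PullTensor Groth.Agent.Lib.Lead.ModTensor Scheme.Modules

variable {Y Z : Scheme.{u}} (g : Z ⟶ Y) [IsOpenImmersion g] (M N L : Y.Modules)

/-- **restriction to an open is compatible with the associator of modules** -/
theorem res_assoc_mod :
    tensorMap (restrictTensorIso g M N).inv (𝟙 ((restrictFunctor g).obj L)) ≫
        (restrictTensorIso g (CohB1.tensorMod M N) L).inv ≫ (restrictFunctor g).map (aX M N L) =
      aX ((restrictFunctor g).obj M) ((restrictFunctor g).obj N) ((restrictFunctor g).obj L) ≫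
        tensorMap (𝟙 ((restrictFunctor g).obj M)) (restrictTensorIso g N L).inv ≫
        (restrictTensorIso g M (CohB1.tensorMod N L)).inv := by
  apply hom_ext_tmul₃
  intro V m n l
  change ((aX M N L).val.app (op (g ''ᵁ V))).hom
      (((restrictTensorIso g (CohB1.tensorMod M N) L).inv.val.app (op V)).hom
        (((tensorMap (restrictTensorIso g M N).inv (𝟙 ((restrictFunctor g).obj L))).val.app
          (op V)).hom _)) =
    ((restrictTensorIso g M (CohB1.tensorMod N L)).inv.val.app (op V)).hom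
      (((tensorMap (𝟙 ((restrictFunctor g).obj M)) (restrictTensorIso g N L).inv).val.app
        (op V)).hom
        (((aX ((restrictFunctor g).obj M) ((restrictFunctor g).obj N)
          ((restrictFunctor g).obj L)).val.app (op V)).hom _))
  -- left hand side
  refine (congrArg _ (congrArg _ (tensorMap_tmul _ _ V _ l))).trans ?_
  refine (congrArg _ (congrArg _ (congrArg (fun x => SecTwist.tmul _ _ V x _)
    (restrictTensorIso_inv_tmul g M N V m n)))).trans ?_
  refine (congrArg _ (restrictTensorIso_inv_tmul g (CohB1.tensorMod M N) L V _ l)).trans ?_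
  refine (aX_tmul M N L (g ''ᵁ V) m n l).trans ?_
  -- right hand side
  refine Eq.trans ?_ (congrArg _ (congrArg _ (aX_tmul _ _ _ V m n l))).symm
  refine Eq.trans ?_ (congrArg _ (tensorMap_tmul _ _ V m _)).symm
  refine Eq.trans ?_ (congrArg _ (congrArg (fun x => SecTwist.tmul _ _ V _ x)
    (restrictTensorIso_inv_tmul g N L V n l))).symm
  exact (restrictTensorIso_inv_tmul g M (CohB1.tensorMod N L) V m _).symm

open Groth.Agent.Lib.helper13.RestrKFlat Groth.Agent.Lib.Helper25.PerfDual2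
  Groth.Agent.Lib.Helper25.PerfDual4 in
/-- `res_assoc_mod` in terms of `DCoh.tensorBi` and `resTensorBiIso` -/
theorem res_assoc_mod' :
    ((DCoh.tensorBi (X := Z)).map (resTensorBiIso g M N).inv).app ((restrictFunctor g).obj L) ≫
        (resTensorBiIso g (((DCoh.tensorBi (X := Y)).obj M).obj N) L).inv ≫
        (restrictFunctor g).map (aHom (DCoh.tensorBi (X := Y)) assocX M N L) =
      aHom (DCoh.tensorBi (X := Z)) assocX ((restrictFunctor g).obj M) ((restrictFunctor g).obj N)
          ((restrictFunctor g).obj L) ≫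
        ((DCoh.tensorBi (X := Z)).obj ((restrictFunctor g).obj M)).map (resTensorBiIso g N L).inv ≫
        (resTensorBiIso g M (((DCoh.tensorBi (X := Y)).obj N).obj L)).inv := by
  rw [tensorBi_map_app, tensorBi_obj_map]
  exact res_assoc_mod g M N L

end Res

end Groth.Agent.Lib.Helper25.PerfDual7
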