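import Groth.Agent.Lib.Helper13.RestrKFlat1
import Groth.Agent.Lib.Helper25.LTensorComp

/-!
# Restriction to an open commutes with `- ⊗ K`, naturally in the first variable (helper25)

* `resTensorCxIso_hom_naturality_left`: naturality of helper13's `resTensorCxIso g F K` in `F`.
* `resTensorNatIso g K : tR K ⋙ resCx g ≅ resCx g ⋙ tR (K|_U)`.
-/

set_option autoImplicit false
universe u
open CategoryTheory CategoryTheory.Limits AlgebraicGeometry HomologicalComplex

namespace Groth.Agent.Lib.Helper25.ResTensorNat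

open Groth.Agent.Lib.helper13.RestrKFlat Groth.Agent.Lib.Helper25.LTensorComp Scheme.Modules

variable {Y Z : Scheme.{u}} (g : Z ⟶ Y) [IsOpenImmersion g] (K : CochainComplex Y.Modules ℤ)

/-- the map of bicomplexes `F^p ⊗ K^q ⟶ F'^p ⊗ K^q` -/
noncomputable abbrev bmap {F F' : CochainComplex Y.Modules ℤ} (φ : F ⟶ F') :
    tenBicx F K ⟶ tenBicx F' K :=
  (((DCoh.tensorBi (X := Y)).mapBifunctorHomologicalComplex (ComplexShape.up ℤ)
    (ComplexShape.up ℤ)).map φ).app K

lemma tR_map_eq {F F' : CochainComplex Y.Modules ℤ} (φ : F ⟶ F') :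
    (tR K).map φ = HomologicalComplex₂.total.map (bmap K φ) (ComplexShape.up ℤ) := by
  change mapBifunctorMap φ (𝟙 K) (DCoh.tensorBi (X := Y)) (ComplexShape.up ℤ) = _
  unfold mapBifunctorMap
  congr 1
  rw [CategoryTheory.Functor.map_id, Category.comp_id]

lemma bicxIso_naturality {F F' : CochainComplex Y.Modules ℤ} (φ : F ⟶ F') :
    (TotMap.map₂ (restrictFunctor g) (ComplexShape.up ℤ) (ComplexShape.up ℤ)).map (bmap K φ) ≫
        (bicxIso g F' K).hom =
      (bicxIso g F K).hom ≫ bmap ((resCx g).obj K) ((resCx g).map φ) := by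
  refine HomologicalComplex.hom_ext _ _ (fun p => HomologicalComplex.hom_ext _ _ (fun q => ?_))
  exact resTensorBiIso_hom_naturality_left g (φ.f p) (K.X q)

theorem resTensorCxIso_hom_naturality_left {F F' : CochainComplex Y.Modules ℤ} (φ : F ⟶ F') :
    (resCx g).map ((tR K).map φ) ≫ (resTensorCxIso g F' K).hom =
      (resTensorCxIso g F K).hom ≫ (tR ((resCx g).obj K)).map ((resCx g).map φ) := by
  haveI := TotMap.hasTotal_map₂ (restrictFunctor g) (tenBicx F K) (ComplexShape.up ℤ)
  haveI := TotMap.hasTotal_map₂ (restrictFunctor g) (tenBicx F' K) (ComplexShape.up ℤ)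
  have h1 := TotMap.mapTotalIso_hom_naturality (restrictFunctor g) (ComplexShape.up ℤ) (bmap K φ)
  have h2 : HomologicalComplex₂.total.map
        ((TotMap.map₂ (restrictFunctor g) (ComplexShape.up ℤ) (ComplexShape.up ℤ)).map (bmap K φ))
        (ComplexShape.up ℤ) ≫
      HomologicalComplex₂.total.map (bicxIso g F' K).hom (ComplexShape.up ℤ) =
      HomologicalComplex₂.total.map (bicxIso g F K).hom (ComplexShape.up ℤ) ≫
        HomologicalComplex₂.total.map (bmap ((resCx g).obj K) ((resCx g).map φ))
          (ComplexShape.up ℤ) := by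
    rw [← HomologicalComplex₂.total.map_comp, ← HomologicalComplex₂.total.map_comp,
      bicxIso_naturality]
  rw [tR_map_eq, tR_map_eq]
  change (resCx g).map (HomologicalComplex₂.total.map (bmap K φ) (ComplexShape.up ℤ)) ≫
      (TotMap.mapTotalIso (restrictFunctor g) (tenBicx F' K) (ComplexShape.up ℤ)).hom ≫
        HomologicalComplex₂.total.map (bicxIso g F' K).hom (ComplexShape.up ℤ) =
    ((TotMap.mapTotalIso (restrictFunctor g) (tenBicx F K) (ComplexShape.up ℤ)).hom ≫
        HomologicalComplex₂.total.map (bicxIso g F K).hom (ComplexShape.up ℤ)) ≫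
      HomologicalComplex₂.total.map (bmap ((resCx g).obj K) ((resCx g).map φ)) (ComplexShape.up ℤ)
  rw [reassoc_of% h1, h2, Category.assoc]

/-- **restriction commutes with `- ⊗ K`**, as a natural isomorphism in the first variable -/
noncomputable def resTensorNatIso :
    tR K ⋙ resCx g ≅ resCx g ⋙ tR ((resCx g).obj K) :=
  NatIso.ofComponents (fun F => resTensorCxIso g F K)
    (fun {F F'} φ => resTensorCxIso_hom_naturality_left g K φ)

end Groth.Agent.Lib.Helper25.ResTensorNat
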