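import Groth.Agent.Lib.Helper25.PerfDual6
import Groth.Agent.Lib.Helper25.PerfDual7
import Groth.Agent.Lib.Helper25.ResTensorNat

/-!
# Restriction to an open is compatible with the associator of complexes (helper25)

* `resTensorCxIso_hom_naturality_right`, `resTensorLeftNatIso g A : tL A ⋙ resCx g ≅ resCx g ⋙ tL (A|_U)`.
* `res_assoc`: `(λ_{A,N} ⊗ K|_U) ≫ α ≫ (A|_U ⊗ κ_{N,K}) = κ_{A ⊗ N,K} ≫ (α)|_U ≫ λ_{A,N ⊗ K}`
  (`λ = resTensorCxIso.hom`, `κ = resTensorCxIso.inv`).
-/

set_option autoImplicit false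
universe u
open CategoryTheory CategoryTheory.Limits AlgebraicGeometry HomologicalComplex

namespace Groth.Agent.Lib.Helper25.PerfDual8

open Groth.Agent.Lib.helper13.RestrKFlat Groth.Agent.Lib.Helper25.LTensorComp Scheme.Modules
  Groth.Agent.Lib.Helper25.ResTensorNat Groth.Agent.Lib.Helper25.PerfDual4
  Groth.Agent.Lib.Helper25.PerfDual6 Groth.Agent.Lib.Helper25.PerfDual2

variable {Y Z : Scheme.{u}} (g : Z ⟶ Y) [IsOpenImmersion g]

section Right

variable (A : CochainComplex Y.Modules ℤ)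

/-- the map of bicomplexes `A^p ⊗ N^q ⟶ A^p ⊗ N'^q` -/
noncomputable abbrev bmapR {N N' : CochainComplex Y.Modules ℤ} (φ : N ⟶ N') :
    tenBicx A N ⟶ tenBicx A N' :=
  (((DCoh.tensorBi (X := Y)).mapBifunctorHomologicalComplex (ComplexShape.up ℤ)
    (ComplexShape.up ℤ)).obj A).map φ

lemma tL_map_eq {N N' : CochainComplex Y.Modules ℤ} (φ : N ⟶ N') :
    (tL A).map φ = HomologicalComplex₂.total.map (bmapR A φ) (ComplexShape.up ℤ) := by
  change mapBifunctorMap (𝟙 A) φ (DCoh.tensorBi (X := Y)) (ComplexShape.up ℤ) = _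
  unfold mapBifunctorMap
  congr 1
  rw [CategoryTheory.Functor.map_id]
  exact Category.id_comp _

lemma bicxIso_naturality_right {N N' : CochainComplex Y.Modules ℤ} (φ : N ⟶ N') :
    (TotMap.map₂ (restrictFunctor g) (ComplexShape.up ℤ) (ComplexShape.up ℤ)).map (bmapR A φ) ≫
        (bicxIso g A N').hom =
      (bicxIso g A N).hom ≫ bmapR ((resCx g).obj A) ((resCx g).map φ) := by
  refine HomologicalComplex.hom_ext _ _ (fun p => HomologicalComplex.hom_ext _ _ (fun q => ?_))
  exact resTensorBiIso_hom_naturality_right g (A.X p) (φ.f q)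

theorem resTensorCxIso_hom_naturality_right {N N' : CochainComplex Y.Modules ℤ} (φ : N ⟶ N') :
    (resCx g).map ((tL A).map φ) ≫ (resTensorCxIso g A N').hom =
      (resTensorCxIso g A N).hom ≫ (tL ((resCx g).obj A)).map ((resCx g).map φ) := by
  haveI := TotMap.hasTotal_map₂ (restrictFunctor g) (tenBicx A N) (ComplexShape.up ℤ)
  haveI := TotMap.hasTotal_map₂ (restrictFunctor g) (tenBicx A N') (ComplexShape.up ℤ)
  have h1 := TotMap.mapTotalIso_hom_naturality (restrictFunctor g) (ComplexShape.up ℤ) (bmapR A φ)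
  have h2 : HomologicalComplex₂.total.map
        ((TotMap.map₂ (restrictFunctor g) (ComplexShape.up ℤ) (ComplexShape.up ℤ)).map (bmapR A φ))
        (ComplexShape.up ℤ) ≫
      HomologicalComplex₂.total.map (bicxIso g A N').hom (ComplexShape.up ℤ) =
      HomologicalComplex₂.total.map (bicxIso g A N).hom (ComplexShape.up ℤ) ≫
        HomologicalComplex₂.total.map (bmapR ((resCx g).obj A) ((resCx g).map φ))
          (ComplexShape.up ℤ) := by
    rw [← HomologicalComplex₂.total.map_comp, ← HomologicalComplex₂.total.map_comp,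
      bicxIso_naturality_right]
  rw [tL_map_eq, tL_map_eq]
  change (resCx g).map (HomologicalComplex₂.total.map (bmapR A φ) (ComplexShape.up ℤ)) ≫
      (TotMap.mapTotalIso (restrictFunctor g) (tenBicx A N') (ComplexShape.up ℤ)).hom ≫
        HomologicalComplex₂.total.map (bicxIso g A N').hom (ComplexShape.up ℤ) =
    ((TotMap.mapTotalIso (restrictFunctor g) (tenBicx A N) (ComplexShape.up ℤ)).hom ≫
        HomologicalComplex₂.total.map (bicxIso g A N).hom (ComplexShape.up ℤ)) ≫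
      HomologicalComplex₂.total.map (bmapR ((resCx g).obj A) ((resCx g).map φ)) (ComplexShape.up ℤ)
  rw [reassoc_of% h1, h2, Category.assoc]

/-- **restriction commutes with `A ⊗ -`**, as a natural isomorphism in the second variable -/
noncomputable def resTensorLeftNatIso :
    tL A ⋙ resCx g ≅ resCx g ⋙ tL ((resCx g).obj A) :=
  NatIso.ofComponents (fun N => resTensorCxIso g A N)
    (fun {N N'} φ => resTensorCxIso_hom_naturality_right g A φ)

end Right

section Iota

variable (K L : CochainComplex Y.Modules ℤ)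

/-- the inverse of `resTensorCxIso` on a summand -/
lemma ι_resTensorCxIso_inv (p q n : ℤ) (h : p + q = n) :
    ιMapBifunctor ((resCx g).obj K) ((resCx g).obj L) (DCoh.tensorBi (X := Z)) (ComplexShape.up ℤ)
        p q n h ≫ (resTensorCxIso g K L).inv.f n =
      (resTensorBiIso g (K.X p) (L.X q)).inv ≫
        (restrictFunctor g).map
          (ιMapBifunctor K L (DCoh.tensorBi (X := Y)) (ComplexShape.up ℤ) p q n h) := by
  haveI := TotMap.hasTotal_map₂ (restrictFunctor g) (tenBicx K L) (ComplexShape.up ℤ)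
  have e : (resTensorCxIso g K L).inv.f n =
      (HomologicalComplex₂.total.map (bicxIso g K L).inv (ComplexShape.up ℤ)).f n ≫
        (TotMap.mapTotalIso (restrictFunctor g) (tenBicx K L) (ComplexShape.up ℤ)).inv.f n := rfl
  rw [e]
  have h1 := HomologicalComplex₂.ιTotal_map_assoc _ _ (bicxIso g K L).inv (ComplexShape.up ℤ) p q n h
    ((TotMap.mapTotalIso (restrictFunctor g) (tenBicx K L) (ComplexShape.up ℤ)).inv.f n)
  have h2 := TotMap.ιTotal_mapTotalIso_inv_f (restrictFunctor g) (tenBicx K L) (ComplexShape.up ℤ)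
    p q n h
  exact h1.trans (congrArg (fun t => (resTensorBiIso g (K.X p) (L.X q)).inv ≫ t) h2)

end Iota

section Triple

variable (A N K : CochainComplex Y.Modules ℤ)

/-- naturality of `(resTensorBiIso ..).inv` in the first variable -/
lemma κ_naturality_left {M M' : Y.Modules} (a : M ⟶ M') (P : Y.Modules) :
    ((DCoh.tensorBi (X := Z)).map ((restrictFunctor g).map a)).app ((restrictFunctor g).obj P) ≫
        (resTensorBiIso g M' P).inv =
      (resTensorBiIso g M P).inv ≫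
        (restrictFunctor g).map (((DCoh.tensorBi (X := Y)).map a).app P) := by
  rw [Iso.comp_inv_eq, Category.assoc, Iso.eq_inv_comp]
  exact (resTensorBiIso_hom_naturality_left g a P).symm

/-- naturality of `(resTensorBiIso ..).inv` in the second variable -/
lemma κ_naturality_right (M : Y.Modules) {P P' : Y.Modules} (b : P ⟶ P') :
    ((DCoh.tensorBi (X := Z)).obj ((restrictFunctor g).obj M)).map ((restrictFunctor g).map b) ≫
        (resTensorBiIso g M P').inv =
      (resTensorBiIso g M P).inv ≫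
        (restrictFunctor g).map (((DCoh.tensorBi (X := Y)).obj M).map b) := by
  rw [Iso.comp_inv_eq, Category.assoc, Iso.eq_inv_comp]
  exact (resTensorBiIso_hom_naturality_right g M b).symm

lemma ι₁₂_κ (i₁ i₂ i₃ j : ℤ)
    (h : ComplexShape.r (ComplexShape.up ℤ) (ComplexShape.up ℤ) (ComplexShape.up ℤ)
      (ComplexShape.up ℤ) (ComplexShape.up ℤ) (i₁, i₂, i₃) = j) :
    mapBifunctor₁₂.ι (DCoh.tensorBi (X := Z)) (DCoh.tensorBi (X := Z)) ((resCx g).obj A)
        ((resCx g).obj N) ((resCx g).obj K) (ComplexShape.up ℤ) (ComplexShape.up ℤ) i₁ i₂ i₃ j h ≫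
        (mapBifunctorMap
          (K₁ := mapBifunctor ((resCx g).obj A) ((resCx g).obj N) (DCoh.tensorBi (X := Z))
            (ComplexShape.up ℤ))
          (L₁ := (resCx g).obj (mapBifunctor A N (DCoh.tensorBi (X := Y)) (ComplexShape.up ℤ)))
          (resTensorCxIso g A N).inv (𝟙 ((resCx g).obj K)) (DCoh.tensorBi (X := Z))
          (ComplexShape.up ℤ)).f j ≫
        (resTensorCxIso g (mapBifunctor A N (DCoh.tensorBi (X := Y)) (ComplexShape.up ℤ)) K).inv.f j =
      ((DCoh.tensorBi (X := Z)).map (resTensorBiIso g (A.X i₁) (N.X i₂)).inv).app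
          (((resCx g).obj K).X i₃) ≫
        (resTensorBiIso g (((DCoh.tensorBi (X := Y)).obj (A.X i₁)).obj (N.X i₂)) (K.X i₃)).inv ≫
        (restrictFunctor g).map (mapBifunctor₁₂.ι (DCoh.tensorBi (X := Y)) (DCoh.tensorBi (X := Y))
          A N K (ComplexShape.up ℤ) (ComplexShape.up ℤ) i₁ i₂ i₃ j h) := by
  rw [mapBifunctor₁₂.ι_eq (DCoh.tensorBi (X := Z)) (DCoh.tensorBi (X := Z)) ((resCx g).obj A)
      ((resCx g).obj N) ((resCx g).obj K) (ComplexShape.up ℤ) (ComplexShape.up ℤ) i₁ i₂ i₃ _ j rfl h,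
    mapBifunctor₁₂.ι_eq (DCoh.tensorBi (X := Y)) (DCoh.tensorBi (X := Y)) A N K
      (ComplexShape.up ℤ) (ComplexShape.up ℤ) i₁ i₂ i₃ _ j rfl h]
  have s1 := ι_mapBifunctorMap
    (K₁ := mapBifunctor ((resCx g).obj A) ((resCx g).obj N) (DCoh.tensorBi (X := Z))
      (ComplexShape.up ℤ))
    (L₁ := (resCx g).obj (mapBifunctor A N (DCoh.tensorBi (X := Y)) (ComplexShape.up ℤ)))
    (resTensorCxIso g A N).inv (𝟙 ((resCx g).obj K))
    (DCoh.tensorBi (X := Z)) (ComplexShape.up ℤ)
    ((ComplexShape.up ℤ).π (ComplexShape.up ℤ) (ComplexShape.up ℤ) (i₁, i₂)) i₃ j h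
  rw [id_f, CategoryTheory.Functor.map_id, Category.id_comp] at s1
  have s2 := ι_resTensorCxIso_inv g A N i₁ i₂
    ((ComplexShape.up ℤ).π (ComplexShape.up ℤ) (ComplexShape.up ℤ) (i₁, i₂)) rfl
  have s3 := ι_resTensorCxIso_inv g
    (mapBifunctor A N (DCoh.tensorBi (X := Y)) (ComplexShape.up ℤ)) K
    ((ComplexShape.up ℤ).π (ComplexShape.up ℤ) (ComplexShape.up ℤ) (i₁, i₂)) i₃ j h
  have s4 := κ_naturality_left g
    (ιMapBifunctor A N (DCoh.tensorBi (X := Y)) (ComplexShape.up ℤ) i₁ i₂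
      ((ComplexShape.up ℤ).π (ComplexShape.up ℤ) (ComplexShape.up ℤ) (i₁, i₂)) rfl) (K.X i₃)
  rw [Category.assoc, reassoc_of% s1, s3, ← NatTrans.comp_app_assoc, ← Functor.map_comp]
  erw [s2]
  erw [Functor.map_comp]
  rw [NatTrans.comp_app, Category.assoc]
  erw [reassoc_of% s4]
  rw [(restrictFunctor g).map_comp]
  rfl

lemma ι₂₃_κ (i₁ i₂ i₃ j : ℤ)
    (h : ComplexShape.r (ComplexShape.up ℤ) (ComplexShape.up ℤ) (ComplexShape.up ℤ)
      (ComplexShape.up ℤ) (ComplexShape.up ℤ) (i₁, i₂, i₃) = j) :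
    mapBifunctor₂₃.ι (DCoh.tensorBi (X := Z)) (DCoh.tensorBi (X := Z)) ((resCx g).obj A)
        ((resCx g).obj N) ((resCx g).obj K) (ComplexShape.up ℤ) (ComplexShape.up ℤ)
        (ComplexShape.up ℤ) i₁ i₂ i₃ j h ≫
        (mapBifunctorMap
          (K₂ := mapBifunctor ((resCx g).obj N) ((resCx g).obj K) (DCoh.tensorBi (X := Z))
            (ComplexShape.up ℤ))
          (L₂ := (resCx g).obj (mapBifunctor N K (DCoh.tensorBi (X := Y)) (ComplexShape.up ℤ)))
          (𝟙 ((resCx g).obj A)) (resTensorCxIso g N K).inv (DCoh.tensorBi (X := Z))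
          (ComplexShape.up ℤ)).f j ≫
        (resTensorCxIso g A (mapBifunctor N K (DCoh.tensorBi (X := Y)) (ComplexShape.up ℤ))).inv.f j =
      ((DCoh.tensorBi (X := Z)).obj (((resCx g).obj A).X i₁)).map
          (resTensorBiIso g (N.X i₂) (K.X i₃)).inv ≫
        (resTensorBiIso g (A.X i₁) (((DCoh.tensorBi (X := Y)).obj (N.X i₂)).obj (K.X i₃))).inv ≫
        (restrictFunctor g).map (mapBifunctor₂₃.ι (DCoh.tensorBi (X := Y)) (DCoh.tensorBi (X := Y))
          A N K (ComplexShape.up ℤ) (ComplexShape.up ℤ) (ComplexShape.up ℤ) i₁ i₂ i₃ j h) := by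
  have h' : ComplexShape.π (ComplexShape.up ℤ) (ComplexShape.up ℤ) (ComplexShape.up ℤ)
      (i₁, ComplexShape.π (ComplexShape.up ℤ) (ComplexShape.up ℤ) (ComplexShape.up ℤ) (i₂, i₃)) =
      j := by
    rw [← h, ← ComplexShape.assoc (ComplexShape.up ℤ) (ComplexShape.up ℤ) (ComplexShape.up ℤ)
      (ComplexShape.up ℤ) (ComplexShape.up ℤ) (ComplexShape.up ℤ)]
    rfl
  rw [mapBifunctor₂₃.ι_eq (DCoh.tensorBi (X := Z)) (DCoh.tensorBi (X := Z)) ((resCx g).obj A)
      ((resCx g).obj N) ((resCx g).obj K) (ComplexShape.up ℤ) (ComplexShape.up ℤ)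
      (ComplexShape.up ℤ) i₁ i₂ i₃ _ j rfl h',
    mapBifunctor₂₃.ι_eq (DCoh.tensorBi (X := Y)) (DCoh.tensorBi (X := Y)) A N K
      (ComplexShape.up ℤ) (ComplexShape.up ℤ) (ComplexShape.up ℤ) i₁ i₂ i₃ _ j rfl h']
  have s1 := ι_mapBifunctorMap
    (K₂ := mapBifunctor ((resCx g).obj N) ((resCx g).obj K) (DCoh.tensorBi (X := Z))
      (ComplexShape.up ℤ))
    (L₂ := (resCx g).obj (mapBifunctor N K (DCoh.tensorBi (X := Y)) (ComplexShape.up ℤ)))
    (𝟙 ((resCx g).obj A)) (resTensorCxIso g N K).inv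
    (DCoh.tensorBi (X := Z)) (ComplexShape.up ℤ) i₁
    ((ComplexShape.up ℤ).π (ComplexShape.up ℤ) (ComplexShape.up ℤ) (i₂, i₃)) j h'
  rw [id_f, CategoryTheory.Functor.map_id, NatTrans.id_app, Category.id_comp] at s1
  have s2 := ι_resTensorCxIso_inv g N K i₂ i₃
    ((ComplexShape.up ℤ).π (ComplexShape.up ℤ) (ComplexShape.up ℤ) (i₂, i₃)) rfl
  have s3 := ι_resTensorCxIso_inv g A
    (mapBifunctor N K (DCoh.tensorBi (X := Y)) (ComplexShape.up ℤ)) i₁
    ((ComplexShape.up ℤ).π (ComplexShape.up ℤ) (ComplexShape.up ℤ) (i₂, i₃)) j h'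
  have s4 := κ_naturality_right g (A.X i₁)
    (ιMapBifunctor N K (DCoh.tensorBi (X := Y)) (ComplexShape.up ℤ) i₂ i₃
      ((ComplexShape.up ℤ).π (ComplexShape.up ℤ) (ComplexShape.up ℤ) (i₂, i₃)) rfl)
  rw [Category.assoc, reassoc_of% s1, s3, ← Functor.map_comp_assoc]
  erw [s2]
  erw [Functor.map_comp]
  rw [Category.assoc]
  erw [reassoc_of% s4]
  rw [(restrictFunctor g).map_comp]
  rfl

open Groth.Agent.Lib.Helper25.PerfDual7 in
/-- **restriction is compatible with the associator of complexes** (inverse form) -/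
theorem res_assoc_inv :
    mapBifunctorMap
        (K₁ := mapBifunctor ((resCx g).obj A) ((resCx g).obj N) (DCoh.tensorBi (X := Z))
          (ComplexShape.up ℤ))
        (L₁ := (resCx g).obj (mapBifunctor A N (DCoh.tensorBi (X := Y)) (ComplexShape.up ℤ)))
        (resTensorCxIso g A N).inv (𝟙 ((resCx g).obj K)) (DCoh.tensorBi (X := Z))
        (ComplexShape.up ℤ) ≫
      (resTensorCxIso g (mapBifunctor A N (DCoh.tensorBi (X := Y)) (ComplexShape.up ℤ)) K).inv ≫
      (resCx g).map (αX A N K).hom =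
    (αX ((resCx g).obj A) ((resCx g).obj N) ((resCx g).obj K)).hom ≫
      mapBifunctorMap
        (K₂ := mapBifunctor ((resCx g).obj N) ((resCx g).obj K) (DCoh.tensorBi (X := Z))
          (ComplexShape.up ℤ))
        (L₂ := (resCx g).obj (mapBifunctor N K (DCoh.tensorBi (X := Y)) (ComplexShape.up ℤ)))
        (𝟙 ((resCx g).obj A)) (resTensorCxIso g N K).inv (DCoh.tensorBi (X := Z))
        (ComplexShape.up ℤ) ≫
      (resTensorCxIso g A (mapBifunctor N K (DCoh.tensorBi (X := Y)) (ComplexShape.up ℤ))).inv := by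
  refine HomologicalComplex.hom_ext _ _ (fun j => ?_)
  refine mapBifunctor₁₂.hom_ext (F₁₂ := DCoh.tensorBi (X := Z)) (G := DCoh.tensorBi (X := Z))
    (K₁ := (resCx g).obj A) (K₂ := (resCx g).obj N) (K₃ := (resCx g).obj K)
    (c₁₂ := ComplexShape.up ℤ) (c₄ := ComplexShape.up ℤ) (fun i₁ i₂ i₃ h => ?_)
  have hL := ι₁₂_κ g A N K i₁ i₂ i₃ j h
  have hR := ι₂₃_κ g A N K i₁ i₂ i₃ j h
  have hα := ι₁₂_α_hom (DCoh.tensorBi (X := Y)) assocX A N K i₁ i₂ i₃ j h
  have hα' := ι₁₂_α_hom (DCoh.tensorBi (X := Z)) assocX ((resCx g).obj A) ((resCx g).obj N)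
    ((resCx g).obj K) i₁ i₂ i₃ j h
  have hm := res_assoc_mod' g (A.X i₁) (N.X i₂) (K.X i₃)
  have e1 : (restrictFunctor g).map (mapBifunctor₁₂.ι (DCoh.tensorBi (X := Y))
        (DCoh.tensorBi (X := Y)) A N K (ComplexShape.up ℤ) (ComplexShape.up ℤ) i₁ i₂ i₃ j h) ≫
      ((resCx g).map (αX A N K).hom).f j =
      (restrictFunctor g).map (aHom (DCoh.tensorBi (X := Y)) assocX (A.X i₁) (N.X i₂) (K.X i₃)) ≫
        (restrictFunctor g).map (mapBifunctor₂₃.ι (DCoh.tensorBi (X := Y))
          (DCoh.tensorBi (X := Y)) A N K (ComplexShape.up ℤ) (ComplexShape.up ℤ)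
          (ComplexShape.up ℤ) i₁ i₂ i₃ j h) := by
    rw [← Functor.map_comp, ← hα]
    exact ((restrictFunctor g).map_comp _ _).symm
  have A1 := (reassoc_of% hL) (((resCx g).map (αX A N K).hom).f j)
  have A4 := (reassoc_of% hm) ((restrictFunctor g).map (mapBifunctor₂₃.ι (DCoh.tensorBi (X := Y))
    (DCoh.tensorBi (X := Y)) A N K (ComplexShape.up ℤ) (ComplexShape.up ℤ)
    (ComplexShape.up ℤ) i₁ i₂ i₃ j h))
  have B1 := (reassoc_of% hα')
    ((mapBifunctorMap
        (K₂ := mapBifunctor ((resCx g).obj N) ((resCx g).obj K) (DCoh.tensorBi (X := Z))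
          (ComplexShape.up ℤ))
        (L₂ := (resCx g).obj (mapBifunctor N K (DCoh.tensorBi (X := Y)) (ComplexShape.up ℤ)))
        (𝟙 ((resCx g).obj A)) (resTensorCxIso g N K).inv (DCoh.tensorBi (X := Z))
        (ComplexShape.up ℤ)).f j ≫
      (resTensorCxIso g A (mapBifunctor N K (DCoh.tensorBi (X := Y))
        (ComplexShape.up ℤ))).inv.f j)
  exact (A1.trans ((whisker_eq _ (whisker_eq _ e1)).trans A4)).trans
    (B1.trans (whisker_eq _ hR)).symm

/-- moving isomorphisms across a commutative square -/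
lemma iso_square {C : Type*} [Category C] {P P' R R' : C} (e₁ : P ≅ P') (e₃ : R ≅ R')
    (u : P ⟶ R) (v : P' ⟶ R') (h : e₁.inv ≫ u = v ≫ e₃.inv) : e₁.hom ≫ v = u ≫ e₃.hom := by
  rw [← cancel_mono e₃.inv, Category.assoc, Category.assoc, Iso.hom_inv_id, Category.comp_id, ← h,
    Iso.hom_inv_id_assoc]

/-- **restriction is compatible with the associator of complexes** -/
theorem res_assoc :
    (tR ((resCx g).obj K)).map (resTensorCxIso g A N).hom ≫
        (αX ((resCx g).obj A) ((resCx g).obj N) ((resCx g).obj K)).hom ≫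
        (tL ((resCx g).obj A)).map (resTensorCxIso g N K).inv =
      (resTensorCxIso g ((tL A).obj N) K).inv ≫ (resCx g).map (αX A N K).hom ≫
        (resTensorCxIso g A ((tR K).obj N)).hom := by
  have h : ((tR ((resCx g).obj K)).mapIso (resTensorCxIso g A N)).inv ≫
      ((resTensorCxIso g ((tL A).obj N) K).inv ≫ (resCx g).map (αX A N K).hom) =
      ((αX ((resCx g).obj A) ((resCx g).obj N) ((resCx g).obj K)).hom ≫
        (tL ((resCx g).obj A)).map (resTensorCxIso g N K).inv) ≫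
        (resTensorCxIso g A ((tR K).obj N)).inv :=
    (res_assoc_inv g A N K).trans (Category.assoc _ _ _).symm
  exact (iso_square _ _ _ _ h).trans (Category.assoc _ _ _)

end Triple

end Groth.Agent.Lib.Helper25.PerfDual8
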