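import Mathlib
import Groth.Agent.Lib.Helper25.MVSupp
import Groth.Agent.Lib.Helper25.DCohPC4

/-!
# `Rj_*` of a perfect complex supported on a set closed in the ambient scheme is perfect (helper25)

* `isPerfect_Rpush_of_support`: `j : U ⟶ X` open, `T ⊆ U` closed with `j(T)` closed in `X`, `E ∈ D(O_U)` perfect with
  cohomology sheaves supported on `T` ⇒ `Rj_* E` perfect.
-/

set_option autoImplicit false
universe u
open CategoryTheory CategoryTheory.Limits AlgebraicGeometry ZeroObject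
attribute [local instance] HasDerivedCategory.standard

namespace Groth.Agent.Lib.Helper25.PerfRpushOpen

open Groth.Agent.Lib.Helper25.MVSupp Groth.Agent.Lib.Helper25.SchKInj
  Groth.Agent.Lib.helper25.DCohPerfect Groth.Agent.Lib.helper25.DCohPC4

theorem isPerfect_Rpush_of_support {X : Scheme.{u}} (U : X.Opens) [DCoh.HasRpush U.ι]
    (E : DCoh.D (U : Scheme.{u})) (hE : DCoh.IsPerfect E) (T : Set (U : Scheme.{u}))
    (hjT : IsClosed ((fun x : (U : Scheme.{u}) => U.ι.base x) '' T))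
    (hsupp : ∀ i : ℤ, CohB1.support (DCoh.HD E i) ⊆ T) :
    DCoh.IsPerfect ((DCoh.Rpush U.ι).obj E) := by
  classical
  intro x
  by_cases hx : x ∈ U
  · -- near points of `U`, `Rj_* E` restricts to `E`
    obtain ⟨V', hxV', E', hE', ⟨e'⟩⟩ :=
      exists_restrictD_iso_of_isPerfect hE (⟨x, hx⟩ : (U : Scheme.{u}))
    obtain ⟨c⟩ := nonempty_restrictD_comp_iso V'.ι U.ι ((DCoh.Rpush U.ι).obj E)
    obtain ⟨r⟩ := nonempty_restrictD_Rpush_iso U E
    refine isPerfect_at_of_restrictD_iso _ x (V'.ι ≫ U.ι) ?_ E' hE'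
      ⟨c ≪≫ (DCoh.restrictD V'.ι).mapIso r ≪≫ e'⟩
    exact ⟨⟨⟨x, hx⟩, hxV'⟩, rfl⟩
  · -- away from `j(T)`, `Rj_* E` vanishes
    let V : X.Opens := ⟨((fun x : (U : Scheme.{u}) => U.ι.base x) '' T)ᶜ, hjT.isOpen_compl⟩
    have hxV : x ∈ V := by
      rintro ⟨y, -, rfl⟩
      exact hx y.2
    haveI := hasRpush (U.ι ∣_ V)
    have hFV : IsZero ((DCoh.restrictD (U.ι ⁻¹ᵁ V).ι).obj E) :=
      isZero_restrictD_of_support _ E
        (fun i y hy hyV => hyV ⟨y, hsupp i hy, rfl⟩)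
    obtain ⟨e⟩ := nonempty_Rpush_restrict_iso U.ι V
    have hV : IsZero ((DCoh.restrictD V.ι).obj ((DCoh.Rpush U.ι).obj E)) :=
      IsZero.of_iso (isZero_Rpush_of_isZero _ _ hFV) (e.app E)
    have h0 : IsZero (DerivedCategory.Q.obj (0 : CochainComplex (V : Scheme.{u}).Modules ℤ)) :=
      DerivedCategory.Q.map_isZero (Limits.isZero_zero _)
    refine isPerfect_at_of_restrictD_iso _ x V.ι ?_ 0 isStrictlyPerfect_zero ⟨hV.iso h0⟩
    rw [Scheme.Opens.opensRange_ι]
    exact hxV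

end Groth.Agent.Lib.Helper25.PerfRpushOpen
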