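import Groth.Agent.Lib.Helper25.LpullRpushAdj
import Groth.Agent.Lib.Helper25.RDerAcyc
import Groth.Agent.Lib.Helper8.DevCond
import Groth.Agent.Lib.Helper13.KFlat11
import Groth.Agent.Lib.Helper13.KRes5
import Groth.Agent.Lib.Helper21.ExtZeroT

/-!
# `f_*` of a K-injective complex is acyclic for global sections (helper25)

* `Qh_map_comp_η`, `Qh_map_bijective`: for `K` K-flat with flat terms and `B` K-injective on `X`,
  `Hom_{K(Y)}(K, f_*B) ⟶ Hom_{D(Y)}(K, f_*B)` is bijective (via the derived adjunction `Lf^* ⊣ Rf_*`).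
* `hom_obj₃_eq_zero` (abstract, triangulated): vanishing of maps to the cone.
* `smulSec_comp`, `smulSec_top_one`, `smulSec_zero`, `exists_of_null`, `exactAt_gamma`: if every chain map
  `O_Y[-n] ⟶ M` is null-homotopic then `Γ(Y, M)` is exact in degree `n`.
* `P₀_single`: `O_Y[-n]` is K-flat with flat terms.
* `quasiIso_gamma_map`: `Γ(Y, -)` sends a K-injective resolution `f_*B ⟶ J` to a quasi-isomorphism.
* `isIso_unit_pushforward`, `isIso_unit_restrict_pushforward` (S11124): the unit `Γ(U, f_*B) ⟶ RΓ(U, (f_*B)|_U)` is invertible.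
-/

set_option autoImplicit false
universe u
open CategoryTheory CategoryTheory.Limits AlgebraicGeometry Opposite Pretriangulated

attribute [local instance] HasDerivedCategory.standard

namespace Groth.Agent.Lib.Helper25.PushKInjAcyc

open Groth.Agent.Lib.Helper25.LpullAdapted Groth.Agent.Lib.Helper25.LDerAdapted
  Groth.Agent.Lib.Helper25.LpullComp Groth.Agent.Lib.Helper25.LTensorComp
  Groth.Agent.Lib.Helper25.DerAdjK Groth.Agent.Lib.Helper25.DerAdjAbs
  Groth.Agent.Lib.Helper25.LpullRpushAdj Groth.Agent.Lib.helper8.Dev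

section Abstract

variable {T : Type*} [Category T] [Preadditive T] [HasZeroObject T] [HasShift T ℤ]
  [∀ n : ℤ, (shiftFunctor T n).Additive] [Pretriangulated T]

/-- if `Hom(K, -)` sends the first map of a distinguished triangle to a bijection for all `K` in a class stable
under `⟦-1⟧`, then every map from such a `K` to the third vertex vanishes -/
lemma hom_obj₃_eq_zero (S : ObjectProperty T) (hS : ∀ K, S K → S (K⟦(-1 : ℤ)⟧))
    (tri : Triangle T) (htri : tri ∈ distTriang T)
    (hbij : ∀ K, S K → Function.Bijective (fun g : K ⟶ tri.obj₁ => g ≫ tri.mor₁))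
    (K : T) (hK : S K) (φ : K ⟶ tri.obj₃) : φ = 0 := by
  have h1 : φ ≫ tri.mor₃ = 0 := by
    have hx : ((φ ≫ tri.mor₃)⟦(-1 : ℤ)⟧' ≫
        (shiftFunctorCompIsoId T (1 : ℤ) (-1) (by simp)).hom.app tri.obj₁) ≫ tri.mor₁ = 0 := by
      have hn := (shiftFunctorCompIsoId T (1 : ℤ) (-1) (by simp)).hom.naturality tri.mor₁
      simp only [Functor.id_map, Functor.comp_map] at hn
      rw [Category.assoc, ← hn, ← Category.assoc, ← Functor.map_comp, Category.assoc,
        comp_distTriang_mor_zero₃₁ _ htri, comp_zero, Functor.map_zero, zero_comp]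
    have hx0 := (hbij _ (hS K hK)).1 (hx.trans (zero_comp (f := tri.mor₁)).symm)
    have hx1 : (φ ≫ tri.mor₃)⟦(-1 : ℤ)⟧' = 0 := by
      rw [← cancel_mono ((shiftFunctorCompIsoId T (1 : ℤ) (-1) (by simp)).hom.app tri.obj₁),
        hx0, zero_comp]
    exact (shiftFunctor T (-1 : ℤ)).map_injective (hx1.trans (Functor.map_zero _ _ _).symm)
  obtain ⟨ψ, hψ⟩ := Triangle.coyoneda_exact₃ tri htri φ h1
  obtain ⟨g, hg⟩ := (hbij K hK).2 ψ
  rw [hψ, ← hg]
  change (g ≫ tri.mor₁) ≫ tri.mor₂ = 0
  rw [Category.assoc, comp_distTriang_mor_zero₁₂ _ htri, comp_zero]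

end Abstract

section Gamma

variable {Y : Scheme.{u}}

lemma gammaAb_map_eq {Q Q' : Y.Modules} (g : Q ⟶ Q') :
    (DCoh.gammaAb Y).map g = Scheme.Modules.Hom.app g ⊤ := rfl

lemma smulSec_comp {Q Q' : Y.Modules} (g : Q ⟶ Q') (q : Γ(Q, ⊤)) :
    smulSec Q q ≫ g = smulSec Q' ((Scheme.Modules.Hom.app g ⊤).hom q) := by
  dsimp only [smulSec]
  erw [SheafOfModules.unitHomEquiv_symm_comp]
  congr 1
  ext W
  change (g.val.app W) (Q.presheaf.map (homOfLE (le_top : W.unop ≤ ⊤)).op q) =
    Q'.presheaf.map (homOfLE (le_top : W.unop ≤ ⊤)).op ((Scheme.Modules.Hom.app g ⊤).hom q)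
  have := ((Scheme.Modules.toPresheaf Y).map g).naturality (homOfLE (le_top : W.unop ≤ ⊤)).op
  exact (ConcreteCategory.congr_hom this q)

lemma smulSec_top_one (Q : Y.Modules) (q : Γ(Q, ⊤)) :
    (Scheme.Modules.Hom.app (smulSec Q q) ⊤).hom (1 : Γ(Y, ⊤)) = q := by
  rw [smulSec_app, one_smul]
  have : (homOfLE (le_top : (⊤ : Y.Opens) ≤ ⊤)).op = 𝟙 _ := Subsingleton.elim _ _
  rw [this, Q.presheaf.map_id]
  rfl

lemma smulSec_zero (Q : Y.Modules) : smulSec Q (0 : Γ(Q, ⊤)) = 0 := by
  ext W r
  refine (smulSec_app Q 0 W r).trans ?_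
  rw [map_zero]
  exact smul_zero _

lemma exists_of_null (M : CochainComplex Y.Modules ℤ) (n : ℤ)
    (h : ∀ φ : (HomologicalComplex.single Y.Modules (ComplexShape.up ℤ) n).obj
      (Coh.structureModule Y) ⟶ M, Nonempty (Homotopy φ 0))
    (z : Γ(M.X n, ⊤)) (hz : (Scheme.Modules.Hom.app (M.d n (n + 1)) ⊤).hom z = 0) :
    ∃ w : Γ(M.X (n - 1), ⊤), (Scheme.Modules.Hom.app (M.d (n - 1) n) ⊤).hom w = z := by
  have hφ₀ : smulSec (M.X n) z ≫ M.d n (n + 1) = 0 := by
    rw [smulSec_comp, hz, smulSec_zero]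
  let φ : (HomologicalComplex.single Y.Modules (ComplexShape.up ℤ) n).obj
      (Coh.structureModule Y) ⟶ M :=
    HomologicalComplex.mkHomFromSingle (smulSec (M.X n) z) (by
      intro k hk
      obtain rfl : n + 1 = k := hk
      exact hφ₀)
  obtain ⟨H⟩ := h φ
  have hc := H.comm n
  rw [HomologicalComplex.mkHomFromSingle_f] at hc
  have hd : dNext n H.hom = 0 := by
    rw [dNext_eq H.hom (show (ComplexShape.up ℤ).Rel n (n + 1) by simp)]
    rw [HomologicalComplex.single_obj_d, zero_comp]
  rw [hd, prevD_eq H.hom (show (ComplexShape.up ℤ).Rel (n - 1) n by simp)] at hc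
  simp only [zero_add, HomologicalComplex.zero_f, add_zero] at hc
  have hc' : smulSec (M.X n) z =
      ((HomologicalComplex.singleObjXSelf (ComplexShape.up ℤ) n (Coh.structureModule Y)).inv ≫
        H.hom n (n - 1)) ≫ M.d (n - 1) n := by
    rw [Category.assoc, ← hc, Iso.inv_hom_id_assoc]
  refine ⟨(Scheme.Modules.Hom.app
    ((HomologicalComplex.singleObjXSelf (ComplexShape.up ℤ) n (Coh.structureModule Y)).inv ≫
        H.hom n (n - 1)) ⊤).hom (1 : Γ(Y, ⊤)), ?_⟩
  have h1 := smulSec_top_one (M.X n) z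
  rw [hc'] at h1
  exact h1

/-- if every chain map `O_Y[-n] ⟶ M` is null-homotopic then `Γ(Y, M)` is exact in degree `n` -/
lemma exactAt_gamma (M : CochainComplex Y.Modules ℤ) (n : ℤ)
    (h : ∀ φ : (HomologicalComplex.single Y.Modules (ComplexShape.up ℤ) n).obj
      (Coh.structureModule Y) ⟶ M, Nonempty (Homotopy φ 0)) :
    (((DCoh.gammaAb Y).mapHomologicalComplex (ComplexShape.up ℤ)).obj M).ExactAt n := by
  rw [HomologicalComplex.exactAt_iff' _ (n - 1) n (n + 1) (by simp) (by simp),
    ShortComplex.ab_exact_iff]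
  intro z hz
  exact exists_of_null M n h z hz

end Gamma

variable {X Y : Scheme.{u}} (f : X ⟶ Y)

section

variable [DCoh.HasLpull f] [DCoh.HasRpush f]

/-- the key formula -/
lemma Qh_map_comp_η (K : HomotopyCategory Y.Modules (ComplexShape.up ℤ))
    (B : HomotopyCategory X.Modules (ComplexShape.up ℤ))
    (h : ((Scheme.Modules.pullback f).mapHomotopyCategory (ComplexShape.up ℤ)).obj K ⟶ B) :
    DerivedCategory.Qh.map ((adjKh f).homEquiv K B h) ≫ (η f).app B =
      (adj f).homEquiv _ _ ((ε f).app K ≫ DerivedCategory.Qh.map h) := by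
  rw [Adjunction.homEquiv_unit, Adjunction.homEquiv_unit, Functor.map_comp,
    Functor.map_comp, Category.assoc]
  have hnat := (η f).naturality h
  rw [← Category.assoc ((adj f).unit.app _), adj_unit_fac, Category.assoc]
  congr 1

/-- **Key bijectivity**: for `K` K-flat with flat terms and `B` K-injective, `Hom_{K(Y)}(K, f_*B) = Hom_{D(Y)}(K, f_*B)` -/
theorem Qh_map_bijective (K : CochainComplex Y.Modules ℤ) (hK : P₀ Y K)
    (B : CochainComplex X.Modules ℤ) [B.IsKInjective] :
    Function.Bijective (DerivedCategory.Qh.map :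
      ((HomotopyCategory.quotient _ _).obj K ⟶
        ((Scheme.Modules.pushforward f).mapHomotopyCategory (ComplexShape.up ℤ)).obj
          ((HomotopyCategory.quotient _ _).obj B)) → _) := by
  set KK := (HomotopyCategory.quotient Y.Modules (ComplexShape.up ℤ)).obj K
  set BB := (HomotopyCategory.quotient X.Modules (ComplexShape.up ℤ)).obj B
  haveI : (DCoh.Rpush f).IsLeftKanExtension (η f) :=
    Functor.IsRightDerivedFunctor.isLeftKanExtension _ _ (Wh X)
  haveI : IsIso ((η f).app BB) :=
    Groth.Agent.Lib.Helper25.DerBC.isIso_unit_app_of_isKInjective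
      (Groth.Agent.Lib.Helper25.SchKInj.hKinj X) _ (DCoh.Rpush f) (η f) B
  haveI : IsIso ((ε f).app KK) := isIso_ε_app f K hK
  have hB : Function.Bijective (DerivedCategory.Qh.map :
      (((Scheme.Modules.pullback f).mapHomotopyCategory (ComplexShape.up ℤ)).obj KK ⟶ BB) → _) :=
    CochainComplex.IsKInjective.Qh_map_bijective _ B
  -- the composite bijection
  have hΦ : Function.Bijective (fun g : KK ⟶
      ((Scheme.Modules.pushforward f).mapHomotopyCategory (ComplexShape.up ℤ)).obj BB =>
      DerivedCategory.Qh.map g ≫ (η f).app BB) := by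
    have : (fun g : KK ⟶
        ((Scheme.Modules.pushforward f).mapHomotopyCategory (ComplexShape.up ℤ)).obj BB =>
        DerivedCategory.Qh.map g ≫ (η f).app BB) =
        (fun h => (adj f).homEquiv _ _ ((ε f).app KK ≫ DerivedCategory.Qh.map h)) ∘
          ((adjKh f).homEquiv KK BB).symm := by
      funext g
      have := Qh_map_comp_η f KK BB (((adjKh f).homEquiv KK BB).symm g)
      rw [Equiv.apply_symm_apply] at this
      exact this
    rw [this]
    refine Function.Bijective.comp ?_ (Equiv.bijective _)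
    refine Function.Bijective.comp (g := (adj f).homEquiv _ _) (Equiv.bijective _) ?_
    refine Function.Bijective.comp (g := fun t => (ε f).app KK ≫ t) ?_ hB
    constructor
    · intro a b hab
      exact (cancel_epi _).1 hab
    · intro b
      exact ⟨inv ((ε f).app KK) ≫ b, by simp⟩
  constructor
  · intro a b hab
    apply hΦ.1
    change DerivedCategory.Qh.map a ≫ _ = DerivedCategory.Qh.map b ≫ _
    rw [hab]
  · intro b
    obtain ⟨a, ha⟩ := hΦ.2 (b ≫ (η f).app BB)
    exact ⟨a, (cancel_mono ((η f).app BB)).1 ha⟩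

end


section Main

variable {X Y : Scheme.{u}} (f : X ⟶ Y)

/-- `O_Y[-n]` is K-flat with flat terms -/
lemma P₀_single (n : ℤ) :
    P₀ Y ((HomologicalComplex.single Y.Modules (ComplexShape.up ℤ) n).obj (Coh.structureModule Y)) := by
  have hflat : ∀ q : ℤ, FlatMod.IsFlat
      (((HomologicalComplex.single Y.Modules (ComplexShape.up ℤ) n).obj (Coh.structureModule Y)).X q) := by
    intro q
    by_cases hq : q = n
    · subst hq
      refine Groth.Agent.Lib.helper25.FlatClass.isFlat_of_iso
        (HomologicalComplex.singleObjXSelf (ComplexShape.up ℤ) q (Coh.structureModule Y)).symm ?_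
      exact Groth.Agent.Lib.helper13.KRes.flatMod_of_isFlat _
        (Groth.Agent.Lib.Helper21.ExtZeroT.isFlat_unit Y.sheaf)
    · exact Groth.Agent.Lib.helper25.FlatClass.isFlat_of_isZero
        (HomologicalComplex.isZero_single_obj_X _ _ _ _ hq)
  refine ⟨Groth.Agent.Lib.helper13.KFlat.dcoh_isKFlat_of_bounded_above _ n ?_ hflat, hflat⟩
  intro q hq
  exact HomologicalComplex.isZero_single_obj_X _ _ _ _ (by omega)

/-- the class of objects of `K(Y)` isomorphic to K-flat complexes with flat terms -/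
def S₀ (Y : Scheme.{u}) : ObjectProperty (HomotopyCategory Y.Modules (ComplexShape.up ℤ)) :=
  fun KK => ∃ K : CochainComplex Y.Modules ℤ, P₀ Y K ∧
    Nonempty (KK ≅ (HomotopyCategory.quotient _ _).obj K)

lemma S₀_shift (KK : HomotopyCategory Y.Modules (ComplexShape.up ℤ)) (h : S₀ Y KK) :
    S₀ Y (KK⟦(-1 : ℤ)⟧) := by
  obtain ⟨K, hK, ⟨e⟩⟩ := h
  exact ⟨K⟦(-1 : ℤ)⟧, hshift K _ hK, ⟨(shiftFunctor _ (-1 : ℤ)).mapIso e ≪≫
    (((HomotopyCategory.quotient Y.Modules (ComplexShape.up ℤ)).commShiftIso (-1 : ℤ)).app K).symm⟩⟩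

/-- for a K-injective resolution `a : f_*B ⟶ J`, `Hom_{K(Y)}(K, a)` is bijective for `K` K-flat with flat terms -/
lemma comp_bijective (B : CochainComplex X.Modules ℤ) [B.IsKInjective]
    {J : CochainComplex Y.Modules ℤ} [J.IsKInjective]
    (a : ((Scheme.Modules.pushforward f).mapHomologicalComplex (ComplexShape.up ℤ)).obj B ⟶ J)
    [QuasiIso a] (KK : HomotopyCategory Y.Modules (ComplexShape.up ℤ)) (hKK : S₀ Y KK) :
    Function.Bijective (fun g : KK ⟶ (HomotopyCategory.quotient _ _).obj
      (((Scheme.Modules.pushforward f).mapHomologicalComplex (ComplexShape.up ℤ)).obj B) =>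
        g ≫ (HomotopyCategory.quotient _ _).map a) := by
  haveI := hasLpull f
  haveI := Groth.Agent.Lib.Helper25.SchKInj.hasRpush f
  obtain ⟨K, hK, ⟨e⟩⟩ := hKK
  have h0 : Function.Bijective (fun g : (HomotopyCategory.quotient _ _).obj K ⟶
      (HomotopyCategory.quotient _ _).obj
      (((Scheme.Modules.pushforward f).mapHomologicalComplex (ComplexShape.up ℤ)).obj B) =>
        g ≫ (HomotopyCategory.quotient _ _).map a) := by
    have hJ : Function.Bijective (DerivedCategory.Qh.map :
        ((HomotopyCategory.quotient _ _).obj K ⟶ (HomotopyCategory.quotient _ _).obj J) → _) :=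
      CochainComplex.IsKInjective.Qh_map_bijective _ J
    have hM := Qh_map_bijective f K hK B
    haveI : IsIso (DerivedCategory.Qh.map ((HomotopyCategory.quotient _ _).map a)) := by
      have : IsIso (DerivedCategory.Q.map a) := inferInstance
      exact this
    rw [← Function.Bijective.of_comp_iff' hJ]
    have : (DerivedCategory.Qh.map ∘ fun g : (HomotopyCategory.quotient _ _).obj K ⟶
        (HomotopyCategory.quotient _ _).obj
        (((Scheme.Modules.pushforward f).mapHomologicalComplex (ComplexShape.up ℤ)).obj B) =>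
          g ≫ (HomotopyCategory.quotient _ _).map a) =
        (fun t => t ≫ DerivedCategory.Qh.map ((HomotopyCategory.quotient _ _).map a)) ∘
          DerivedCategory.Qh.map := by
      funext g
      simp
    rw [this]
    refine Function.Bijective.comp ?_ hM
    constructor
    · intro x y hxy
      exact (cancel_mono _).1 hxy
    · intro y
      exact ⟨y ≫ inv (DerivedCategory.Qh.map ((HomotopyCategory.quotient _ _).map a)), by simp⟩
  have : (fun g : KK ⟶ (HomotopyCategory.quotient _ _).obj
      (((Scheme.Modules.pushforward f).mapHomologicalComplex (ComplexShape.up ℤ)).obj B) =>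
        g ≫ (HomotopyCategory.quotient _ _).map a) =
      (fun t => e.hom ≫ t) ∘ (fun g => g ≫ (HomotopyCategory.quotient _ _).map a) ∘
        (fun t => e.inv ≫ t) := by
    funext g
    simp
  rw [this]
  refine Function.Bijective.comp ?_ (Function.Bijective.comp h0 ?_)
  · constructor
    · intro x y hxy
      exact (cancel_epi _).1 hxy
    · intro y
      exact ⟨e.inv ≫ y, by simp⟩
  · constructor
    · intro x y hxy
      exact (cancel_epi _).1 hxy
    · intro y
      exact ⟨e.hom ≫ y, by simp⟩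

/-- for a K-injective resolution `a : f_*B ⟶ J`, `Γ(Y, a)` is a quasi-isomorphism -/
theorem quasiIso_gamma_map (B : CochainComplex X.Modules ℤ) [B.IsKInjective]
    {J : CochainComplex Y.Modules ℤ} [J.IsKInjective]
    (a : ((Scheme.Modules.pushforward f).mapHomologicalComplex (ComplexShape.up ℤ)).obj B ⟶ J)
    [QuasiIso a] :
    QuasiIso (((DCoh.gammaAb Y).mapHomologicalComplex (ComplexShape.up ℤ)).map a) := by
  rw [quasiIso_iff_mappingCone_exactAt]
  intro n
  refine HomologicalComplex.ExactAt.of_iso ?_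
    (CochainComplex.mappingCone.mapHomologicalComplexIso a (DCoh.gammaAb Y))
  apply exactAt_gamma
  intro φ
  have h0 : (HomotopyCategory.quotient _ _).map φ = 0 :=
    hom_obj₃_eq_zero (S₀ Y) S₀_shift (CochainComplex.mappingCone.triangleh a)
      (HomotopyCategory.mappingCone_triangleh_distinguished a)
      (fun KK hKK => comp_bijective f B a KK hKK) _
      ⟨_, P₀_single n, ⟨Iso.refl _⟩⟩ ((HomotopyCategory.quotient _ _).map φ)
  exact ⟨HomotopyCategory.homotopyOfEq φ 0 (by rw [h0, Functor.map_zero])⟩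

/-- **`f_*` of a K-injective complex is acyclic for global sections** -/
theorem isIso_unit_pushforward (B : CochainComplex X.Modules ℤ) [B.IsKInjective] [DCoh.HasRΓ Y] :
    IsIso (((DCoh.gammaKh Y).totalRightDerivedUnit DerivedCategory.Qh (Wh Y)).app
      ((HomotopyCategory.quotient _ _).obj
        (((Scheme.Modules.pushforward f).mapHomologicalComplex (ComplexShape.up ℤ)).obj B))) := by
  obtain ⟨J, a, hJ, ha⟩ := Groth.Agent.Lib.Helper25.SchKInj.hKinj Y
    (((Scheme.Modules.pushforward f).mapHomologicalComplex (ComplexShape.up ℤ)).obj B)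
  haveI : (DCoh.RΓ Y).IsLeftKanExtension
      ((DCoh.gammaKh Y).totalRightDerivedUnit DerivedCategory.Qh (Wh Y)) :=
    Functor.IsRightDerivedFunctor.isLeftKanExtension _ _ (Wh Y)
  have hα : ∀ (I : CochainComplex Y.Modules ℤ), I.IsKInjective →
      IsIso (((DCoh.gammaKh Y).totalRightDerivedUnit DerivedCategory.Qh (Wh Y)).app
        ((HomotopyCategory.quotient _ _).obj I)) := fun I hI =>
    Groth.Agent.Lib.Helper25.DerBC.isIso_unit_app_of_isKInjective
      (Groth.Agent.Lib.Helper25.SchKInj.hKinj Y) _ (DCoh.RΓ Y) _ I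
  rw [Groth.Agent.Lib.Helper25.RDerAcyc.isIso_α_app_iff (DCoh.gammaAb Y) (DCoh.RΓ Y),
    Groth.Agent.Lib.Helper25.RDerAcyc.isIso_uQ_app_iff (DCoh.gammaAb Y) (DCoh.RΓ Y) _ hα a]
  exact quasiIso_gamma_map f B a

/-- **S11124**: `(f_*B)|_U` is acyclic for `Γ(U, -)` when `B` is K-injective -/
theorem isIso_unit_restrict_pushforward (B : CochainComplex X.Modules ℤ) [B.IsKInjective]
    (U : Y.Opens) [DCoh.HasRΓ (U : Scheme.{u})] :
    IsIso (((DCoh.gammaKh (U : Scheme.{u})).totalRightDerivedUnit DerivedCategory.Qh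
      (HomotopyCategory.quasiIso (U : Scheme.{u}).Modules (ComplexShape.up ℤ))).app
      ((HomotopyCategory.quotient (U : Scheme.{u}).Modules (ComplexShape.up ℤ)).obj
        ((DCoh.restrictCx U).obj
          (((Scheme.Modules.pushforward f).mapHomologicalComplex (ComplexShape.up ℤ)).obj B)))) := by
  haveI hB' : ((DCoh.restrictCx (f ⁻¹ᵁ U)).obj B).IsKInjective :=
    Groth.Agent.Lib.Helper25.SchKInj.isKInjective_restrict _ B inferInstance
  have h := isIso_unit_pushforward (f ∣_ U) ((DCoh.restrictCx (f ⁻¹ᵁ U)).obj B)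
  let e : (DCoh.restrictCx U).obj
      (((Scheme.Modules.pushforward f).mapHomologicalComplex (ComplexShape.up ℤ)).obj B) ≅
      ((Scheme.Modules.pushforward (f ∣_ U)).mapHomologicalComplex (ComplexShape.up ℤ)).obj
        ((DCoh.restrictCx (f ⁻¹ᵁ U)).obj B) :=
    (NatIso.mapHomologicalComplex (Groth.Agent.Lib.helper21.ModOpenBC.bcIso f U)
      (ComplexShape.up ℤ)).app B
  have hn := ((DCoh.gammaKh (U : Scheme.{u})).totalRightDerivedUnit DerivedCategory.Qh
      (HomotopyCategory.quasiIso (U : Scheme.{u}).Modules (ComplexShape.up ℤ))).naturality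
    ((HomotopyCategory.quotient _ _).map e.hom)
  have h2 : IsIso ((DCoh.gammaKh (U : Scheme.{u})).map ((HomotopyCategory.quotient _ _).map e.hom)) :=
    inferInstance
  have h3 : IsIso ((DerivedCategory.Qh ⋙ DCoh.RΓ (U : Scheme.{u})).map
      ((HomotopyCategory.quotient _ _).map e.hom)) := inferInstance
  have h4 : IsIso (((DCoh.gammaKh (U : Scheme.{u})).totalRightDerivedUnit DerivedCategory.Qh
      (HomotopyCategory.quasiIso (U : Scheme.{u}).Modules (ComplexShape.up ℤ))).app
      ((HomotopyCategory.quotient (U : Scheme.{u}).Modules (ComplexShape.up ℤ)).obj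
        ((DCoh.restrictCx U).obj
          (((Scheme.Modules.pushforward f).mapHomologicalComplex (ComplexShape.up ℤ)).obj B))) ≫
      (DerivedCategory.Qh ⋙ DCoh.RΓ (U : Scheme.{u})).map
        ((HomotopyCategory.quotient _ _).map e.hom)) := by
    rw [← hn]
    infer_instance
  exact IsIso.of_isIso_comp_right _ ((DerivedCategory.Qh ⋙ DCoh.RΓ (U : Scheme.{u})).map
        ((HomotopyCategory.quotient _ _).map e.hom))

end Main

end Groth.Agent.Lib.Helper25.PushKInjAcyc
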