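import Groth.Agent.Lib.Helper25.PushProj
import Groth.Agent.Lib.Helper25.PullTensorCx

/-!
# The projection formula for a closed immersion: complexes

`projBiIso` (+ naturality), `bicxIso`, `preservesTotal_pushforward` (helper16: `f_*` preserves colimits for a closed immersion),
`projCxIso f E P : f_*E ⊗ P ≅ f_*(E ⊗ f^*P)` for `DCoh.tensorCx`.
-/

set_option autoImplicit false
universe u
open CategoryTheory CategoryTheory.Limits AlgebraicGeometry MonoidalCategory

namespace Groth.Agent.Lib.Helper25.PushProjCx

open Groth.Agent.Lib.Lead.ModTensor Groth.Agent.Lib.helper12.PullTensor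
  Groth.Agent.Lib.helper13.RestrKFlat Groth.Agent.Lib.Helper25.PushProj
  Groth.Agent.Lib.Helper25.PullTensorCx

variable {X Y : Scheme.{u}} (f : X ⟶ Y) [IsClosedImmersion f]

/-- `f_*M ⊗ N ≅ f_*(M ⊗ f^*N)` in terms of `DCoh.tensorBi` -/
noncomputable def projBiIso (M : X.Modules) (N : Y.Modules) :
    ((DCoh.tensorBi (X := Y)).obj ((Scheme.Modules.pushforward f).obj M)).obj N ≅
      (Scheme.Modules.pushforward f).obj
        (((DCoh.tensorBi (X := X)).obj M).obj ((Scheme.Modules.pullback f).obj N)) :=
  @asIso _ _ _ _ (projHom f M N) (isIso_projHom f M N)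

lemma projBiIso_hom_naturality_left {M M' : X.Modules} (a : M ⟶ M') (N : Y.Modules) :
    ((DCoh.tensorBi (X := Y)).map ((Scheme.Modules.pushforward f).map a)).app N ≫
        (projBiIso f M' N).hom =
      (projBiIso f M N).hom ≫ (Scheme.Modules.pushforward f).map
        (((DCoh.tensorBi (X := X)).map a).app ((Scheme.Modules.pullback f).obj N)) := by
  rw [tensorBi_map_app, tensorBi_map_app]
  have := projHom_naturality f a (𝟙 N)
  rw [CategoryTheory.Functor.map_id] at this
  exact this

lemma projBiIso_hom_naturality_right (M : X.Modules) {N N' : Y.Modules} (b : N ⟶ N') :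
    ((DCoh.tensorBi (X := Y)).obj ((Scheme.Modules.pushforward f).obj M)).map b ≫
        (projBiIso f M N').hom =
      (projBiIso f M N).hom ≫ (Scheme.Modules.pushforward f).map
        (((DCoh.tensorBi (X := X)).obj M).map ((Scheme.Modules.pullback f).map b)) := by
  rw [tensorBi_obj_map, tensorBi_obj_map]
  have := projHom_naturality f (𝟙 M) b
  rw [CategoryTheory.Functor.map_id] at this
  exact this

/-- termwise pushforward of complexes -/
noncomputable abbrev pushCx : CochainComplex X.Modules ℤ ⥤ CochainComplex Y.Modules ℤ :=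
  (Scheme.Modules.pushforward f).mapHomologicalComplex (ComplexShape.up ℤ)

variable (E : CochainComplex X.Modules ℤ) (P : CochainComplex Y.Modules ℤ)

/-- The isomorphism of bicomplexes `f_*E^p ⊗ P^q ≅ f_*(E^p ⊗ f^*P^q)`. -/
noncomputable def bicxIso :
    tenBicx ((pushCx f).obj E) P ≅
      (TotMap.map₂ (Scheme.Modules.pushforward f) (ComplexShape.up ℤ) (ComplexShape.up ℤ)).obj
        (tenBicx E ((pullCx f).obj P)) :=
  HomologicalComplex.Hom.isoOfComponents
    (fun p => HomologicalComplex.Hom.isoOfComponents (fun q => projBiIso f (E.X p) (P.X q))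
      (fun q q' _ => (projBiIso_hom_naturality_right f (E.X p) (P.d q q')).symm))
    (fun p p' _ => HomologicalComplex.hom_ext _ _ (fun q =>
      (projBiIso_hom_naturality_left f (E.d p p') (P.X q)).symm))

instance preservesTotal_pushforward
    (B : HomologicalComplex₂ X.Modules (ComplexShape.up ℤ) (ComplexShape.up ℤ)) :
    TotMap.PreservesTotal (Scheme.Modules.pushforward f) B (ComplexShape.up ℤ) := fun _ => by
  have h := Groth.Agent.Lib.helper16.PushColim.preservesColimits_pushforward f
  have h' : PreservesColimitsOfSize.{0, 0} (Scheme.Modules.pushforward f) :=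
    preservesColimitsOfSize_shrink.{0, u, 0, u} _
  infer_instance

/-- **`f_*E ⊗ P ≅ f_*(E ⊗ f^*P)` for complexes (closed immersion).** -/
noncomputable def projCxIso :
    ((DCoh.tensorCx (X := Y)).obj ((pushCx f).obj E)).obj P ≅
      (pushCx f).obj (((DCoh.tensorCx (X := X)).obj E).obj ((pullCx f).obj P)) :=
  haveI := TotMap.hasTotal_map₂ (Scheme.Modules.pushforward f) (tenBicx E ((pullCx f).obj P))
    (ComplexShape.up ℤ)
  HomologicalComplex₂.total.mapIso (bicxIso f E P) (ComplexShape.up ℤ) ≪≫
    (TotMap.mapTotalIso (Scheme.Modules.pushforward f) (tenBicx E ((pullCx f).obj P))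
      (ComplexShape.up ℤ)).symm

end Groth.Agent.Lib.Helper25.PushProjCx
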