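import Groth.Agent.Lib.Helper25.PushProjCx
import Groth.Agent.Lib.Helper25.LpullRpushAdj

/-!
# The projection formula for a closed immersion in the derived category

* `isInvertedBy_pushKh`, `isIso_η`, `rpushQIso f C : Rf_*(Q C) ≅ Q(f_* C)` when `f_*` is exact.
* `nonempty_projection_iso f P hP E : Rf_*E ⊗^L P ≅ Rf_*(E ⊗^L f^*P)` for a closed immersion `f` and a K-flat `P`.
-/

set_option autoImplicit false
universe u
open CategoryTheory CategoryTheory.Limits AlgebraicGeometry

attribute [local instance] HasDerivedCategory.standard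

namespace Groth.Agent.Lib.Helper25.PushProjD

open Groth.Agent.Lib.Helper25.PushProjCx Groth.Agent.Lib.Helper25.PullTensorCx
  Groth.Agent.Lib.Helper25.LpullComp Groth.Agent.Lib.Helper25.LpullRpushAdj

variable {X Y : Scheme.{u}} (f : X ⟶ Y)

section exact

variable [PreservesFiniteLimits (Scheme.Modules.pushforward f)]
  [PreservesFiniteColimits (Scheme.Modules.pushforward f)] [DCoh.HasRpush f]

omit [DCoh.HasRpush f] in
/-- an exact direct image inverts quasi-isomorphisms -/
lemma isInvertedBy_pushKh : (Wh X).IsInvertedBy (DCoh.pushKh f) := by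
  intro K L g hg
  obtain ⟨K, rfl⟩ := K.quotient_obj_surjective
  obtain ⟨L, rfl⟩ := L.quotient_obj_surjective
  obtain ⟨g, rfl⟩ := (HomotopyCategory.quotient _ _).map_surjective g
  have hq : QuasiIso g := by
    rw [← HomologicalComplex.mem_quasiIso_iff, ← HomotopyCategory.quotient_map_mem_quasiIso_iff]
    exact hg
  have : QuasiIso (((Scheme.Modules.pushforward f).mapHomologicalComplex (ComplexShape.up ℤ)).map g) :=
    inferInstance
  have h : IsIso (DerivedCategory.Q.map
      (((Scheme.Modules.pushforward f).mapHomologicalComplex (ComplexShape.up ℤ)).map g)) :=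
    inferInstance
  exact h

/-- the unit of `Rf_*` is invertible when `f_*` is exact -/
instance isIso_η : IsIso (η f) :=
  Functor.isIso_of_isRightDerivedFunctor_of_inverts (DCoh.Rpush f) (η f) (isInvertedBy_pushKh f)

/-- `Rf_*(Q C) ≅ Q(f_* C)` when `f_*` is exact -/
noncomputable def rpushQIso (C : CochainComplex X.Modules ℤ) :
    (DCoh.Rpush f).obj (DerivedCategory.Q.obj C) ≅
      DerivedCategory.Q.obj (((Scheme.Modules.pushforward f).mapHomologicalComplex
        (ComplexShape.up ℤ)).obj C) :=
  (asIso ((η f).app ((HomotopyCategory.quotient _ _).obj C))).symm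

end exact

section closed

open Groth.Agent.Lib.Helper25.LTensorComp

variable [IsClosedImmersion f] [DCoh.HasRpush f]

instance : PreservesFiniteColimits (Scheme.Modules.pushforward f) := by
  have h := Groth.Agent.Lib.helper16.PushColim.preservesColimits_pushforward f
  have h' : PreservesColimitsOfSize.{0, 0} (Scheme.Modules.pushforward f) :=
    preservesColimitsOfSize_shrink.{0, u, 0, u} _
  exact PreservesColimitsOfSize.preservesFiniteColimits _

instance : PreservesFiniteLimits (Scheme.Modules.pushforward f) := by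
  have : PreservesLimitsOfSize.{0, 0} (Scheme.Modules.pushforward f) :=
    (Scheme.Modules.pullbackPushforwardAdjunction f).rightAdjoint_preservesLimits
  exact PreservesLimitsOfSize.preservesFiniteLimits _

/-- **the projection formula for a closed immersion** -/
theorem nonempty_projection_iso (P : CochainComplex Y.Modules ℤ) (hP : DCoh.IsKFlat P)
    [DCoh.HasLTensorCx P] [DCoh.HasLTensorCx ((pullCx f).obj P)] (E : DCoh.D X) :
    Nonempty ((DCoh.LTensorCx P).obj ((DCoh.Rpush f).obj E) ≅
      (DCoh.Rpush f).obj ((DCoh.LTensorCx ((pullCx f).obj P)).obj E)) := by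
  obtain ⟨E', ⟨eE⟩⟩ : ∃ F : CochainComplex X.Modules ℤ, Nonempty (DerivedCategory.Q.obj F ≅ E) :=
    ⟨DerivedCategory.Q.objPreimage E, ⟨DerivedCategory.Q.objObjPreimageIso E⟩⟩
  have hP' : DCoh.IsKFlat ((pullCx f).obj P) :=
    Groth.Agent.Lib.Helper25.PullKFlat.isKFlat_pullback f P hP
  have h1 := isIso_ε_of_isKFlat P hP
  have h2 := isIso_ε_of_isKFlat ((pullCx f).obj P) hP'
  -- `(Q C) ⊗^L P ≅ Q (C ⊗ P)` for every `C`
  let e1 : (DCoh.LTensorCx P).obj (DerivedCategory.Q.obj ((pushCx f).obj E')) ≅
      DerivedCategory.Q.obj ((DCoh.tensorCx.obj ((pushCx f).obj E')).obj P) :=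
    asIso ((ε P).app ((pushCx f).obj E'))
  let e2 : (DCoh.LTensorCx ((pullCx f).obj P)).obj (DerivedCategory.Q.obj E') ≅
      DerivedCategory.Q.obj ((DCoh.tensorCx.obj E').obj ((pullCx f).obj P)) :=
    asIso ((ε ((pullCx f).obj P)).app E')
  exact ⟨(DCoh.LTensorCx P).mapIso ((DCoh.Rpush f).mapIso eE.symm ≪≫ rpushQIso f E') ≪≫ e1 ≪≫
    DerivedCategory.Q.mapIso (projCxIso f E' P) ≪≫ (rpushQIso f _).symm ≪≫
    (DCoh.Rpush f).mapIso (e2.symm ≪≫ (DCoh.LTensorCx ((pullCx f).obj P)).mapIso eE)⟩

end closed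

end Groth.Agent.Lib.Helper25.PushProjD
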