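import Mathlib
import Groth.Agent.Lib.Helper25.RpushQC
import Groth.Agent.Lib.Helper25.RGZ3
import Groth.Agent.Lib.Helper25.RGZ1
import Groth.Agent.Lib.Helper1.WSerreTri

/-!
# Consequences of "`Rf_*` preserves `D_QCoh`" (helper25)

* `exists_extension` (S1015): every object of `D_QCoh(U)` extends to `D_QCoh(X)` (`U ⊆ X` open, quasi-compact inclusion).
* `nonempty_RgammaZPlus_iso`: `RΓ_Z` on `D⁺` (injective resolutions) agrees with the unbounded `RΓ_Z`.
* `hasRgammaZ`: the unbounded `RΓ_Z` exists.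
* `isQCohD_RgammaZ`: `RΓ_Z` preserves `D_QCoh` (unbounded), via the localization triangle and S0998.
* `RgammaZPlus_isQCohD_supported` (S1046).
-/

set_option autoImplicit false
universe u
open CategoryTheory CategoryTheory.Limits AlgebraicGeometry Pretriangulated
attribute [local instance] HasDerivedCategory.standard

namespace Groth.Agent.Lib.Helper25.RpushQC2

open AlgebraicGeometry.Scheme.Modules Groth.Agent.Lib.Helper25.SchKInj Groth.Agent.Lib.Helper25.RGZ1
  Groth.Agent.Lib.Helper25.RGZ3 DerivedCategory Groth.Agent.Lib.Helper25.RpushQC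

/-- **S1015** -/
theorem exists_extension (X : Scheme.{u}) (U : X.Opens) [QuasiCompact U.ι]
    (F : DCoh.D (U : Scheme.{u})) (hF : DCoh.IsQCohD F) :
    ∃ G : CochainComplex X.Modules ℤ, DCoh.IsQCohD (DCoh.toD X G) ∧
      Nonempty (DerivedCategory.Q.obj ((DCoh.restrictCx U).obj G) ≅ F) := by
  haveI := hasRpush U.ι
  obtain ⟨adj⟩ := nonempty_adj U.ι
  have hc := isIso_counit U.ι adj F
  refine ⟨Q.objPreimage ((DCoh.Rpush U.ι).obj F), ?_, ⟨?_⟩⟩
  · exact Groth.Agent.H1.WSerreTri.cohIn_of_iso (P := Groth.Agent.S1007.QC X)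
      (Q.objObjPreimageIso ((DCoh.Rpush U.ι).obj F)).symm (isQCohD_Rpush U.ι F hF)
  · exact ((restrictFunctor U.ι).mapDerivedCategoryFactors.app _).symm ≪≫
      (DCoh.restrictD U.ι).mapIso (Q.objObjPreimageIso ((DCoh.Rpush U.ι).obj F)) ≪≫
      @asIso _ _ _ _ _ hc

/-- comparison of `RΓ_Z` on `D⁺` (injective resolutions) with the unbounded `RΓ_Z` -/
theorem nonempty_RgammaZPlus_iso (X : Scheme.{u}) (U : X.Opens) [EnoughInjectives X.Modules]
    [CxOX.HasRgammaZ U.ι] (E : DerivedCategory.Plus X.Modules) :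
    Nonempty (((DCoh.RgammaZPlus U.ι).obj E).obj ≅ (CxOX.RgammaZ U.ι).obj E.obj) := by
  obtain ⟨a, ha⟩ := E.property
  haveI : E.IsGE a := (E.isGE_ι_obj_iff a).1 ha
  obtain ⟨L, hL, ⟨e⟩⟩ := DerivedCategory.Plus.exists_injective_nonempty_iso E a
  let F := DCoh.gammaZ U.ι
  let Xh := (HomotopyCategory.Plus.quotient X.Modules).obj
    ((InjectiveObject.ι X.Modules).mapCochainComplexPlus.obj L)
  have hiso : IsIso (F.rightDerivedFunctorPlusUnit.app Xh) := inferInstance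
  let e' : (F.mapHomotopyCategoryPlus ⋙ DerivedCategory.Plus.Qh).obj Xh ≅
      F.rightDerivedFunctorPlus.obj E :=
    asIso (F.rightDerivedFunctorPlusUnit.app Xh) ≪≫ F.rightDerivedFunctorPlus.mapIso e
  let I : CochainComplex X.Modules ℤ :=
    ((InjectiveObject.ι X.Modules).mapHomologicalComplex (ComplexShape.up ℤ)).obj L.obj
  haveI : I.IsStrictlyGE a := inferInstance
  haveI : ∀ n, Injective (I.X n) := fun n => (L.obj.X n).2
  have hI : I.IsKInjective := CochainComplex.isKInjective_of_injective I a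
  have e0 : E.obj ≅ Q.obj I := (DerivedCategory.Plus.ι (C := X.Modules)).mapIso e.symm
  obtain ⟨e1⟩ := MVDer.nonempty_iso_totalRightDerived (DCoh.gammaZ U.ι) E.obj I hI e0
  exact ⟨((DerivedCategory.Plus.ι (C := X.Modules)).mapIso e').symm ≪≫ e1⟩

theorem hasRgammaZ {U X : Scheme.{u}} (j : U ⟶ X) [IsOpenImmersion j] : CxOX.HasRgammaZ j :=
  Groth.Agent.Lib.Helper25.DerBC.hasRightDerivedFunctor (hKinj X) _

/-- `RΓ_Z` preserves `D_QCoh` when the open complement has quasi-compact inclusion (unbounded) -/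
theorem isQCohD_RgammaZ (X : Scheme.{u}) (U : X.Opens) [QuasiCompact U.ι] [CxOX.HasRgammaZ U.ι]
    (B : DCoh.D X) (hB : DCoh.IsQCohD B) : DCoh.IsQCohD ((CxOX.RgammaZ U.ι).obj B) := by
  haveI := hasRpush U.ι
  obtain ⟨D', v, w, hT⟩ := exists_triangle U B
  have hT' := (DCoh.restrictD U.ι).map_distinguished _ hT
  have hz := isZero_restrictD_RgammaZ U.ι B
  have hiso : IsIso ((DCoh.restrictD U.ι).map v) :=
    (Triangle.isZero₁_iff_isIso₂ _ hT').1 hz
  obtain ⟨adj⟩ := nonempty_adj U.ι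
  have hc := isIso_counit U.ι adj D'
  have e : (DCoh.restrictD U.ι).obj B ≅ D' :=
    @asIso _ _ _ _ _ hiso ≪≫ @asIso _ _ _ _ _ hc
  have hD' : DCoh.IsQCohD D' :=
    Groth.Agent.H1.WSerreTri.cohIn_of_iso (P := Groth.Agent.S1007.QC (U : Scheme.{u})) e
      (Groth.Agent.Lib.Helper25.RGZ4.isQCohD_restrictD U.ι B hB)
  have hR : DCoh.IsQCohD ((DCoh.Rpush U.ι).obj D') := isQCohD_Rpush U.ι D' hD'
  have hT2 := inv_rot_of_distTriang _ hT
  exact Groth.Agent.H1.WSerreTri.cohIn_obj₂ (P := Groth.Agent.S1007.QC X) _ hT2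
    (Groth.Agent.H1.WSerreTri.cohIn_shift (P := Groth.Agent.S1007.QC X) (-1) hR) hB

/-- **S1046** -/
theorem RgammaZPlus_isQCohD_supported (X : Scheme.{u}) (U : X.Opens) [QuasiCompact U.ι]
    [EnoughInjectives X.Modules]
    (E : DerivedCategory.Plus X.Modules) (hE : DCoh.IsQCohD E.obj) :
    DCoh.IsQCohD ((DCoh.RgammaZPlus U.ι).obj E).obj ∧
    ∀ i : ℤ, CohB1.support (DCoh.HD ((DCoh.RgammaZPlus U.ι).obj E).obj i) ⊆ (U : Set X)ᶜ := by
  haveI := hasRgammaZ U.ι
  obtain ⟨e⟩ := nonempty_RgammaZPlus_iso X U E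
  refine ⟨Groth.Agent.H1.WSerreTri.cohIn_of_iso (P := Groth.Agent.S1007.QC X) e.symm
    (isQCohD_RgammaZ X U E.obj hE), fun i => ?_⟩
  apply Groth.Agent.Lib.Helper25.SchKInj.support_HD_restrictD
  exact IsZero.of_iso (isZero_restrictD_RgammaZ U.ι E.obj) ((DCoh.restrictD U.ι).mapIso e)

end Groth.Agent.Lib.Helper25.RpushQC2
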