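import Mathlib
import Groth.Agent.Lib.Helper25.QCCRpush
import Groth.Agent.Lib.Helper25.RGZ5
import Groth.Agent.Lib.Helper25.RpushQC2
import Groth.Agent.Lib.Helper27.Brown

/-!
# `RΓ_Z` commutes with direct sums on `D_QCoh` (helper25)

* `isZero_of_isColimit_cofan`: a coproduct of zero objects is zero.
* `isIso_sigmaDesc_RgammaZ_opens`: for an open `W ⊆ X` with quasi-compact inclusion, `Z = X ∖ W`:
  `∐ RΓ_Z(E_i) ⟶ RΓ_Z(∐ E_i)` is an isomorphism for `E_i ∈ D_QCoh(X)` (localization triangles, the coproduct
  of distinguished triangles (helper27), `Rj_*` commutes with coproducts (`QCCRpush`), uniqueness of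
  coreflections `RGZ5.isIso_of_bij`).
-/
set_option autoImplicit false
universe u
open CategoryTheory CategoryTheory.Limits AlgebraicGeometry Opposite
attribute [local instance] HasDerivedCategory.standard

namespace Groth.Agent.Lib.Helper25.QCCRgammaZ

open Pretriangulated DerivedCategory TopologicalSpace Scheme.Modules
open Groth.Agent.Lib.Helper25.QCCPerfect Groth.Agent.Lib.Helper25.RGZ1 Groth.Agent.Lib.Helper25.RGZ3
  Groth.Agent.Lib.Helper25.RGZ5 Groth.Agent.Lib.Helper25.SchKInj

/-- a coproduct of zero objects is zero -/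
lemma isZero_of_isColimit_cofan {C : Type*} [Category C] [HasZeroMorphisms C] {ι : Type*} {M : ι → C}
    {A : C} (g : ∀ i, M i ⟶ A) (hc : IsColimit (Cofan.mk A g)) (h : ∀ i, IsZero (M i)) : IsZero A := by
  rw [IsZero.iff_id_eq_zero]
  apply Cofan.IsColimit.hom_ext hc
  intro i
  exact (h i).eq_of_src _ _

/-- `D(O_X)` has coproducts indexed by `u`-small types -/
lemma hasCoproduct_D {X : Scheme.{u}} {ι : Type u} (M : ι → DCoh.D X) : HasCoproduct M := by
  haveI := exactCoprod X ι
  exact Groth.Agent.Lib.helper23.DCoprod.hasCoproduct M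

theorem isIso_sigmaDesc_RgammaZ_opens {X : Scheme.{u}} (W : X.Opens) [QuasiCompact W.ι]
    [CxOX.HasRgammaZ W.ι] {ι : Type u} (E : ι → DCoh.D X) (hE : ∀ i, DCoh.IsQCohD (E i))
    [HasCoproduct E] [HasCoproduct (fun i => (CxOX.RgammaZ W.ι).obj (E i))] :
    IsIso (Sigma.desc (fun i => (CxOX.RgammaZ W.ι).map (Sigma.ι E i))) := by
  haveI := hasRpush W.ι
  obtain ⟨adj⟩ := nonempty_adj W.ι
  let R := CxOX.RgammaZ W.ι
  let ε := CxOX.RgammaZToId W.ι
  -- the localization triangles
  choose D' v w hT using fun i => exists_triangle W (E i)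
  have hD' : ∀ i, DCoh.IsQCohD (D' i) := by
    intro i
    have hT' := (DCoh.restrictD W.ι).map_distinguished _ (hT i)
    have hz := isZero_restrictD_RgammaZ W.ι (E i)
    have hiso : IsIso ((DCoh.restrictD W.ι).map (v i)) :=
      (Triangle.isZero₁_iff_isIso₂ _ hT').1 hz
    have hc := isIso_counit W.ι adj (D' i)
    have e : (DCoh.restrictD W.ι).obj (E i) ≅ D' i :=
      @asIso _ _ _ _ _ hiso ≪≫ @asIso _ _ _ _ _ hc
    exact Groth.Agent.H1.WSerreTri.cohIn_of_iso (P := Groth.Agent.S1007.QC (W : Scheme.{u})) e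
      (Groth.Agent.Lib.Helper25.RGZ4.isQCohD_restrictD W.ι (E i) (hE i))
  haveI : HasCoproduct D' := hasCoproduct_D D'
  haveI : HasCoproduct (fun i => (DCoh.Rpush W.ι).obj (D' i)) := hasCoproduct_D _
  -- the coproduct triangle
  have hTs := Groth.Agent.Lib.helper27.sigma_distTriang (fun i => R.obj (E i)) E
    (fun i => (DCoh.Rpush W.ι).obj (D' i)) (fun i => ε.app (E i)) v w hT
  -- its third vertex is right orthogonal to the objects vanishing on `W`
  have hS := Groth.Agent.Lib.Helper25.QCCRpush.isIso_sigmaDesc_Rpush W.ι D' hD'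
  have hO : Orth W (∐ fun i => (DCoh.Rpush W.ι).obj (D' i)) :=
    orth_of_iso W (@asIso _ _ _ _ _ hS).symm (orth_Rpush W _)
  -- the coproduct of the `RΓ_Z(E i)` vanishes on `W`
  have hP : IsZero ((DCoh.restrictD W.ι).obj (∐ fun i => R.obj (E i))) := by
    have := adj.leftAdjoint_preservesColimits
    have hc := isColimitCofanMkObjOfIsColimit (DCoh.restrictD W.ι) _ _
      (coproductIsCoproduct (fun i => R.obj (E i)))
    exact isZero_of_isColimit_cofan _ hc (fun i => isZero_restrictD_RgammaZ W.ι (E i))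
  -- the localization triangle of the coproduct
  obtain ⟨D'', v', w', hT'⟩ := exists_triangle W (∐ E)
  refine isIso_of_bij W (Limits.Sigma.map (f := fun i => R.obj (E i)) (g := E)
    (fun i => ε.app (E i))) (ε.app (∐ E)) hP
    (isZero_restrictD_RgammaZ W.ι (∐ E))
    (fun Z hZ => bij_of_orth W _ hTs hO Z hZ)
    (fun Z hZ => bij_of_orth W _ hT' (orth_Rpush W D'') Z hZ) _ ?_
  apply Sigma.hom_ext
  intro i
  rw [Sigma.ι_desc_assoc, Sigma.ι_map]
  exact ε.naturality (Sigma.ι E i)

section Transport

variable {U U' X : Scheme.{u}} (j : U ⟶ X) [IsOpenImmersion j] (j' : U' ⟶ X) [IsOpenImmersion j']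

lemma comp_unit_eq_zero_iff_map {K F : X.Modules} (s : K ⟶ F) :
    s ≫ (restrictAdjunction j).unit.app F = 0 ↔ (restrictFunctor j).map s = 0 := by
  constructor
  · intro h
    apply ((restrictAdjunction j).homEquiv _ _).injective
    rw [Adjunction.homEquiv_unit, Adjunction.homEquiv_unit, Functor.map_zero, comp_zero]
    have := (restrictAdjunction j).unit.naturality s
    simp only [Functor.id_obj, Functor.id_map, Functor.comp_obj, Functor.comp_map] at this
    rw [← this, h]
  · intro h
    have := (restrictAdjunction j).unit.naturality s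
    simp only [Functor.id_obj, Functor.id_map, Functor.comp_obj, Functor.comp_map] at this
    rw [this, h, Functor.map_zero, comp_zero]

/-- `s` is killed by the unit `F ⟶ j_* j^* F` iff it vanishes on sections over the opens contained in the
range of `j` -/
lemma comp_unit_eq_zero_iff {K F : X.Modules} (s : K ⟶ F) :
    s ≫ (restrictAdjunction j).unit.app F = 0 ↔
      ∀ (V : X.Opens), V ≤ j.opensRange → ∀ x : K.val.obj (op V), s.val.app (op V) x = 0 := by
  rw [comp_unit_eq_zero_iff_map]
  constructor
  · intro h V hV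
    have hV' : j ''ᵁ (j ⁻¹ᵁ V) = V := by
      rw [j.image_preimage_eq_opensRange_inf]
      exact inf_eq_right.2 hV
    have key : ∀ V₀ : X.Opens, V₀ = j ''ᵁ (j ⁻¹ᵁ V) →
        ∀ x : K.val.obj (op V₀), s.val.app (op V₀) x = 0 := by
      rintro _ rfl x
      have h1 : (((restrictFunctor j).map s).val.app (op (j ⁻¹ᵁ V)))
          (show ((restrictFunctor j).obj K).val.obj (op (j ⁻¹ᵁ V)) from x) = 0 := by
        rw [h]
        rfl
      exact h1
    exact key V hV'.symm
  · intro h
    ext V' x
    exact h (j ''ᵁ V') (j.image_le_opensRange _) x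

variable (hr : j.opensRange = j'.opensRange)

include hr in
lemma kernel_ι_comp_unit (F : X.Modules) :
    kernel.ι ((restrictAdjunction j).unit.app F) ≫ (restrictAdjunction j').unit.app F = 0 := by
  refine (comp_unit_eq_zero_iff j' (kernel.ι ((restrictAdjunction j).unit.app F))).2 ?_
  rw [← hr]
  exact (comp_unit_eq_zero_iff j (kernel.ι ((restrictAdjunction j).unit.app F))).1
    (kernel.condition _)

/-- the kernels of the units `F ⟶ j_* j^* F`, `F ⟶ j'_* j'^* F` agree -/
noncomputable def kernelIso (F : X.Modules) :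
    kernel ((restrictAdjunction j).unit.app F) ≅ kernel ((restrictAdjunction j').unit.app F) where
  hom := kernel.lift _ (kernel.ι ((restrictAdjunction j).unit.app F)) (kernel_ι_comp_unit j j' hr F)
  inv := kernel.lift _ (kernel.ι ((restrictAdjunction j').unit.app F))
    (kernel_ι_comp_unit j' j hr.symm F)
  hom_inv_id := by
    apply equalizer.hom_ext
    rw [Category.assoc, kernel.lift_ι, kernel.lift_ι, Category.id_comp]
  inv_hom_id := by
    apply equalizer.hom_ext
    rw [Category.assoc, kernel.lift_ι, kernel.lift_ι, Category.id_comp]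

lemma kernelIso_hom_ι (F : X.Modules) :
    (kernelIso j j' hr F).hom ≫ kernel.ι ((restrictAdjunction j').unit.app F) =
      kernel.ι ((restrictAdjunction j).unit.app F) :=
  kernel.lift_ι _ _ _

lemma gammaZ_map_ι {F G : X.Modules} (φ : F ⟶ G) :
    (DCoh.gammaZ j).map φ ≫ kernel.ι ((restrictAdjunction j).unit.app G) =
      kernel.ι ((restrictAdjunction j).unit.app F) ≫ φ := by
  simp [DCoh.gammaZ]

/-- `Γ_Z` only depends on the range of the open immersion -/
noncomputable def gammaZIso : DCoh.gammaZ j ≅ DCoh.gammaZ j' :=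
  NatIso.ofComponents (fun F => kernelIso j j' hr F)
    (fun {F G} φ => by
      apply equalizer.hom_ext
      have h1 := kernelIso_hom_ι j j' hr G
      have h2 := kernelIso_hom_ι j j' hr F
      have h3 := gammaZ_map_ι j φ
      have h4 := gammaZ_map_ι j' φ
      calc ((DCoh.gammaZ j).map φ ≫ (kernelIso j j' hr G).hom) ≫
            kernel.ι ((restrictAdjunction j').unit.app G)
          = (DCoh.gammaZ j).map φ ≫ kernel.ι ((restrictAdjunction j).unit.app G) :=
            (Category.assoc _ _ _).trans (congrArg (fun z => (DCoh.gammaZ j).map φ ≫ z) h1)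
        _ = kernel.ι ((restrictAdjunction j).unit.app F) ≫ φ := h3
        _ = (kernelIso j j' hr F).hom ≫ kernel.ι ((restrictAdjunction j').unit.app F) ≫ φ :=
            (congrArg (fun z => z ≫ φ) h2).symm.trans (Category.assoc _ _ _)
        _ = ((kernelIso j j' hr F).hom ≫ (DCoh.gammaZ j').map φ) ≫
            kernel.ι ((restrictAdjunction j').unit.app G) :=
            (congrArg (fun z => (kernelIso j j' hr F).hom ≫ z) h4).symm.trans
              (Category.assoc _ _ _).symm)

/-- the induced isomorphism on the functors `K(O_X) ⥤ D(O_X)` -/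
noncomputable def gammaZKhIso : CxOX.gammaZKh j ≅ CxOX.gammaZKh j' :=
  Functor.isoWhiskerRight
    ({ hom := NatTrans.mapHomotopyCategory (gammaZIso j j' hr).hom (ComplexShape.up ℤ)
       inv := NatTrans.mapHomotopyCategory (gammaZIso j j' hr).inv (ComplexShape.up ℤ)
       hom_inv_id := by
        rw [← NatTrans.mapHomotopyCategory_comp, Iso.hom_inv_id, NatTrans.mapHomotopyCategory_id]
       inv_hom_id := by
        rw [← NatTrans.mapHomotopyCategory_comp, Iso.inv_hom_id, NatTrans.mapHomotopyCategory_id] } :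
      (DCoh.gammaZ j).mapHomotopyCategory (ComplexShape.up ℤ) ≅
        (DCoh.gammaZ j').mapHomotopyCategory (ComplexShape.up ℤ))
    DerivedCategory.Qh

/-- `RΓ_Z` only depends on the range of the open immersion -/
noncomputable def RgammaZIso [CxOX.HasRgammaZ j] [CxOX.HasRgammaZ j'] :
    CxOX.RgammaZ j ≅ CxOX.RgammaZ j' :=
  Functor.rightDerivedNatIso (CxOX.RgammaZ j) (CxOX.RgammaZ j')
    ((CxOX.gammaZKh j).totalRightDerivedUnit DerivedCategory.Qh
      (HomotopyCategory.quasiIso X.Modules (ComplexShape.up ℤ)))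
    ((CxOX.gammaZKh j').totalRightDerivedUnit DerivedCategory.Qh
      (HomotopyCategory.quasiIso X.Modules (ComplexShape.up ℤ)))
    (HomotopyCategory.quasiIso X.Modules (ComplexShape.up ℤ)) (gammaZKhIso j j' hr)

end Transport

/-- commutation with a coproduct is invariant under natural isomorphisms of functors -/
lemma isIso_sigmaDesc_of_natIso {C D : Type*} [Category C] [Category D] {R R' : C ⥤ D} (φ : R ≅ R')
    {ι : Type*} (E : ι → C) [HasCoproduct E] [HasCoproduct (fun i => R.obj (E i))]
    [HasCoproduct (fun i => R'.obj (E i))]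
    (h : IsIso (Sigma.desc (fun i => R'.map (Sigma.ι E i)))) :
    IsIso (Sigma.desc (fun i => R.map (Sigma.ι E i))) := by
  have he : Sigma.desc (fun i => R.map (Sigma.ι E i)) =
      Limits.Sigma.map (fun i => φ.hom.app (E i)) ≫ Sigma.desc (fun i => R'.map (Sigma.ι E i)) ≫
        φ.inv.app (∐ E) := by
    apply Sigma.hom_ext
    intro i
    rw [Sigma.ι_desc, Sigma.ι_map_assoc, Sigma.ι_desc_assoc, ← φ.hom.naturality_assoc,
      Iso.hom_inv_id_app, Category.comp_id]
  haveI : IsIso (Limits.Sigma.map (fun i => φ.hom.app (E i))) :=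
    ⟨Limits.Sigma.map (fun i => φ.inv.app (E i)), by
      apply Sigma.hom_ext; intro i; simp, by
      apply Sigma.hom_ext; intro i; simp⟩
  rw [he]
  infer_instance

/-- **S7280**: `RΓ_T` commutes with direct sums on `D_QCoh`, `T` closed with quasi-compact open complement -/
theorem isIso_sigmaDesc_RgammaZ {U X : Scheme.{u}} (j : U ⟶ X) [IsOpenImmersion j] [QuasiCompact j]
    [CxOX.HasRgammaZ j] {ι : Type u} (E : ι → DCoh.D X) (hE : ∀ i, DCoh.IsQCohD (E i)) [HasCoproduct E]
    [HasCoproduct (fun i => (CxOX.RgammaZ j).obj (E i))] :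
    IsIso (Sigma.desc (fun i => (CxOX.RgammaZ j).map (Sigma.ι E i))) := by
  let W : X.Opens := j.opensRange
  haveI : QuasiCompact W.ι := by
    have h : j.isoOpensRange.inv ≫ j = W.ι := j.isoOpensRange_inv_comp
    rw [← h]
    infer_instance
  haveI : CxOX.HasRgammaZ W.ι := Groth.Agent.Lib.Helper25.RpushQC2.hasRgammaZ W.ι
  haveI : HasCoproduct (fun i => (CxOX.RgammaZ W.ι).obj (E i)) := hasCoproduct_D _
  have hr : j.opensRange = W.ι.opensRange := (Scheme.Opens.opensRange_ι W).symm
  exact isIso_sigmaDesc_of_natIso (RgammaZIso j W.ι hr) E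
    (isIso_sigmaDesc_RgammaZ_opens W E hE)

end Groth.Agent.Lib.Helper25.QCCRgammaZ
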