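import Mathlib
import Groth.Agent.Lib.Helper25.RDerRlim

/-!
# Right derived functors preserve `D^{≥ n}` (helper25)

`isGE_obj`: with enough injectives, a functor `G : D(A) ⥤ D(B)` with unit
`α : F.mapHomotopyCategory ⋙ Qh ⟶ Qh ⋙ G` invertible on K-injective complexes preserves `IsGE n`.
-/

set_option autoImplicit false
universe w₁ w₂ v₁ v₂ u₁ u₂
open CategoryTheory CategoryTheory.Limits

namespace Groth.Agent.Lib.Helper25.RDerGE

open DerivedCategory Groth.Agent.Lib.Helper25.RDerRlim

variable {A : Type u₁} [Category.{v₁} A] [Abelian A] [HasDerivedCategory.{w₁} A]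
  {B : Type u₂} [Category.{v₂} B] [Abelian B] [HasDerivedCategory.{w₂} B]
  (F : A ⥤ B) [F.Additive]
  (G : DerivedCategory A ⥤ DerivedCategory B)
  (α : F.mapHomotopyCategory (ComplexShape.up ℤ) ⋙ DerivedCategory.Qh ⟶ DerivedCategory.Qh ⋙ G)
  (hα : ∀ (I : CochainComplex A ℤ), I.IsKInjective →
    IsIso (α.app ((HomotopyCategory.quotient A (ComplexShape.up ℤ)).obj I)))

include hα in
/-- a right derived functor preserves `D^{≥ n}` -/
theorem isGE_obj [EnoughInjectives A] (E : DerivedCategory A) (n : ℤ) [E.IsGE n] :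
    (G.obj E).IsGE n := by
  obtain ⟨L, hL, ⟨e⟩⟩ := exists_iso_Q_obj_of_isGE E n
  obtain ⟨I, i, hi, hI, hIn⟩ :=
    CochainComplex.Plus.modelCategoryQuillen.exists_quasiIso_injective L n
  haveI : IsIso (Q.map i) := by rw [isIso_Q_map_iff_quasiIso]; exact hi
  haveI : I.IsKInjective := CochainComplex.isKInjective_of_injective I n
  haveI := isIso_uQ_app F G α hα I
  have e' : G.obj E ≅ Q.obj ((F.mapHomologicalComplex (ComplexShape.up ℤ)).obj I) :=
    G.mapIso (e ≪≫ asIso (Q.map i)) ≪≫ (asIso ((uQ F G α).app I)).symm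
  exact TStructure.t.isGE_of_iso e'.symm n

end Groth.Agent.Lib.Helper25.RDerGE
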