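import Mathlib
import Groth.Agent.Lib.Helper25.RDerRlim
import Groth.Agent.Lib.Helper25.RDerTri
import Groth.Agent.Lib.Helper25.ExtendFunctor
import Groth.Agent.Lib.Helper25.DerivedTrunc
import Groth.Agent.Lib.Helper25.DerBC2
import Groth.Agent.Lib.Helper25.RDerGE

/-!
# Cohomological bounds for total right derived functors (helper25)

For an additive functor `F : A ⥤ B` of abelian categories, a functor `G : D(A) ⥤ D(B)` with
unit `α : F.mapHomotopyCategory ⋙ Qh ⟶ Qh ⋙ G` invertible on K-injective complexes, and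
K-injective resolutions `hKinj`:

* `isZero_homology_single`: `H^i(G(M[-b])) = 0` for `i > b + N - 1` if `R^pF(M) = 0` for `p ≥ N`.
* `isZero_homology_obj₂`: two-out-of-three for vanishing of `H^i(G(-))` along distinguished triangles.
* `Good F N M`: `R^pF(M) = 0` for all `p ≥ N`; `Good.of_iso`, `good_of_isZero`.
* `isZero_homology_of_isGE_of_isLE`: induction on the amplitude.
* `isZero_homology_obj`: if `H^j(E) = 0` for `j ∉ [a,b]` and all `H^j(E)` are `N`-good then
  `H^i(G E) = 0` for `i ∉ [a, b + N - 1]`.
-/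

set_option autoImplicit false
universe w₁ w₂ v₁ v₂ u₁ u₂
open CategoryTheory CategoryTheory.Limits Pretriangulated

namespace Groth.Agent.Lib.Helper25.RDerBound

open DerivedCategory Groth.Agent.Lib.Helper25.RDerRlim

variable {A : Type u₁} [Category.{v₁} A] [Abelian A] [HasDerivedCategory.{w₁} A]
  {B : Type u₂} [Category.{v₂} B] [Abelian B] [HasDerivedCategory.{w₂} B]
  (F : A ⥤ B) [F.Additive]
  (G : DerivedCategory A ⥤ DerivedCategory B)
  (α : F.mapHomotopyCategory (ComplexShape.up ℤ) ⋙ DerivedCategory.Qh ⟶ DerivedCategory.Qh ⋙ G)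
  (hα : ∀ (I : CochainComplex A ℤ), I.IsKInjective →
    IsIso (α.app ((HomotopyCategory.quotient A (ComplexShape.up ℤ)).obj I)))

include hα in
/-- `H^i(RF(M[-b])) = 0` for `i ≥ b + N` if `R^pF(M) = 0` for `p ≥ N` -/
lemma isZero_homology_single [HasInjectiveResolutions A] (M : A) (N : ℕ)
    (hM : ∀ p : ℕ, N ≤ p → IsZero ((F.rightDerived p).obj M)) (b i : ℤ) (hi : b + N - 1 < i) :
    IsZero ((homologyFunctor B i).obj (G.obj ((singleFunctor A b).obj M))) := by
  let R := injectiveResolution M
  let I := R.cochainComplex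
  have e₁ : (singleFunctor A b).obj M ≅ Q.obj (I⟦-b⟧) :=
    ((singleFunctors A).shiftIso (-b) b 0 (by simp)).symm.app M ≪≫
      (shiftFunctor _ (-b)).mapIso ((singleFunctorIsoCompQ A 0).app M ≪≫ asIso (Q.map R.ι')) ≪≫
      ((Q.commShiftIso (-b)).symm.app I)
  haveI : (I⟦-b⟧).IsKInjective := inferInstance
  have hu := isIso_uQ_app F G α hα (I⟦-b⟧)
  have e₂ : G.obj ((singleFunctor A b).obj M) ≅
      Q.obj ((F.mapHomologicalComplex (ComplexShape.up ℤ)).obj (I⟦-b⟧)) :=
    G.mapIso e₁ ≪≫ (@asIso _ _ _ _ _ hu).symm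
  refine IsZero.of_iso ?_ ((homologyFunctor B i).mapIso e₂ ≪≫
    (homologyFunctorFactors B i).app _)
  let FI := (F.mapHomologicalComplex (ComplexShape.up ℤ)).obj I
  have e₃ : (F.mapHomologicalComplex (ComplexShape.up ℤ)).obj (I⟦-b⟧) ≅ FI⟦-b⟧ :=
    ((F.mapHomologicalComplex (ComplexShape.up ℤ)).commShiftIso (-b)).app I
  refine IsZero.of_iso ?_ ((HomologicalComplex.homologyFunctor B _ i).mapIso e₃ ≪≫
    ((HomologicalComplex.homologyFunctor B (ComplexShape.up ℤ) 0).shiftIso (-b) i (i - b)
      (by omega)).app FI)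
  obtain ⟨k, hk⟩ : ∃ k : ℕ, (k : ℤ) = i - b := ⟨(i - b).toNat, Int.toNat_of_nonneg (by omega)⟩
  have hkN : N ≤ k := by omega
  rw [← hk]
  let J := (F.mapHomologicalComplex (ComplexShape.up ℕ)).obj R.cocomplex
  have e₄ : FI ≅ J.extend ComplexShape.embeddingUpNat := by
    exact @asIso _ _ _ _ _
      (Groth.Agent.Lib.helper25.ExtendFunctor.instIsIsoHomologicalComplexComparison
        ComplexShape.embeddingUpNat F R.cocomplex)
  refine IsZero.of_iso ?_ ((HomologicalComplex.homologyFunctor B _ (k : ℤ)).mapIso e₄ ≪≫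
    HomologicalComplex.extendHomologyIso J ComplexShape.embeddingUpNat (j := k) (j' := (k : ℤ)) rfl)
  exact IsZero.of_iso (hM k hkN) (R.isoRightDerivedObj F k).symm

variable
  (hKinj : ∀ K : CochainComplex A ℤ, ∃ (I : CochainComplex A ℤ) (f : K ⟶ I),
    I.IsKInjective ∧ QuasiIso f)

include hKinj hα in
/-- Two-out-of-three for vanishing of `H^i(RF(-))` along a distinguished triangle. -/
lemma isZero_homology_obj₂ (T : Triangle (DerivedCategory A)) (hT : T ∈ distTriang _) (i : ℤ)
    (h₁ : IsZero ((homologyFunctor B i).obj (G.obj T.obj₁)))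
    (h₃ : IsZero ((homologyFunctor B i).obj (G.obj T.obj₃))) :
    IsZero ((homologyFunctor B i).obj (G.obj T.obj₂)) := by
  obtain ⟨h', hd⟩ := RDerTri.exists_distinguished hKinj
    (F.mapHomotopyCategory (ComplexShape.up ℤ) ⋙ Qh) G α hα T hT
  have ex := DerivedCategory.HomologySequence.exact₂ _ hd i
  exact ex.isZero_of_both_zeros (h₁.eq_of_src _ _) (h₃.eq_of_tgt _ _)

omit [HasDerivedCategory A] [HasDerivedCategory B] in
/-- `M` is `N`-good for `F` if `R^pF(M) = 0` for `p ≥ N`. -/
def Good [HasInjectiveResolutions A] (N : ℕ) (M : A) : Prop :=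
  ∀ p : ℕ, N ≤ p → IsZero ((F.rightDerived p).obj M)

omit [HasDerivedCategory A] [HasDerivedCategory B] in
lemma Good.of_iso [HasInjectiveResolutions A] {N : ℕ} {M M' : A} (h : Good F N M) (e : M ≅ M') :
    Good F N M' :=
  fun p hp => IsZero.of_iso (h p hp) ((F.rightDerived p).mapIso e.symm)

omit [HasDerivedCategory A] [HasDerivedCategory B] in
lemma rightDerived_map_zero [HasInjectiveResolutions A] (p : ℕ) (M M' : A) :
    (F.rightDerived p).map (0 : M ⟶ M') = 0 := by
  rw [Functor.rightDerived_map_eq F p (0 : M ⟶ M') (P := injectiveResolution M)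
    (Q := injectiveResolution M') 0 (by simp)]
  simp only [Functor.map_zero, zero_comp, comp_zero]

omit [HasDerivedCategory A] [HasDerivedCategory B] in
lemma good_of_isZero [HasInjectiveResolutions A] (N : ℕ) {M : A} (h : IsZero M) : Good F N M := by
  intro p _
  rw [IsZero.iff_id_eq_zero, ← CategoryTheory.Functor.map_id, h.eq_of_src (𝟙 M) 0]
  exact rightDerived_map_zero F p M M

open Groth.Agent.Lib.helper25.DerivedTrunc in
include hKinj hα in
/-- Induction on the cohomological amplitude. -/
lemma isZero_homology_of_isGE_of_isLE [HasInjectiveResolutions A] (N : ℕ) (n : ℕ) :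
    ∀ (a b : ℤ) (E : DerivedCategory A), b - a < n → E.IsGE a → E.IsLE b →
      (∀ j : ℤ, Good F N ((homologyFunctor A j).obj E)) →
      ∀ i : ℤ, b + N - 1 < i → IsZero ((homologyFunctor B i).obj (G.obj E)) := by
  induction n with
  | zero =>
    intro a b E hab _ _ _ i _
    have hE : IsZero E := (tD A).isZero E b a (by omega)
    haveI := RDerRlim.additive F G α hα hKinj
    exact Functor.map_isZero _ (Functor.map_isZero G hE)
  | succ n ih =>
    intro a b E hab hGE hLE hgood i hi
    let L := ((tD A).truncLT b).obj E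
    let R := ((tD A).truncGE b).obj E
    have hT := (tD A).triangleLTGE_distinguished b E
    refine isZero_homology_obj₂ F G α hα hKinj _ hT i ?_ ?_
    · haveI : L.IsGE a := isGE_truncLT b a E
      haveI : L.IsLE (b - 1) := by dsimp only [L]; infer_instance
      refine ih a (b - 1) L (by omega) inferInstance inferInstance ?_ i (by omega)
      intro j
      by_cases hj : j < b
      · haveI := mono_homology_truncLTι b j E
        haveI : Epi ((homologyFunctor A j).map (((tD A).truncLTι b).app E)) := by
          apply (HomologySequence.epi_homologyMap_mor₁_iff _ hT j).2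
          exact (isZero_of_isGE R b j hj).eq_of_tgt _ _
        haveI : IsIso ((homologyFunctor A j).map (((tD A).truncLTι b).app E)) :=
          isIso_of_mono_of_epi _
        exact (hgood j).of_iso F
          (asIso ((homologyFunctor A j).map (((tD A).truncLTι b).app E))).symm
      · exact good_of_isZero F N (isZero_of_isLE L (b - 1) j (by omega))
    · haveI : R.IsGE b := by dsimp only [R]; infer_instance
      haveI : R.IsLE b := isLE_truncGE b b E
      obtain ⟨M, ⟨e⟩⟩ := exists_iso_singleFunctor_obj_of_isGE_of_isLE R b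
      haveI := epi_homology_truncGEπ b b E
      haveI : Mono ((homologyFunctor A b).map (((tD A).truncGEπ b).app E)) := by
        apply (HomologySequence.mono_homologyMap_mor₂_iff _ hT b).2
        exact (isZero_of_isLE L (b - 1) b (by omega)).eq_of_src _ _
      haveI : IsIso ((homologyFunctor A b).map (((tD A).truncGEπ b).app E)) :=
        isIso_of_mono_of_epi _
      have eM : (homologyFunctor A b).obj E ≅ M :=
        asIso ((homologyFunctor A b).map (((tD A).truncGEπ b).app E)) ≪≫
          (homologyFunctor A b).mapIso e ≪≫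
          (homologyFunctor A b).mapIso ((singleFunctorIsoCompQ A b).app M) ≪≫
          (homologyFunctorFactors A b).app _ ≪≫
          (HomologicalComplex.homologyFunctorSingleIso A (ComplexShape.up ℤ) b).app M
      refine IsZero.of_iso (isZero_homology_single F G α hα M N ((hgood b).of_iso F eM) b i hi)
        ((homologyFunctor B i).mapIso (G.mapIso e))

include hKinj hα in
/-- Cohomological bounds for `RF(E)` when `E` has cohomology in `[a, b]` with `N`-good
cohomology objects: `H^i(RF(E)) = 0` for `i ∉ [a, b + N - 1]`. -/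
theorem isZero_homology_obj [HasInjectiveResolutions A] [EnoughInjectives A] (N : ℕ)
    (E : DerivedCategory A) (a b : ℤ)
    (hab : ∀ i : ℤ, i < a ∨ b < i → IsZero ((homologyFunctor A i).obj E))
    (hgood : ∀ j : ℤ, Good F N ((homologyFunctor A j).obj E))
    (i : ℤ) (hi : i < a ∨ b + N - 1 < i) :
    IsZero ((homologyFunctor B i).obj (G.obj E)) := by
  haveI : E.IsGE a := by
    rw [isGE_iff]; intro j hj; exact hab j (Or.inl hj)
  haveI : E.IsLE b := by
    rw [isLE_iff]; intro j hj; exact hab j (Or.inr hj)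
  rcases hi with hi | hi
  · haveI := RDerGE.isGE_obj F G α hα E a
    exact isZero_of_isGE _ a i hi
  · exact isZero_homology_of_isGE_of_isLE F G α hα hKinj N (b - a).toNat.succ a b E
      (by push_cast; omega) inferInstance inferInstance hgood i hi

end Groth.Agent.Lib.Helper25.RDerBound
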