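import Mathlib
import Groth.Agent.Lib.Helper25.RDerAcyc
import Groth.Agent.Lib.Helper25.RDerTri
import Groth.Agent.Lib.Helper25.DCoprodHomology
import Groth.Agent.Lib.Helper13.KFlat8
import Groth.Agent.Lib.Helper27.TelescopeDer
import Groth.Agent.Lib.Helper23.DCoprod6
import Groth.Agent.Lib.Helper25.KInjMain
import Groth.Agent.Lib.Helper25.DerBC

/-!
# Unbounded Leray acyclicity when `RF` commutes with countable coproducts (helper25)

Setting of `RDerRlim`/`RDerAcyc`: `F : A ⥤ B` left exact, `G : D(A) ⥤ D(B)` with unit `α` invertible at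
K-injectives, K-injective resolutions `hKinj`; `A` with exact sequential colimits and countable
coproducts, `B` with exact countable coproducts, `G` preserving countable coproducts.

* `isLE_sigma`: `D^{≤ b}(B)` is closed under coproducts (AB4).
* `isLE_obj_sigmaGE`, `isLE_obj_of_isStrictlyLE`: `G(Q L) ∈ D^{≤ b}` for `L` strictly `≤ b` with
  `F`-acyclic terms (`L` is the homotopy colimit of its brutal truncations `σ_{≥ b-n} L`: helper27's
  `Q_colimit_isHocolim`, helper13's `sigmaSeq`).
* `isIso_uQ_app_of_acyc_unbounded`: the unit `Q(F K) ⟶ G(Q K)` is invertible for every complex `K` with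
  `F`-acyclic terms.
* `isIso_unit_of_acyclic`: S19253 (Grothendieck abelian `A`, `B = Ab`).
-/

set_option autoImplicit false
universe w₁ w₂ v₁ v₂ u₁ u₂
open CategoryTheory CategoryTheory.Limits Pretriangulated

namespace Groth.Agent.Lib.Helper25.RDerCoprod

open Groth.Agent.Lib.Helper25.RDerRlim Groth.Agent.Lib.Helper25.RDerAcyc DerivedCategory
  Groth.Agent.Lib.helper27 Groth.Agent.Lib.helper25.SigmaGE Groth.Agent.Lib.helper13.KFlat

variable {A : Type u₁} [Category.{v₁} A] [Abelian A] [HasDerivedCategory.{w₁} A]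
  {B : Type u₂} [Category.{v₂} B] [Abelian B] [HasDerivedCategory.{w₂} B]
  (F : A ⥤ B) [F.Additive]
  (G : DerivedCategory A ⥤ DerivedCategory B)
  (α : F.mapHomotopyCategory (ComplexShape.up ℤ) ⋙ DerivedCategory.Qh ⟶ DerivedCategory.Qh ⋙ G)
  (hα : ∀ (I : CochainComplex A ℤ), I.IsKInjective →
    IsIso (α.app ((HomotopyCategory.quotient A (ComplexShape.up ℤ)).obj I)))
  (hKinj : ∀ K : CochainComplex A ℤ, ∃ (I : CochainComplex A ℤ) (f : K ⟶ I),
    I.IsKInjective ∧ QuasiIso f)

omit [HasDerivedCategory A] in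
lemma isStrictlyGE_sigmaGE (K : CochainComplex A ℤ) (a : ℤ) : (sigmaGE K a).IsStrictlyGE a := by
  rw [CochainComplex.isStrictlyGE_iff]
  intro i hi
  exact isZero_sigmaGE_X K a i hi

omit [HasDerivedCategory A] [HasDerivedCategory B] in
lemma acyc_sigmaGE [HasInjectiveResolutions A] (K : CochainComplex A ℤ) (a : ℤ)
    (hK : ∀ n, Leray.Acyc F (K.X n)) (n : ℤ) : Leray.Acyc F ((sigmaGE K a).X n) := by
  by_cases h : a ≤ n
  · intro i hi
    exact IsZero.of_iso (hK n i hi) ((F.rightDerived i).mapIso (sigmaGEXIso K a n h))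
  · exact Leray.acyc_of_isZero F _ (isZero_sigmaGE_X K a n (by omega))

include hα in
/-- `RF(σ_{≥ a} L)` is in `D^{≤ b}` if `L` is strictly `≤ b` with `F`-acyclic terms -/
lemma isLE_obj_sigmaGE [HasInjectiveResolutions A] [PreservesFiniteLimits F]
    (L : CochainComplex A ℤ) (b : ℤ) [L.IsStrictlyLE b]
    (hL : ∀ n, Leray.Acyc F (L.X n)) (a : ℤ) :
    (G.obj (Q.obj (sigmaGE L a))).IsLE b := by
  haveI := isStrictlyGE_sigmaGE L a
  haveI := isIso_uQ_app_of_acyc F G α hα (sigmaGE L a) a (acyc_sigmaGE F L a hL)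
  have e : Q.obj ((F.mapHomologicalComplex (ComplexShape.up ℤ)).obj (sigmaGE L a)) ≅
      G.obj (Q.obj (sigmaGE L a)) := asIso ((uQ F G α).app (sigmaGE L a))
  haveI : CochainComplex.IsStrictlyLE
      ((F.mapHomologicalComplex (ComplexShape.up ℤ)).obj (sigmaGE L a)) b := by
    rw [CochainComplex.isStrictlyLE_iff]
    intro i hi
    have h0 : IsZero ((sigmaGE L a).X i) := by
      by_cases h : a ≤ i
      · exact IsZero.of_iso (CochainComplex.isZero_of_isStrictlyLE L b i hi) (sigmaGEXIso L a i h)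
      · exact isZero_sigmaGE_X L a i (by omega)
    exact F.map_isZero h0
  exact TStructure.t.isLE_of_iso e b

omit [HasDerivedCategory B] in
lemma isZero_sigma_of_isZero {J : Type*} (M : J → B) [HasCoproduct M] (h : ∀ j, IsZero (M j)) :
    IsZero (∐ M) := by
  rw [IsZero.iff_id_eq_zero]
  exact Sigma.hom_ext _ _ (fun j => (h j).eq_of_src _ _)

/-- `D^{≤ b}` is closed under coproducts (AB4) -/
lemma isLE_sigma {J : Type*} [HasCoproductsOfShape J B] [HasExactColimitsOfShape (Discrete J) B]
    (Y : J → DerivedCategory B) [HasCoproduct Y] (b : ℤ) (hY : ∀ j, (Y j).IsLE b) :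
    (∐ Y).IsLE b := by
  rw [isLE_iff]
  intro i hi
  let P : ObjectProperty B := fun M => IsZero M
  haveI : P.IsClosedUnderIsomorphisms := ⟨fun e h => IsZero.of_iso h e.symm⟩
  exact Groth.Agent.Lib.helper25.DCoprodHomology.prop_homology_coprod (A := B) P
    (fun M hM => isZero_sigma_of_isZero M hM) Y i (fun j => isZero_of_isLE (Y j) b i hi)

include hα hKinj in
/-- `RF(L)` is in `D^{≤ b}` if `L` is strictly `≤ b` with `F`-acyclic terms and `RF` commutes with
countable coproducts -/
lemma isLE_obj_of_isStrictlyLE [HasInjectiveResolutions A] [PreservesFiniteLimits F]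
    [HasColimitsOfShape ℕ A] [HasExactColimitsOfShape ℕ A]
    [HasCoproductsOfShape ℕ A] [HasExactColimitsOfShape (Discrete ℕ) A]
    [HasCoproductsOfShape ℕ B] [HasExactColimitsOfShape (Discrete ℕ) B]
    [HasColimitsOfShape (Discrete ℕ) (DerivedCategory A)]
    [PreservesColimitsOfShape (Discrete ℕ) G]
    (L : CochainComplex A ℤ) (b : ℤ) [L.IsStrictlyLE b]
    (hL : ∀ n, Leray.Acyc F (L.X n)) :
    (G.obj (Q.obj L)).IsLE b := by
  let Ls : ℕ ⥤ CochainComplex A ℤ := sigmaSeq L b
  have hc : IsColimit (sigmaCocone L b) :=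
    HomologicalComplex.isColimitOfEval _ _ (fun q => isColimitSigmaCocone L b q)
  let e₀ : colimit Ls ≅ L := (colimit.isColimit Ls).coconePointUniqueUpToIso hc
  haveI : PreservesColimit (Discrete.functor Ls.obj) (Q (C := A)) :=
    Groth.Agent.Lib.helper23.DCoprod.preservesColimit_Q _
  obtain ⟨c, hT⟩ := Q_colimit_isHocolim Ls
  obtain ⟨h', hT'⟩ := RDerTri.exists_distinguished hKinj
    (F.mapHomotopyCategory (ComplexShape.up ℤ) ⋙ Qh) G α hα _ hT
  let X : ℕ → DerivedCategory A := fun n => Q.obj (Ls.obj n)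
  have h1 : (G.obj (∐ X)).IsLE b := by
    have hcol : IsColimit (Cofan.mk (G.obj (∐ X)) (fun n => G.map (Sigma.ι X n))) :=
      isColimitCofanMkObjOfIsColimit G _ _ (coproductIsCoproduct X)
    haveI : HasCoproduct (fun n => G.obj (X n)) := ⟨⟨⟨_, hcol⟩⟩⟩
    have e : (∐ fun n => G.obj (X n)) ≅ G.obj (∐ X) :=
      (colimit.isColimit _).coconePointUniqueUpToIso hcol
    have := isLE_sigma (fun n => G.obj (X n)) b (fun n => by
      change (G.obj (Q.obj (sigmaGE L (b - n)))).IsLE b
      exact isLE_obj_sigmaGE F G α hα L b hL _)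
    exact TStructure.t.isLE_of_iso e b
  have h3 : (G.obj (Q.obj (colimit Ls))).IsLE b := by
    rw [isLE_iff]
    intro i hi
    have ex := HomologySequence.exact₃ _ hT' i (i + 1) rfl
    haveI := h1
    have z2 : IsZero ((homologyFunctor B i).obj (G.obj (∐ X))) := isZero_of_isLE _ b i hi
    have z1 : IsZero ((homologyFunctor B (i + 1)).obj (G.obj (∐ X))) :=
      isZero_of_isLE _ b (i + 1) (by omega)
    exact ex.isZero_of_both_zeros (z2.eq_of_src _ _) (z1.eq_of_tgt _ _)
  exact TStructure.t.isLE_of_iso (G.mapIso (Q.mapIso e₀)) b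

include hα hKinj in
/-- **Leray acyclicity for unbounded complexes** when `RF` commutes with countable coproducts:
the unit `F(K) ⟶ RF(K)` is invertible at every complex `K` with `F`-acyclic terms. -/
theorem isIso_uQ_app_of_acyc_unbounded [HasInjectiveResolutions A] [PreservesFiniteLimits F]
    [HasColimitsOfShape ℕ A] [HasExactColimitsOfShape ℕ A]
    [HasCoproductsOfShape ℕ A] [HasExactColimitsOfShape (Discrete ℕ) A]
    [HasCoproductsOfShape ℕ B] [HasExactColimitsOfShape (Discrete ℕ) B]
    [HasColimitsOfShape (Discrete ℕ) (DerivedCategory A)]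
    [PreservesColimitsOfShape (Discrete ℕ) G]
    (K : CochainComplex A ℤ) (hK : ∀ n, Leray.Acyc F (K.X n)) :
    IsIso ((uQ F G α).app K) := by
  rw [DerivedCategory.isIso_iff]
  intro i
  let m := i - 1
  let S := sigmaSC K m
  have hS : S.ShortExact := sigmaSC_shortExact K m
  have hT := DerivedCategory.triangleOfSES_distinguished hS
  obtain ⟨h', hT'⟩ := RDerTri.exists_distinguished hKinj
    (F.mapHomotopyCategory (ComplexShape.up ℤ) ⋙ Qh) G α hα _ hT
  haveI : S.X₃.IsStrictlyLE (m - 1) := by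
    rw [CochainComplex.isStrictlyLE_iff]
    intro q hq
    exact isZero_sigmaSC_X₃_of_le K m q (by omega)
  have hacyc : ∀ n, Leray.Acyc F (S.X₃.X n) := by
    intro n
    by_cases h : n < m
    · haveI := isIso_sigmaSC_g_of_lt K m n h
      intro j hj
      exact IsZero.of_iso (hK n j hj) ((F.rightDerived j).mapIso (asIso (S.g.f n)).symm)
    · exact Leray.acyc_of_isZero F _ (isZero_sigmaSC_X₃_of_le K m n (by omega))
  haveI h3 : (G.obj (Q.obj S.X₃)).IsLE (m - 1) :=
    isLE_obj_of_isStrictlyLE F G α hα hKinj S.X₃ (m - 1) hacyc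
  have hiso1 : IsIso ((homologyFunctor B i).map (G.map (Q.map S.f))) := by
    have z1 : IsZero ((homologyFunctor B (i - 1)).obj (G.obj (Q.obj S.X₃))) :=
      isZero_of_isLE _ (m - 1) (i - 1) (by omega)
    have z2 : IsZero ((homologyFunctor B i).obj (G.obj (Q.obj S.X₃))) :=
      isZero_of_isLE _ (m - 1) i (by omega)
    have h1 : Mono ((homologyFunctor B i).map (G.map (Q.map S.f))) :=
      (HomologySequence.mono_homologyMap_mor₁_iff _ hT' (i - 1) i (by omega)).2 (z1.eq_of_src _ _)
    have h2 : Epi ((homologyFunctor B i).map (G.map (Q.map S.f))) :=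
      (HomologySequence.epi_homologyMap_mor₁_iff _ hT' i).2 (z2.eq_of_tgt _ _)
    exact isIso_of_mono_of_epi _
  haveI := isStrictlyGE_sigmaGE K m
  haveI hiso2 : IsIso ((uQ F G α).app (sigmaGE K m)) :=
    isIso_uQ_app_of_acyc F G α hα (sigmaGE K m) m (acyc_sigmaGE F K m hK)
  have hiso3 : IsIso ((homologyFunctor B i).map
      (Q.map ((F.mapHomologicalComplex (ComplexShape.up ℤ)).map S.f))) := by
    have hf : ∀ q, m ≤ q →
        IsIso (((F.mapHomologicalComplex (ComplexShape.up ℤ)).map (sigmaGEι K m)).f q) := by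
      intro q hq
      haveI := isIso_sigmaGEι_f K m q hq
      exact inferInstanceAs (IsIso (F.map ((sigmaGEι K m).f q)))
    have h := isIso_homologyMap_of_isIso_f
      ((F.mapHomologicalComplex (ComplexShape.up ℤ)).map (sigmaGEι K m)) i
      (hf _ (by omega)) (hf _ (by omega)) (hf _ (by omega))
    exact (NatIso.isIso_map_iff (homologyFunctorFactors B i) _).2 h
  have nat := (uQ F G α).naturality S.f
  simp only [Functor.comp_map] at nat
  have nat' := congrArg (fun φ => (homologyFunctor B i).map φ) nat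
  simp only [Functor.map_comp] at nat'
  haveI := hiso1
  haveI := hiso3
  haveI h5 : IsIso ((homologyFunctor B i).map ((uQ F G α).app S.X₁)) := by
    haveI : IsIso ((uQ F G α).app S.X₁) := hiso2
    infer_instance
  have h4 : IsIso ((homologyFunctor B i).map
      (Q.map ((F.mapHomologicalComplex (ComplexShape.up ℤ)).map S.f)) ≫
      (homologyFunctor B i).map ((uQ F G α).app S.X₂)) := by
    rw [nat']
    infer_instance
  exact @IsIso.of_isIso_comp_left _ _ _ _ _ ((homologyFunctor B i).map
      (Q.map ((F.mapHomologicalComplex (ComplexShape.up ℤ)).map S.f)))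
      ((homologyFunctor B i).map ((uQ F G α).app S.X₂)) hiso3 h4

section Main

universe w w' v u

/-- **S19253**: in a Grothendieck abelian category, if the total right derived functor `RF` of a left
exact functor `F : A ⥤ Ab` preserves countable coproducts, then `F(K) ⟶ RF(K)` is invertible at every
complex `K` with `F`-acyclic terms. -/
theorem isIso_unit_of_acyclic
    {A : Type u} [Category.{v} A] [Abelian A] [IsGrothendieckAbelian.{v} A] [HasDerivedCategory.{w} A]
    [HasDerivedCategory.{w'} AddCommGrpCat.{v}]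
    (F : A ⥤ AddCommGrpCat.{v}) [F.Additive] [PreservesFiniteLimits F]
    [(F.mapHomotopyCategory (ComplexShape.up ℤ) ⋙ DerivedCategory.Qh).HasRightDerivedFunctor
      (HomotopyCategory.quasiIso A (ComplexShape.up ℤ))]
    [HasColimitsOfShape (Discrete ℕ) (DerivedCategory A)]
    [PreservesColimitsOfShape (Discrete ℕ) ((F.mapHomotopyCategory (ComplexShape.up ℤ) ⋙ DerivedCategory.Qh).totalRightDerived
      DerivedCategory.Qh (HomotopyCategory.quasiIso A (ComplexShape.up ℤ)))]
    (K : CochainComplex A ℤ) (hK : ∀ (m : ℤ) (i : ℕ), 0 < i → IsZero ((F.rightDerived i).obj (K.X m))) :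
    IsIso (((F.mapHomotopyCategory (ComplexShape.up ℤ) ⋙ DerivedCategory.Qh).totalRightDerivedUnit DerivedCategory.Qh
      (HomotopyCategory.quasiIso A (ComplexShape.up ℤ))).app ((HomotopyCategory.quotient A (ComplexShape.up ℤ)).obj K)) := by
  haveI : HasExactColimitsOfShape ℕ A := by
    haveI : HasFilteredColimitsOfSize.{0, 0} A := ⟨fun J _ _ => inferInstance⟩
    haveI : AB5OfSize.{0, 0} A := AB5OfSize_of_univLE.{0, 0, v, v} A
    infer_instance
  let Φ := F.mapHomotopyCategory (ComplexShape.up ℤ) ⋙ DerivedCategory.Qh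
  let W := HomotopyCategory.quasiIso A (ComplexShape.up ℤ)
  let G := Φ.totalRightDerived DerivedCategory.Qh W
  let α : Φ ⟶ DerivedCategory.Qh ⋙ G := Φ.totalRightDerivedUnit DerivedCategory.Qh W
  haveI : G.IsLeftKanExtension α :=
    Functor.IsRightDerivedFunctor.isLeftKanExtension _ _ W
  have hKinj : ∀ K : CochainComplex A ℤ, ∃ (I : CochainComplex A ℤ) (f : K ⟶ I),
      I.IsKInjective ∧ QuasiIso f := by
    intro K
    obtain ⟨I, f, hI, hf, -, -⟩ := Groth.Agent.Lib.Helper25.KInjMain.exists_kInjective_resolution K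
    exact ⟨I, f, hI, hf⟩
  have hα : ∀ (I : CochainComplex A ℤ), I.IsKInjective →
      IsIso (α.app ((HomotopyCategory.quotient A (ComplexShape.up ℤ)).obj I)) := by
    intro I hI
    exact Groth.Agent.Lib.Helper25.DerBC.isIso_unit_app_of_isKInjective hKinj Φ G α I
  haveI : PreservesColimitsOfShape (Discrete ℕ) G := ‹_›
  exact (isIso_α_app_iff F G α K).2
    (isIso_uQ_app_of_acyc_unbounded F G α hα hKinj K (fun n i hi => hK n i hi))

end Main

end Groth.Agent.Lib.Helper25.RDerCoprod
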