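import Groth.Agent.Lib.Helper25.RDerRlim

/-!
# Right derived functors which preserve products commute with derived limits

Variant of `RDerRlim.isRlim_map` in which exactness of countable products in the target is replaced by the hypothesis that
the derived functor itself preserves the product (`isRlim_map_of_isProd`), e.g. because it is a right adjoint
(`isProd_map_of_preservesLimit`).
-/

set_option autoImplicit false
universe w' w₁ w₂ v₁ v₂ u₁ u₂ u
open CategoryTheory CategoryTheory.Limits Pretriangulated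

namespace Groth.Agent.Lib.Helper25.RDerRlim2

open Groth.Agent.Lib.Helper25.DerAdjK DerivedCategory Groth.Agent.Lib.Helper25.RDerRlim

section IsProd

variable {C : Type*} [Category C] {D : Type*} [Category D] {J : Type*}

lemma isProd_map_of_preservesLimit (G : C ⥤ D) (T : J → C) [HasProduct T]
    [HasProduct fun j => G.obj (T j)] [PreservesLimit (Discrete.functor T) G] :
    IsProd (G.obj (∏ᶜ T)) (fun j => G.map (Pi.π T j)) := by
  refine (isProd_pi (fun j => G.obj (T j))).of_iso (PreservesProduct.iso G T) (fun j => Iso.refl _) _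
    (fun j => ?_)
  simp only [Iso.refl_hom, Category.comp_id, PreservesProduct.iso_hom]
  exact piComparison_comp_π _ _ _

end IsProd

variable {A : Type u₁} [Category.{v₁} A] [Abelian A] [HasDerivedCategory.{w₁} A]
  {B : Type u₂} [Category.{v₂} B] [Abelian B] [HasDerivedCategory.{w₂} B]
  (F : A ⥤ B) [F.Additive]
  (G : DerivedCategory A ⥤ DerivedCategory B)
  (α : F.mapHomotopyCategory (ComplexShape.up ℤ) ⋙ DerivedCategory.Qh ⟶ DerivedCategory.Qh ⋙ G)
  (hα : ∀ (I : CochainComplex A ℤ), I.IsKInjective →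
    IsIso (α.app ((HomotopyCategory.quotient A (ComplexShape.up ℤ)).obj I)))
  (hKinj : ∀ K : CochainComplex A ℤ, ∃ (I : CochainComplex A ℤ) (f : K ⟶ I),
    I.IsKInjective ∧ QuasiIso f)

include hKinj hα in
/-- **A right derived functor which preserves countable products commutes with derived limits.** -/
theorem isRlim_map_of_isProd (K : ℕ → DerivedCategory A) (t : ∀ n, K (n + 1) ⟶ K n)
    (L : DerivedCategory A) [HasProduct K] [HasProduct fun n => G.obj (K n)]
    (hprod : IsProd (G.obj (∏ᶜ K)) (fun n => G.map (Pi.π K n)))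
    (hL : ∃ (a : L ⟶ ∏ᶜ K) (c : ∏ᶜ K ⟶ L⟦(1 : ℤ)⟧),
      Triangle.mk a (Pi.lift fun n => Pi.π K n - Pi.π K (n + 1) ≫ t n) c ∈ distTriang _) :
    ∃ (a' : G.obj L ⟶ ∏ᶜ fun n => G.obj (K n))
      (c' : (∏ᶜ fun n => G.obj (K n)) ⟶ (G.obj L)⟦(1 : ℤ)⟧),
      Triangle.mk a' (Pi.lift fun n => Pi.π (fun n => G.obj (K n)) n -
        Pi.π (fun n => G.obj (K n)) (n + 1) ≫ G.map (t n)) c' ∈ distTriang _ := by
  obtain ⟨a, c, hT⟩ := hL
  have := additive F G α hα hKinj
  obtain ⟨h', hT'⟩ := RDerTri.exists_distinguished hKinj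
    (F.mapHomotopyCategory (ComplexShape.up ℤ) ⋙ Qh) G α hα _ hT
  obtain ⟨ψ, hψ⟩ := (isProd_pi (fun n => G.obj (K n))).exists_iso hprod
  refine ⟨G.map a ≫ ψ.hom, ψ.inv ≫ h', isomorphic_distinguished _ hT' _
    (Triangle.isoMk _ _ (Iso.refl _) ψ.symm ψ.symm ?_ ?_ ?_)⟩
  · change (G.map a ≫ ψ.hom) ≫ ψ.inv = 𝟙 _ ≫ G.map a
    rw [Category.assoc, Iso.hom_inv_id, Category.comp_id, Category.id_comp]
  · change (Pi.lift fun n => Pi.π (fun n => G.obj (K n)) n -
        Pi.π (fun n => G.obj (K n)) (n + 1) ≫ G.map (t n)) ≫ ψ.inv =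
      ψ.inv ≫ G.map (Pi.lift fun n => Pi.π K n - Pi.π K (n + 1) ≫ t n)
    rw [← cancel_mono ψ.hom, Category.assoc, Category.assoc, Iso.inv_hom_id, Category.comp_id,
      ← cancel_epi ψ.hom, Iso.hom_inv_id_assoc]
    apply Pi.hom_ext
    intro n
    simp only [Category.assoc, Pi.lift_π, Preadditive.comp_sub]
    rw [reassoc_of% (hψ (n + 1)), hψ n, ← G.map_comp, ← G.map_comp, ← G.map_sub, Pi.lift_π]
  · change (ψ.inv ≫ h') ≫ (𝟙 _)⟦(1 : ℤ)⟧' = ψ.inv ≫ h'
    rw [CategoryTheory.Functor.map_id, Category.comp_id]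

end Groth.Agent.Lib.Helper25.RDerRlim2
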