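import Groth.Agent.Lib.Helper25.StalkKFlat
import Groth.Agent.Lib.Helper25.RDerTri
import Groth.Agent.Lib.Helper25.RGammaPush

/-!
# Isomorphisms in `D(O_Y)` are detected by `RΓ(U, -)` on affine opens (helper25, S11114)

* `isZero_homology_of_local`: a complex of `O_Y`-modules is exact in degree `n` if cycles are locally boundaries (via stalks).
* `isZero_homology_of_affine_sections`: ... if its complexes of sections over all affine opens are exact in degree `n`.
* `isZero_of_homology`: an object of `D(A)` with vanishing homology is zero.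
* `isIso_iff_RΓ_affine`: `φ` is an isomorphism iff `RΓ(U, φ|_U)` is for every affine open `U` (no qcqs hypothesis needed).
-/

set_option autoImplicit false
universe u
open CategoryTheory CategoryTheory.Limits AlgebraicGeometry Opposite

attribute [local instance] HasDerivedCategory.standard

namespace Groth.Agent.Lib.Helper25.RGammaDetect

open Groth.Agent.Lib.Helper25.StalkKFlat Groth.Agent.Lib.Helper25.StalkTensorCx

variable {Y : Scheme.{u}}

/-- local exactness criterion on sections: cycles are locally boundaries -/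
lemma isZero_homology_of_local (K : CochainComplex Y.Modules ℤ) (n : ℤ)
    (h : ∀ (y : Y) (V : Y.Opens) (_ : y ∈ V) (s : Γ(K.X n, V)),
      (Scheme.Modules.Hom.app (K.d n (n + 1)) V).hom s = 0 →
      ∃ (W : Y.Opens) (hW : W ≤ V) (_ : y ∈ W) (t : Γ(K.X (n - 1), W)),
        (Scheme.Modules.Hom.app (K.d (n - 1) n) W).hom t =
          (K.X n).presheaf.map (homOfLE hW).op s) :
    IsZero (K.homology n) := by
  apply isZero_homology_of_forall_stalk
  intro y
  rw [← HomologicalComplex.exactAt_iff_isZero_homology,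
    HomologicalComplex.exactAt_iff' _ (n - 1) n (n + 1) (by simp) (by simp),
    ShortComplex.moduleCat_exact_iff]
  intro m hm
  obtain ⟨V, hyV, s, rfl⟩ := (K.X n).presheaf.exists_germ_eq (x := y) m
  have hm' : (DerSch.stalkFunctor Y y).map (K.d n (n + 1)) ((K.X n).presheaf.germ V y hyV s) = 0 := hm
  rw [DerSch.stalkFunctor_map_germ] at hm'
  -- the germ of `d s` vanishes: `d s` vanishes on a smaller neighbourhood
  have h0 : (K.X (n + 1)).presheaf.germ V y hyV ((K.d n (n + 1)).app V s) =
      (K.X (n + 1)).presheaf.germ V y hyV 0 := by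
    rw [hm', map_zero]
    rfl
  obtain ⟨W, hyW, iU, iV, hW⟩ := (K.X (n + 1)).presheaf.germ_eq y hyV hyV _ _ h0
  rw [map_zero] at hW
  -- `s|_W` is a cycle
  have hcyc : (Scheme.Modules.Hom.app (K.d n (n + 1)) W).hom
      ((K.X n).presheaf.map iU.op s) = 0 := by
    have hnat := ((Scheme.Modules.toPresheaf Y).map (K.d n (n + 1))).naturality iU.op
    have := ConcreteCategory.congr_hom hnat s
    exact this.trans hW
  obtain ⟨W', hW', hyW', t, ht⟩ := h y W hyW _ hcyc
  refine ⟨(K.X (n - 1)).presheaf.germ W' y hyW' t, ?_⟩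
  change (DerSch.stalkFunctor Y y).map (K.d (n - 1) n) ((K.X (n - 1)).presheaf.germ W' y hyW' t) = _
  rw [DerSch.stalkFunctor_map_germ]
  change (K.X n).presheaf.germ W' y hyW' ((Scheme.Modules.Hom.app (K.d (n - 1) n) W').hom t) = _
  rw [ht]
  erw [TopCat.Presheaf.germ_res_apply, TopCat.Presheaf.germ_res_apply]

/-- a complex of `O_Y`-modules whose sections over every affine open are exact in degree `n` is exact in degree `n` -/
lemma isZero_homology_of_affine_sections (K : CochainComplex Y.Modules ℤ) (n : ℤ)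
    (h : ∀ U : Y.Opens, IsAffineOpen U →
      (((DCoh.gammaAb (U : Scheme.{u})).mapHomologicalComplex (ComplexShape.up ℤ)).obj
        ((DCoh.restrictCx U).obj K)).ExactAt n) :
    IsZero (K.homology n) := by
  apply isZero_homology_of_local
  intro y V hyV s hs
  obtain ⟨_, ⟨U', hU, rfl⟩, hyU, hUV⟩ :=
    Y.isBasis_affineOpens.exists_subset_of_mem_open hyV V.2
  obtain ⟨U, rfl⟩ : ∃ U : Y.Opens, U = U' := ⟨U', rfl⟩
  have hWU : U.ι ''ᵁ (⊤ : (U : Scheme.{u}).Opens) = U := by
    simp
  have hW : U.ι ''ᵁ (⊤ : (U : Scheme.{u}).Opens) ≤ V := by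
    rw [hWU]; exact hUV
  have hyW : y ∈ U.ι ''ᵁ (⊤ : (U : Scheme.{u}).Opens) := by
    rw [hWU]; exact hyU
  have hex := h U hU
  rw [HomologicalComplex.exactAt_iff' _ (n - 1) n (n + 1) (by simp) (by simp),
    ShortComplex.ab_exact_iff] at hex
  have hcyc : (Scheme.Modules.Hom.app (K.d n (n + 1)) (U.ι ''ᵁ (⊤ : (U : Scheme.{u}).Opens))).hom
      ((K.X n).presheaf.map (homOfLE hW).op s) = 0 := by
    have hnat := ((Scheme.Modules.toPresheaf Y).map (K.d n (n + 1))).naturality (homOfLE hW).op
    have := ConcreteCategory.congr_hom hnat s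
    refine this.trans ?_
    change (ConcreteCategory.hom ((K.X (n + 1)).presheaf.map (homOfLE hW).op))
      ((Scheme.Modules.Hom.app (K.d n (n + 1)) V).hom s) = 0
    rw [hs, map_zero]
  obtain ⟨t, ht⟩ := hex ((K.X n).presheaf.map (homOfLE hW).op s) hcyc
  exact ⟨U.ι ''ᵁ (⊤ : (U : Scheme.{u}).Opens), hW, hyW, t, ht⟩

open Groth.Agent.Lib.Helper25.RGammaPush Groth.Agent.Lib.Helper25.SchKInj Pretriangulated
  DerivedCategory in
/-- an object of `D(A)` all of whose homology vanishes is zero -/
lemma isZero_of_homology {A : Type*} [Category A] [Abelian A] [HasDerivedCategory A]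
    (X : DerivedCategory A) (h : ∀ n : ℤ, IsZero ((homologyFunctor A n).obj X)) : IsZero X := by
  haveI : X.IsLE 0 := by
    rw [DerivedCategory.isLE_iff]
    intro i _
    exact h i
  haveI : X.IsGE 1 := by
    rw [DerivedCategory.isGE_iff]
    intro i _
    exact h i
  exact TStructure.t.isZero X 0 1

open Groth.Agent.Lib.Helper25.RGammaPush Groth.Agent.Lib.Helper25.SchKInj Pretriangulated
  DerivedCategory in
/-- **S11114**: isomorphisms in `D(O_Y)` are detected by `RΓ(U, -)` on affine opens -/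
theorem isIso_iff_RΓ_affine [hR : ∀ U : Y.Opens, DCoh.HasRΓ (U : Scheme.{u})]
    {G₁ G₂ : DCoh.D Y} (φ : G₁ ⟶ G₂) :
    IsIso φ ↔ ∀ U : Y.Opens, IsAffineOpen U →
      IsIso ((DCoh.RΓ (U : Scheme.{u})).map ((DCoh.restrictD U.ι).map φ)) := by
  constructor
  · intro _ U _
    infer_instance
  intro hφ
  obtain ⟨C, g, h, hT⟩ := distinguished_cocone_triangle φ
  refine (Triangle.isZero₃_iff_isIso₁ _ hT).1 ?_
  change IsZero C
  obtain ⟨I, a, hI, ha⟩ := hKinj Y (Q.objPreimage C)
  haveI : IsIso (Q.map a) := by rw [isIso_Q_map_iff_quasiIso]; exact ha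
  let e : C ≅ Q.obj I := (Q.objObjPreimageIso C).symm ≪≫ asIso (Q.map a)
  refine IsZero.of_iso ?_ e
  apply isZero_of_homology
  intro n
  refine IsZero.of_iso ?_ ((homologyFunctorFactors Y.Modules n).app I)
  change IsZero (I.homology n)
  apply isZero_homology_of_affine_sections
  intro U hU
  -- the image triangle
  have hTU : (DCoh.restrictD U.ι).mapTriangle.obj (Triangle.mk φ g h) ∈ distTriang _ :=
    (DCoh.restrictD U.ι).map_distinguished _ hT
  obtain ⟨h', hT'⟩ := Groth.Agent.Lib.Helper25.RDerTri.exists_distinguished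
    (hKinj (U : Scheme.{u})) (DCoh.gammaKh (U : Scheme.{u})) (DCoh.RΓ (U : Scheme.{u}))
    (uΓ (U : Scheme.{u})) (fun J hJ => isIso_uΓ_app (U : Scheme.{u}) J) _ hTU
  haveI := hφ U hU
  have hz : IsZero ((DCoh.RΓ (U : Scheme.{u})).obj ((DCoh.restrictD U.ι).obj C)) :=
    (Triangle.isZero₃_iff_isIso₁ _ hT').2 (hφ U hU)
  haveI hIU : ((DCoh.restrictCx U).obj I).IsKInjective := isKInjective_restrict U I hI
  haveI := isIso_uΓ_app (U : Scheme.{u}) ((DCoh.restrictCx U).obj I)
  let e₂ : (DCoh.RΓ (U : Scheme.{u})).obj ((DCoh.restrictD U.ι).obj C) ≅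
      Q.obj (((DCoh.gammaAb (U : Scheme.{u})).mapHomologicalComplex (ComplexShape.up ℤ)).obj
        ((DCoh.restrictCx U).obj I)) :=
    (DCoh.RΓ (U : Scheme.{u})).mapIso ((DCoh.restrictD U.ι).mapIso e ≪≫
      (Scheme.Modules.restrictFunctor U.ι).mapDerivedCategoryFactors.app I) ≪≫
    (asIso ((uΓ (U : Scheme.{u})).app ((HomotopyCategory.quotient _ _).obj
      ((DCoh.restrictCx U).obj I)))).symm
  have hz2 := IsZero.of_iso hz e₂.symm
  rw [HomologicalComplex.exactAt_iff_isZero_homology]
  exact IsZero.of_iso ((homologyFunctor AddCommGrpCat.{u} n).map_isZero hz2)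
    ((homologyFunctorFactors AddCommGrpCat.{u} n).app _).symm

end Groth.Agent.Lib.Helper25.RGammaDetect
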