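import Groth.Agent.Lib.Helper25.RHomDetect
import Groth.Agent.Lib.Helper25.LTensorComp

/-!
# `O_X[-p] ⊗^L K ≅ K[-p]` (helper25)

* `Op X p`: the structure sheaf placed in degree `p`; `OpIso : Op X p ≅ (O₀ X)[-p]`.
* `tensorOpIso K p : O_X[-p] ⊗ K ≅ K[-p]` on complexes.
* `LTensorSpIso K hK p : (- ⊗^L K)(O_X[-p]) ≅ (Q K)[-p]` for `K` K-flat.
-/

set_option autoImplicit false
universe u
open CategoryTheory CategoryTheory.Limits AlgebraicGeometry Opposite
attribute [local instance] HasDerivedCategory.standard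

namespace Groth.Agent.Lib.Helper25.TensorSp

open DerivedCategory Groth.Agent.Lib.Helper25.RHomDetect Groth.Agent.Lib.Helper25.LTensorComp
  Groth.Agent.Lib.Helper25.QCCEv

variable {X : Scheme.{u}}

/-- the structure sheaf placed in degree `p` -/
noncomputable abbrev Op (X : Scheme.{u}) (p : ℤ) : CochainComplex X.Modules ℤ :=
  (HomologicalComplex.single X.Modules (ComplexShape.up ℤ) p).obj (Coh.structureModule X)

/-- `O_X[-p]`, the two spellings -/
noncomputable def OpIso (p : ℤ) : Op X p ≅ (O₀ X)⟦-p⟧ :=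
  (((CochainComplex.singleFunctors X.Modules).shiftIso (-p) p 0 (by omega)).app
    (Coh.structureModule X)).symm

/-- `O_X[-p] ⊗ K ≅ K[-p]` -/
noncomputable def tensorOpIso (K : CochainComplex X.Modules ℤ) (p : ℤ) :
    (DCoh.tensorCx.obj (Op X p)).obj K ≅ K⟦-p⟧ :=
  ((DCoh.tensorCx (X := X)).mapIso (OpIso p)).app K ≪≫
    CochainComplex.mapBifunctorShift₁Iso (O₀ X) K (DCoh.tensorBi (X := X)) (-p) ≪≫
    (shiftFunctor _ (-p)).mapIso (unitCxIso K)

/-- `(- ⊗^L K)(O_X[-p]) ≅ (Q K)[-p]` for `K` K-flat -/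
noncomputable def LTensorSpIso (K : CochainComplex X.Modules ℤ) (hK : DCoh.IsKFlat K)
    [DCoh.HasLTensorCx K] (p : ℤ) :
    (DCoh.LTensorCx K).obj (Sp X p) ≅ (DerivedCategory.Q.obj K)⟦-p⟧ :=
  (DCoh.LTensorCx K).mapIso ((DerivedCategory.singleFunctorIsoCompQ X.Modules p).app _) ≪≫
    @asIso _ _ _ _ ((ε K).app (Op X p))
      (@NatIso.isIso_app_of_isIso _ _ _ _ _ _ (ε K) (isIso_ε_of_isKFlat K hK) (Op X p)) ≪≫ DerivedCategory.Q.mapIso (tensorOpIso K p) ≪≫
    (DerivedCategory.Q.commShiftIso (-p)).app K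

end Groth.Agent.Lib.Helper25.TensorSp
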