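import Groth.Agent.Lib.Helper25.RHomQCoh
import Groth.Agent.Lib.Helper25.HomLocPerf2
import Groth.Agent.Lib.Helper25.TensorSp
import Groth.Agent.Lib.Helper25.DCohPC2
import Groth.Agent.Lib.Helper25.TildePerfect

/-!
# Quasi-coherence of `H^j(RHom(F, G))` for `F` `n`-pseudo-coherent, `G ∈ D_QCoh ∩ D^{≥ r}`, `j < r - n` (helper25)

* `surj_restrict_RHom`: the surjectivity half of `RHomLoc.isLocAt_restrict_RHom`.
* `isQCoh_HD_RHom_affine`: the affine case, for a K-flat complex with a global strictly perfect approximation.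
* `isQCoh_HD_RSheafHom_of_affine`: reduction to (arbitrarily small) affine charts, per degree.
* `isQCoh_HD_RSheafHom_of_pc` (**S11112**), `isQCohD_RSheafHom_of_pc` (**S1115**).
-/

set_option autoImplicit false
universe u
open CategoryTheory CategoryTheory.Limits AlgebraicGeometry Opposite TopologicalSpace
attribute [local instance] HasDerivedCategory.standard

namespace Groth.Agent.Lib.Helper25.RHomQCoh

open Pretriangulated DerivedCategory Scheme.Modules
open Groth.Agent.Lib.Helper25.HomLocPerf Groth.Agent.Lib.Helper25.RHomAbs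
  Groth.Agent.Lib.Helper25.QCCEv Groth.Agent.Lib.Helper25.RHomRestrict
  Groth.Agent.Lib.Helper25.LTensorRestrict Groth.Agent.Lib.Helper25.RestrictDNat
  Groth.Agent.Lib.helper25.DCohRestrict Groth.Agent.Lib.Helper25.RHomLoc
  Groth.Agent.Lib.helper25.IsoAbove Groth.Agent.Lib.helper25.DCohPC
  Groth.Agent.Lib.helper25.DCohPerfect Groth.Agent.Lib.Helper25.TensorSp
  Groth.Agent.Lib.helper25.DCohPC2

attribute [local instance] Groth.Agent.Lib.Helper25.LTensorRestrict.hasLTensorCx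

section Half

variable (A : Type u) [CommRing A]

/-- the surjectivity half of `isLocAt_restrict_RHom` -/
theorem surj_restrict_RHom (X : Scheme.{u}) [X.Over (Spec (CommRingCat.of A))] (a : A)
    (K : CochainComplex X.Modules ℤ) (hK : DCoh.IsKFlat K)
    {H : DCoh.D X ⥤ DCoh.D X} (adjT : DCoh.LTensorCx K ⊣ H) (N L : DCoh.D X)
    (h : ∀ y : (DCoh.restrictD (X.basicOpen
        (show Γ(X, ⊤) from Coh.toGlobal (X ↘ Spec (CommRingCat.of A)) a)).ι).obj
          ((DCoh.LTensorCx K).obj N) ⟶ (DCoh.restrictD (X.basicOpen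
        (show Γ(X, ⊤) from Coh.toGlobal (X ↘ Spec (CommRingCat.of A)) a)).ι).obj L,
      ∃ (n : ℕ) (x : (DCoh.LTensorCx K).obj N ⟶ L), resHom (X.basicOpen
        (show Γ(X, ⊤) from Coh.toGlobal (X ↘ Spec (CommRingCat.of A)) a))
          ((DCoh.LTensorCx K).obj N) L x =
        ((preHom ((DCoh.restrictD (X.basicOpen
        (show Γ(X, ⊤) from Coh.toGlobal (X ↘ Spec (CommRingCat.of A)) a)).ι).map
          (a • 𝟙 ((DCoh.LTensorCx K).obj N))) _)^[n]) y) :
    ∀ y : (DCoh.restrictD (X.basicOpen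
        (show Γ(X, ⊤) from Coh.toGlobal (X ↘ Spec (CommRingCat.of A)) a)).ι).obj N ⟶
        (DCoh.restrictD (X.basicOpen
        (show Γ(X, ⊤) from Coh.toGlobal (X ↘ Spec (CommRingCat.of A)) a)).ι).obj (H.obj L),
      ∃ (n : ℕ) (x : N ⟶ H.obj L), resHom (X.basicOpen
        (show Γ(X, ⊤) from Coh.toGlobal (X ↘ Spec (CommRingCat.of A)) a)) N (H.obj L) x =
        ((preHom ((DCoh.restrictD (X.basicOpen
        (show Γ(X, ⊤) from Coh.toGlobal (X ↘ Spec (CommRingCat.of A)) a)).ι).map (a • 𝟙 N)) _)^[n]) y := by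
  obtain ⟨aMap, bMap, ha, hb, hsq, haf, hbf⟩ := exists_square_RHom A X a K hK adjT N L
  intro y'
  obtain ⟨y, rfl⟩ := hb.2 y'
  obtain ⟨n, x, hx⟩ := h y
  exact ⟨n, aMap x, by rw [← hsq, hx, iterate_comm _ _ bMap hbf]⟩

end Half

section Affine

variable (A : Type u) [CommRing A]

attribute [local instance 2000] Groth.Agent.Lib.Helper25.KosTilde.selfOver

/-- **affine case, per degree** -/
theorem isQCoh_HD_RHom_affine (K : CochainComplex (Spec (CommRingCat.of A)).Modules ℤ)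
    (hK : DCoh.IsKFlat K) (n : ℤ) (hpc : PCData n (DerivedCategory.Q.obj K))
    {H : DCoh.D (Spec (CommRingCat.of A)) ⥤ DCoh.D (Spec (CommRingCat.of A))}
    (adjT : DCoh.LTensorCx K ⊣ H) (L : DCoh.D (Spec (CommRingCat.of A))) (hL : DCoh.IsQCohD L)
    (r : ℤ) [L.IsGE r] (j : ℤ) (hj : j < r - n) :
    Coh.IsQCoh (DCoh.HD (H.obj L) j) := by
  obtain ⟨E, α, hE, h1, h2⟩ := hpc
  have hα : IsoAbove n α := ⟨h1, h2⟩
  have hP : DCoh.IsPerfect (DerivedCategory.Q.obj E) :=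
    Groth.Agent.Lib.Helper25.TildePerfect.isPerfect_Q_of_isStrictlyPerfect E hE
  have happ : ∀ p : ℤ, ∃ (P : DCoh.D (Spec (CommRingCat.of A)))
      (β : P ⟶ (DCoh.LTensorCx K).obj (Sp (Spec (CommRingCat.of A)) p)),
      DCoh.IsPerfect P ∧ IsoAbove (n + p) β := by
    intro p
    refine ⟨(DerivedCategory.Q.obj E)⟦-p⟧, α⟦-p⟧' ≫ (LTensorSpIso K hK p).inv,
      isPerfect_shift hP (-p), ?_⟩
    exact (hα.shift (-p) (n + p) (by omega)).comp_iso _
  apply Groth.Agent.Lib.Helper25.QCohCrit.isQuasicoherent_HD_of_loc A (H.obj L) j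
  · intro a p hp
    obtain ⟨P, β, hPp, hβ⟩ := happ p
    haveI : L.IsGE (n + p + 1) :=
      DerivedCategory.TStructure.t.isGE_of_ge L (n + p + 1) r (by omega)
    exact surj_restrict_RHom A _ a K hK adjT (Sp _ p) L
      (surj_restrict_of_approx A _ a β hPp (n + p) hβ L hL)
  · intro a p hp
    obtain ⟨P, β, hPp, hβ⟩ := happ p
    haveI : L.IsGE (n + p) :=
      DerivedCategory.TStructure.t.isGE_of_ge L (n + p) r (by omega)
    exact ker_restrict_RHom A _ a K hK adjT (Sp _ p) L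
      (ker_restrict_of_approx A _ a β hPp (n + p) hβ L hL)

end Affine

variable {X : Scheme.{u}}

/-- **reduction to affine charts**, per degree, with arbitrary charts -/
theorem isQCoh_HD_RSheafHom_of_affine (K : CochainComplex X.Modules ℤ) {H : DCoh.D X ⥤ DCoh.D X}
    (adj : DCoh.LTensorCx K ⊣ H) (L : DCoh.D X) (n : ℤ)
    (haff : ∀ x : X, ∃ (A : Type u) (_ : CommRing A) (j : Spec (CommRingCat.of A) ⟶ X)
      (_ : IsOpenImmersion j), x ∈ Set.range j ∧
      ∀ (K' : CochainComplex (Spec (CommRingCat.of A)).Modules ℤ) (_ : DCoh.IsKFlat K')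
        (H' : DCoh.D (Spec (CommRingCat.of A)) ⥤ DCoh.D (Spec (CommRingCat.of A)))
        (_ : DCoh.LTensorCx K' ⊣ H'),
        Nonempty (DerivedCategory.Q.obj K' ≅ (DCoh.restrictD j).obj (DerivedCategory.Q.obj K)) →
          Coh.IsQCoh (DCoh.HD (H'.obj ((DCoh.restrictD j).obj L)) n)) :
    Coh.IsQCoh (DCoh.HD (H.obj L) n) := by
  obtain ⟨K₁, hK₁, adjT, ⟨eK⟩⟩ := exists_kflat_adj K adj
  choose A instA j instj hx h using haff
  letI : ∀ x, CommRing (A x) := instA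
  haveI : ∀ x, IsOpenImmersion (j x) := instj
  apply Groth.Agent.Lib.helper28.RestrictCover.isQuasicoherent_of_restrict_cover (DCoh.HD (H.obj L) n)
    (fun x : X => Spec (CommRingCat.of (A x))) j (fun x => ⟨x, hx x⟩)
  intro x
  obtain ⟨K', hK', H', adj', ⟨eK'⟩, hL'⟩ := exists_restrict (j x) K₁ hK₁ adjT
  obtain ⟨i⟩ := hL' L
  have hq := h x K' hK' H' adj' ⟨eK' ≪≫ (DCoh.restrictD (j x)).mapIso eK⟩
  obtain ⟨e⟩ := Groth.Agent.Lib.Helper25.DerBC.nonempty_homology_mapDerivedCategory_iso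
    (restrictFunctor (j x)) (H.obj L) n
  exact Groth.Agent.Lib.helper16.QCohFibre.isQuasicoherent_of_iso (hA := hq)
    ((DerivedCategory.homologyFunctor _ n).mapIso i.symm ≪≫ e)

/-- **S11112**: `H^j(RHom(F, G))` is quasi-coherent for `F` `n`-pseudo-coherent, `G ∈ D_QCoh ∩ D^{≥ r}`, `j < r - n` -/
theorem isQCoh_HD_RSheafHom_of_pc (F : CochainComplex X.Modules ℤ) {H : DCoh.D X ⥤ DCoh.D X}
    (adj : DCoh.LTensorCx F ⊣ H) (n : ℤ)
    (hF : DCoh.IsPseudoCoherentD n (DerivedCategory.Q.obj F)) (G : DCoh.D X) (hG : DCoh.IsQCohD G)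
    (r : ℤ) [G.IsGE r] (j : ℤ) (hj : j < r - n) : Coh.IsQCoh (DCoh.HD (H.obj G) j) := by
  apply isQCoh_HD_RSheafHom_of_affine F adj G j
  intro x
  obtain ⟨V, hxV, hpc⟩ := exists_pcData hF x
  obtain ⟨V', hV', hxV', hV'V⟩ := exists_isAffineOpen_mem_and_subset hxV
  have hle : V' ≤ V := hV'V
  let g : Spec (CommRingCat.of Γ(X, V')) ⟶ (V : Scheme.{u}) := hV'.isoSpec.inv ≫ X.homOfLE hle
  have hg : g ≫ V.ι = hV'.fromSpec := by
    change (hV'.isoSpec.inv ≫ X.homOfLE hle) ≫ V.ι = hV'.isoSpec.inv ≫ V'.ι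
    rw [Category.assoc, Scheme.homOfLE_ι]
  refine ⟨Γ(X, V'), inferInstance, hV'.fromSpec, inferInstance, ?_, ?_⟩
  · rw [hV'.range_fromSpec]
    exact hxV'
  · intro K' hK' H' adj' ⟨e⟩
    haveI : ((DCoh.restrictD hV'.fromSpec).obj G).IsGE r :=
      isGE_restrictD hV'.fromSpec G r inferInstance
    refine isQCoh_HD_RHom_affine Γ(X, V') K' hK' n ?_ adj' _
      (Groth.Agent.Lib.Helper25.RGZ4.isQCohD_restrictD hV'.fromSpec G hG) r j hj
    have h1 := PCData.restrict g hpc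
    obtain ⟨c⟩ := nonempty_restrictD_comp_iso g V.ι (DerivedCategory.Q.obj F)
    obtain ⟨d⟩ := nonempty_restrictD_congr_iso hg (DerivedCategory.Q.obj F)
    exact h1.of_iso (c.symm ≪≫ d ≪≫ e.symm)

/-- **S1115**: `RHom(K, L) ∈ D_QCoh` for `K` pseudo-coherent and `L ∈ D^+_QCoh` -/
theorem isQCohD_RSheafHom_of_pc (K : CochainComplex X.Modules ℤ) {H : DCoh.D X ⥤ DCoh.D X}
    (adj : DCoh.LTensorCx K ⊣ H)
    (hK : ∀ m : ℤ, DCoh.IsPseudoCoherentD m (DerivedCategory.Q.obj K)) (L : DCoh.D X)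
    (hL : DCoh.IsQCohD L) (a : ℤ) [L.IsGE a] : DCoh.IsQCohD (H.obj L) :=
  fun j => isQCoh_HD_RSheafHom_of_pc K adj (a - j - 1) (hK _) L hL a j (by omega)

end Groth.Agent.Lib.Helper25.RHomQCoh
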