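import Groth.Agent.Lib.Helper25.CohPCNoeth
import Groth.Agent.Lib.Helper25.FinHomPM
import Groth.Agent.Lib.Helper25.FinHLin
import Groth.Agent.Lib.Helper25.TensorSp
import Groth.Agent.Lib.Helper25.RHomQCoh2
import Groth.Agent.Lib.Helper25.LTensorLin
import Groth.Agent.Lib.Helper23.FBC5
import Groth.Agent.Lib.Helper21.TildeHom2
import Groth.Agent.Lib.Helper16.CohFinite
import Groth.Agent.Lib.Helper16.Satur4

/-!
# Coherence of the cohomology sheaves of `RHom(K, L)` (helper25)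

`S = Spec A`.

* `finite_of_finite_hom_self`: `N` is a finite `A`-module as soon as `Hom_A(A, N)` is.
* `finite_H0_of_finite_hom`: `H^0(M)` is finite as soon as `Hom_{D(A)}(A[0], M)` is.
* `isCoh_HD0_of_finite_hom`: for `Y ∈ D_QCoh(O_S)`, `H^0(Y)` is coherent as soon as `Hom(O_S, Y)` is a finite `A`-module.
* `isCoh_HD_RHom_affine`: `A` Noetherian, `K` K-flat in `D^-_Coh`, `L ∈ D^+_Coh`, `H` right adjoint to `- ⊗^L K` with
  `H L ∈ D_QCoh`: the cohomology sheaves of `H L` are coherent.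
-/

set_option autoImplicit false
universe u
open CategoryTheory CategoryTheory.Limits AlgebraicGeometry Opposite TopologicalSpace
attribute [local instance] HasDerivedCategory.standard

namespace Groth.Agent.Lib.Helper25.RHomCoh

open Pretriangulated DerivedCategory Scheme.Modules
open Groth.Agent.Lib.Helper25.FinHLin Groth.Agent.Lib.Helper25.QCCEv
  Groth.Agent.Lib.Helper25.LTensorCoh Groth.Agent.Lib.Helper25.CohPCNoeth
  Groth.Agent.Lib.Helper25.HomVanMV

variable (A : Type u) [CommRing A]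

attribute [local instance 2000] Groth.Agent.Lib.Helper25.KosTilde.selfOver
attribute [local instance] Groth.Agent.Lib.Helper25.LTensorRestrict.hasLTensorCx

instance : PreservesFiniteLimits (tilde.functor (CommRingCat.of A)) :=
  Groth.Agent.S9498.preservesFiniteLimits_tilde _

/-- `N` is finite as soon as `Hom_A(A, N)` is -/
lemma finite_of_finite_hom_self (N : ModuleCat.{u} A)
    (h : Module.Finite A (ModuleCat.of A A ⟶ N)) : Module.Finite A N := by
  let ev : (ModuleCat.of A A ⟶ N) →+ N :=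
    { toFun := fun f => f.hom (1 : A), map_zero' := rfl, map_add' := fun _ _ => rfl }
  refine finite_of_surjective_addHom ev (fun a f => ?_)
    (fun n => ⟨ModuleCat.ofHom (LinearMap.toSpanSingleton A N n), ?_⟩)
  · rfl
  · simp [ev]

/-- `H^0(M)` is finite as soon as `Hom_{D(A)}(A[0], M)` is -/
lemma finite_H0_of_finite_hom (M : Dual.D A)
    (h : Module.Finite A ((singleFunctor (ModuleCat.{u} A) 0).obj (ModuleCat.of A A) ⟶ M)) :
    Module.Finite A ((homologyFunctor (ModuleCat.{u} A) 0).obj M) := by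
  let P : ModuleCat.{u} A := ModuleCat.of A A
  haveI : Projective P := ModuleCat.projective_of_free (Module.Basis.singleton Unit A)
  let e1 : ((singleFunctor (ModuleCat.{u} A) 0).obj P ⟶ M) ≃ₗ[A]
      ((homologyFunctor (ModuleCat.{u} A) 0).obj ((singleFunctor (ModuleCat.{u} A) 0).obj P) ⟶
        (homologyFunctor (ModuleCat.{u} A) 0).obj M) :=
    LinearEquiv.ofBijective ((homologyFunctor (ModuleCat.{u} A) 0).mapLinearMap A)
      (Groth.Agent.Lib.helper23.ProjCorep.bijective_homologyMap P (Iso.refl _) M)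
  have h1 : Module.Finite A
      ((homologyFunctor (ModuleCat.{u} A) 0).obj ((singleFunctor (ModuleCat.{u} A) 0).obj P) ⟶
        (homologyFunctor (ModuleCat.{u} A) 0).obj M) := Module.Finite.equiv e1
  have h2 : Module.Finite A (P ⟶ (homologyFunctor (ModuleCat.{u} A) 0).obj M) :=
    finite_hom_of_iso ((singleFunctorCompHomologyFunctorIso (ModuleCat.{u} A) 0).app P) (Iso.refl _) h1
  exact finite_of_finite_hom_self A _ h2

/-- for `Y ∈ D_QCoh(O_S)`, `H^0(Y)` is coherent as soon as `Hom(O_S, Y)` is a finite `A`-module -/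
theorem isCoh_HD0_of_finite_hom (Y : DCoh.D (Spec (CommRingCat.of A))) (hY : DCoh.IsQCohD Y)
    (h : Module.Finite A (Sp (Spec (CommRingCat.of A)) 0 ⟶ Y)) : Coh.IsCoh (DCoh.HD Y 0) := by
  obtain ⟨M', ⟨e'⟩⟩ := ((Groth.Agent.S0997.main (CommRingCat.of A)).2.2 Y).1 hY
  haveI : (DCoh.tildeD (CommRingCat.of A)).Full := (Groth.Agent.S0997.main (CommRingCat.of A)).1
  haveI : (DCoh.tildeD (CommRingCat.of A)).Faithful :=
    (Groth.Agent.S0997.main (CommRingCat.of A)).2.1
  have h1 : Module.Finite A ((DCoh.tildeD (CommRingCat.of A)).obj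
      ((singleFunctor (ModuleCat.{u} (CommRingCat.of A)) 0).obj
        (ModuleCat.of (CommRingCat.of A) (CommRingCat.of A))) ⟶
      (DCoh.tildeD (CommRingCat.of A)).obj M') :=
    finite_hom_of_iso (Groth.Agent.Lib.Helper25.QCohCrit.spIso A 0).symm e'.symm h
  have h2 : Module.Finite A ((singleFunctor (ModuleCat.{u} A) 0).obj (ModuleCat.of A A) ⟶ M') :=
    finite_hom_of_map (DCoh.tildeD (CommRingCat.of A)) (fun f a => Functor.map_smul _ _ _) h1
  haveI := finite_H0_of_finite_hom A M' h2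
  have e : tilde ((homologyFunctor (ModuleCat.{u} A) 0).obj M') ≅ DCoh.HD Y 0 :=
    ((Groth.Agent.Lib.helper23.HomNat.homologyNatIso (tilde.functor (CommRingCat.of A)) 0).app M').symm ≪≫
      (homologyFunctor _ 0).mapIso e'
  exact isCoh_of_iso e (Groth.Agent.Lib.helper21.TildeHom.isCoh_tilde (CommRingCat.of A) _)

variable [IsNoetherianRing A]

/-- **coherence of the cohomology sheaves of `RHom(K, L)` on a Noetherian affine scheme** -/
theorem isCoh_HD_RHom_affine (K : CochainComplex (Spec (CommRingCat.of A)).Modules ℤ)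
    (hK : DCoh.IsKFlat K) (b : ℤ) [(DerivedCategory.Q.obj K).IsLE b]
    (hKc : DCoh.IsCohD (DerivedCategory.Q.obj K))
    {H : DCoh.D (Spec (CommRingCat.of A)) ⥤ DCoh.D (Spec (CommRingCat.of A))}
    (adjT : DCoh.LTensorCx K ⊣ H) (L : DCoh.D (Spec (CommRingCat.of A))) (a : ℤ) [L.IsGE a]
    (hL : DCoh.IsCohD L) (hq : DCoh.IsQCohD (H.obj L)) (j : ℤ) :
    Coh.IsCoh (DCoh.HD (H.obj L) j) := by
  let S := Spec (CommRingCat.of A)
  obtain ⟨KA, ⟨eK⟩, hKfin, hKz⟩ := exists_tildeD_iso_of_isCohD A (DerivedCategory.Q.obj K) hKc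
  obtain ⟨LA, ⟨eL⟩, hLfin, hLz⟩ := exists_tildeD_iso_of_isCohD A L hL
  haveI : KA.IsLE b := by
    rw [DerivedCategory.isLE_iff]
    intro i hi
    exact hKz i (isZero_of_isLE (DerivedCategory.Q.obj K) b i hi)
  haveI : LA.IsGE a := by
    rw [DerivedCategory.isGE_iff]
    intro i hi
    exact hLz i (isZero_of_isGE L a i hi)
  haveI : (KA⟦-j⟧).IsLE (b + j) :=
    (DerivedCategory.TStructure.t (C := ModuleCat.{u} A)).isLE_shift KA b (-j) (b + j) (by omega)
  have hfin' : ∀ i : ℤ, Module.Finite A ((homologyFunctor (ModuleCat.{u} A) i).obj (KA⟦-j⟧)) :=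
    fun i => by
      haveI : Module.Finite A
          ↑(((homologyFunctor (ModuleCat.{u} A) 0).shift (i - j)).obj KA) := hKfin (i - j)
      exact Module.Finite.equiv
        ((((homologyFunctor (ModuleCat.{u} A) 0).shiftIso (-j) i (i - j) (by omega)).app
          KA).symm.toLinearEquiv)
  have c1 : Module.Finite A (KA⟦-j⟧ ⟶ LA) :=
    Groth.Agent.Lib.Helper25.FinHomPM.finite_hom_of_isLE_of_isGE _ _ a (b + j) hfin' hLfin
  have c2 : Module.Finite A ((DCoh.tildeD (CommRingCat.of A)).obj (KA⟦-j⟧) ⟶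
      (DCoh.tildeD (CommRingCat.of A)).obj LA) := by
    haveI : (DCoh.tildeD (CommRingCat.of A)).Full := (Groth.Agent.S0997.main (CommRingCat.of A)).1
    exact finite_hom_map (DCoh.tildeD (CommRingCat.of A)) (fun f a => Functor.map_smul _ _ _) c1
  let eX : (DCoh.tildeD (CommRingCat.of A)).obj (KA⟦-j⟧) ≅ (DCoh.LTensorCx K).obj (Sp S j) :=
    ((DCoh.tildeD (CommRingCat.of A)).commShiftIso (-j)).app KA ≪≫
      (shiftFunctor _ (-j)).mapIso eK ≪≫
      (Groth.Agent.Lib.Helper25.TensorSp.LTensorSpIso K hK j).symm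
  have c3 : Module.Finite A ((DCoh.LTensorCx K).obj (Sp S j) ⟶ L) := finite_hom_of_iso eX eL c2
  haveI : (DCoh.LTensorCx K).Additive := by
    haveI : (DCoh.LTensorCx K).IsLeftAdjoint := adjT.isLeftAdjoint
    haveI := preservesBinaryBiproducts_of_preservesBinaryCoproducts (DCoh.LTensorCx K)
    exact Functor.additive_of_preservesBinaryBiproducts (DCoh.LTensorCx K)
  have c4 : Module.Finite A (Sp S j ⟶ H.obj L) :=
    finite_hom_of_adj adjT
      (fun f a => Groth.Agent.Lib.Helper25.LTensorLin.LTensorCx_map_smul K hK f a) c3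
  let eS : (Sp S 0)⟦-j⟧ ≅ Sp S j :=
    ((DerivedCategory.singleFunctors S.Modules).shiftIso (-j) j 0 (by omega)).app
      (Coh.structureModule S)
  have c5 : Module.Finite A ((Sp S 0)⟦-j⟧ ⟶ H.obj L) :=
    finite_hom_of_iso eS.symm (Iso.refl _) c4
  have c6 : Module.Finite A (Sp S 0 ⟶ (H.obj L)⟦j⟧) :=
    finite_hom_shift (fun n _ _ f a => Functor.map_smul _ _ _) _ _ j c5
  have c7 := isCoh_HD0_of_finite_hom A ((H.obj L)⟦j⟧) (isQCohD_shift _ hq j) c6
  exact isCoh_of_iso
    (((homologyFunctor S.Modules 0).shiftIso j 0 j (by omega)).app (H.obj L)) c7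

omit [IsNoetherianRing A] in
/-- `D_Coh` is stable under isomorphisms -/
lemma isCohD_of_iso {X : Scheme.{u}} {E E' : DCoh.D X} (e : E ≅ E') (h : DCoh.IsCohD E) :
    DCoh.IsCohD E' :=
  fun i => isCoh_of_iso ((DerivedCategory.homologyFunctor _ i).mapIso e) (h i)

end Groth.Agent.Lib.Helper25.RHomCoh

namespace Groth.Agent.Lib.Helper25.RHomCoh

open Pretriangulated DerivedCategory Scheme.Modules
open Groth.Agent.Lib.Helper25.FinHLin Groth.Agent.Lib.Helper25.QCCEv
  Groth.Agent.Lib.Helper25.LTensorCoh Groth.Agent.Lib.Helper25.CohPCNoeth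
  Groth.Agent.Lib.Helper25.HomVanMV Groth.Agent.Lib.Helper25.RHomQCoh
  Groth.Agent.Lib.Helper25.RHomBdd Groth.Agent.Lib.Helper25.HomLocPerf

attribute [local instance] Groth.Agent.Lib.Helper25.LTensorRestrict.hasLTensorCx

variable {X : Scheme.{u}} [IsLocallyNoetherian X]

/-- **coherence of the cohomology sheaves of `RHom(K, L)`**, `K` K-flat in `D^-_Coh`, `L ∈ D^+_Coh`,
given quasi-coherence -/
theorem isCoh_HD_RHom (K : CochainComplex X.Modules ℤ) (hK : DCoh.IsKFlat K) (b : ℤ)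
    [(DerivedCategory.Q.obj K).IsLE b] (hKc : DCoh.IsCohD (DerivedCategory.Q.obj K))
    {H : DCoh.D X ⥤ DCoh.D X} (adjT : DCoh.LTensorCx K ⊣ H) (L : DCoh.D X) (a : ℤ) [L.IsGE a]
    (hL : DCoh.IsCohD L) (hq : DCoh.IsQCohD (H.obj L)) (n : ℤ) :
    Coh.IsCoh (DCoh.HD (H.obj L) n) := by
  rw [Groth.Agent.Lib.helper16.CohFinite.isCoh_iff]
  refine ⟨hq n, fun U => ?_⟩
  haveI : IsNoetherianRing Γ(X, U.1) := IsLocallyNoetherian.component_noetherian U
  let j : Spec (CommRingCat.of Γ(X, U.1)) ⟶ X := U.2.fromSpec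
  haveI : IsOpenImmersion j := inferInstanceAs (IsOpenImmersion U.2.fromSpec)
  obtain ⟨K', hK', H', adj', ⟨eK'⟩, hL'⟩ := exists_restrict j K hK adjT
  obtain ⟨i⟩ := hL' L
  haveI : ((DCoh.restrictD j).obj (DerivedCategory.Q.obj K)).IsLE b :=
    RHomBdd.isLE_restrictD j _ b inferInstance
  haveI : (DerivedCategory.Q.obj K').IsLE b :=
    (DerivedCategory.TStructure.t (C := (Spec (CommRingCat.of Γ(X, U.1))).Modules)).isLE_of_iso
      eK'.symm b
  have hK'c : DCoh.IsCohD (DerivedCategory.Q.obj K') :=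
    isCohD_of_iso eK'.symm (isCohD_restrictD j _ hKc)
  haveI : ((DCoh.restrictD j).obj L).IsGE a := isGE_restrictD j L a inferInstance
  have hL'c := isCohD_restrictD j L hL
  have hq' : DCoh.IsQCohD (H'.obj ((DCoh.restrictD j).obj L)) := fun m =>
    Groth.Agent.Lib.helper16.QCohFibre.isQuasicoherent_of_iso
      (hA := Groth.Agent.Lib.Helper25.RGZ4.isQCohD_restrictD j _ hq m)
      ((DerivedCategory.homologyFunctor _ m).mapIso i)
  have h1 : Coh.IsCoh (DCoh.HD (H'.obj ((DCoh.restrictD j).obj L)) n) :=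
    isCoh_HD_RHom_affine Γ(X, U.1) K' hK' b hK'c adj' _ a hL'c hq' n
  obtain ⟨e⟩ := Groth.Agent.Lib.Helper25.DerBC.nonempty_homology_mapDerivedCategory_iso
    (restrictFunctor j) (H.obj L) n
  have h2 : Coh.IsCoh ((restrictFunctor j).obj (DCoh.HD (H.obj L) n)) :=
    isCoh_of_iso ((DerivedCategory.homologyFunctor _ n).mapIso i.symm ≪≫ e) h1
  haveI : (DCoh.HD (H.obj L) n).IsQuasicoherent := hq n
  have h3 := Groth.Agent.Lib.helper16.Satur.ftOn_opensRange_of_isFT_restrict j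
    (DCoh.HD (H.obj L) n) h2.2
  have h4 : j.opensRange = U.1 := U.2.opensRange_fromSpec
  rw [h4] at h3
  exact h3 U.1 U.2 le_rfl

/-- **S1116**: `RHom(K, L) ∈ D^+_Coh` for `K ∈ D^-_Coh`, `L ∈ D^+_Coh` on a locally Noetherian scheme -/
theorem isCohD_RSheafHom (K : CochainComplex X.Modules ℤ) (b : ℤ)
    [(DerivedCategory.Q.obj K).IsLE b] (hKc : DCoh.IsCohD (DerivedCategory.Q.obj K))
    {H : DCoh.D X ⥤ DCoh.D X} (adj : DCoh.LTensorCx K ⊣ H) (L : DCoh.D X) (a : ℤ) [L.IsGE a]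
    (hL : DCoh.IsCohD L) : DCoh.IsCohD (H.obj L) ∧ (H.obj L).IsGE (a - b) := by
  obtain ⟨K₁, hK₁, adjT, ⟨eK⟩⟩ := exists_kflat_adj K adj
  haveI : (DerivedCategory.Q.obj K₁).IsLE b :=
    (DerivedCategory.TStructure.t (C := X.Modules)).isLE_of_iso eK.symm b
  have hK₁c : DCoh.IsCohD (DerivedCategory.Q.obj K₁) := isCohD_of_iso eK.symm hKc
  have hq : DCoh.IsQCohD (H.obj L) :=
    isQCohD_RSheafHom_of_pc K adj
      (fun m => isPseudoCoherentD_of_isCohD (DerivedCategory.Q.obj K) b hKc m) L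
      (fun i => (hL i).1) a
  exact ⟨fun n => isCoh_HD_RHom K₁ hK₁ b hK₁c adjT L a hL hq n, isGE_RHom K₁ hK₁ b adjT L a⟩

end Groth.Agent.Lib.Helper25.RHomCoh
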