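import Mathlib
import Groth.Agent.Lib.Helper25.RHomDetect
import Groth.Agent.Lib.Helper25.RHomExists

/-!
# Isomorphisms in `D_QCoh` are detected by `Rf_* RHom(E, -)`, `E` perfect (helper25; = S7875)

Variant of `RHomDetect.main` in which the hypothesis is only made for perfect complexes `E`, the functors `- ⊗^L E` and
`RHom(E, -)` being quantified under their existence binders; these binders are discharged by
`LTensorRestrict.hasLTensorCx` and `RHomExists.hasRSheafHom`.
-/

set_option autoImplicit false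
universe u
open CategoryTheory CategoryTheory.Limits AlgebraicGeometry

attribute [local instance] HasDerivedCategory.standard

namespace Groth.Agent.Lib.Helper25.RHomDetect2

open Groth.Agent.Lib.Helper25.RHomDetect

variable {X Y : Scheme.{u}}

open Pretriangulated in
/-- **S7875.** -/
theorem main_perfect [CompactSpace X] [QuasiSeparatedSpace X]
    (f : X ⟶ Y) [DCoh.HasRpush f]
    {A₁ A₂ : DCoh.D X} (h₁ : DCoh.IsQCohD A₁) (h₂ : DCoh.IsQCohD A₂)
    (φ : A₁ ⟶ A₂)
    (h : ∀ (E : CochainComplex X.Modules ℤ) [DCoh.HasLTensorCx E] [DCoh.HasRSheafHom E],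
      DCoh.IsPerfect (DCoh.toD X E) → IsIso ((DCoh.Rpush f).map ((DCoh.RSheafHom E).map φ))) :
    IsIso φ := by
  -- bijectivity on all perfect objects
  have hbij : ∀ P : DCoh.D X, DCoh.IsPerfect P →
      Function.Bijective (fun k : P ⟶ A₁ => k ≫ φ) := by
    intro P hP
    obtain ⟨F, ⟨e⟩⟩ := Groth.Agent.Lib.helper25.DCohRestrict.exists_rep P
    haveI : DCoh.HasLTensorCx F := Groth.Agent.Lib.Helper25.LTensorRestrict.hasLTensorCx F
    haveI : DCoh.HasRSheafHom F := Groth.Agent.Lib.Helper25.RHomExists.hasRSheafHom F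
    have hF : DCoh.IsPerfect (DCoh.toD X F) :=
      Groth.Agent.Lib.helper25.DCohPerfect.isPerfect_of_iso e.symm hP
    exact bijective_comp_of_iso e φ (bijective_comp f F φ (h F hF))
  obtain ⟨C, g, δ, hT'⟩ := distinguished_cocone_triangle φ
  have hC : DCoh.IsQCohD C :=
    (DCoh.IsQCohD (X := X)).ext_of_isTriangulatedClosed₃ _ hT' h₁ h₂
  haveI : IsEmpty ((⊥ : X.Opens) : Scheme.{u}) := ⟨fun x => x.2⟩
  obtain ⟨G, hG, -, hgen⟩ := Groth.Agent.Lib.Helper25.PerfGen.gen_qcqs X ⊥ (by simp)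
  have hCz : IsZero C := by
    rw [hgen C hC (Groth.Agent.Lib.Helper25.HomVanQcqs.isZero_of_isEmpty _)]
    intro n ψ
    have hGn : DCoh.IsPerfect (G⟦n⟧) := Groth.Agent.Lib.helper25.DCohPerfect.isPerfect_shift hG n
    have hGn' : DCoh.IsPerfect ((G⟦n⟧)⟦(-1 : ℤ)⟧) :=
      Groth.Agent.Lib.helper25.DCohPerfect.isPerfect_shift hGn (-1)
    exact hom_cone_eq_zero (Triangle.mk φ g δ) hT' (G⟦n⟧) (hbij _ hGn).2 (hbij _ hGn').1 ψ
  exact (Triangle.isZero₃_iff_isIso₁ _ hT').1 hCz

end Groth.Agent.Lib.Helper25.RHomDetect2
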