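import Groth.Agent.Lib.Helper25.RHomRestrict
import Groth.Agent.Lib.Helper25.LTensorQis

/-!
# `RHom(K, M)|_U ≅ RHom(K|_U, M|_U)` for arbitrary complexes `K` (helper25; = S6515)

`restrict_RHom`: for any right adjoints `H` of `- ⊗^L K` and `H'` of `- ⊗^L K|_U`.
-/

set_option autoImplicit false
universe u
open CategoryTheory CategoryTheory.Limits AlgebraicGeometry Opposite TopologicalSpace
attribute [local instance] HasDerivedCategory.standard

namespace Groth.Agent.Lib.Helper25.RHomRestrict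

open Groth.Agent.Lib.helper13.RestrKFlat Groth.Agent.Lib.Helper25.LTensorQis

attribute [local instance] Groth.Agent.Lib.Helper25.LTensorRestrict.hasLTensorCx

variable {X : Scheme.{u}}

/-- **`RHom(K, -)` restricts to opens**, for arbitrary `K` and arbitrary right adjoints -/
theorem restrict_RHom (U : X.Opens) (K : CochainComplex X.Modules ℤ)
    {H : DCoh.D X ⥤ DCoh.D X} (adj : DCoh.LTensorCx K ⊣ H)
    {H' : DCoh.D (U : Scheme.{u}) ⥤ DCoh.D (U : Scheme.{u})}
    (adj' : DCoh.LTensorCx ((DCoh.restrictCx U).obj K) ⊣ H') (M : DCoh.D X) :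
    Nonempty ((DCoh.restrictD U.ι).obj (H.obj M) ≅ H'.obj ((DCoh.restrictD U.ι).obj M)) := by
  obtain ⟨K₁, q, hK₁, hq⟩ := Groth.Agent.Lib.Helper25.LTensorDCoh.hres₀ K
  haveI : QuasiIso q := hq
  let adjT : DCoh.LTensorCx K₁ ⊣ H := adj.ofNatIsoLeft (LTensorCxIsoOfQuasiIso q).symm
  obtain ⟨H₁, adj₁, hL₁⟩ := exists_restrict_opens U K₁ hK₁ adjT
  obtain ⟨i⟩ := hL₁ M
  haveI : QuasiIso ((resCx U.ι).map q) := inferInstance
  let adj₁' : DCoh.LTensorCx ((DCoh.restrictCx U).obj K) ⊣ H₁ :=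
    adj₁.ofNatIsoLeft (LTensorCxIsoOfQuasiIso ((resCx U.ι).map q))
  exact ⟨i ≪≫ (adj₁'.rightAdjointUniq adj').app _⟩

end Groth.Agent.Lib.Helper25.RHomRestrict
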