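import Mathlib
import Groth.Agent.Lib.Helper17.FlatBC2
import Groth.Agent.Lib.Helper25.StalkExact

/-!
# Base change of modules flat over the base: the algebra (helper25)

Rings `A → B`, `A → A'`, `B' = A' ⊗[A] B` (`Algebra.IsPushout A A' B B'`), localizations `B_q`, `B'_{q'}` of `B`, `B'` with
`B_q → B'_{q'}` compatible.  For a short exact sequence `0 → N₁ → N₂ → N₃ → 0` of `B_q`-modules with `N₃` flat over `A`:

* `lTensor_injective_of_isPushout`: `B'_{q'} ⊗[B_q] N₁ → B'_{q'} ⊗[B_q] N₂` is injective
  (`B'_{q'} ⊗[B_q] N` is a localization of `B' ⊗[B] N = A' ⊗[A] N`).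

Together with helper17's `flat_localization_of_isPushout` (`N` flat over `A` ⟹ `B'_{q'} ⊗[B_q] N` flat over `A'`) this is
the input for "`L(g')^*` of a bounded above complex of `S`-flat modules is computed termwise".
-/

set_option autoImplicit false
set_option linter.style.haveILetI false
open TensorProduct

namespace Groth.Agent.Lib.Helper25.RelFlatAlg

open Groth.Agent.Lib.helper17.LocBC Groth.Agent.Lib.Helper25.StalkExact

universe u

variable {A A' B B' Bq B'q : Type u} [CommRing A] [CommRing A'] [CommRing B] [CommRing B']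
  [CommRing Bq] [CommRing B'q]
  [Algebra A A'] [Algebra A B] [Algebra A' B'] [Algebra B B'] [Algebra A B']
  [IsScalarTower A B B'] [IsScalarTower A A' B'] [Algebra.IsPushout A A' B B']
  [Algebra B Bq] [Algebra B' B'q] [Algebra Bq B'q] [Algebra B B'q]
  [IsScalarTower B Bq B'q] [IsScalarTower B B' B'q]
  (p : Submonoid B) (q : Submonoid B') [IsLocalization p Bq] [IsLocalization q B'q]
  {N₁ N₂ N₃ : Type u} [AddCommGroup N₁] [AddCommGroup N₂] [AddCommGroup N₃]
  [Module B N₁] [Module Bq N₁] [IsScalarTower B Bq N₁] [Module A N₁] [IsScalarTower A B N₁]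
  [Module B N₂] [Module Bq N₂] [IsScalarTower B Bq N₂] [Module A N₂] [IsScalarTower A B N₂]
  [Module B N₃] [Module Bq N₃] [IsScalarTower B Bq N₃] [Module A N₃] [IsScalarTower A B N₃]

/-- naturality of `Algebra.IsPushout.cancelBaseChange` -/
lemma cancelBaseChange_symm_naturality (i : N₁ →ₗ[B] N₂) (x : A' ⊗[A] N₁) :
    (Algebra.IsPushout.cancelBaseChange A A' B B' N₂).symm (((i.restrictScalars A).lTensor A') x) =
      (i.lTensor B') ((Algebra.IsPushout.cancelBaseChange A A' B B' N₁).symm x) := by
  induction x using TensorProduct.induction_on with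
  | zero => simp
  | tmul s m => simp
  | add x y hx hy => simp only [map_add, hx, hy]

variable (A A') in
include A A' p q in
theorem lTensor_injective_of_isPushout (i : N₁ →ₗ[Bq] N₂) (π : N₂ →ₗ[Bq] N₃)
    (hi : Function.Injective i) (hex : Function.Exact i π) (hπ : Function.Surjective π)
    [Module.Flat A N₃] : Function.Injective (i.lTensor B'q) := by
  -- step 1: over `A`
  have h1 : Function.Injective (((i.restrictScalars B).restrictScalars A).lTensor A') :=
    lTensor_injective_of_exact_of_flat (R := A) A' ((i.restrictScalars B).restrictScalars A)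
      ((π.restrictScalars B).restrictScalars A) hi hex hπ
  -- step 2: over `B`
  have h2 : Function.Injective ((i.restrictScalars B).lTensor B') := by
    intro x y hxy
    obtain ⟨x, rfl⟩ := (Algebra.IsPushout.cancelBaseChange A A' B B' N₁).symm.surjective x
    obtain ⟨y, rfl⟩ := (Algebra.IsPushout.cancelBaseChange A A' B B' N₁).symm.surjective y
    rw [← cancelBaseChange_symm_naturality, ← cancelBaseChange_symm_naturality] at hxy
    rw [h1 ((Algebra.IsPushout.cancelBaseChange A A' B B' N₂).symm.injective hxy)]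
  -- step 3: localize
  obtain ⟨g₁, hg₁, hg₁'⟩ := exists_isLocalizedModule_tensor (R := B) (R' := B') (Rp := Bq)
    (R'q := B'q) p q (TensorProduct.mk Bq B'q N₁ 1) (TensorProduct.isBaseChange Bq N₁ B'q)
  obtain ⟨g₂, hg₂, hg₂'⟩ := exists_isLocalizedModule_tensor (R := B) (R' := B') (Rp := Bq)
    (R'q := B'q) p q (TensorProduct.mk Bq B'q N₂ 1) (TensorProduct.isBaseChange Bq N₂ B'q)
  let j : B' ⊗[B] N₁ →ₗ[B'] B' ⊗[B] N₂ := AlgebraTensorModule.lTensor B' B' (i.restrictScalars B)
  have hj : Function.Injective j := h2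
  have h3 := IsLocalizedModule.map_injective q g₁ g₂ j hj
  let k : B'q ⊗[Bq] N₁ →ₗ[B'] B'q ⊗[Bq] N₂ :=
    (AlgebraTensorModule.lTensor B'q B'q i).restrictScalars B'
  have h4 : IsLocalizedModule.map q g₁ g₂ j = k := by
    apply IsLocalizedModule.linearMap_ext q g₁ g₂
    rw [IsLocalizedModule.map_comp]
    apply TensorProduct.AlgebraTensorModule.curry_injective
    ext x
    simp [j, k, hg₁', hg₂']
  intro x y hxy
  apply h3
  rw [h4]
  exact hxy

end Groth.Agent.Lib.Helper25.RelFlatAlg
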