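import Mathlib
import Groth.Prelude.Def_FlatMod2
import Groth.Agent.Lib.Helper17.FlatOver6
import Groth.Agent.Lib.Helper25.RelFlatAlg

/-!
# Base change of modules flat over the base: stalks of a fibre product (helper25)

For a cartesian square `X' = X ×_S S'` (`g' : X' ⟶ X`, `f' : X' ⟶ S'`) and `x' : X'`, with `x = g' x'`, and modules over the
local ring `O_{X,x}` (no sheaves here):

* `extendScalars_injective_of_isPullback`: a short exact sequence of `O_{X,x}`-modules whose cokernel is flat over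
  `O_{S,f x}` stays left exact after `- ⊗_{O_{X,x}} O_{X',x'}`;
* `flat_extendScalars_of_isPullback`: if `N` is flat over `O_{S,f x}` then `N ⊗_{O_{X,x}} O_{X',x'}` is flat over
  `O_{S',f' x'}`.

Both via helper17's affine charts `exists_affine_charts` (`Γ(X',UY) = Γ(X,UX) ⊗ Γ(S',UT)` over `Γ(S,US)`).
-/

set_option autoImplicit false
set_option linter.style.haveILetI false
universe u
open CategoryTheory AlgebraicGeometry TopologicalSpace Opposite TensorProduct

namespace Groth.Agent.Lib.Helper25.RelFlatStalk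

open Scheme.Modules Groth.Agent.Lib.helper17.FlatOver1 Groth.Agent.Lib.helper17.FlatOver6
  Groth.Agent.Lib.helper17.FlatBC2 Groth.Agent.Lib.Helper25.RelFlatAlg

variable {X S X' S' : Scheme.{u}} {f : X ⟶ S} {f' : X' ⟶ S'} {g' : X' ⟶ X} {g : S' ⟶ S}

set_option maxHeartbeats 1600000 in
theorem extendScalars_injective_of_isPullback (hc : IsPullback g' f' f g) (x' : X')
    {N₁ N₂ N₃ : ModuleCat.{u} (X.presheaf.stalk (g'.base x'))} (i : N₁ ⟶ N₂) (π : N₂ ⟶ N₃)
    (hi : Function.Injective i.hom) (hex : Function.Exact i.hom π.hom)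
    (hπ : Function.Surjective π.hom)
    (hfl : @Module.Flat (S.presheaf.stalk (f.base (g'.base x'))) N₃ _ _
      (Module.compHom N₃ (f.stalkMap (g'.base x')).hom)) :
    Function.Injective ((ModuleCat.extendScalars.{u, u, u} (g'.stalkMap x').hom).map i).hom := by
  obtain ⟨US, UT, UX, UY, hUST, hUSX, hUYX, hUYT, hUS, hUT, hUX, hUY, hx', hpo⟩ :=
    exists_affine_charts hc x'
  have hx : g'.base x' ∈ UX := hUYX hx'
  have hs' : f'.base x' ∈ UT := hUYT hx'
  have hs : f.base (g'.base x') ∈ US := hUSX hx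
  -- section rings
  letI algAB : Algebra Γ(S, US) Γ(X, UX) := (f.appLE US UX hUSX).hom.toAlgebra
  letI algAA' : Algebra Γ(S, US) Γ(S', UT) := (g.appLE US UT hUST).hom.toAlgebra
  letI algBB' : Algebra Γ(X, UX) Γ(X', UY) := (g'.appLE UX UY hUYX).hom.toAlgebra
  letI algA'B' : Algebra Γ(S', UT) Γ(X', UY) := (f'.appLE UT UY hUYT).hom.toAlgebra
  letI algAB' : Algebra Γ(S, US) Γ(X', UY) :=
    ((g'.appLE UX UY hUYX).hom.comp (f.appLE US UX hUSX).hom).toAlgebra
  haveI : IsScalarTower Γ(S, US) Γ(X, UX) Γ(X', UY) :=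
    IsScalarTower.of_algebraMap_eq (fun _ => rfl)
  have hsq : ∀ a : Γ(S, US), (g'.appLE UX UY hUYX).hom ((f.appLE US UX hUSX).hom a) =
      (f'.appLE UT UY hUYT).hom ((g.appLE US UT hUST).hom a) := fun a =>
    congrArg (fun φ => φ.hom a) hpo.w
  haveI : IsScalarTower Γ(S, US) Γ(S', UT) Γ(X', UY) :=
    IsScalarTower.of_algebraMap_eq (fun a => hsq a)
  haveI hpush : Algebra.IsPushout Γ(S, US) Γ(X, UX) Γ(S', UT) Γ(X', UY) :=
    CommRingCat.isPushout_iff_isPushout.mp hpo
  haveI hpush' : Algebra.IsPushout Γ(S, US) Γ(S', UT) Γ(X, UX) Γ(X', UY) := hpush.symm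
  -- local rings
  letI algBBq : Algebra Γ(X, UX) (X.presheaf.stalk (g'.base x')) :=
    TopCat.Presheaf.algebra_section_stalk X.presheaf (⟨g'.base x', hx⟩ : UX)
  letI algB'B'q : Algebra Γ(X', UY) (X'.presheaf.stalk x') :=
    TopCat.Presheaf.algebra_section_stalk X'.presheaf (⟨x', hx'⟩ : UY)
  letI algBqB'q : Algebra (X.presheaf.stalk (g'.base x')) (X'.presheaf.stalk x') :=
    (g'.stalkMap x').hom.toAlgebra
  letI algBB'q : Algebra Γ(X, UX) (X'.presheaf.stalk x') :=
    ((g'.stalkMap x').hom.comp (X.presheaf.germ UX (g'.base x') hx).hom).toAlgebra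
  haveI : IsScalarTower Γ(X, UX) (X.presheaf.stalk (g'.base x')) (X'.presheaf.stalk x') :=
    IsScalarTower.of_algebraMap_eq (fun _ => rfl)
  haveI : IsScalarTower Γ(X, UX) Γ(X', UY) (X'.presheaf.stalk x') :=
    IsScalarTower.of_algebraMap_eq (fun a => (germ_appLE_apply g' hUYX x' hx' a).symm)
  haveI : IsLocalization.AtPrime (X.presheaf.stalk (g'.base x'))
      (hUX.primeIdealOf ⟨g'.base x', hx⟩).asIdeal := hUX.isLocalization_stalk ⟨_, hx⟩
  haveI : IsLocalization.AtPrime (X'.presheaf.stalk x') (hUY.primeIdealOf ⟨x', hx'⟩).asIdeal :=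
    hUY.isLocalization_stalk ⟨x', hx'⟩
  -- module structures
  letI mB₁ : Module Γ(X, UX) N₁ := Module.compHom N₁ (X.presheaf.germ UX (g'.base x') hx).hom
  letI mB₂ : Module Γ(X, UX) N₂ := Module.compHom N₂ (X.presheaf.germ UX (g'.base x') hx).hom
  letI mB₃ : Module Γ(X, UX) N₃ := Module.compHom N₃ (X.presheaf.germ UX (g'.base x') hx).hom
  haveI : IsScalarTower Γ(X, UX) (X.presheaf.stalk (g'.base x')) N₁ :=
    IsScalarTower.of_algebraMap_smul (fun _ _ => rfl)
  haveI : IsScalarTower Γ(X, UX) (X.presheaf.stalk (g'.base x')) N₂ :=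
    IsScalarTower.of_algebraMap_smul (fun _ _ => rfl)
  haveI : IsScalarTower Γ(X, UX) (X.presheaf.stalk (g'.base x')) N₃ :=
    IsScalarTower.of_algebraMap_smul (fun _ _ => rfl)
  letI mA₁ : Module Γ(S, US) N₁ := Module.compHom N₁
    ((X.presheaf.germ UX (g'.base x') hx).hom.comp (f.appLE US UX hUSX).hom)
  letI mA₂ : Module Γ(S, US) N₂ := Module.compHom N₂
    ((X.presheaf.germ UX (g'.base x') hx).hom.comp (f.appLE US UX hUSX).hom)
  letI mA₃ : Module Γ(S, US) N₃ := Module.compHom N₃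
    ((X.presheaf.germ UX (g'.base x') hx).hom.comp (f.appLE US UX hUSX).hom)
  haveI : IsScalarTower Γ(S, US) Γ(X, UX) N₁ := IsScalarTower.of_algebraMap_smul (fun _ _ => rfl)
  haveI : IsScalarTower Γ(S, US) Γ(X, UX) N₂ := IsScalarTower.of_algebraMap_smul (fun _ _ => rfl)
  haveI : IsScalarTower Γ(S, US) Γ(X, UX) N₃ := IsScalarTower.of_algebraMap_smul (fun _ _ => rfl)
  -- flatness of `N₃` over `A`
  haveI : Module.Flat Γ(S, US) N₃ := by
    letI algAAp : Algebra Γ(S, US) (S.presheaf.stalk (f.base (g'.base x'))) :=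
      TopCat.Presheaf.algebra_section_stalk S.presheaf (⟨f.base (g'.base x'), hs⟩ : US)
    letI mAp : Module (S.presheaf.stalk (f.base (g'.base x'))) N₃ :=
      Module.compHom N₃ (f.stalkMap (g'.base x')).hom
    haveI : IsScalarTower Γ(S, US) (S.presheaf.stalk (f.base (g'.base x'))) N₃ :=
      IsScalarTower.of_algebraMap_smul (fun a n => by
        change (f.stalkMap (g'.base x')).hom ((S.presheaf.germ US (f.base (g'.base x')) hs).hom a) • n =
          (X.presheaf.germ UX (g'.base x') hx).hom ((f.appLE US UX hUSX).hom a) • n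
        rw [germ_appLE_apply f hUSX (g'.base x') hx a])
    haveI : IsLocalization.AtPrime (S.presheaf.stalk (f.base (g'.base x')))
        (hUS.primeIdealOf ⟨f.base (g'.base x'), hs⟩).asIdeal := hUS.isLocalization_stalk ⟨_, hs⟩
    exact (Module.flat_iff_of_isLocalization (S.presheaf.stalk (f.base (g'.base x')))
      (hUS.primeIdealOf ⟨f.base (g'.base x'), hs⟩).asIdeal.primeCompl N₃).mp hfl
  have h := lTensor_injective_of_isPushout (B := Γ(X, UX)) (B' := Γ(X', UY))
    (Bq := X.presheaf.stalk (g'.base x')) (B'q := X'.presheaf.stalk x') Γ(S, US) Γ(S', UT)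
    (hUX.primeIdealOf ⟨g'.base x', hx⟩).asIdeal.primeCompl
    (hUY.primeIdealOf ⟨x', hx'⟩).asIdeal.primeCompl i.hom π.hom hi hex hπ
  exact h

set_option maxHeartbeats 1600000 in
theorem flat_extendScalars_of_isPullback (hc : IsPullback g' f' f g) (x' : X')
    (N : ModuleCat.{u} (X.presheaf.stalk (g'.base x')))
    (hfl : @Module.Flat (S.presheaf.stalk (f.base (g'.base x'))) N _ _
      (Module.compHom N (f.stalkMap (g'.base x')).hom)) :
    @Module.Flat (S'.presheaf.stalk (f'.base x'))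
      ((ModuleCat.extendScalars.{u, u, u} (g'.stalkMap x').hom).obj N) _ _
      (Module.compHom _ (f'.stalkMap x').hom) := by
  obtain ⟨US, UT, UX, UY, hUST, hUSX, hUYX, hUYT, hUS, hUT, hUX, hUY, hx', hpo⟩ :=
    exists_affine_charts hc x'
  have hx : g'.base x' ∈ UX := hUYX hx'
  have hs' : f'.base x' ∈ UT := hUYT hx'
  have hs : f.base (g'.base x') ∈ US := hUSX hx
  -- section rings
  letI algAB : Algebra Γ(S, US) Γ(X, UX) := (f.appLE US UX hUSX).hom.toAlgebra
  letI algAA' : Algebra Γ(S, US) Γ(S', UT) := (g.appLE US UT hUST).hom.toAlgebra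
  letI algBB' : Algebra Γ(X, UX) Γ(X', UY) := (g'.appLE UX UY hUYX).hom.toAlgebra
  letI algA'B' : Algebra Γ(S', UT) Γ(X', UY) := (f'.appLE UT UY hUYT).hom.toAlgebra
  letI algAB' : Algebra Γ(S, US) Γ(X', UY) :=
    ((g'.appLE UX UY hUYX).hom.comp (f.appLE US UX hUSX).hom).toAlgebra
  haveI : IsScalarTower Γ(S, US) Γ(X, UX) Γ(X', UY) :=
    IsScalarTower.of_algebraMap_eq (fun _ => rfl)
  have hsq : ∀ a : Γ(S, US), (g'.appLE UX UY hUYX).hom ((f.appLE US UX hUSX).hom a) =
      (f'.appLE UT UY hUYT).hom ((g.appLE US UT hUST).hom a) := fun a =>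
    congrArg (fun φ => φ.hom a) hpo.w
  haveI : IsScalarTower Γ(S, US) Γ(S', UT) Γ(X', UY) :=
    IsScalarTower.of_algebraMap_eq (fun a => hsq a)
  haveI hpush : Algebra.IsPushout Γ(S, US) Γ(X, UX) Γ(S', UT) Γ(X', UY) :=
    CommRingCat.isPushout_iff_isPushout.mp hpo
  haveI hpush' : Algebra.IsPushout Γ(S, US) Γ(S', UT) Γ(X, UX) Γ(X', UY) := hpush.symm
  -- local rings
  letI algBBq : Algebra Γ(X, UX) (X.presheaf.stalk (g'.base x')) :=
    TopCat.Presheaf.algebra_section_stalk X.presheaf (⟨g'.base x', hx⟩ : UX)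
  letI algB'B'q : Algebra Γ(X', UY) (X'.presheaf.stalk x') :=
    TopCat.Presheaf.algebra_section_stalk X'.presheaf (⟨x', hx'⟩ : UY)
  letI algBqB'q : Algebra (X.presheaf.stalk (g'.base x')) (X'.presheaf.stalk x') :=
    (g'.stalkMap x').hom.toAlgebra
  letI algBB'q : Algebra Γ(X, UX) (X'.presheaf.stalk x') :=
    ((g'.stalkMap x').hom.comp (X.presheaf.germ UX (g'.base x') hx).hom).toAlgebra
  haveI : IsScalarTower Γ(X, UX) (X.presheaf.stalk (g'.base x')) (X'.presheaf.stalk x') :=
    IsScalarTower.of_algebraMap_eq (fun _ => rfl)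
  haveI : IsScalarTower Γ(X, UX) Γ(X', UY) (X'.presheaf.stalk x') :=
    IsScalarTower.of_algebraMap_eq (fun a => (germ_appLE_apply g' hUYX x' hx' a).symm)
  letI algA'B'q : Algebra Γ(S', UT) (X'.presheaf.stalk x') :=
    ((X'.presheaf.germ UY x' hx').hom.comp (f'.appLE UT UY hUYT).hom).toAlgebra
  haveI : IsScalarTower Γ(S', UT) Γ(X', UY) (X'.presheaf.stalk x') :=
    IsScalarTower.of_algebraMap_eq (fun _ => rfl)
  haveI : IsLocalization.AtPrime (X.presheaf.stalk (g'.base x'))
      (hUX.primeIdealOf ⟨g'.base x', hx⟩).asIdeal := hUX.isLocalization_stalk ⟨_, hx⟩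
  haveI : IsLocalization.AtPrime (X'.presheaf.stalk x') (hUY.primeIdealOf ⟨x', hx'⟩).asIdeal :=
    hUY.isLocalization_stalk ⟨x', hx'⟩
  -- module structures on `N`
  letI mB : Module Γ(X, UX) N := Module.compHom N (X.presheaf.germ UX (g'.base x') hx).hom
  haveI : IsScalarTower Γ(X, UX) (X.presheaf.stalk (g'.base x')) N :=
    IsScalarTower.of_algebraMap_smul (fun _ _ => rfl)
  letI mA : Module Γ(S, US) N := Module.compHom N
    ((X.presheaf.germ UX (g'.base x') hx).hom.comp (f.appLE US UX hUSX).hom)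
  haveI : IsScalarTower Γ(S, US) Γ(X, UX) N := IsScalarTower.of_algebraMap_smul (fun _ _ => rfl)
  haveI : Module.Flat Γ(S, US) N := by
    letI algAAp : Algebra Γ(S, US) (S.presheaf.stalk (f.base (g'.base x'))) :=
      TopCat.Presheaf.algebra_section_stalk S.presheaf (⟨f.base (g'.base x'), hs⟩ : US)
    letI mAp : Module (S.presheaf.stalk (f.base (g'.base x'))) N :=
      Module.compHom N (f.stalkMap (g'.base x')).hom
    haveI : IsScalarTower Γ(S, US) (S.presheaf.stalk (f.base (g'.base x'))) N :=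
      IsScalarTower.of_algebraMap_smul (fun a n => by
        change (f.stalkMap (g'.base x')).hom ((S.presheaf.germ US (f.base (g'.base x')) hs).hom a) • n =
          (X.presheaf.germ UX (g'.base x') hx).hom ((f.appLE US UX hUSX).hom a) • n
        rw [germ_appLE_apply f hUSX (g'.base x') hx a])
    haveI : IsLocalization.AtPrime (S.presheaf.stalk (f.base (g'.base x')))
        (hUS.primeIdealOf ⟨f.base (g'.base x'), hs⟩).asIdeal := hUS.isLocalization_stalk ⟨_, hs⟩
    exact (Module.flat_iff_of_isLocalization (S.presheaf.stalk (f.base (g'.base x')))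
      (hUS.primeIdealOf ⟨f.base (g'.base x'), hs⟩).asIdeal.primeCompl N).mp hfl
  -- the base change
  have h1 : Module.Flat Γ(S', UT) ((X'.presheaf.stalk x') ⊗[X.presheaf.stalk (g'.base x')] N) :=
    flat_localization_of_isPushout (A := Γ(S, US)) (A' := Γ(S', UT)) (B := Γ(X, UX))
      (B' := Γ(X', UY)) (Bq := X.presheaf.stalk (g'.base x')) (B'q := X'.presheaf.stalk x')
      (hUX.primeIdealOf ⟨g'.base x', hx⟩).asIdeal.primeCompl
      (hUY.primeIdealOf ⟨x', hx'⟩).asIdeal.primeCompl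
      (TensorProduct.mk (X.presheaf.stalk (g'.base x')) (X'.presheaf.stalk x') N 1)
      (TensorProduct.isBaseChange (X.presheaf.stalk (g'.base x')) N (X'.presheaf.stalk x'))
  -- back to the local ring of `S'`
  letI algA'A'p : Algebra Γ(S', UT) (S'.presheaf.stalk (f'.base x')) :=
    TopCat.Presheaf.algebra_section_stalk S'.presheaf (⟨f'.base x', hs'⟩ : UT)
  letI mA'p : Module (S'.presheaf.stalk (f'.base x'))
      ((X'.presheaf.stalk x') ⊗[X.presheaf.stalk (g'.base x')] N) :=
    Module.compHom _ (f'.stalkMap x').hom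
  haveI : IsScalarTower Γ(S', UT) (S'.presheaf.stalk (f'.base x'))
      ((X'.presheaf.stalk x') ⊗[X.presheaf.stalk (g'.base x')] N) :=
    IsScalarTower.of_algebraMap_smul (fun a m => by
      change (f'.stalkMap x').hom ((S'.presheaf.germ UT (f'.base x') hs').hom a) • m = a • m
      rw [← germ_appLE_apply f' hUYT x' hx' a]
      exact algebraMap_smul (X'.presheaf.stalk x') a m)
  haveI : IsLocalization.AtPrime (S'.presheaf.stalk (f'.base x'))
      (hUT.primeIdealOf ⟨f'.base x', hs'⟩).asIdeal := hUT.isLocalization_stalk ⟨_, hs'⟩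
  have h2 := (Module.flat_iff_of_isLocalization (S'.presheaf.stalk (f'.base x'))
    (hUT.primeIdealOf ⟨f'.base x', hs'⟩).asIdeal.primeCompl
    ((X'.presheaf.stalk x') ⊗[X.presheaf.stalk (g'.base x')] N)).mpr h1
  exact h2

end Groth.Agent.Lib.Helper25.RelFlatStalk
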