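import Mathlib
import Groth.Agent.Lib.Helper25.RelFlatStalk
import Groth.Agent.Lib.Helper25.StalkPullExact
import Groth.Agent.Lib.Helper25.StalkPullFlat
import Groth.Agent.Lib.Helper25.FlatPushAff
import Groth.Agent.Lib.Helper25.FlatPushTensor
import Groth.Agent.Lib.Helper17.FlatSES
import Groth.Agent.Lib.Helper25.LpullPC

/-!
# Base change of modules flat over the base: `O`-modules and the derived pullback (helper25)

Cartesian square `X' = X ×_S S'` (`g' : X' ⟶ X`, `f' : X' ⟶ S'`); no quasi-coherence anywhere.

* `flat_of_exact`: the kernel of a surjection of flat modules is flat.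
* `isFlatOver_pullback hc M hM`: `M` flat over `S` ⟹ `(g')^* M` flat over `S'`.
* `mono_pullback_map_of_flatOver`: `(g')^*` keeps the left map of a short exact sequence with `S`-flat cokernel a
  monomorphism.
* `isFlatOver_of_shortExact`: the kernel of an epimorphism of `S`-flat modules is `S`-flat;
  `isFlatOver_cycles`: the cycles of a bounded above acyclic complex of `S`-flat modules are `S`-flat.
* `acyclic_pullback_of_flatOver`: `(g')^*` of a bounded above acyclic complex of `S`-flat modules is acyclic.
* `nonempty_Lpull_iso_of_flatOver` (`f` flat): `L(g')^*(E) ≅ (g')^* E` for a bounded above complex `E` of `S`-flat modules.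
-/

set_option autoImplicit false
set_option linter.style.haveILetI false
universe u
open CategoryTheory CategoryTheory.Limits AlgebraicGeometry Opposite TopologicalSpace TensorProduct

attribute [local instance] HasDerivedCategory.standard

namespace Groth.Agent.Lib.Helper25.RelFlatPull

open Groth.Agent.Lib.Helper25.StalkSky Groth.Agent.Lib.Helper25.StalkExact
  Groth.Agent.Lib.Helper25.RelFlatStalk Groth.Agent.Lib.Helper25.StalkPullExact

section algebra

/-- the kernel of a surjection of flat modules is flat -/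
theorem flat_of_exact {R : Type u} [CommRing R] {N₁ N₂ N₃ : Type u}
    [AddCommGroup N₁] [AddCommGroup N₂] [AddCommGroup N₃] [Module R N₁] [Module R N₂] [Module R N₃]
    (i : N₁ →ₗ[R] N₂) (π : N₂ →ₗ[R] N₃) (hi : Function.Injective i) (hex : Function.Exact i π)
    (hπ : Function.Surjective π) [Module.Flat R N₂] [Module.Flat R N₃] : Module.Flat R N₁ := by
  rw [Module.Flat.iff_rTensor_injective']
  intro I
  have h1 : Function.Injective (i.lTensor I) :=
    lTensor_injective_of_exact_of_flat (R := R) I i π hi hex hπ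
  have h2 : Function.Injective (I.subtype.rTensor N₂) :=
    Module.Flat.rTensor_preserves_injective_linearMap _ I.injective_subtype
  have h3 : (i.lTensor R).comp (I.subtype.rTensor N₁) = (I.subtype.rTensor N₂).comp (i.lTensor I) := by
    rw [LinearMap.lTensor_comp_rTensor, LinearMap.rTensor_comp_lTensor]
  have h4 : Function.Injective ((i.lTensor R).comp (I.subtype.rTensor N₁)) := by
    rw [h3]
    exact h2.comp h1
  exact Function.Injective.of_comp h4

end algebra

variable {X S X' S' : Scheme.{u}} {f : X ⟶ S} {f' : X' ⟶ S'} {g' : X' ⟶ X} {g : S' ⟶ S}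

/-- **the pullback of an `S`-flat module (not necessarily quasi-coherent) is `S'`-flat** -/
theorem isFlatOver_pullback (hc : IsPullback g' f' f g) (M : X.Modules)
    (hM : FlatMod.IsFlatOver f M) :
    FlatMod.IsFlatOver f' ((Scheme.Modules.pullback g').obj M) := by
  intro x'
  have h := flat_extendScalars_of_isPullback hc x' ((DerSch.stalkFunctor X (g'.base x')).obj M)
    (hM (g'.base x'))
  let e := ((stalkPullbackIso g' x').app M).toLinearEquiv
  letI m1 : Module (S'.presheaf.stalk (f'.base x'))
      ((ModuleCat.extendScalars.{u, u, u} (g'.stalkMap x').hom).obj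
        ((DerSch.stalkFunctor X (g'.base x')).obj M)) := Module.compHom _ (f'.stalkMap x').hom
  letI m2 : Module (S'.presheaf.stalk (f'.base x'))
      ((DerSch.stalkFunctor X' x').obj ((Scheme.Modules.pullback g').obj M)) :=
    Module.compHom _ (f'.stalkMap x').hom
  let e' : ((DerSch.stalkFunctor X' x').obj ((Scheme.Modules.pullback g').obj M)) ≃ₗ[S'.presheaf.stalk (f'.base x')]
      ((ModuleCat.extendScalars.{u, u, u} (g'.stalkMap x').hom).obj
        ((DerSch.stalkFunctor X (g'.base x')).obj M)) :=
    { e with map_smul' := fun a m => e.map_smul ((f'.stalkMap x').hom a) m }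
  have h5 : @Module.Flat (S'.presheaf.stalk (f'.base x'))
      ((DerSch.stalkFunctor X' x').obj ((Scheme.Modules.pullback g').obj M)) _ _ m2 :=
    Module.Flat.of_linearEquiv e'
  exact h5

/-- `(g')^*` preserves short exact sequences with `S`-flat cokernel: the left map stays a monomorphism. -/
theorem mono_pullback_map_of_flatOver (hc : IsPullback g' f' f g) (T : ShortComplex X.Modules)
    (hT : T.ShortExact) (h3 : FlatMod.IsFlatOver f T.X₃) :
    Mono ((Scheme.Modules.pullback g').map T.f) := by
  apply mono_of_forall_stalk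
  intro x'
  have hnat := (stalkPullbackIso g' x').hom.naturality T.f
  have hT' : (T.map (DerSch.stalkFunctor X (g'.base x'))).ShortExact := hT.map_of_exact _
  have hmono : Mono ((DerSch.stalkFunctor X (g'.base x') ⋙
      ModuleCat.extendScalars.{u, u, u} (g'.stalkMap x').hom).map T.f) := by
    rw [ModuleCat.mono_iff_injective]
    refine extendScalars_injective_of_isPullback hc x'
      ((DerSch.stalkFunctor X (g'.base x')).map T.f) ((DerSch.stalkFunctor X (g'.base x')).map T.g)
      ?_ ?_ ?_ (h3 (g'.base x'))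
    · have := hT'.mono_f
      exact (ModuleCat.mono_iff_injective _).1
        (inferInstanceAs (Mono (T.map (DerSch.stalkFunctor X (g'.base x'))).f))
    · exact (ShortComplex.ShortExact.moduleCat_exact_iff_function_exact _).1 hT'.exact
    · have := hT'.epi_g
      exact (ModuleCat.epi_iff_surjective _).1
        (inferInstanceAs (Epi (T.map (DerSch.stalkFunctor X (g'.base x'))).g))
  have h1 : Mono ((Scheme.Modules.pullback g' ⋙ DerSch.stalkFunctor X' x').map T.f ≫
      (stalkPullbackIso g' x').hom.app T.X₂) := by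
    rw [hnat]
    have : Mono ((stalkPullbackIso g' x').hom.app T.X₁) := IsIso.mono_of_iso _
    exact mono_comp ((stalkPullbackIso g' x').hom.app T.X₁) _
  exact @mono_of_mono _ _ _ _ _
    ((DerSch.stalkFunctor X' x').map ((Scheme.Modules.pullback g').map T.f))
    ((stalkPullbackIso g' x').hom.app T.X₂) h1

/-- the kernel of an epimorphism of `S`-flat modules is `S`-flat -/
theorem isFlatOver_of_shortExact (f : X ⟶ S) (T : ShortComplex X.Modules) (hT : T.ShortExact)
    (h2 : FlatMod.IsFlatOver f T.X₂) (h3 : FlatMod.IsFlatOver f T.X₃) :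
    FlatMod.IsFlatOver f T.X₁ := by
  intro x
  have hT' : (T.map (DerSch.stalkFunctor X x)).ShortExact := hT.map_of_exact _
  letI m1 : Module (S.presheaf.stalk (f.base x)) ((DerSch.stalkFunctor X x).obj T.X₁) :=
    Module.compHom _ (f.stalkMap x).hom
  letI m2 : Module (S.presheaf.stalk (f.base x)) ((DerSch.stalkFunctor X x).obj T.X₂) :=
    Module.compHom _ (f.stalkMap x).hom
  letI m3 : Module (S.presheaf.stalk (f.base x)) ((DerSch.stalkFunctor X x).obj T.X₃) :=
    Module.compHom _ (f.stalkMap x).hom
  let i : ((DerSch.stalkFunctor X x).obj T.X₁) →ₗ[S.presheaf.stalk (f.base x)]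
      ((DerSch.stalkFunctor X x).obj T.X₂) :=
    { ((DerSch.stalkFunctor X x).map T.f).hom with
      map_smul' := fun a m => ((DerSch.stalkFunctor X x).map T.f).hom.map_smul ((f.stalkMap x).hom a) m }
  let π : ((DerSch.stalkFunctor X x).obj T.X₂) →ₗ[S.presheaf.stalk (f.base x)]
      ((DerSch.stalkFunctor X x).obj T.X₃) :=
    { ((DerSch.stalkFunctor X x).map T.g).hom with
      map_smul' := fun a m => ((DerSch.stalkFunctor X x).map T.g).hom.map_smul ((f.stalkMap x).hom a) m }
  have hi : Function.Injective i := by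
    have := hT'.mono_f
    exact (ModuleCat.mono_iff_injective _).1
      (inferInstanceAs (Mono (T.map (DerSch.stalkFunctor X x)).f))
  have hex : Function.Exact i π :=
    (ShortComplex.ShortExact.moduleCat_exact_iff_function_exact _).1 hT'.exact
  have hπ : Function.Surjective π := by
    have := hT'.epi_g
    exact (ModuleCat.epi_iff_surjective _).1
      (inferInstanceAs (Epi (T.map (DerSch.stalkFunctor X x)).g))
  haveI : Module.Flat (S.presheaf.stalk (f.base x)) ((DerSch.stalkFunctor X x).obj T.X₂) := h2 x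
  haveI : Module.Flat (S.presheaf.stalk (f.base x)) ((DerSch.stalkFunctor X x).obj T.X₃) := h3 x
  have h5 : @Module.Flat (S.presheaf.stalk (f.base x)) ((DerSch.stalkFunctor X x).obj T.X₁) _ _ m1 :=
    flat_of_exact i π hi hex hπ
  exact h5

/-- an extension of `S`-flat modules is `S`-flat -/
theorem isFlatOver_mid_of_shortExact (f : X ⟶ S) (T : ShortComplex X.Modules) (hT : T.ShortExact)
    (h1 : FlatMod.IsFlatOver f T.X₁) (h3 : FlatMod.IsFlatOver f T.X₃) :
    FlatMod.IsFlatOver f T.X₂ := by
  intro x
  have hT' : (T.map (DerSch.stalkFunctor X x)).ShortExact := hT.map_of_exact _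
  letI m1 : Module (S.presheaf.stalk (f.base x)) ((DerSch.stalkFunctor X x).obj T.X₁) :=
    Module.compHom _ (f.stalkMap x).hom
  letI m2 : Module (S.presheaf.stalk (f.base x)) ((DerSch.stalkFunctor X x).obj T.X₂) :=
    Module.compHom _ (f.stalkMap x).hom
  letI m3 : Module (S.presheaf.stalk (f.base x)) ((DerSch.stalkFunctor X x).obj T.X₃) :=
    Module.compHom _ (f.stalkMap x).hom
  let i : ((DerSch.stalkFunctor X x).obj T.X₁) →ₗ[S.presheaf.stalk (f.base x)]
      ((DerSch.stalkFunctor X x).obj T.X₂) :=
    { ((DerSch.stalkFunctor X x).map T.f).hom with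
      map_smul' := fun a m => ((DerSch.stalkFunctor X x).map T.f).hom.map_smul ((f.stalkMap x).hom a) m }
  let π : ((DerSch.stalkFunctor X x).obj T.X₂) →ₗ[S.presheaf.stalk (f.base x)]
      ((DerSch.stalkFunctor X x).obj T.X₃) :=
    { ((DerSch.stalkFunctor X x).map T.g).hom with
      map_smul' := fun a m => ((DerSch.stalkFunctor X x).map T.g).hom.map_smul ((f.stalkMap x).hom a) m }
  have hi : Function.Injective i := by
    have := hT'.mono_f
    exact (ModuleCat.mono_iff_injective _).1
      (inferInstanceAs (Mono (T.map (DerSch.stalkFunctor X x)).f))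
  have hex : Function.Exact i π :=
    (ShortComplex.ShortExact.moduleCat_exact_iff_function_exact _).1 hT'.exact
  have hπ : Function.Surjective π := by
    have := hT'.epi_g
    exact (ModuleCat.epi_iff_surjective _).1
      (inferInstanceAs (Epi (T.map (DerSch.stalkFunctor X x)).g))
  haveI : Module.Flat (S.presheaf.stalk (f.base x)) ((DerSch.stalkFunctor X x).obj T.X₁) := h1 x
  haveI : Module.Flat (S.presheaf.stalk (f.base x)) ((DerSch.stalkFunctor X x).obj T.X₃) := h3 x
  have h5 : @Module.Flat (S.presheaf.stalk (f.base x)) ((DerSch.stalkFunctor X x).obj T.X₂) _ _ m2 :=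
    Groth.Agent.Lib.helper17.FlatSES.flat_mid_of_exact i π hi hπ hex
  exact h5

theorem isFlatOver_biprod (f : X ⟶ S) {A B : X.Modules} (hA : FlatMod.IsFlatOver f A)
    (hB : FlatMod.IsFlatOver f B) : FlatMod.IsFlatOver f (A ⊞ B) := by
  have hS : (ShortComplex.mk (biprod.inl : A ⟶ A ⊞ B) biprod.snd (by simp)).ShortExact :=
    (ShortComplex.Splitting.ofHasBinaryBiproduct A B).shortExact
  exact isFlatOver_mid_of_shortExact f _ hS hA hB

theorem isFlatOver_of_iso (f : X ⟶ S) {A B : X.Modules} (e : A ≅ B) (hA : FlatMod.IsFlatOver f A) :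
    FlatMod.IsFlatOver f B := by
  intro x
  let e' := ((DerSch.stalkFunctor X x).mapIso e.symm).toLinearEquiv
  letI m1 : Module (S.presheaf.stalk (f.base x)) ((DerSch.stalkFunctor X x).obj A) :=
    Module.compHom _ (f.stalkMap x).hom
  letI m2 : Module (S.presheaf.stalk (f.base x)) ((DerSch.stalkFunctor X x).obj B) :=
    Module.compHom _ (f.stalkMap x).hom
  let e'' : ((DerSch.stalkFunctor X x).obj B) ≃ₗ[S.presheaf.stalk (f.base x)]
      ((DerSch.stalkFunctor X x).obj A) :=
    { e' with map_smul' := fun a m => e'.map_smul ((f.stalkMap x).hom a) m }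
  haveI : Module.Flat (S.presheaf.stalk (f.base x)) ((DerSch.stalkFunctor X x).obj A) := hA x
  have h5 : @Module.Flat (S.presheaf.stalk (f.base x)) ((DerSch.stalkFunctor X x).obj B) _ _ m2 :=
    Module.Flat.of_linearEquiv e''
  exact h5

open HomologicalComplex Groth.Agent.Lib.helper13.KFlat in
/-- the cycles of a bounded above acyclic complex of `S`-flat modules are `S`-flat -/
theorem isFlatOver_cycles (f : X ⟶ S) (C : CochainComplex X.Modules ℤ) (b : ℤ)
    (hb : ∀ n : ℤ, b < n → IsZero (C.X n)) (hfl : ∀ n : ℤ, FlatMod.IsFlatOver f (C.X n))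
    (hac : C.Acyclic) (n : ℤ) : FlatMod.IsFlatOver f (C.cycles n) := by
  have key : ∀ (k : ℕ) (n : ℤ), b + 1 - k ≤ n → FlatMod.IsFlatOver f (C.cycles n) := by
    intro k
    induction k with
    | zero =>
      intro n hn
      have hz : IsZero (C.cycles n) := by
        rw [IsZero.iff_id_eq_zero, ← cancel_mono (C.iCycles n)]
        exact (hb n (by omega)).eq_of_tgt _ _
      exact Groth.Agent.Lib.Helper25.FlatPushTensor.isFlatOver_of_isZero f hz
    | succ k ih =>
      intro n hn
      exact isFlatOver_of_shortExact f (cyclesSC C n) (cyclesSC_shortExact hac n) (hfl n)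
        (ih (n + 1) (by push_cast at hn ⊢; omega))
  exact key (b + 1 - n).toNat n (by omega)

open HomologicalComplex Groth.Agent.Lib.helper13.KFlat in
/-- **`(g')^*` of a bounded above acyclic complex of `S`-flat modules is acyclic** -/
theorem acyclic_pullback_of_flatOver (hc : IsPullback g' f' f g) (C : CochainComplex X.Modules ℤ)
    (b : ℤ) (hb : ∀ n : ℤ, b < n → IsZero (C.X n)) (hfl : ∀ n : ℤ, FlatMod.IsFlatOver f (C.X n))
    (hac : C.Acyclic) :
    (((Scheme.Modules.pullback g').mapHomologicalComplex (ComplexShape.up ℤ)).obj C).Acyclic :=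
  acyclic_map_of_mono_iCycles (Scheme.Modules.pullback g') C hac (fun n =>
    mono_pullback_map_of_flatOver hc (cyclesSC C n) (cyclesSC_shortExact hac n)
      (isFlatOver_cycles f C b hb hfl hac (n + 1)))

lemma isZero_biprod' {A : Type*} [Category A] [Preadditive A] [HasBinaryBiproducts A] {M N : A}
    (hM : IsZero M) (hN : IsZero N) : IsZero (M ⊞ N) := by
  rw [IsZero.iff_id_eq_zero]
  apply biprod.hom_ext
  · exact hM.eq_of_tgt _ _
  · exact hN.eq_of_tgt _ _

open Groth.Agent.Lib.Helper25.LpullAdapted in
/-- `(g')^*` preserves a quasi-isomorphism from a bounded above complex of flat modules to a bounded above complex of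
`S`-flat modules (`f` flat) -/
theorem quasiIso_pullback_map_of_flatOver [Flat f] (hc : IsPullback g' f' f g)
    {P E : CochainComplex X.Modules ℤ} (φ : P ⟶ E) (b : ℤ)
    (hPb : ∀ n : ℤ, b < n → IsZero (P.X n)) (hPfl : ∀ n : ℤ, FlatMod.IsFlat (P.X n))
    (hEb : ∀ n : ℤ, b < n → IsZero (E.X n)) (hEfl : ∀ n : ℤ, FlatMod.IsFlatOver f (E.X n))
    (hφ : QuasiIso φ) :
    QuasiIso (((Scheme.Modules.pullback g').mapHomologicalComplex (ComplexShape.up ℤ)).map φ) := by
  rw [quasiIso_iff_mappingCone_exactAt]
  intro n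
  refine HomologicalComplex.ExactAt.of_iso ?_
    (CochainComplex.mappingCone.mapHomologicalComplexIso φ (Scheme.Modules.pullback g'))
  refine acyclic_pullback_of_flatOver hc (CochainComplex.mappingCone φ) b ?_ ?_
    ((quasiIso_iff_mappingCone_exactAt φ).1 hφ) n
  · intro m hm
    exact (isZero_biprod' (hPb (m + 1) (by omega)) (hEb m hm)).of_iso
      (HomologicalComplex.homotopyCofiber.XIsoBiprod φ m (m + 1) rfl)
  · intro m
    exact isFlatOver_of_iso f (HomologicalComplex.homotopyCofiber.XIsoBiprod φ m (m + 1) rfl).symm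
      (isFlatOver_biprod f
        (Groth.Agent.Lib.Helper25.FlatPushAff.isFlatOver_of_isFlat f _ (hPfl (m + 1))) (hEfl m))

/-- **`L(g')^*` is computed termwise on bounded above complexes of `S`-flat modules** (`f` flat) -/
theorem nonempty_Lpull_iso_of_flatOver [Flat f] (hc : IsPullback g' f' f g) [DCoh.HasLpull g']
    (E : CochainComplex X.Modules ℤ) (b : ℤ) (hEb : ∀ n : ℤ, b < n → IsZero (E.X n))
    (hEfl : ∀ n : ℤ, FlatMod.IsFlatOver f (E.X n)) :
    Nonempty ((DCoh.Lpull g').obj (DCoh.toD X E) ≅
      DCoh.toD X' (((Scheme.Modules.pullback g').mapHomologicalComplex (ComplexShape.up ℤ)).obj E)) := by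
  haveI : E.IsStrictlyLE b := (E.isStrictlyLE_iff b).2 (fun n hn => hEb n hn)
  obtain ⟨P, φ, hP, hfl, -, hφ⟩ := Groth.Agent.Lib.helper13.KRes.exists_flat_resolution
    (Groth.Agent.Lib.Helper25.LpullPC.flatClass_flatMod X) E b
  have hPb : ∀ n : ℤ, b < n → IsZero (P.X n) := fun n hn => P.isZero_of_isStrictlyLE b n hn
  have hP₀ : Groth.Agent.Lib.Helper25.LpullAdapted.P₀ X P :=
    ⟨Groth.Agent.Lib.helper13.KFlat.dcoh_isKFlat_of_bounded_above P b hPb hfl, hfl⟩
  obtain ⟨e₁⟩ := Groth.Agent.Lib.Helper25.StalkPullFlat.nonempty_Lpull_iso g' P hP₀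
  haveI := hφ
  haveI := quasiIso_pullback_map_of_flatOver hc φ b hPb hfl hEb hEfl hφ
  exact ⟨(DCoh.Lpull g').mapIso (asIso (DerivedCategory.Q.map φ)).symm ≪≫ e₁ ≪≫
    asIso (DerivedCategory.Q.map
      (((Scheme.Modules.pullback g').mapHomologicalComplex (ComplexShape.up ℤ)).map φ))⟩

end Groth.Agent.Lib.Helper25.RelFlatPull
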