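import Mathlib
import Groth.Prelude.Def_DCoh3
import Groth.Agent.Lib.Helper25.RelFlatPull
import Groth.Agent.Lib.Helper25.LpullPC

/-!
# Relative flat amplitude and base change (helper25; = S5631, S1100)

Cartesian square `X' = X ×_S S'`, `f : X ⟶ S` flat.

* `hasRelFlatAmplitudeIn_Lpull`: `E` of flat amplitude `[a, b]` relative to `f` ⟹ `L(g')^* E` of flat amplitude `[a, b]`
  relative to `f'`.
-/

set_option autoImplicit false
universe u
open CategoryTheory CategoryTheory.Limits AlgebraicGeometry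

attribute [local instance] HasDerivedCategory.standard

namespace Groth.Agent.Lib.Helper25.RelFlatBC

open Groth.Agent.Lib.Helper25.RelFlatPull Groth.Agent.Lib.Helper25.LpullPerfect
  Groth.Agent.Lib.Helper25.LpullAdapted Groth.Agent.Lib.Helper25.StalkPullFlat
  Groth.Agent.Lib.helper25.DCohRestrict

variable {X S X' S' : Scheme.{u}} {f : X ⟶ S} {f' : X' ⟶ S'} {g' : X' ⟶ X} {g : S' ⟶ S}

/-- relative flat amplitude is preserved by base change -/
theorem hasRelFlatAmplitudeIn_Lpull [Flat f] (hc : IsPullback g' f' f g) [DCoh.HasLpull g']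
    (E : DCoh.D X) (a b : ℤ) (hE : DCoh.HasRelFlatAmplitudeIn f a b E) :
    DCoh.HasRelFlatAmplitudeIn f' a b ((DCoh.Lpull g').obj E) := by
  obtain ⟨G, hV, hfl, ⟨e⟩⟩ := hE
  obtain ⟨e'⟩ := nonempty_Lpull_iso_of_flatOver hc G b (fun n hn => hV n (Or.inr hn)) hfl
  refine ⟨((Scheme.Modules.pullback g').mapHomologicalComplex (ComplexShape.up ℤ)).obj G, ?_, ?_,
    ⟨e'.symm ≪≫ (DCoh.Lpull g').mapIso e⟩⟩
  · intro i hi
    exact (Scheme.Modules.pullback g').map_isZero (hV i hi)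
  · intro i
    exact isFlatOver_pullback hc _ (hfl i)

lemma hasRelFlatAmplitudeIn_of_iso (f : X ⟶ S) {K K' : DCoh.D X} (e : K ≅ K') {a b : ℤ}
    (h : DCoh.HasRelFlatAmplitudeIn f a b K) : DCoh.HasRelFlatAmplitudeIn f a b K' := by
  obtain ⟨G, hV, hfl, ⟨e'⟩⟩ := h
  exact ⟨G, hV, hfl, ⟨e' ≪≫ e⟩⟩

/-- "locally of finite tor dimension relative to the base" is preserved by base change -/
theorem locHasFiniteRelTorDim_Lpull [Flat f] (hc : IsPullback g' f' f g) [DCoh.HasLpull g']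
    (K : DCoh.D X) (hK : DCoh.LocHasFiniteRelTorDim f K) :
    DCoh.LocHasFiniteRelTorDim f' ((DCoh.Lpull g').obj K) := by
  intro x'
  obtain ⟨V, a, b, hxV, hV⟩ := hK (g'.base x')
  obtain ⟨P, hP, ⟨eP⟩⟩ := exists_P₀_rep K
  refine ⟨g' ⁻¹ᵁ V, a, b, hxV, fun F' ⟨eF'⟩ => ?_⟩
  obtain ⟨e1⟩ := nonempty_Lpull_iso g' P hP
  haveI : DCoh.HasLpull (g' ∣_ V) := hasLpull _
  obtain ⟨e2⟩ := nonempty_Lpull_iso (g' ∣_ V) _ (P₀_restrict V P hP)
  have hc' : IsPullback (g' ∣_ V) ((g' ⁻¹ᵁ V).ι ≫ f') (V.ι ≫ f) g :=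
    (isPullback_morphismRestrict g' V).paste_vert hc
  haveI : Flat (V.ι ≫ f) := inferInstance
  have h3 := hasRelFlatAmplitudeIn_Lpull hc' (DerivedCategory.Q.obj ((DCoh.restrictCx V).obj P)) a b
    (hV P ⟨eP⟩)
  obtain ⟨e4⟩ := nonempty_Q_res_iso (g' ⁻¹ᵁ V).ι ⟨eF' ≪≫ (DCoh.Lpull g').mapIso eP.symm ≪≫ e1⟩
  exact hasRelFlatAmplitudeIn_of_iso _
    (e4 ≪≫ DerivedCategory.Q.mapIso (pullRestrictCxIso g' V P) ≪≫ e2.symm).symm h3

/-- **S1100** -/
theorem main {X S S' : Scheme.{u}} (f : X ⟶ S) [Flat f] (g : S' ⟶ S)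
    [DCoh.HasLpull (pullback.fst f g)] (K : DCoh.D X)
    (hK : ((∀ m : ℤ, DCoh.IsPseudoCoherentD m K) ∧ DCoh.LocHasFiniteRelTorDim f K)) :
    ((∀ m : ℤ, DCoh.IsPseudoCoherentD m ((DCoh.Lpull (pullback.fst f g)).obj K)) ∧
      DCoh.LocHasFiniteRelTorDim (pullback.snd f g) ((DCoh.Lpull (pullback.fst f g)).obj K)) :=
  ⟨fun m => Groth.Agent.Lib.Helper25.LpullPC.isPseudoCoherentD_Lpull _ m K (hK.1 m),
    locHasFiniteRelTorDim_Lpull (IsPullback.of_hasPullback f g) K hK.2⟩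

end Groth.Agent.Lib.Helper25.RelFlatBC
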