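import Mathlib
import Groth.Prelude.Def_DCoh3
import Groth.Agent.Lib.Helper25.RelFlatPull
import Groth.Agent.Lib.Helper25.RHomDetect

/-!
# Modules flat over the base: coproducts, tensor products with free modules, restriction to opens (helper25)

No quasi-coherence anywhere.

* `flat_sigma_moduleCat`: a coproduct of flat modules in `ModuleCat R` is flat.
* `isFlatOverAt_iff_stalkOver`: `FlatMod.IsFlatOverAt f M x` in terms of the functor `DerSch.stalkOver f x`.
* `isFlatOver_sigma`: a coproduct of `S`-flat modules is `S`-flat.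
* `isFlatOver_tensorBi_free`: `A ⊗ B` is `S`-flat for `A` free of finite rank and `B` flat over `S`.
* `isFlatOver_tensorCx_X`: the terms of `P ⊗ E` are `S`-flat if the terms of `P` are free of finite rank and those of `E`
  are `S`-flat.
* `isFlatOver_restrict_of_isOpenImmersion`: the restriction of an `S`-flat module along an open immersion is `S`-flat.
-/

set_option autoImplicit false
set_option linter.style.haveILetI false
universe u
open CategoryTheory CategoryTheory.Limits AlgebraicGeometry Opposite TopologicalSpace TensorProduct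

attribute [local instance] HasDerivedCategory.standard

namespace Groth.Agent.Lib.Helper25.RelFlatTensor

open Groth.Agent.Lib.Helper25.StalkSky Groth.Agent.Lib.Helper25.StalkExact
  Groth.Agent.Lib.Helper25.RelFlatPull

section algebra

/-- a coproduct of flat modules is flat -/
theorem flat_sigma_moduleCat {R : Type u} [CommRing R] {A : Type} (N : A → ModuleCat.{u} R)
    [HasCoproduct N] (h : ∀ a, Module.Flat R (N a)) : Module.Flat R (∐ N : ModuleCat.{u} R) := by
  classical
  let e := (ModuleCat.coprodIsoDirectSum N).toLinearEquiv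
  haveI : Module.Flat R (DirectSum A fun a => N a) := inferInstance
  exact Module.Flat.of_linearEquiv e

/-- extension of scalars along a bijective ring homomorphism does not change flatness over a base ring -/
theorem flat_extendScalars_of_bijective {R A A' : Type u} [CommRing R] [CommRing A] [CommRing A']
    (φ : R →+* A) (ψ : A →+* A') (hψ : Function.Bijective ψ) (N : ModuleCat.{u} A)
    (h : @Module.Flat R N _ _ (Module.compHom N φ)) :
    @Module.Flat R ((ModuleCat.extendScalars.{u, u, u} ψ).obj N) _ _
      (Module.compHom _ (ψ.comp φ)) := by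
  letI mN : Module R N := Module.compHom N φ
  letI mT : Module R ((ModuleCat.extendScalars.{u, u, u} ψ).obj N) := Module.compHom _ (ψ.comp φ)
  let A₁ := (ModuleCat.restrictScalars ψ).obj (ModuleCat.of A' A')
  let one₁ : A₁ := (1 : A')
  let toA' : A₁ → A' := fun s => s
  -- `n ↦ 1 ⊗ n`
  let η₀ : N →ₗ[A] (A₁ ⊗[A] N) := (TensorProduct.mk A A₁ N) one₁
  -- `A' ≃ A` as `A`-modules
  let E : A ≃+* A' := RingEquiv.ofBijective ψ hψ
  let ℓ : A₁ →ₗ[A] A :=
    { toFun := fun s => E.symm (toA' s)
      map_add' := fun s t => map_add E.symm (toA' s) (toA' t)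
      map_smul' := fun a s => by
        change E.symm (ψ a * toA' s) = a * E.symm (toA' s)
        rw [map_mul]
        congr 1
        exact E.symm_apply_apply a }
  let ρ : (A₁ ⊗[A] N) →ₗ[A] N := (TensorProduct.lid A N).toLinearMap.comp (ℓ.rTensor N)
  have hρη : ∀ n : N, ρ (η₀ n) = n := by
    intro n
    change (TensorProduct.lid A N) ((ℓ.rTensor N) (one₁ ⊗ₜ[A] n)) = n
    rw [LinearMap.rTensor_tmul]
    change (TensorProduct.lid A N) (E.symm (1 : A') ⊗ₜ[A] n) = n
    rw [map_one, TensorProduct.lid_tmul, one_smul]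
  have hinj : Function.Injective η₀ := Function.LeftInverse.injective hρη
  have hsurj : Function.Surjective η₀ := by
    intro t
    induction t using TensorProduct.induction_on with
    | zero => exact ⟨0, map_zero _⟩
    | tmul s n =>
      refine ⟨E.symm (toA' s) • n, ?_⟩
      change one₁ ⊗ₜ[A] (E.symm (toA' s) • n) = s ⊗ₜ[A] n
      rw [← TensorProduct.smul_tmul]
      congr 1
      change ψ (E.symm (toA' s)) * 1 = toA' s
      rw [mul_one]
      exact E.apply_symm_apply (toA' s)
    | add t₁ t₂ h₁ h₂ =>
      obtain ⟨n₁, rfl⟩ := h₁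
      obtain ⟨n₂, rfl⟩ := h₂
      exact ⟨n₁ + n₂, map_add _ _ _⟩
  let η : N →ₗ[R] ((ModuleCat.extendScalars.{u, u, u} ψ).obj N) :=
    { toFun := fun n => η₀ n
      map_add' := fun n n' => map_add η₀ n n'
      map_smul' := fun r n => by
        have h1 : η₀ (φ r • n) = ((φ r) • one₁) ⊗ₜ[A] n := by
          rw [map_smul]
          exact TensorProduct.smul_tmul' _ _ _
        have h2 := ModuleCat.ExtendScalars.smul_tmul ψ (M := N) (ψ (φ r)) (1 : A') n
        exact h1.trans h2.symm }
  exact Module.Flat.of_linearEquiv (LinearEquiv.ofBijective η ⟨hinj, hsurj⟩).symm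

end algebra

variable {X S : Scheme.{u}}

/-- `IsFlatOverAt` through the functor `DerSch.stalkOver` -/
theorem isFlatOverAt_iff_stalkOver (f : X ⟶ S) (M : X.Modules) (x : X) :
    FlatMod.IsFlatOverAt f M x ↔
      Module.Flat (S.presheaf.stalk (f.base x)) ((DerSch.stalkOver f x).obj M) :=
  Iff.rfl

instance (f : X ⟶ S) (x : X) : (DerSch.stalkOver f x).IsLeftAdjoint := by
  unfold DerSch.stalkOver
  infer_instance

/-- **a coproduct of `S`-flat modules is `S`-flat** -/
theorem isFlatOver_sigma (f : X ⟶ S) {A : Type} (M : A → X.Modules) [HasCoproduct M]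
    (hM : ∀ a, FlatMod.IsFlatOver f (M a)) : FlatMod.IsFlatOver f (∐ M) := by
  intro x
  rw [isFlatOverAt_iff_stalkOver]
  let G := DerSch.stalkOver f x
  haveI : HasCoproduct (fun a => G.obj (M a)) := inferInstance
  let e : G.obj (∐ M) ≅ ∐ fun a => G.obj (M a) := PreservesCoproduct.iso G M
  have h1 : Module.Flat (S.presheaf.stalk (f.base x)) (∐ fun a => G.obj (M a) : ModuleCat.{u} _) :=
    flat_sigma_moduleCat _ (fun a => (isFlatOverAt_iff_stalkOver f (M a) x).1 (hM a x))
  exact Module.Flat.of_linearEquiv e.toLinearEquiv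

/-- `- ⊗ B` is additive -/
instance additive_flip_tensorBi (B : X.Modules) : ((DCoh.tensorBi (X := X)).flip.obj B).Additive where
  map_add {M N φ ψ} := by
    change ((DCoh.tensorBi (X := X)).map (φ + ψ)).app B = _
    rw [Functor.map_add]
    rfl

/-- **`A ⊗ B` is `S`-flat for `A` free of finite rank and `B` flat over `S`** -/
theorem isFlatOver_tensorBi_free (f : X ⟶ S) (A B : X.Modules) (r : ℕ)
    (e : A ≅ FlatMod.freeMod X r) (hB : FlatMod.IsFlatOver f B) :
    FlatMod.IsFlatOver f (((DCoh.tensorBi (X := X)).obj A).obj B) := by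
  let G := (DCoh.tensorBi (X := X)).flip.obj B
  have h1 : FlatMod.IsFlatOver f (∐ fun _ : Fin r => G.obj (Coh.structureModule X)) := by
    refine isFlatOver_sigma f _ (fun _ => ?_)
    exact isFlatOver_of_iso f ((Groth.Agent.Lib.Helper21.TensorMon.unitIso X.sheaf).app B).symm hB
  let e1 : G.obj (FlatMod.freeMod X r) ≅ ∐ fun _ : Fin r => G.obj (Coh.structureModule X) :=
    PreservesCoproduct.iso G _
  exact isFlatOver_of_iso f (e1.symm ≪≫ G.mapIso e.symm) h1

/-- **the terms of `P ⊗ E` are `S`-flat** if the terms of `P` are free of finite rank and those of `E` are `S`-flat -/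
theorem isFlatOver_tensorCx_X (f : X ⟶ S) (P E : CochainComplex X.Modules ℤ)
    (hP : ∀ i, ∃ r : ℕ, Nonempty (P.X i ≅ FlatMod.freeMod X r))
    (hE : ∀ i, FlatMod.IsFlatOver f (E.X i)) (k : ℤ) :
    FlatMod.IsFlatOver f (((DCoh.tensorCx.obj P).obj E).X k) := by
  change FlatMod.IsFlatOver f (∐ fun (i : (ComplexShape.π (ComplexShape.up ℤ) (ComplexShape.up ℤ)
      (ComplexShape.up ℤ)) ⁻¹' {k}) =>
    ((DCoh.tensorBi (X := X)).obj (P.X i.1.1)).obj (E.X i.1.2))
  refine isFlatOver_sigma f _ (fun i => ?_)
  obtain ⟨r, ⟨e⟩⟩ := hP i.1.1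
  exact isFlatOver_tensorBi_free f _ _ r e (hE _)

/-- **the restriction of an `S`-flat module along an open immersion is `S`-flat** (no quasi-coherence) -/
theorem isFlatOver_restrict_of_isOpenImmersion {Z Y : Scheme.{u}} (j : Z ⟶ Y) [IsOpenImmersion j]
    (g : Y ⟶ S) (N : Y.Modules) (hN : FlatMod.IsFlatOver g N) :
    FlatMod.IsFlatOver (j ≫ g) ((Scheme.Modules.restrictFunctor j).obj N) := by
  intro y
  rw [Groth.Agent.Lib.helper17.FlatOver4.isFlatOverAt_comp_iff]
  have hb : Function.Bijective (j.stalkMap y).hom :=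
    ConcreteCategory.bijective_of_isIso (j.stalkMap y)
  have h := flat_extendScalars_of_bijective (g.stalkMap (j.base y)).hom (j.stalkMap y).hom hb
    ((DerSch.stalkFunctor Y (j.base y)).obj N) (hN (j.base y))
  let e₀ : (DerSch.stalkFunctor Z y).obj ((Scheme.Modules.restrictFunctor j).obj N) ≅
      (ModuleCat.extendScalars.{u, u, u} (j.stalkMap y).hom).obj
        ((DerSch.stalkFunctor Y (j.base y)).obj N) :=
    (DerSch.stalkFunctor Z y).mapIso ((Scheme.Modules.restrictFunctorIsoPullback j).app N) ≪≫
      (stalkPullbackIso j y).app N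
  let e := e₀.toLinearEquiv
  letI m1 : Module (S.presheaf.stalk (g.base (j.base y)))
      ((ModuleCat.extendScalars.{u, u, u} (j.stalkMap y).hom).obj
        ((DerSch.stalkFunctor Y (j.base y)).obj N)) :=
    Module.compHom _ ((j.stalkMap y).hom.comp (g.stalkMap (j.base y)).hom)
  letI m2 : Module (S.presheaf.stalk (g.base (j.base y)))
      ((DerSch.stalkFunctor Z y).obj ((Scheme.Modules.restrictFunctor j).obj N)) :=
    Module.compHom _ ((j.stalkMap y).hom.comp (g.stalkMap (j.base y)).hom)
  let e' : ((DerSch.stalkFunctor Z y).obj ((Scheme.Modules.restrictFunctor j).obj N))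
      ≃ₗ[S.presheaf.stalk (g.base (j.base y))]
      ((ModuleCat.extendScalars.{u, u, u} (j.stalkMap y).hom).obj
        ((DerSch.stalkFunctor Y (j.base y)).obj N)) :=
    { e with map_smul' := fun a m =>
        e.map_smul (((j.stalkMap y).hom.comp (g.stalkMap (j.base y)).hom) a) m }
  have h5 : @Module.Flat (S.presheaf.stalk (g.base (j.base y)))
      ((DerSch.stalkFunctor Z y).obj ((Scheme.Modules.restrictFunctor j).obj N)) _ _ m2 :=
    Module.Flat.of_linearEquiv e'
  exact h5

end Groth.Agent.Lib.Helper25.RelFlatTensor
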