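import Mathlib
import Groth.Prelude.Def_DCoh3
import Groth.Agent.Lib.Helper25.RelFlatTensor
import Groth.Agent.Lib.Helper25.RelFlatBC
import Groth.Agent.Lib.Helper13.TorLow4
import Groth.Agent.Lib.Helper13.KRes5
import Groth.Agent.Lib.Helper17.FlatOver7
import Groth.Agent.S4681

/-!
# Flat amplitude relative to a base: the opcycles criterion (helper25)

`g : Y ⟶ S`.

* `isFlatOver_of_isFlat` (`g` flat): flat `O_Y`-modules are flat over `S`; `isFlatOver_of_retract`.
* `isFlatOver_opcycles_of_rep`: if a bounded above complex `P` of `S`-flat modules represents an object of flat amplitude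
  `[a, b]` relative to `g`, then `P.opcycles a` is `S`-flat (stalkwise reduction to helper13's `flat_opcycles_of_rep`).
* `hasRelFlatAmplitudeIn_of_flat_opcycles`: the converse (canonical truncation).
-/

set_option autoImplicit false
set_option linter.style.haveILetI false
universe u
open CategoryTheory CategoryTheory.Limits AlgebraicGeometry

attribute [local instance] HasDerivedCategory.standard

namespace Groth.Agent.Lib.Helper25.RelFlatAmp

open DerivedCategory Groth.Agent.Lib.Helper25.RelFlatTensor Groth.Agent.Lib.Helper25.RelFlatPull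
  Groth.Agent.Lib.Helper25.StalkExact

variable {Y S : Scheme.{u}}

/-- flat `O_Y`-modules are flat over the base of a flat morphism -/
theorem isFlatOver_of_isFlat (g : Y ⟶ S) [Flat g] {M : Y.Modules} (hM : FlatMod.IsFlat M) :
    FlatMod.IsFlatOver g M := by
  intro y
  have h2 := (Groth.Agent.S4681.local_step (𝟙 Y) g M y
    ((Groth.Agent.Lib.helper17.FlatOver7.isFlatOverAt_id_iff _ y).2 (hM y))).1
    (AlgebraicGeometry.Flat.stalkMap g _)
  have h3 : 𝟙 Y ≫ g = g := Category.id_comp _
  rw [h3] at h2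
  exact h2

/-- a retract of an `S`-flat module is `S`-flat -/
theorem isFlatOver_of_retract (g : Y ⟶ S) {A B : Y.Modules} (i : A ⟶ B) (r : B ⟶ A)
    (h : i ≫ r = 𝟙 A) (hB : FlatMod.IsFlatOver g B) : FlatMod.IsFlatOver g A := by
  intro y
  rw [isFlatOverAt_iff_stalkOver]
  have hB' := (isFlatOverAt_iff_stalkOver g B y).1 (hB y)
  let G := DerSch.stalkOver g y
  have h' : G.map i ≫ G.map r = 𝟙 _ := by rw [← G.map_comp, h, G.map_id]
  exact Module.Flat.of_retract (G.map i).hom (G.map r).hom (by
    ext m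
    exact congrArg (fun φ => φ.hom m) h')

instance (g : Y ⟶ S) (y : Y) : PreservesFiniteLimits (DerSch.stalkOver g y) := by
  unfold DerSch.stalkOver
  infer_instance

instance (g : Y ⟶ S) (y : Y) : PreservesFiniteColimits (DerSch.stalkOver g y) := by
  unfold DerSch.stalkOver
  infer_instance

instance (g : Y ⟶ S) (y : Y) : (DerSch.stalkOver g y).Additive := by
  unfold DerSch.stalkOver
  infer_instance

/-- **opcycles criterion**: if a bounded above complex `P` of `S`-flat modules represents an object of flat amplitude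
`[a, b]` relative to `g`, then `P.opcycles a` is `S`-flat -/
theorem isFlatOver_opcycles_of_rep (g : Y ⟶ S) (P : CochainComplex Y.Modules ℤ) (c : ℤ)
    (hc : ∀ n : ℤ, c < n → IsZero (P.X n)) (hfl : ∀ n : ℤ, FlatMod.IsFlatOver g (P.X n))
    (a b : ℤ) (h : DCoh.HasRelFlatAmplitudeIn g a b (Q.obj P)) :
    FlatMod.IsFlatOver g (P.opcycles a) := by
  intro y
  rw [isFlatOverAt_iff_stalkOver]
  let Fy := DerSch.stalkOver g y
  obtain ⟨G, hGv, hGf, ⟨e⟩⟩ := h
  let e' : Q.obj ((Fy.mapHomologicalComplex (ComplexShape.up ℤ)).obj G) ≅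
      Q.obj ((Fy.mapHomologicalComplex (ComplexShape.up ℤ)).obj P) :=
    ((Fy.mapDerivedCategoryFactors).app G).symm ≪≫ Fy.mapDerivedCategory.mapIso e ≪≫
      (Fy.mapDerivedCategoryFactors).app P
  have hamp : DRing.HasTorAmplitudeIn (S.presheaf.stalk (g.base y)) a b
      (Q.obj ((Fy.mapHomologicalComplex (ComplexShape.up ℤ)).obj P)) :=
    ⟨(Fy.mapHomologicalComplex (ComplexShape.up ℤ)).obj G,
      fun i hi => Fy.map_isZero (hGv i hi),
      fun i => (isFlatOverAt_iff_stalkOver g (G.X i) y).1 (hGf i y), ⟨e'⟩⟩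
  have h1 := Groth.Agent.Lib.helper13.TorLow.flat_opcycles_of_rep hamp
    ((Fy.mapHomologicalComplex (ComplexShape.up ℤ)).obj P) c
    (fun i hi => Fy.map_isZero (hc i hi))
    (fun i => (isFlatOverAt_iff_stalkOver g (P.X i) y).1 (hfl i y)) (Iso.refl _)
  let e₂ : ((Fy.mapHomologicalComplex (ComplexShape.up ℤ)).obj P).opcycles a ≅
      Fy.obj (P.opcycles a) := (P.sc a).mapOpcyclesIso Fy
  exact Module.Flat.of_linearEquiv e₂.symm.toLinearEquiv

/-- a bounded above complex of `S`-flat modules, exact below `a`, with `S`-flat `a`-th opcycles, has flat amplitude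
`[a, b]` relative to `g` -/
theorem hasRelFlatAmplitudeIn_of_flat_opcycles (g : Y ⟶ S) (P : CochainComplex Y.Modules ℤ)
    (a b : ℤ) (hc : ∀ n : ℤ, b < n → IsZero (P.X n)) (hfl : ∀ n : ℤ, FlatMod.IsFlatOver g (P.X n))
    (hex : ∀ i : ℤ, i < a → P.ExactAt i) (hop : FlatMod.IsFlatOver g (P.opcycles a)) :
    DCoh.HasRelFlatAmplitudeIn g a b (Q.obj P) := by
  haveI : P.IsGE a := (CochainComplex.isGE_iff P a).2 hex
  haveI : IsIso (Q.map (P.πTruncGE a)) :=
    (DerivedCategory.isIso_Q_map_iff_quasiIso _ _).2 inferInstance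
  refine ⟨P.truncGE a, ?_, ?_, ⟨(asIso (Q.map (P.πTruncGE a))).symm⟩⟩
  · intro i hi
    rcases lt_trichotomy i a with hi' | rfl | hi'
    · exact CochainComplex.isZero_of_isStrictlyGE _ a i hi'
    · have h0 : IsZero (P.X i) := hc i (hi.elim (fun h => absurd h (lt_irrefl _)) id)
      haveI : Epi (P.pOpcycles i) := inferInstance
      exact (IsZero.of_epi (P.pOpcycles i) h0).of_iso (P.truncGEXIsoOpcycles i)
    · exact (hc i (hi.elim (fun h => absurd h (by omega)) id)).of_iso (P.truncGEXIso a i hi')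
  · intro i
    rcases lt_trichotomy i a with hi | rfl | hi
    · exact Groth.Agent.Lib.Helper25.FlatPushTensor.isFlatOver_of_isZero g
        (CochainComplex.isZero_of_isStrictlyGE _ a i hi)
    · exact isFlatOver_of_iso g (P.truncGEXIsoOpcycles i).symm hop
    · exact isFlatOver_of_iso g (P.truncGEXIso a i hi).symm (hfl i)

end Groth.Agent.Lib.Helper25.RelFlatAmp
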