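import Mathlib
import Groth.Agent.Lib.Helper25.RelFlatAmp
import Groth.Agent.Lib.Helper25.TriRetract
import Groth.Agent.Lib.Helper25.PerfectSummand

/-!
# Flat amplitude relative to a base: monotonicity, shifts, retracts, cones (helper25)

`g : Y ⟶ S` flat.

* `exists_flat_resolution'`: bounded above flat resolutions (helper13's `KRes.exists_flat_resolution` for schemes).
* `hasRelFlatAmplitudeIn_mono`, `hasRelFlatAmplitudeIn_shift`.
* `hasRelFlatAmplitudeIn_of_retract`: retracts.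
* `hasRelFlatAmplitudeIn_obj₃`: cones.
-/

set_option autoImplicit false
universe u
open CategoryTheory CategoryTheory.Limits AlgebraicGeometry Pretriangulated

attribute [local instance] HasDerivedCategory.standard

namespace Groth.Agent.Lib.Helper25.RelFlatAmp

open DerivedCategory Groth.Agent.Lib.Helper25.RelFlatTensor Groth.Agent.Lib.Helper25.RelFlatPull
  Groth.Agent.Lib.Helper25.RelFlatBC

variable {Y S : Scheme.{u}}

/-- bounded above flat resolutions -/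
theorem exists_flat_resolution' (K : CochainComplex Y.Modules ℤ) (b : ℤ) [hK : K.IsStrictlyLE b] :
    ∃ (P : CochainComplex Y.Modules ℤ) (α : P ⟶ K), (∀ q : ℤ, b < q → IsZero (P.X q)) ∧
      (∀ i : ℤ, FlatMod.IsFlat (P.X i)) ∧ QuasiIso α := by
  obtain ⟨P, α, hPle, hPflat, -, hα⟩ :=
    @Groth.Agent.Lib.helper13.KRes.exists_flat_resolution (ModSite.Mod Y.sheaf) _ _ _
      (Groth.Agent.Lib.helper13.KRes.flatClass_isFlat (O := Y.sheaf)) K b hK
  exact ⟨P, α, fun q hq => @CochainComplex.isZero_of_isStrictlyLE _ _ _ P b q hq hPle,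
    fun i => Groth.Agent.Lib.helper13.KRes.flatMod_of_isFlat _ (hPflat i), hα⟩

lemma hasRelFlatAmplitudeIn_mono (g : Y ⟶ S) {K : DCoh.D Y} {a b a' b' : ℤ}
    (h : DCoh.HasRelFlatAmplitudeIn g a b K) (ha : a' ≤ a) (hb : b ≤ b') :
    DCoh.HasRelFlatAmplitudeIn g a' b' K := by
  obtain ⟨G, hV, hfl, e⟩ := h
  exact ⟨G, fun i hi => hV i (by omega), hfl, e⟩

lemma hasRelFlatAmplitudeIn_shift (g : Y ⟶ S) {K : DCoh.D Y} {a b : ℤ}
    (h : DCoh.HasRelFlatAmplitudeIn g a b K) (n a' b' : ℤ) (ha : a' + n = a) (hb : b' + n = b) :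
    DCoh.HasRelFlatAmplitudeIn g a' b' (K⟦n⟧) := by
  obtain ⟨G, hV, hfl, ⟨e⟩⟩ := h
  refine ⟨G⟦n⟧, fun i hi => hV (i + n) (by omega), fun i => hfl (i + n),
    ⟨(Q.commShiftIso n).app G ≪≫ (shiftFunctor (DCoh.D Y) n).mapIso e⟩⟩

lemma isZero_HD_of_hasRelFlatAmplitudeIn (g : Y ⟶ S) {K : DCoh.D Y} {a b : ℤ}
    (h : DCoh.HasRelFlatAmplitudeIn g a b K) (i : ℤ) (hi : i < a ∨ b < i) :
    IsZero ((homologyFunctor Y.Modules i).obj K) := by
  obtain ⟨G, hV, -, ⟨e⟩⟩ := h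
  exact IsZero.of_iso ((HomologicalComplex.ExactAt.of_isZero (hV i hi)).isZero_homology.of_iso
    ((homologyFunctorFactors _ i).app G)) ((homologyFunctor _ i).mapIso e.symm)

/-- the common step: a bounded above flat resolution of an object of relative flat amplitude `[a, b]` -/
lemma exists_rep_of_hasRelFlatAmplitudeIn (g : Y ⟶ S) [Flat g] {K : DCoh.D Y} {a b : ℤ}
    (h : DCoh.HasRelFlatAmplitudeIn g a b K) :
    ∃ (P : CochainComplex Y.Modules ℤ), (∀ q : ℤ, b < q → IsZero (P.X q)) ∧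
      (∀ i : ℤ, FlatMod.IsFlat (P.X i)) ∧ Nonempty (Q.obj P ≅ K) := by
  haveI : K.IsLE b := by
    rw [DerivedCategory.isLE_iff]
    exact fun i hi => isZero_HD_of_hasRelFlatAmplitudeIn g h i (Or.inr hi)
  obtain ⟨K₀, hK₀, ⟨e⟩⟩ := DerivedCategory.exists_iso_Q_obj_of_isLE K b
  obtain ⟨P, α, h1, h2, h3⟩ := exists_flat_resolution' K₀ b
  haveI := h3
  exact ⟨P, h1, h2, ⟨asIso (Q.map α) ≪≫ e.symm⟩⟩

/-- **retracts** -/
theorem hasRelFlatAmplitudeIn_of_retract (g : Y ⟶ S) [Flat g] {K K' : DCoh.D Y} (i : K ⟶ K')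
    (p : K' ⟶ K) (hip : i ≫ p = 𝟙 K) {a b : ℤ} (h : DCoh.HasRelFlatAmplitudeIn g a b K') :
    DCoh.HasRelFlatAmplitudeIn g a b K := by
  obtain ⟨N, ⟨eN⟩⟩ := Groth.Agent.Lib.Helper25.TriRetract.exists_biprod_of_retract i p hip
  have hKN : DCoh.HasRelFlatAmplitudeIn g a b (K ⊞ N) := hasRelFlatAmplitudeIn_of_iso g eN h
  have hzK : ∀ j : ℤ, (j < a ∨ b < j) → IsZero ((homologyFunctor Y.Modules j).obj K) := fun j hj =>
    Groth.Agent.Lib.helper25.PerfectSummand.isZero_homology_of_retract i p hip j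
      (isZero_HD_of_hasRelFlatAmplitudeIn g h j hj)
  have hzN : ∀ j : ℤ, b < j → IsZero ((homologyFunctor Y.Modules j).obj N) := fun j hj =>
    Groth.Agent.Lib.helper25.PerfectSummand.isZero_homology_of_retract
      (biprod.inr : N ⟶ K ⊞ N) biprod.snd biprod.inr_snd j
      (isZero_HD_of_hasRelFlatAmplitudeIn g hKN j (Or.inr hj))
  haveI : K.IsLE b := by
    rw [DerivedCategory.isLE_iff]
    exact fun j hj => hzK j (Or.inr hj)
  haveI : N.IsLE b := by
    rw [DerivedCategory.isLE_iff]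
    exact fun j hj => hzN j hj
  obtain ⟨K₀, hK₀, ⟨eK⟩⟩ := DerivedCategory.exists_iso_Q_obj_of_isLE K b
  obtain ⟨N₀, hN₀, ⟨eN₀⟩⟩ := DerivedCategory.exists_iso_Q_obj_of_isLE N b
  obtain ⟨PK, αK, hPK1, hPK2, hPK3⟩ := exists_flat_resolution' K₀ b
  obtain ⟨PN, αN, hPN1, hPN2, hPN3⟩ := exists_flat_resolution' N₀ b
  haveI := hPK3
  haveI := hPN3
  let eK' : Q.obj PK ≅ K := asIso (Q.map αK) ≪≫ eK.symm
  let eN' : Q.obj PN ≅ N := asIso (Q.map αN) ≪≫ eN₀.symm
  haveI : PreservesBinaryBiproducts (Q : CochainComplex Y.Modules ℤ ⥤ DCoh.D Y) :=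
    preservesBinaryBiproducts_of_preservesBiproducts _
  let eS : Q.obj (PK ⊞ PN) ≅ K ⊞ N := Q.mapBiprod PK PN ≪≫ biprod.mapIso eK' eN'
  have hS1 : ∀ q : ℤ, b < q → IsZero ((PK ⊞ PN).X q) := fun q hq => by
    refine IsZero.of_iso ?_ (HomologicalComplex.biprodXIso PK PN q)
    rw [IsZero.iff_id_eq_zero]
    apply biprod.hom_ext
    · exact (hPK1 q hq).eq_of_tgt _ _
    · exact (hPN1 q hq).eq_of_tgt _ _
  have hS2 : ∀ n : ℤ, FlatMod.IsFlatOver g ((PK ⊞ PN).X n) := fun n =>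
    isFlatOver_of_iso g (HomologicalComplex.biprodXIso PK PN n).symm
      (isFlatOver_biprod g (isFlatOver_of_isFlat g (hPK2 n)) (isFlatOver_of_isFlat g (hPN2 n)))
  have hop : FlatMod.IsFlatOver g ((PK ⊞ PN).opcycles a) :=
    isFlatOver_opcycles_of_rep g (PK ⊞ PN) b hS1 hS2 a b (hasRelFlatAmplitudeIn_of_iso g eS.symm hKN)
  have hopK : FlatMod.IsFlatOver g (PK.opcycles a) :=
    isFlatOver_of_retract g (HomologicalComplex.opcyclesMap (biprod.inl : PK ⟶ PK ⊞ PN) a)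
      (HomologicalComplex.opcyclesMap (biprod.fst : PK ⊞ PN ⟶ PK) a)
      (by rw [← HomologicalComplex.opcyclesMap_comp, biprod.inl_fst,
        HomologicalComplex.opcyclesMap_id]) hop
  refine hasRelFlatAmplitudeIn_of_iso g eK' (hasRelFlatAmplitudeIn_of_flat_opcycles g PK a b hPK1
    (fun n => isFlatOver_of_isFlat g (hPK2 n)) (fun j hj => ?_) hopK)
  rw [HomologicalComplex.exactAt_iff_isZero_homology]
  exact (hzK j (Or.inl hj)).of_iso (((homologyFunctorFactors _ j).app PK).symm ≪≫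
    (homologyFunctor _ j).mapIso eK')

end Groth.Agent.Lib.Helper25.RelFlatAmp
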