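import Mathlib
import Groth.Agent.Lib.Helper25.RelFlatAmp2

/-!
# Flat amplitude relative to a base: cones (helper25)

* `hasRelFlatAmplitudeIn_obj₃`: for a distinguished triangle whose first two objects have flat amplitude `[a, b]` relative
  to a flat morphism `g`, the third has flat amplitude `[a - 1, b]`.
-/

set_option autoImplicit false
universe u
open CategoryTheory CategoryTheory.Limits AlgebraicGeometry Pretriangulated

attribute [local instance] HasDerivedCategory.standard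

namespace Groth.Agent.Lib.Helper25.RelFlatAmp

open DerivedCategory Groth.Agent.Lib.Helper25.RelFlatTensor Groth.Agent.Lib.Helper25.RelFlatPull
  Groth.Agent.Lib.Helper25.RelFlatBC

variable {Y S : Scheme.{u}}

/-- **cones** -/
theorem hasRelFlatAmplitudeIn_obj₃ (g : Y ⟶ S) [Flat g] (T : Triangle (DCoh.D Y))
    (hT : T ∈ distTriang (DCoh.D Y)) {a b : ℤ} (h₁ : DCoh.HasRelFlatAmplitudeIn g a b T.obj₁)
    (h₂ : DCoh.HasRelFlatAmplitudeIn g a b T.obj₂) :
    DCoh.HasRelFlatAmplitudeIn g (a - 1) b T.obj₃ := by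
  obtain ⟨GA, hAv, hAf, ⟨eA⟩⟩ := h₁
  obtain ⟨GB, hBv, hBf, ⟨eB⟩⟩ := h₂
  let φ' : Q.obj GA ⟶ Q.obj GB := eA.hom ≫ T.mor₁ ≫ eB.inv
  obtain ⟨Z, s, hs, t, hφ⟩ := DerivedCategory.right_fac φ'
  haveI := hs
  haveI : QuasiIso s := (DerivedCategory.isIso_Q_map_iff_quasiIso _ s).1 hs
  -- `Z` is cohomologically `≤ b`
  haveI hGAle : GA.IsStrictlyLE b := by
    rw [CochainComplex.isStrictlyLE_iff]
    exact fun i hi => hAv i (Or.inr hi)
  haveI : Z.IsLE b := by
    rw [← DerivedCategory.isLE_Q_obj_iff]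
    haveI : (Q.obj GA).IsLE b := (DerivedCategory.isLE_Q_obj_iff GA b).2 inferInstance
    exact TStructure.t.isLE_of_iso (asIso (Q.map s)).symm b
  obtain ⟨P, α, hP1, hP2, hα⟩ := exists_flat_resolution' (Z.truncLE b) b
  haveI := hα
  let u : P ⟶ GA := α ≫ Z.ιTruncLE b ≫ s
  let v : P ⟶ GB := α ≫ Z.ιTruncLE b ≫ t
  haveI : QuasiIso u := by
    haveI : QuasiIso (Z.ιTruncLE b ≫ s) := inferInstance
    exact inferInstanceAs (QuasiIso (α ≫ (Z.ιTruncLE b ≫ s)))
  have hPf : ∀ n : ℤ, FlatMod.IsFlatOver g (P.X n) := fun n => isFlatOver_of_isFlat g (hP2 n)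
  -- the `a`-th opcycles of `P` are flat over the base
  have hop : FlatMod.IsFlatOver g (P.opcycles a) :=
    isFlatOver_opcycles_of_rep g P b hP1 hPf a b ⟨GA, hAv, hAf, ⟨(asIso (Q.map u)).symm⟩⟩
  haveI hPge : P.IsGE a := by
    rw [CochainComplex.isGE_iff]
    intro i hi
    rw [HomologicalComplex.exactAt_iff_isZero_homology]
    exact IsZero.of_iso (HomologicalComplex.ExactAt.of_isZero (hAv i (Or.inl hi))).isZero_homology
      (asIso (HomologicalComplex.homologyMap u i))
  haveI hGBge : GB.IsStrictlyGE a := by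
    rw [CochainComplex.isStrictlyGE_iff]
    exact fun i hi => hBv i (Or.inl hi)
  obtain ⟨v', hv'⟩ : ∃ v' : P.truncGE a ⟶ GB, P.πTruncGE a ≫ v' = v := by
    refine ⟨CochainComplex.truncGEMap v a ≫ inv (GB.πTruncGE a), ?_⟩
    rw [← Category.assoc, CochainComplex.πTruncGE_naturality, Category.assoc, IsIso.hom_inv_id,
      Category.comp_id]
  -- the terms of `P.truncGE a`
  have hGA'v : ∀ i : ℤ, (i < a ∨ b < i) → IsZero ((P.truncGE a).X i) := by
    intro i hi
    rcases lt_trichotomy i a with hi' | rfl | hi'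
    · exact CochainComplex.isZero_of_isStrictlyGE _ a i hi'
    · have h0 : IsZero (P.X i) := hP1 i (hi.elim (fun h => absurd h (lt_irrefl _)) id)
      haveI : Epi (P.pOpcycles i) := inferInstance
      exact (IsZero.of_epi (P.pOpcycles i) h0).of_iso (P.truncGEXIsoOpcycles i)
    · exact (hP1 i (hi.elim (fun h => absurd h (by omega)) id)).of_iso (P.truncGEXIso a i hi')
  have hGA'f : ∀ i : ℤ, FlatMod.IsFlatOver g ((P.truncGE a).X i) := by
    intro i
    rcases lt_trichotomy i a with hi | rfl | hi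
    · exact Groth.Agent.Lib.Helper25.FlatPushTensor.isFlatOver_of_isZero g
        (CochainComplex.isZero_of_isStrictlyGE _ a i hi)
    · exact isFlatOver_of_iso g (P.truncGEXIsoOpcycles i).symm hop
    · exact isFlatOver_of_iso g (P.truncGEXIso a i hi).symm (hPf i)
  -- the triangle of the mapping cone
  have hT₀ := DerivedCategory.mappingCone_triangle_distinguished v'
  let e₁ : Q.obj (P.truncGE a) ≅ T.obj₁ :=
    (asIso (Q.map (P.πTruncGE a))).symm ≪≫ asIso (Q.map u) ≪≫ eA
  have hQu : Q.map u ≫ φ' = Q.map v := by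
    change Q.map (α ≫ Z.ιTruncLE b ≫ s) ≫ φ' = Q.map (α ≫ Z.ιTruncLE b ≫ t)
    rw [hφ, Functor.map_comp, Functor.map_comp, Functor.map_comp, Functor.map_comp]
    simp only [Category.assoc, IsIso.hom_inv_id_assoc]
  have comm : Q.map v' ≫ eB.hom = e₁.hom ≫ T.mor₁ := by
    have h1 : eA.hom ≫ T.mor₁ = φ' ≫ eB.hom := by
      change eA.hom ≫ T.mor₁ = (eA.hom ≫ T.mor₁ ≫ eB.inv) ≫ eB.hom
      simp only [Category.assoc, Iso.inv_hom_id, Category.comp_id]
    change Q.map v' ≫ eB.hom = (inv (Q.map (P.πTruncGE a)) ≫ Q.map u ≫ eA.hom) ≫ T.mor₁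
    rw [Category.assoc, Category.assoc, h1, ← Category.assoc (Q.map u), hQu, ← hv', Functor.map_comp,
      Category.assoc, IsIso.inv_hom_id_assoc]
  let e := isoTriangleOfIso₁₂ _ _ hT₀ hT e₁ eB comm
  let e₃ : Q.obj (CochainComplex.mappingCone v') ≅ T.obj₃ := Triangle.π₃.mapIso e
  refine ⟨CochainComplex.mappingCone v', ?_, ?_, ⟨e₃⟩⟩
  · intro i hi
    refine IsZero.of_iso ?_ (HomologicalComplex.homotopyCofiber.XIsoBiprod v' i (i + 1) rfl)
    rw [IsZero.iff_id_eq_zero]
    apply biprod.hom_ext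
    · exact (hGA'v (i + 1) (by omega)).eq_of_tgt _ _
    · exact (hBv i (by omega)).eq_of_tgt _ _
  · intro i
    exact isFlatOver_of_iso g (HomologicalComplex.homotopyCofiber.XIsoBiprod v' i (i + 1) rfl).symm
      (isFlatOver_biprod g (hGA'f (i + 1)) (hBf i))

end Groth.Agent.Lib.Helper25.RelFlatAmp
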