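import Mathlib
import Groth.Prelude.Def_DCoh3
import Groth.Agent.Lib.Helper25.RelFlatTensor
import Groth.Agent.Lib.Helper25.RelFlatBC
import Groth.Agent.Lib.Helper25.HomVanNice
import Groth.Agent.Lib.Helper25.LTensorTri
import Groth.Agent.Lib.Helper25.DualCx6
import Groth.Agent.Lib.Helper25.ExtendPCNoeth
import Groth.Agent.Lib.Helper16.FLF3

/-!
# `K ⊗^L M` is `S`-perfect for `K` perfect and `M` `S`-perfect (helper25; = S7249)

* `hasRelFlatAmplitudeIn_restrictD`: relative flat amplitude restricts along open immersions.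
* `hasRelFlatAmplitudeIn_LTensorCx_free`: `P ⊗^L E` for `P` a bounded complex of free modules of finite rank and `E` a
  bounded complex of `S`-flat modules.
* `locHasFiniteRelTorDim_LTensorCx`: the relative tor dimension part of S7249.
-/

set_option autoImplicit false
universe u
open CategoryTheory CategoryTheory.Limits AlgebraicGeometry

attribute [local instance] HasDerivedCategory.standard

namespace Groth.Agent.Lib.Helper25.RelPerfTensor

open DerivedCategory Groth.Agent.Lib.Helper25.RelFlatTensor Groth.Agent.Lib.Helper25.RelFlatBC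
  Groth.Agent.Lib.helper25.DCohRestrict Groth.Agent.Lib.Helper25.HomVanNice
  Groth.Agent.Lib.Helper25.LTensorComp Groth.Agent.Lib.Helper25.ExtendPCNoeth

attribute [local instance] Groth.Agent.Lib.Helper25.LTensorRestrict.hasLTensorCx

variable {X S : Scheme.{u}}

/-- relative flat amplitude restricts along open immersions -/
theorem hasRelFlatAmplitudeIn_restrictD {Z Y : Scheme.{u}} (j : Z ⟶ Y) [IsOpenImmersion j]
    (g : Y ⟶ S) {K : DCoh.D Y} {a b : ℤ} (h : DCoh.HasRelFlatAmplitudeIn g a b K) :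
    DCoh.HasRelFlatAmplitudeIn (j ≫ g) a b ((DCoh.restrictD j).obj K) := by
  obtain ⟨G, hV, hfl, ⟨e⟩⟩ := h
  exact ⟨(resCx j).obj G, fun i hi => (Scheme.Modules.restrictFunctor j).map_isZero (hV i hi),
    fun i => isFlatOver_restrict_of_isOpenImmersion j g (G.X i) (hfl i),
    ⟨(resDQIso j G).symm ≪≫ (DCoh.restrictD j).mapIso e⟩⟩

lemma isFlat_of_iso_freeMod {M : X.Modules} (h : ∃ r : ℕ, Nonempty (M ≅ FlatMod.freeMod X r)) :
    FlatMod.IsFlat M := by
  obtain ⟨r, ⟨e⟩⟩ := h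
  exact Groth.Agent.Lib.helper16.FLF.isFlat_of_isFinLocFree _
    (Groth.Agent.Lib.helper16.FLF.isFinLocFree_of_iso e.symm
      (Groth.Agent.Lib.helper16.FLF.isFinLocFree_freeMod X r))

/-- `P ⊗^L E` for `P` a bounded complex of free modules of finite rank and `E` a bounded complex of `S`-flat modules -/
theorem hasRelFlatAmplitudeIn_LTensorCx_free (g : X ⟶ S) (P E : CochainComplex X.Modules ℤ)
    (c b' a₁ b₁ : ℤ) (hP1 : ∀ i, i < c → IsZero (P.X i)) (hP2 : ∀ i, b' < i → IsZero (P.X i))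
    (hP3 : ∀ i, ∃ r : ℕ, Nonempty (P.X i ≅ FlatMod.freeMod X r))
    (hE1 : DCoh.VanishesOutside E a₁ b₁) (hE2 : ∀ i, FlatMod.IsFlatOver g (E.X i)) :
    DCoh.HasRelFlatAmplitudeIn g (c + a₁) (b' + b₁) ((DCoh.LTensorCx E).obj (Q.obj P)) := by
  have hPK : DCoh.IsKFlat P :=
    Groth.Agent.Lib.helper13.KFlat.dcoh_isKFlat_of_bounded_above P b' hP2
      (fun n => isFlat_of_iso_freeMod (hP3 n))
  haveI := isIso_ε_app E P hPK
  refine ⟨(DCoh.tensorCx.obj P).obj E, ?_, fun k => isFlatOver_tensorCx_X g P E hP3 hE2 k,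
    ⟨(asIso ((ε E).app P)).symm⟩⟩
  intro k hk
  refine Groth.Agent.Lib.Helper25.FMRegular.isZero_tensorCx_X P E k (fun i j hij => ?_)
  by_cases h1 : i < c
  · exact Or.inl (hP1 i h1)
  by_cases h2 : b' < i
  · exact Or.inl (hP2 i h2)
  · refine Or.inr (hE1 j ?_)
    rcases hk with hk | hk
    · left; omega
    · right; omega

/-- **the relative tor dimension part of S7249** -/
theorem locHasFiniteRelTorDim_LTensorCx (f : X ⟶ S) (K : DCoh.D X) (hK : DCoh.IsPerfect K)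
    (M : CochainComplex X.Modules ℤ) (hMtor : DCoh.LocHasFiniteRelTorDim f (DCoh.toD X M))
    [DCoh.HasLTensorCx M] : DCoh.LocHasFiniteRelTorDim f ((DCoh.LTensorCx M).obj K) := by
  intro x
  obtain ⟨V₁, a₁, b₁, hx₁, H₁⟩ := hMtor x
  obtain ⟨E₁, hE₁v, hE₁f, ⟨e₁⟩⟩ := H₁ M ⟨Iso.refl _⟩
  obtain ⟨U, c, hxU, -, hnice⟩ := exists_nice_nhd K hK x
  let W : X.Opens := U ⊓ V₁
  have hWU : W ≤ U := inf_le_left
  have hWV : W ≤ V₁ := inf_le_right
  -- `K|_W` is nice
  have hniceW : Nice W ((DCoh.restrictD W.ι).obj K) c :=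
    nice_of_iso (restrictRestrictIso hWU K) (nice_restrict (X.homOfLE hWU) hnice)
  obtain ⟨P, b', hP1, hP2, hP3, ⟨eP⟩⟩ := hniceW
  -- the restriction of `E₁` to `W`
  let gW := X.homOfLE hWV
  let E : CochainComplex (W : Scheme.{u}).Modules ℤ := (resCx gW).obj E₁
  have hEv : DCoh.VanishesOutside E a₁ b₁ := fun i hi =>
    (Scheme.Modules.restrictFunctor gW).map_isZero (hE₁v i hi)
  have hEf : ∀ i, FlatMod.IsFlatOver (W.ι ≫ f) (E.X i) := by
    intro i
    have h0 := isFlatOver_restrict_of_isOpenImmersion gW (V₁.ι ≫ f) (E₁.X i) (hE₁f i)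
    have h1 : gW ≫ V₁.ι ≫ f = W.ι ≫ f := by
      rw [← Category.assoc, X.homOfLE_ι]
    exact (Groth.Agent.Lib.helper17.FlatOver7.isFlatOver_congr h1 _).1 h0
  -- `Q E ≅ (Q M)|_W`
  let eE : Q.obj E ≅ (DCoh.restrictD W.ι).obj (Q.obj M) :=
    (resDQIso gW E₁).symm ≪≫ (DCoh.restrictD gW).mapIso e₁ ≪≫
      (DCoh.restrictD gW).mapIso (resDQIso V₁.ι M).symm ≪≫ restrictRestrictIso hWV (Q.obj M)
  refine ⟨W, c + a₁, b' + b₁, ⟨hxU, hx₁⟩, fun F' ⟨eF'⟩ => ?_⟩
  -- a K-flat representative of `M`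
  obtain ⟨M', hM', ⟨eM⟩⟩ := Groth.Agent.Lib.helper13.LpullQCoh.exists_P₀_rep (DCoh.toD X M)
  obtain ⟨t⟩ := Groth.Agent.Lib.Helper25.DualCx6.nonempty_LTensorCx_iso_of_Q_iso M M' eM.symm
  have eM'E : Q.obj ((resCx W.ι).obj M') ≅ Q.obj E :=
    (resDQIso W.ι M').symm ≪≫ (DCoh.restrictD W.ι).mapIso eM ≪≫ eE.symm
  obtain ⟨t'⟩ := Groth.Agent.Lib.Helper25.DualCx6.nonempty_LTensorCx_iso_of_Q_iso _ _ eM'E
  have h3 := hasRelFlatAmplitudeIn_LTensorCx_free (W.ι ≫ f) P E c b' a₁ b₁ hP1 hP2 hP3 hEv hEf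
  refine hasRelFlatAmplitudeIn_of_iso _ ?_ h3
  exact (DCoh.LTensorCx E).mapIso eP.symm ≪≫ (t'.app _).symm ≪≫
    (Groth.Agent.Lib.Helper25.LTensorRestrict.restrictLTensorIso W.ι M' hM'.1).app K ≪≫
    (DCoh.restrictD W.ι).mapIso ((t.app K).symm ≪≫ eF'.symm) ≪≫ resDQIso W.ι F'

end Groth.Agent.Lib.Helper25.RelPerfTensor
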