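import Mathlib
import Groth.Agent.Lib.Helper25.RelPerfTensor
import Groth.Agent.Lib.Helper25.TensorSp
import Groth.Agent.Lib.Helper25.ThomasonTG
import Groth.Agent.Lib.Helper25.DCohPC4
import Groth.Agent.Lib.Helper25.PerfectTor

/-!
# `K ⊗^L M` is pseudo-coherent for `K` perfect and `M` pseudo-coherent (helper25; first half of S7249)

* `freeModSuccIso`: `O^{r+1} ≅ O ⊞ O^r`.
* `PCT N P`: `P ⊗^L N` is pseudo-coherent; closure properties, `pct_of_nice`.
* `isPseudoCoherentD_LTensorCx`: `K` perfect, `M` pseudo-coherent ⟹ `K ⊗^L M` pseudo-coherent.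
* `main` (= S7249).
-/

set_option autoImplicit false
universe u
open CategoryTheory CategoryTheory.Limits AlgebraicGeometry Pretriangulated

attribute [local instance] HasDerivedCategory.standard

namespace Groth.Agent.Lib.Helper25.RelPerfTensor

open DerivedCategory Groth.Agent.Lib.helper25.DCohRestrict Groth.Agent.Lib.Helper25.HomVanNice
  Groth.Agent.Lib.Helper25.LTensorComp Groth.Agent.Lib.helper25.DCohPC3
  Groth.Agent.Lib.helper25.DCohPC4

attribute [local instance] Groth.Agent.Lib.Helper25.LTensorRestrict.hasLTensorCx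

variable {Y : Scheme.{u}}

/-- `O^{r+1} ≅ O ⊞ O^r` -/
noncomputable def freeModSuccIso (Y : Scheme.{u}) (r : ℕ) :
    FlatMod.freeMod Y (r + 1) ≅ Coh.structureModule Y ⊞ FlatMod.freeMod Y r :=
  (coproductIsCoproduct (fun _ : Fin (r + 1) => Coh.structureModule Y)).coconePointUniqueUpToIso
    (extendCofanIsColimit (fun _ : Fin (r + 1) => Coh.structureModule Y)
      (coproductIsCoproduct (fun _ : Fin r => Coh.structureModule Y))
      (BinaryBiproduct.isColimit (Coh.structureModule Y) (FlatMod.freeMod Y r)))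

variable (N : CochainComplex Y.Modules ℤ)

/-- `P ⊗^L N` is pseudo-coherent -/
def PCT (P : DCoh.D Y) : Prop := ∀ m : ℤ, DCoh.IsPseudoCoherentD m ((DCoh.LTensorCx N).obj P)

variable {N}

lemma pct_of_iso {P P' : DCoh.D Y} (e : P ≅ P') (h : PCT N P) : PCT N P' := fun m =>
  isPseudoCoherentD_of_iso ((DCoh.LTensorCx N).mapIso e) (h m)

lemma isPseudoCoherentD_of_isZero {A : DCoh.D Y} (hA : IsZero A) (m : ℤ) :
    DCoh.IsPseudoCoherentD m A :=
  isPseudoCoherentD_of_pcData_global (pcData_of_isZero_homology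
    (fun i _ => (DerivedCategory.homologyFunctor _ i).map_isZero hA))

lemma pct_of_isZero {P : DCoh.D Y} (hP : IsZero P) : PCT N P := fun m =>
  isPseudoCoherentD_of_isZero
    (Groth.Agent.Lib.Helper25.LTensorTri.isZero_LTensorCx_obj N P hP) m

lemma pct_tri (T : Triangle (DCoh.D Y)) (hT : T ∈ distTriang (DCoh.D Y)) (h₁ : PCT N T.obj₁)
    (h₃ : PCT N T.obj₃) : PCT N T.obj₂ := by
  intro m
  obtain ⟨h', hT'⟩ := Groth.Agent.Lib.Helper25.LTensorTri.exists_distinguished_LTensorCx N T hT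
  exact (isPseudoCoherentD_triangle m _ hT').2.1 (h₁ m) (h₃ m)

lemma pct_biprod {P P' : DCoh.D Y} (h : PCT N P) (h' : PCT N P') : PCT N (P ⊞ P') :=
  pct_tri _ (binaryBiproductTriangle_distinguished P P') h h'

open Groth.Agent.Lib.Helper25.QCCEv in
lemma pct_Sp (hN : DCoh.IsKFlat N) (hpc : ∀ m : ℤ, DCoh.IsPseudoCoherentD m (Q.obj N)) (a : ℤ) :
    PCT N (Sp Y a) := fun m =>
  isPseudoCoherentD_of_iso (Groth.Agent.Lib.Helper25.TensorSp.LTensorSpIso N hN a).symm
    (isPseudoCoherentD_shift (hpc (m + -a)) (-a) m rfl)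

open Groth.Agent.Lib.Helper25.QCCEv in
lemma pct_single_freeMod (hN : DCoh.IsKFlat N)
    (hpc : ∀ m : ℤ, DCoh.IsPseudoCoherentD m (Q.obj N)) (a : ℤ) :
    ∀ r : ℕ, PCT N ((singleFunctor Y.Modules a).obj (FlatMod.freeMod Y r)) := by
  intro r
  induction r with
  | zero =>
    refine pct_of_isZero ((singleFunctor Y.Modules a).map_isZero ?_)
    rw [IsZero.iff_id_eq_zero]
    apply Sigma.hom_ext
    intro i
    exact i.elim0
  | succ r ih =>
    haveI : PreservesBinaryBiproducts (singleFunctor Y.Modules a) :=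
      preservesBinaryBiproducts_of_preservesBiproducts _
    refine pct_of_iso ((singleFunctor Y.Modules a).mapIso (freeModSuccIso Y r) ≪≫
      (singleFunctor Y.Modules a).mapBiprod _ _).symm ?_
    exact pct_biprod (pct_Sp hN hpc a) ih

theorem pct_of_nice (hN : DCoh.IsKFlat N) (hpc : ∀ m : ℤ, DCoh.IsPseudoCoherentD m (Q.obj N))
    {P : DCoh.D Y} {c : ℤ} (h : Nice Y P c) : PCT N P :=
  Groth.Agent.Lib.Helper25.NiceInduction.of_nice (PCT N) (fun e h => pct_of_iso e h)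
    (fun _ hP => pct_of_isZero hP) (fun T hT h₁ h₃ => pct_tri T hT h₁ h₃)
    (fun a _ r e => pct_of_iso ((singleFunctor Y.Modules a).mapIso e.symm)
      (pct_single_freeMod hN hpc a r)) h

variable {X S : Scheme.{u}}

/-- **`K` perfect, `M` pseudo-coherent ⟹ `K ⊗^L M` pseudo-coherent** -/
theorem isPseudoCoherentD_LTensorCx (K : DCoh.D X) (hK : DCoh.IsPerfect K)
    (M : CochainComplex X.Modules ℤ) (hMpc : ∀ m : ℤ, DCoh.IsPseudoCoherentD m (DCoh.toD X M))
    [DCoh.HasLTensorCx M] (m : ℤ) : DCoh.IsPseudoCoherentD m ((DCoh.LTensorCx M).obj K) := by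
  apply isPseudoCoherentD_of_restrict
  intro x
  obtain ⟨U, c, hxU, -, hnice⟩ := exists_nice_nhd K hK x
  refine ⟨U, hxU, ?_⟩
  obtain ⟨M', hM', ⟨eM⟩⟩ := Groth.Agent.Lib.helper13.LpullQCoh.exists_P₀_rep (DCoh.toD X M)
  obtain ⟨t⟩ := Groth.Agent.Lib.Helper25.DualCx6.nonempty_LTensorCx_iso_of_Q_iso M M' eM.symm
  have hNK : DCoh.IsKFlat ((resCx U.ι).obj M') :=
    Groth.Agent.Lib.Helper25.LTensorRestrict.isKFlat_res U.ι M' hM'.1
  have hNpc : ∀ m : ℤ, DCoh.IsPseudoCoherentD m (Q.obj ((resCx U.ι).obj M')) := fun m =>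
    isPseudoCoherentD_of_iso ((DCoh.restrictD U.ι).mapIso eM.symm ≪≫ resDQIso U.ι M')
      (Groth.Agent.Lib.helper25.PerfectTor.isPseudoCoherentD_restrictD (hMpc m) U)
  refine isPseudoCoherentD_of_iso
    ((Groth.Agent.Lib.Helper25.LTensorRestrict.restrictLTensorIso U.ι M' hM'.1).app K ≪≫
      (DCoh.restrictD U.ι).mapIso (t.app K).symm) ?_
  exact pct_of_nice hNK hNpc hnice m

/-- **S7249** -/
theorem main (f : X ⟶ S) (K : DCoh.D X) (hK : DCoh.IsPerfect K) (M : CochainComplex X.Modules ℤ)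
    (hMpc : ∀ m : ℤ, DCoh.IsPseudoCoherentD m (DCoh.toD X M))
    (hMtor : DCoh.LocHasFiniteRelTorDim f (DCoh.toD X M)) [DCoh.HasLTensorCx M] :
    (∀ m : ℤ, DCoh.IsPseudoCoherentD m ((DCoh.LTensorCx M).obj K)) ∧
      DCoh.LocHasFiniteRelTorDim f ((DCoh.LTensorCx M).obj K) :=
  ⟨isPseudoCoherentD_LTensorCx K hK M hMpc, locHasFiniteRelTorDim_LTensorCx f K hK M hMtor⟩

end Groth.Agent.Lib.Helper25.RelPerfTensor
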