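import Mathlib
import Groth.Agent.Lib.Helper25.RelFlatAmp3
import Groth.Agent.Lib.Helper25.RelPerfTensor2
import Groth.Agent.S0888

/-!
# `S`-perfect objects form a saturated triangulated subcategory (helper25; = S7250)

* `locHasFiniteRelTorDim_iff`: `DCoh.LocHasFiniteRelTorDim f E` in terms of the restrictions `E|_V`.
* `locHasFiniteRelTorDim_of_isZero`, `_shift`, `_obj₂`, `_of_retract`.
* `isPseudoCoherentD_of_retract`.
* `main` (= S7250).
-/

set_option autoImplicit false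
universe u
open CategoryTheory CategoryTheory.Limits AlgebraicGeometry Pretriangulated
open scoped ZeroObject

attribute [local instance] HasDerivedCategory.standard

namespace Groth.Agent.Lib.Helper25.RelPerfTri

open DerivedCategory Groth.Agent.Lib.Helper25.RelFlatAmp Groth.Agent.Lib.Helper25.RelFlatBC
  Groth.Agent.Lib.helper25.DCohRestrict Groth.Agent.Lib.Helper25.RelPerfTensor
  Groth.Agent.Lib.Helper25.ExtendPCNoeth Groth.Agent.Lib.helper25.DCohPC3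
  Groth.Agent.Lib.helper25.DCohPC4

variable {X S : Scheme.{u}}

/-- `DCoh.LocHasFiniteRelTorDim` in terms of restrictions -/
theorem locHasFiniteRelTorDim_iff (f : X ⟶ S) (E : DCoh.D X) :
    DCoh.LocHasFiniteRelTorDim f E ↔ ∀ x : X, ∃ (V : X.Opens) (a b : ℤ), x ∈ V ∧
      DCoh.HasRelFlatAmplitudeIn (V.ι ≫ f) a b ((DCoh.restrictD V.ι).obj E) := by
  constructor
  · intro h x
    obtain ⟨V, a, b, hxV, hV⟩ := h x
    obtain ⟨F, ⟨eF⟩⟩ := exists_rep E
    exact ⟨V, a, b, hxV, hasRelFlatAmplitudeIn_of_iso _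
      ((resDQIso V.ι F).symm ≪≫ (DCoh.restrictD V.ι).mapIso eF) (hV F ⟨eF⟩)⟩
  · intro h x
    obtain ⟨V, a, b, hxV, hV⟩ := h x
    exact ⟨V, a, b, hxV, fun F' ⟨eF'⟩ => hasRelFlatAmplitudeIn_of_iso _
      ((DCoh.restrictD V.ι).mapIso eF'.symm ≪≫ resDQIso V.ι F') hV⟩

lemma hasRelFlatAmplitudeIn_of_isZero (g : X ⟶ S) {K : DCoh.D X} (hK : IsZero K) (a b : ℤ) :
    DCoh.HasRelFlatAmplitudeIn g a b K :=
  ⟨0, fun i _ => (HomologicalComplex.eval _ _ i).map_isZero (isZero_zero _),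
    fun i => Groth.Agent.Lib.Helper25.FlatPushTensor.isFlatOver_of_isZero g
      ((HomologicalComplex.eval _ _ i).map_isZero (isZero_zero _)),
    ⟨(Q.map_isZero (isZero_zero _)).iso hK⟩⟩

lemma locHasFiniteRelTorDim_of_isZero (f : X ⟶ S) {K : DCoh.D X} (hK : IsZero K) :
    DCoh.LocHasFiniteRelTorDim f K := by
  rw [locHasFiniteRelTorDim_iff]
  exact fun x => ⟨⊤, 0, 0, trivial, hasRelFlatAmplitudeIn_of_isZero _
    ((DCoh.restrictD _).map_isZero hK) 0 0⟩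

lemma locHasFiniteRelTorDim_shift (f : X ⟶ S) {K : DCoh.D X}
    (h : DCoh.LocHasFiniteRelTorDim f K) (n : ℤ) : DCoh.LocHasFiniteRelTorDim f (K⟦n⟧) := by
  rw [locHasFiniteRelTorDim_iff] at h ⊢
  intro x
  obtain ⟨V, a, b, hxV, hV⟩ := h x
  exact ⟨V, a - n, b - n, hxV, hasRelFlatAmplitudeIn_of_iso _
    (((DCoh.restrictD V.ι).commShiftIso n).app K).symm
    (hasRelFlatAmplitudeIn_shift _ hV n (a - n) (b - n) (by omega) (by omega))⟩

/-- restriction to a smaller open -/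
lemma hasRelFlatAmplitudeIn_of_le (f : X ⟶ S) (K : DCoh.D X) {W V : X.Opens} (hWV : W ≤ V) {a b : ℤ}
    (h : DCoh.HasRelFlatAmplitudeIn (V.ι ≫ f) a b ((DCoh.restrictD V.ι).obj K)) :
    DCoh.HasRelFlatAmplitudeIn (W.ι ≫ f) a b ((DCoh.restrictD W.ι).obj K) := by
  have h0 := hasRelFlatAmplitudeIn_restrictD (X.homOfLE hWV) (V.ι ≫ f) h
  have h1 : X.homOfLE hWV ≫ V.ι ≫ f = W.ι ≫ f := by
    rw [← Category.assoc, X.homOfLE_ι]
  rw [h1] at h0
  exact hasRelFlatAmplitudeIn_of_iso _ (restrictRestrictIso hWV K) h0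

/-- the middle term of a distinguished triangle -/
theorem locHasFiniteRelTorDim_obj₂ (f : X ⟶ S) [Flat f] (T : Triangle (DCoh.D X))
    (hT : T ∈ distTriang (DCoh.D X)) (h₁ : DCoh.LocHasFiniteRelTorDim f T.obj₁)
    (h₃ : DCoh.LocHasFiniteRelTorDim f T.obj₃) : DCoh.LocHasFiniteRelTorDim f T.obj₂ := by
  rw [locHasFiniteRelTorDim_iff] at h₁ h₃ ⊢
  intro x
  obtain ⟨V₁, a₁, b₁, hx₁, hV₁⟩ := h₁ x
  obtain ⟨V₃, a₃, b₃, hx₃, hV₃⟩ := h₃ x
  let W : X.Opens := V₁ ⊓ V₃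
  have hW₁ := hasRelFlatAmplitudeIn_of_le f T.obj₁ (inf_le_left : W ≤ V₁) hV₁
  have hW₃ := hasRelFlatAmplitudeIn_of_le f T.obj₃ (inf_le_right : W ≤ V₃) hV₃
  -- the inverse rotation, restricted to `W`
  have hT' := (DCoh.restrictD W.ι).map_distinguished _ (inv_rot_of_distTriang _ hT)
  let a := min (a₃ + 1) a₁
  let b := max (b₃ + 1) b₁
  have hA : DCoh.HasRelFlatAmplitudeIn (W.ι ≫ f) a b
      ((DCoh.restrictD W.ι).obj (T.obj₃⟦(-1 : ℤ)⟧)) :=
    hasRelFlatAmplitudeIn_of_iso _ (((DCoh.restrictD W.ι).commShiftIso (-1 : ℤ)).app T.obj₃).symm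
      (hasRelFlatAmplitudeIn_mono _
        (hasRelFlatAmplitudeIn_shift _ hW₃ (-1) (a₃ + 1) (b₃ + 1) (by omega) (by omega))
        (min_le_left _ _) (le_max_left _ _))
  have hB : DCoh.HasRelFlatAmplitudeIn (W.ι ≫ f) a b ((DCoh.restrictD W.ι).obj T.obj₁) :=
    hasRelFlatAmplitudeIn_mono _ hW₁ (min_le_right _ _) (le_max_right _ _)
  haveI : Flat (W.ι ≫ f) := inferInstance
  exact ⟨W, a - 1, b, ⟨hx₁, hx₃⟩, hasRelFlatAmplitudeIn_obj₃ (W.ι ≫ f) _ hT' hA hB⟩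

/-- retracts -/
theorem locHasFiniteRelTorDim_of_retract (f : X ⟶ S) [Flat f] {K K' : DCoh.D X} (i : K ⟶ K')
    (p : K' ⟶ K) (hip : i ≫ p = 𝟙 K) (h : DCoh.LocHasFiniteRelTorDim f K') :
    DCoh.LocHasFiniteRelTorDim f K := by
  rw [locHasFiniteRelTorDim_iff] at h ⊢
  intro x
  obtain ⟨V, a, b, hxV, hV⟩ := h x
  haveI : Flat (V.ι ≫ f) := inferInstance
  exact ⟨V, a, b, hxV, hasRelFlatAmplitudeIn_of_retract (V.ι ≫ f) ((DCoh.restrictD V.ι).map i)
    ((DCoh.restrictD V.ι).map p) (by rw [← Functor.map_comp, hip, CategoryTheory.Functor.map_id]) hV⟩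

/-- pseudo-coherence passes to retracts -/
theorem isPseudoCoherentD_of_retract {K K' : DCoh.D X} (i : K ⟶ K') (p : K' ⟶ K)
    (hip : i ≫ p = 𝟙 K) (m : ℤ) (h : DCoh.IsPseudoCoherentD m K') :
    DCoh.IsPseudoCoherentD m K := by
  obtain ⟨N, ⟨e⟩⟩ := Groth.Agent.Lib.Helper25.TriRetract.exists_biprod_of_retract i p hip
  exact (Groth.Agent.S0888.result m K N (isPseudoCoherentD_of_iso e h)).1

/-- **S7250** -/
theorem main (f : X ⟶ S) [Flat f] :
    ObjectProperty.IsTriangulated (fun E : DCoh.D X =>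
      (∀ m : ℤ, DCoh.IsPseudoCoherentD m E) ∧ DCoh.LocHasFiniteRelTorDim f E) ∧
    ObjectProperty.IsStableUnderRetracts (fun E : DCoh.D X =>
      (∀ m : ℤ, DCoh.IsPseudoCoherentD m E) ∧ DCoh.LocHasFiniteRelTorDim f E) := by
  refine ⟨{ toContainsZero := ⟨⟨0, isZero_zero _,
              fun m => isPseudoCoherentD_of_isZero (isZero_zero _) m,
              locHasFiniteRelTorDim_of_isZero f (isZero_zero _)⟩⟩
            toIsStableUnderShift := ⟨fun n => ⟨fun E hE =>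
              ⟨fun m => isPseudoCoherentD_shift (hE.1 (m + n)) n m rfl,
                locHasFiniteRelTorDim_shift f hE.2 n⟩⟩⟩
            toIsTriangulatedClosed₂ := ⟨fun T hT h₁ h₃ => ObjectProperty.le_isoClosure _ _
              ⟨fun m => (isPseudoCoherentD_triangle m T hT).2.1 (h₁.1 m) (h₃.1 m),
                locHasFiniteRelTorDim_obj₂ f T hT h₁.2 h₃.2⟩⟩ }, ⟨fun r h => ?_⟩⟩
  exact ⟨fun m => isPseudoCoherentD_of_retract r.i r.r r.retract m (h.1 m),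
    locHasFiniteRelTorDim_of_retract f r.i r.r r.retract h.2⟩

end Groth.Agent.Lib.Helper25.RelPerfTri
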