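import Mathlib
import Groth.Prelude.Def_DRing2
import Groth.Agent.Lib.Helper3.PdTor
import Groth.Agent.Lib.Helper26.ProjDimRegular
import Groth.Agent.Lib.Helper16.CohStalk
import Groth.Agent.Lib.Helper3.DimIneqSch2
import Groth.Agent.Lib.Helper17.RegSmoothSch

/-!
# helper25: Tor vanishing above the dimension on a smooth variety (S6500)
-/

set_option autoImplicit false
universe u

open CategoryTheory CategoryTheory.Limits AlgebraicGeometry Opposite TopologicalSpace

namespace Groth.Agent.Lib.helper25.SmoothTorVan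

open Groth.Agent.Lib.helper7.TorAPI Groth.Agent.Lib.helper23.TA

/-- Over a regular local ring of dimension `≤ n`, `Tor_p(M, N) = 0` for `p > n` and `M` finite. -/
theorem subsingleton_tor_of_regular (R : Type u) [CommRing R] [IsRegularLocalRing R] (n : ℕ)
    (hdim : ringKrullDim R ≤ (n : WithBot ℕ∞))
    (M N : Type u) [AddCommGroup M] [Module R M] [Module.Finite R M]
    [AddCommGroup N] [Module R N] (p : ℕ) (hp : n < p) :
    Subsingleton (DRing.Tor R p M N) := by
  have hpd := Groth.Agent.Lib.helper26.PDReg.hasProjectiveDimensionLE_of_isRegularLocalRing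
    (IsLocalRing.maximalIdeal R).spanFinrank R rfl M
  have hd : (IsLocalRing.maximalIdeal R).spanFinrank ≤ n := by
    have h1 := IsRegularLocalRing.spanFinrank_maximalIdeal (R := R)
    rw [← h1] at hdim
    exact_mod_cast hdim
  haveI : HasProjectiveDimensionLT (ModuleCat.of R M)
      ((IsLocalRing.maximalIdeal R).spanFinrank + 1) := hpd
  have h2 : HasProjectiveDimensionLT (ModuleCat.of R M) (n + 1) :=
    hasProjectiveDimensionLT_of_ge (ModuleCat.of R M)
      ((IsLocalRing.maximalIdeal R).spanFinrank + 1) (n + 1) (by omega)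
  have h3 := hasTorAmplitudeIn_of_hasProjectiveDimensionLT n (ModuleCat.of R M) h2
  have h4 := (torVan_iff_hasTorAmplitudeIn n (ModuleCat.of R M)).2 h3 (ModuleCat.of R N) p hp
  exact ModuleCat.subsingleton_of_isZero h4

theorem main (K : Type u) [Field K] [IsAlgClosed K] (X : Scheme.{u})
    (f : X ⟶ Spec (CommRingCat.of K)) [Smooth f] (n : ℕ)
    (hn : topologicalKrullDim X = n) (F G : X.Modules) (hF : Coh.IsCoh F)
    (x : X) (p : ℕ) (hp : n < p) :
    Subsingleton (DRing.Tor ↑(X.presheaf.stalk x) p ↑(F.presheaf.stalk x)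
      ↑(G.presheaf.stalk x)) := by
  haveI : IsLocallyNoetherian X := LocallyOfFiniteType.isLocallyNoetherian f
  haveI : IsRegularLocalRing (X.presheaf.stalk x) := by
    rw [← Groth.Agent.Lib.helper17.RegSmooth.mem_smoothLocus_iff_isRegularLocalRing_of_perfectField
      f x, f.smoothLocus_eq_top]
    trivial
  haveI : Module.Finite (X.presheaf.stalk x) (F.presheaf.stalk x) :=
    Groth.Agent.Lib.helper16.CohStalk.finite_stalk_of_isCoh _ hF x
  exact subsingleton_tor_of_regular (X.presheaf.stalk x) n
    (hn ▸ Groth.Agent.Lib.helper3.DimIneq.stalk_le_dim (X := X) x) _ _ p hp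

end Groth.Agent.Lib.helper25.SmoothTorVan
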