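import Mathlib
import Groth.Prelude.Def_DerSch
import Groth.Prelude.Def_CohB1

/-!
# Stalks of presheaves of modules on a scheme, as modules over the local ring

`stalkPre x : PM X ⥤ ModuleCat (X.presheaf.stalk x)`, with the universal property
`stalkDesc`, extensionality on germs `stalk_hom_ext`, and helper lemmas on pure tensors
in the sections of the presheaf tensor product.
-/
set_option autoImplicit false
universe u
open CategoryTheory CategoryTheory.Limits AlgebraicGeometry Opposite TopologicalSpace

namespace Groth.Agent.Lib.Helper25.StalkPre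

variable {X : Scheme.{u}} (x : X)

/-- presheaves of modules over the structure presheaf, in the spelling of Mathlib's stalk instances -/
abbrev PM (X : Scheme.{u}) : Type (u + 1) :=
  PresheafOfModules.{u} (X.presheaf ⋙ forget₂ CommRingCat RingCat.{u})

/-- the underlying presheaf of abelian groups, typed as a presheaf on the space -/
noncomputable abbrev pre (P : PM X) : TopCat.Presheaf Ab X := P.presheaf

instance moduleSections (P : PM X) (U : X.Opens) : Module Γ(X, U) (P.obj (op U)) :=
  (P.obj (op U)).isModule

/-- the stalk of a presheaf of modules, as a module over the local ring -/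
noncomputable abbrev stalkObj (P : PM X) : ModuleCat.{u} (X.presheaf.stalk x) :=
  ModuleCat.of (X.presheaf.stalk x) ((pre P).stalk x)

lemma germ_smul (P : PM X) (U : X.Opens) (hx : x ∈ U) (r : Γ(X, U)) (s : P.obj (op U)) :
    (pre P).germ U x hx (r • s) = X.presheaf.germ U x hx r • (pre P).germ U x hx s :=
  PresheafOfModules.germ_smul (R := X.presheaf) P x U hx r s

/-- induction principle: every element of the stalk is a germ -/
lemma exists_germ (P : PM X) (m : (pre P).stalk x) :
    ∃ (U : X.Opens) (hx : x ∈ U) (s : P.obj (op U)), (pre P).germ U x hx s = m :=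
  (pre P).exists_germ_eq (x := x) m

/-- two elements of the local ring and the stalk can be represented on a common open -/
lemma exists_germ₂ (P : PM X) (r : X.presheaf.stalk x) (m : (pre P).stalk x) :
    ∃ (W : X.Opens) (hx : x ∈ W) (r' : Γ(X, W)) (s : P.obj (op W)),
      X.presheaf.germ W x hx r' = r ∧ (pre P).germ W x hx s = m := by
  obtain ⟨U, hyU, s, rfl⟩ := X.presheaf.exists_germ_eq (x := x) r
  obtain ⟨V, hyV, t, rfl⟩ := (pre P).exists_germ_eq (x := x) m
  exact ⟨U ⊓ V, ⟨hyU, hyV⟩, X.presheaf.map (homOfLE inf_le_left : U ⊓ V ⟶ U).op s,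
    (pre P).map (homOfLE inf_le_right : U ⊓ V ⟶ V).op t,
    X.presheaf.germ_res_apply (homOfLE inf_le_left : U ⊓ V ⟶ U) x ⟨hyU, hyV⟩ s,
    (pre P).germ_res_apply (homOfLE inf_le_right : U ⊓ V ⟶ V) x ⟨hyU, hyV⟩ t⟩

section desc

variable (P : PM X) (N : ModuleCat.{u} (X.presheaf.stalk x))
  (d : ∀ (U : X.Opens) (_ : x ∈ U), P.obj (op U) →+ N)
  (hres : ∀ (U V : X.Opens) (i : V ⟶ U) (hx : x ∈ V) (s : P.obj (op U)),
    d V hx ((pre P).map i.op s) = d U (i.le hx) s)
  (hlin : ∀ (U : X.Opens) (hx : x ∈ U) (r : Γ(X, U)) (s : P.obj (op U)),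
    d U hx (r • s) = X.presheaf.germ U x hx r • d U hx s)

/-- the additive map out of the stalk -/
noncomputable def descAb : (pre P).stalk x ⟶ AddCommGrpCat.of N :=
  colimit.desc ((OpenNhds.inclusion x).op ⋙ pre P)
    { pt := AddCommGrpCat.of N
      ι :=
        { app := fun U => AddCommGrpCat.ofHom (d U.unop.1 U.unop.2)
          naturality := fun U V i => by
            ext s
            exact hres U.unop.1 V.unop.1 i.unop V.unop.2 s } }

lemma descAb_germ (U : X.Opens) (hx : x ∈ U) (s : P.obj (op U)) :
    descAb x P N d hres ((pre P).germ U x hx s) = d U hx s := by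
  have := colimit.ι_desc
    ({ pt := AddCommGrpCat.of N
       ι :=
        { app := fun U => AddCommGrpCat.ofHom (d U.unop.1 U.unop.2)
          naturality := fun U V i => by
            ext s
            exact hres U.unop.1 V.unop.1 i.unop V.unop.2 s } } :
      Cocone ((OpenNhds.inclusion x).op ⋙ pre P)) (op ⟨U, hx⟩)
  exact ConcreteCategory.congr_hom this s

/-- a compatible semilinear family of maps on sections induces a linear map out of the stalk -/
noncomputable def stalkDesc : stalkObj x P ⟶ N :=
  ModuleCat.ofHom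
    { toFun := fun m => descAb x P N d hres m
      map_add' := fun a b => map_add _ a b
      map_smul' := fun r m => by
        obtain ⟨W, hx, r', s, rfl, rfl⟩ := exists_germ₂ x P r m
        rw [← germ_smul]
        erw [descAb_germ, descAb_germ]
        exact hlin W hx r' s }

lemma stalkDesc_germ (U : X.Opens) (hx : x ∈ U) (s : P.obj (op U)) :
    (stalkDesc x P N d hres hlin).hom ((pre P).germ U x hx s) = d U hx s :=
  descAb_germ x P N d hres U hx s

end desc

/-- two linear maps out of a stalk which agree on germs are equal -/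
lemma stalk_hom_ext (P : PM X) {N : ModuleCat.{u} (X.presheaf.stalk x)}
    (f g : stalkObj x P ⟶ N)
    (h : ∀ (U : X.Opens) (hx : x ∈ U) (s : P.obj (op U)),
      f.hom ((pre P).germ U x hx s) = g.hom ((pre P).germ U x hx s)) : f = g := by
  ext m
  obtain ⟨U, hx, s, rfl⟩ := exists_germ x P m
  exact h U hx s

section functor

/-- the action of a morphism of presheaves of modules on sections, as an additive map -/
noncomputable def appAdd {P Q : PM X} (φ : P ⟶ Q) (U : X.Opens) : P.obj (op U) →+ Q.obj (op U) :=
  (φ.app (op U)).hom.toAddMonoidHom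

lemma appAdd_res {P Q : PM X} (φ : P ⟶ Q) {U V : X.Opens} (i : V ⟶ U) (s : P.obj (op U)) :
    appAdd φ V ((pre P).map i.op s) = (pre Q).map i.op (appAdd φ U s) :=
  PresheafOfModules.naturality_apply φ i.op s

lemma appAdd_smul {P Q : PM X} (φ : P ⟶ Q) (U : X.Opens) (r : Γ(X, U)) (s : P.obj (op U)) :
    appAdd φ U (r • s) = r • appAdd φ U s :=
  (φ.app (op U)).hom.map_smul r s

/-- the map on stalks induced by a morphism of presheaves of modules -/
noncomputable def stalkMap {P Q : PM X} (φ : P ⟶ Q) : stalkObj x P ⟶ stalkObj x Q :=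
  stalkDesc x P (stalkObj x Q)
    (fun U hx => ((pre Q).germ U x hx).hom.comp (appAdd φ U))
    (fun U V i hx s => by
      change (pre Q).germ V x hx (appAdd φ V ((pre P).map i.op s)) =
        (pre Q).germ U x (i.le hx) (appAdd φ U s)
      rw [appAdd_res]
      exact (pre Q).germ_res_apply i x hx _)
    (fun U hx r s => by
      change (pre Q).germ U x hx (appAdd φ U (r • s)) = _ • (pre Q).germ U x hx (appAdd φ U s)
      rw [appAdd_smul, germ_smul])

lemma stalkMap_germ {P Q : PM X} (φ : P ⟶ Q) (U : X.Opens) (hx : x ∈ U) (s : P.obj (op U)) :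
    (stalkMap x φ).hom ((pre P).germ U x hx s) = (pre Q).germ U x hx (appAdd φ U s) :=
  stalkDesc_germ x P _ _ _ _ U hx s

/-- the stalk functor on presheaves of modules -/
noncomputable def stalkPre : PM X ⥤ ModuleCat.{u} (X.presheaf.stalk x) where
  obj P := stalkObj x P
  map φ := stalkMap x φ
  map_id P := by
    apply stalk_hom_ext
    intro U hx s
    rw [stalkMap_germ]
    rfl
  map_comp φ ψ := by
    apply stalk_hom_ext
    intro U hx s
    rw [stalkMap_germ]
    change _ = (stalkMap x ψ).hom ((stalkMap x φ).hom _)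
    rw [stalkMap_germ, stalkMap_germ]
    rfl

end functor

section tensor

open MonoidalCategory TensorProduct

variable (P Q : PM X)

/-- pure tensors in the sections of the presheaf tensor product -/
noncomputable def tm {U : X.Opens} (a : P.obj (op U)) (b : Q.obj (op U)) : (P ⊗ Q).obj (op U) :=
  a ⊗ₜ[Γ(X, U)] b

lemma res_tm {U V : X.Opens} (i : V ⟶ U) (a : P.obj (op U)) (b : Q.obj (op U)) :
    (pre (P ⊗ Q)).map i.op (tm P Q a b) = tm P Q ((pre P).map i.op a) ((pre Q).map i.op b) := rfl

lemma smul_tm {U : X.Opens} (r : Γ(X, U)) (a : P.obj (op U)) (b : Q.obj (op U)) :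
    r • tm P Q a b = tm P Q (r • a) b := rfl

lemma tm_smul {U : X.Opens} (r : Γ(X, U)) (a : P.obj (op U)) (b : Q.obj (op U)) :
    tm P Q a (r • b) = tm P Q (r • a) b := (TensorProduct.smul_tmul r a b).symm

lemma tm_add {U : X.Opens} (a : P.obj (op U)) (b b' : Q.obj (op U)) :
    tm P Q a (b + b') = tm P Q a b + tm P Q a b' := TensorProduct.tmul_add a b b'

lemma add_tm {U : X.Opens} (a a' : P.obj (op U)) (b : Q.obj (op U)) :
    tm P Q (a + a') b = tm P Q a b + tm P Q a' b := TensorProduct.add_tmul a a' b

/-- induction on sections of the presheaf tensor product -/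
lemma tm_induction {U : X.Opens} {motive : (P ⊗ Q).obj (op U) → Prop}
    (zero : motive 0) (tmul : ∀ a b, motive (tm P Q a b))
    (add : ∀ s t, motive s → motive t → motive (s + t)) (t : (P ⊗ Q).obj (op U)) : motive t :=
  TensorProduct.induction_on (motive := motive) t zero tmul add

end tensor

end Groth.Agent.Lib.Helper25.StalkPre
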