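import Groth.Agent.Lib.Helper25.StalkPullUnit

/-!
# Faithfully flat pullback is injective on sections

`germ_eq_zero_of_germ_unit_eq_zero`, `eq_zero_of_unit_eq_zero`: for `f` flat (and surjective), a section `s` of `M` with
`η(s) = 0` in `f^* M` is zero.
-/
set_option autoImplicit false
universe u
open CategoryTheory CategoryTheory.Limits AlgebraicGeometry Opposite TopologicalSpace
open ChangeOfRings

namespace Groth.Agent.Lib.Helper25.StalkSky

variable {X Y : Scheme.{u}} (f : X ⟶ Y)

/-- for a flat morphism, a section whose pullback has zero germ at `x` has zero germ at `f x` -/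
theorem germ_eq_zero_of_germ_unit_eq_zero [Flat f] (x : X) (M : Y.Modules) (V : Y.Opens) (hx : f x ∈ V)
    (s : Γ(M, V))
    (h : ((Scheme.Modules.pullback f).obj M).presheaf.germ (f ⁻¹ᵁ V) x hx ((pbUnit f M).app V s) = 0) :
    M.presheaf.germ V (f x) hx s = 0 := by
  have h1 := stalkPullbackIso_hom_germ_unit f x M V hx s
  have h0 : ((stalkPullbackIso f x).hom.app M).hom
      (((Scheme.Modules.pullback f).obj M).presheaf.germ (f ⁻¹ᵁ V) x hx ((pbUnit f M).app V s)) = 0 :=
    (congrArg ((stalkPullbackIso f x).hom.app M).hom h).trans (map_zero _)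
  rw [h0] at h1
  algebraize [(f.stalkMap x).hom]
  have : Module.FaithfullyFlat (Y.presheaf.stalk (f x)) (X.presheaf.stalk x) :=
    @Module.FaithfullyFlat.of_flat_of_isLocalHom _ _ _ _ _ _ _
      (Flat.stalkMap f x) (f.toLRSHom.prop x)
  have hinj := Module.FaithfullyFlat.tensorProduct_mk_injective (A := Y.presheaf.stalk (f x))
    (B := X.presheaf.stalk x) (M.presheaf.stalk (f x))
  apply hinj
  exact h1.symm.trans (map_zero _).symm

/-- for a flat surjective morphism, a section whose pullback vanishes is zero -/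
theorem eq_zero_of_unit_eq_zero [Flat f] [Surjective f] (M : Y.Modules) (V : Y.Opens) (s : Γ(M, V))
    (h : (pbUnit f M).app V s = 0) : s = 0 := by
  refine TopCat.Presheaf.section_ext ⟨M.presheaf, M.isSheaf⟩ V s 0 (fun y hy => ?_)
  obtain ⟨x, rfl⟩ := ‹Surjective f›.surj y
  have := germ_eq_zero_of_germ_unit_eq_zero f x M V hy s
    ((congrArg (((Scheme.Modules.pullback f).obj M).presheaf.germ (f ⁻¹ᵁ V) x hy) h).trans (map_zero _))
  exact this.trans (map_zero _).symm

end Groth.Agent.Lib.Helper25.StalkSky
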