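import Groth.Agent.Lib.Helper25.StalkPre

/-!
# The stalk of the presheaf tensor product is the tensor product of the stalks

For presheaves of modules `P Q` over the structure presheaf of a scheme and a point `x`,
`stalkTensorIso x P Q : (P ⊗ Q)_x ≅ P_x ⊗ Q_x` (`phi`, `psi`), natural in both variables
(`phi_naturality`).
-/
set_option autoImplicit false
universe u
open CategoryTheory CategoryTheory.Limits AlgebraicGeometry Opposite TopologicalSpace

namespace Groth.Agent.Lib.Helper25.StalkPre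

variable {X : Scheme.{u}} (x : X)

section gm

/-- restriction of sections, as an additive map between the section modules -/
noncomputable def rs (P : PM X) {U V : X.Opens} (i : V ⟶ U) : P.obj (op U) →+ P.obj (op V) :=
  ((pre P).map i.op).hom

/-- germs of sections, as an additive map -/
noncomputable def gm (P : PM X) (U : X.Opens) (hx : x ∈ U) : P.obj (op U) →+ stalkObj x P :=
  ((pre P).germ U x hx).hom

lemma rs_apply (P : PM X) {U V : X.Opens} (i : V ⟶ U) (s : P.obj (op U)) :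
    rs P i s = (pre P).map i.op s := rfl

lemma gm_apply (P : PM X) (U : X.Opens) (hx : x ∈ U) (s : P.obj (op U)) :
    gm x P U hx s = (pre P).germ U x hx s := rfl

lemma gm_res (P : PM X) {U V : X.Opens} (i : V ⟶ U) (hx : x ∈ V) (s : P.obj (op U)) :
    gm x P V hx (rs P i s) = gm x P U (i.le hx) s :=
  (pre P).germ_res_apply i x hx s

lemma gm_smul (P : PM X) (U : X.Opens) (hx : x ∈ U) (r : Γ(X, U)) (s : P.obj (op U)) :
    gm x P U hx (r • s) = X.presheaf.germ U x hx r • gm x P U hx s :=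
  germ_smul x P U hx r s

lemma rs_smul (P : PM X) {U V : X.Opens} (i : V ⟶ U) (r : Γ(X, U)) (s : P.obj (op U)) :
    rs P i (r • s) = X.presheaf.map i.op r • rs P i s :=
  PresheafOfModules.map_smul P i.op r s

lemma exists_gm (P : PM X) (m : stalkObj x P) :
    ∃ (U : X.Opens) (hx : x ∈ U) (s : P.obj (op U)), gm x P U hx s = m :=
  exists_germ x P m

lemma rs_tm (P Q : PM X) {U V : X.Opens} (i : V ⟶ U) (a : P.obj (op U)) (b : Q.obj (op U)) :
    rs (MonoidalCategory.tensorObj P Q) i (tm P Q a b) = tm P Q (rs P i a) (rs Q i b) := rfl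

end gm

section phi

open MonoidalCategory TensorProduct

variable (P Q : PM X)

/-- the target `P_x ⊗ Q_x` -/
noncomputable abbrev tensStalk : ModuleCat.{u} (X.presheaf.stalk x) :=
  stalkObj x P ⊗ stalkObj x Q

/-- pure tensors of germs -/
noncomputable def gt {U : X.Opens} (hx : x ∈ U) (a : P.obj (op U)) (b : Q.obj (op U)) :
    tensStalk x P Q :=
  gm x P U hx a ⊗ₜ[X.presheaf.stalk x] gm x Q U hx b

lemma gt_add {U : X.Opens} (hx : x ∈ U) (a : P.obj (op U)) (b b' : Q.obj (op U)) :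
    gt x P Q hx a (b + b') = gt x P Q hx a b + gt x P Q hx a b' := by
  unfold gt
  rw [map_add, TensorProduct.tmul_add]

lemma add_gt {U : X.Opens} (hx : x ∈ U) (a a' : P.obj (op U)) (b : Q.obj (op U)) :
    gt x P Q hx (a + a') b = gt x P Q hx a b + gt x P Q hx a' b := by
  unfold gt
  rw [map_add, TensorProduct.add_tmul]

lemma smul_gt {U : X.Opens} (hx : x ∈ U) (r : Γ(X, U)) (a : P.obj (op U)) (b : Q.obj (op U)) :
    gt x P Q hx (r • a) b = X.presheaf.germ U x hx r • gt x P Q hx a b := by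
  unfold gt
  rw [gm_smul, TensorProduct.smul_tmul']

lemma gt_smul {U : X.Opens} (hx : x ∈ U) (r : Γ(X, U)) (a : P.obj (op U)) (b : Q.obj (op U)) :
    gt x P Q hx a (r • b) = gt x P Q hx (r • a) b := by
  unfold gt
  rw [gm_smul, gm_smul, TensorProduct.smul_tmul]

lemma gt_res {U V : X.Opens} (i : V ⟶ U) (hx : x ∈ V) (a : P.obj (op U)) (b : Q.obj (op U)) :
    gt x P Q hx (rs P i a) (rs Q i b) = gt x P Q (i.le hx) a b := by
  unfold gt
  rw [gm_res, gm_res]

/-- the additive map `P(U) ⊗ Q(U) → P_x ⊗ Q_x` -/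
noncomputable def phiAdd (U : X.Opens) (hx : x ∈ U) : (P ⊗ Q).obj (op U) →+ tensStalk x P Q :=
  TensorProduct.liftAddHom
    { toFun := fun a =>
        { toFun := fun b => gt x P Q hx a b
          map_zero' := by
            have := gt_add x P Q hx a 0 0
            rw [add_zero] at this
            exact left_eq_add.mp this
          map_add' := fun b b' => gt_add x P Q hx a b b' }
      map_zero' := by
        ext b
        have := add_gt x P Q hx 0 0 b
        rw [add_zero] at this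
        exact left_eq_add.mp this
      map_add' := fun a a' => by
        ext b
        exact add_gt x P Q hx a a' b }
    (fun r a b => (gt_smul x P Q hx r a b).symm)

lemma phiAdd_tm (U : X.Opens) (hx : x ∈ U) (a : P.obj (op U)) (b : Q.obj (op U)) :
    phiAdd x P Q U hx (tm P Q a b) = gt x P Q hx a b := rfl

/-- `(P ⊗ Q)_x ⟶ P_x ⊗ Q_x` -/
noncomputable def phi : stalkObj x (P ⊗ Q) ⟶ tensStalk x P Q :=
  stalkDesc x (P ⊗ Q) (tensStalk x P Q) (phiAdd x P Q)
    (fun U V i hx t => by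
      change phiAdd x P Q V hx (rs (P ⊗ Q) i t) = phiAdd x P Q U (i.le hx) t
      induction t using tm_induction with
      | zero => rw [map_zero, map_zero, map_zero]
      | tmul a b => rw [rs_tm, phiAdd_tm, phiAdd_tm, gt_res]
      | add s t hs ht => rw [map_add, map_add, map_add, hs, ht])
    (fun U hx r t => by
      induction t using tm_induction with
      | zero => rw [smul_zero, map_zero, smul_zero]
      | tmul a b => rw [smul_tm, phiAdd_tm, phiAdd_tm, smul_gt]
      | add s t hs ht => rw [smul_add, map_add, map_add, hs, ht, smul_add])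

lemma phi_gm_tm (U : X.Opens) (hx : x ∈ U) (a : P.obj (op U)) (b : Q.obj (op U)) :
    (phi x P Q).hom (gm x (P ⊗ Q) U hx (tm P Q a b)) = gt x P Q hx a b :=
  stalkDesc_germ x (P ⊗ Q) _ _ _ _ U hx _

end phi

section psi

open MonoidalCategory TensorProduct

variable (P Q : PM X)

lemma rs_rs (P : PM X) {U V W : X.Opens} (i : V ⟶ U) (j : W ⟶ V) (s : P.obj (op U)) :
    rs P j (rs P i s) = rs P (j ≫ i) s := by
  have := (pre P).map_comp i.op j.op
  exact (ConcreteCategory.congr_hom this s).symm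

lemma tm_zero {U : X.Opens} (a : P.obj (op U)) : tm P Q a (0 : Q.obj (op U)) = 0 :=
  TensorProduct.tmul_zero _ a

lemma zero_tm {U : X.Opens} (b : Q.obj (op U)) : tm P Q (0 : P.obj (op U)) b = 0 :=
  TensorProduct.zero_tmul _ b

lemma gm_tm_res {U W : X.Opens} (k : W ⟶ U) (hx : x ∈ W) (a : P.obj (op U)) (b : Q.obj (op U)) :
    gm x (P ⊗ Q) W hx (tm P Q (rs P k a) (rs Q k b)) = gm x (P ⊗ Q) U (k.le hx) (tm P Q a b) := by
  rw [← rs_tm, gm_res]

/-- germ of `a|_W ⊗ b|_W` for sections over possibly different opens -/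
noncomputable def gtm {U V W : X.Opens} (hx : x ∈ W) (i : W ⟶ U) (j : W ⟶ V)
    (a : P.obj (op U)) (b : Q.obj (op V)) : stalkObj x (P ⊗ Q) :=
  gm x (P ⊗ Q) W hx (tm P Q (rs P i a) (rs Q j b))

lemma gtm_res {U V W W' : X.Opens} (hx : x ∈ W') (k : W' ⟶ W) (i : W ⟶ U) (j : W ⟶ V)
    (i' : W' ⟶ U) (j' : W' ⟶ V) (a : P.obj (op U)) (b : Q.obj (op V)) :
    gtm x P Q hx i' j' a b = gtm x P Q (k.le hx) i j a b := by
  unfold gtm
  rw [← gm_tm_res x P Q k hx, rs_rs, rs_rs]
  rw [Subsingleton.elim (k ≫ i) i', Subsingleton.elim (k ≫ j) j']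

/-- independence of the open on which the product is formed -/
lemma gtm_indep {U V W W' : X.Opens} (hx : x ∈ W) (hx' : x ∈ W') (i : W ⟶ U) (j : W ⟶ V)
    (i' : W' ⟶ U) (j' : W' ⟶ V) (a : P.obj (op U)) (b : Q.obj (op V)) :
    gtm x P Q hx i j a b = gtm x P Q hx' i' j' a b := by
  have h1 := gtm_res x P Q (W := W) (W' := W ⊓ W') ⟨hx, hx'⟩ (homOfLE inf_le_left) i j
    (homOfLE inf_le_left ≫ i) (homOfLE inf_le_left ≫ j) a b
  have h2 := gtm_res x P Q (W := W') (W' := W ⊓ W') ⟨hx, hx'⟩ (homOfLE inf_le_right) i' j'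
    (homOfLE inf_le_left ≫ i) (homOfLE inf_le_left ≫ j) a b
  exact h1.symm.trans h2

lemma gtm_add {U V W : X.Opens} (hx : x ∈ W) (i : W ⟶ U) (j : W ⟶ V)
    (a : P.obj (op U)) (b b' : Q.obj (op V)) :
    gtm x P Q hx i j a (b + b') = gtm x P Q hx i j a b + gtm x P Q hx i j a b' := by
  unfold gtm
  rw [map_add, tm_add, map_add]

lemma add_gtm {U V W : X.Opens} (hx : x ∈ W) (i : W ⟶ U) (j : W ⟶ V)
    (a a' : P.obj (op U)) (b : Q.obj (op V)) :
    gtm x P Q hx i j (a + a') b = gtm x P Q hx i j a b + gtm x P Q hx i j a' b := by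
  unfold gtm
  rw [map_add, add_tm, map_add]

lemma gtm_zero {U V W : X.Opens} (hx : x ∈ W) (i : W ⟶ U) (j : W ⟶ V)
    (a : P.obj (op U)) : gtm x P Q hx i j a (0 : Q.obj (op V)) = 0 := by
  unfold gtm
  rw [map_zero, tm_zero, map_zero]

lemma zero_gtm {U V W : X.Opens} (hx : x ∈ W) (i : W ⟶ U) (j : W ⟶ V)
    (b : Q.obj (op V)) : gtm x P Q hx i j (0 : P.obj (op U)) b = 0 := by
  unfold gtm
  rw [map_zero, zero_tm, map_zero]

lemma smul_gtm {U V W : X.Opens} (hx : x ∈ W) (i : W ⟶ U) (j : W ⟶ V)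
    (r : Γ(X, U)) (a : P.obj (op U)) (b : Q.obj (op V)) :
    gtm x P Q hx i j (r • a) b = X.presheaf.germ U x (i.le hx) r • gtm x P Q hx i j a b := by
  unfold gtm
  rw [rs_smul, ← smul_tm, gm_smul, X.presheaf.germ_res_apply i x hx r]

lemma gtm_smul {U V W : X.Opens} (hx : x ∈ W) (i : W ⟶ U) (j : W ⟶ V)
    (r : Γ(X, V)) (a : P.obj (op U)) (b : Q.obj (op V)) :
    gtm x P Q hx i j a (r • b) = X.presheaf.germ V x (j.le hx) r • gtm x P Q hx i j a b := by
  unfold gtm
  rw [rs_smul, tm_smul, ← smul_tm, gm_smul, X.presheaf.germ_res_apply j x hx r]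

lemma gtm_rs_left {U U' V W : X.Opens} (hx : x ∈ W) (l : U' ⟶ U) (i : W ⟶ U') (j : W ⟶ V)
    (a : P.obj (op U)) (b : Q.obj (op V)) :
    gtm x P Q hx i j (rs P l a) b = gtm x P Q hx (i ≫ l) j a b := by
  unfold gtm
  rw [rs_rs]

lemma gtm_rs_right {U V V' W : X.Opens} (hx : x ∈ W) (l : V' ⟶ V) (i : W ⟶ U) (j : W ⟶ V')
    (a : P.obj (op U)) (b : Q.obj (op V)) :
    gtm x P Q hx i j a (rs Q l b) = gtm x P Q hx i (j ≫ l) a b := by
  unfold gtm
  rw [rs_rs]

omit P Q in
lemma memInf {U V : X.Opens} (hx : x ∈ U) (hx' : x ∈ V) : x ∈ U ⊓ V := ⟨hx, hx'⟩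

/-- for a section `a` of `P` near `x`, the map `Q_x ⟶ (P ⊗ Q)_x`, `b ↦ a ⊗ b` -/
noncomputable def psiA (U : X.Opens) (hx : x ∈ U) (a : P.obj (op U)) :
    stalkObj x Q ⟶ stalkObj x (P ⊗ Q) :=
  stalkDesc x Q (stalkObj x (P ⊗ Q))
    (fun V hx' =>
      { toFun := fun b => gtm x P Q (W := U ⊓ V) (memInf x hx hx') (homOfLE inf_le_left)
          (homOfLE inf_le_right) a b
        map_zero' := gtm_zero x P Q _ _ _ a
        map_add' := fun b b' => gtm_add x P Q _ _ _ a b b' })
    (fun V V' j hx' b => by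
      change gtm x P Q (W := U ⊓ V') (memInf x hx hx') (homOfLE inf_le_left) (homOfLE inf_le_right) a
        (rs Q j b) = gtm x P Q (W := U ⊓ V) (memInf x hx (j.le hx')) (homOfLE inf_le_left)
          (homOfLE inf_le_right) a b
      rw [gtm_rs_right]
      exact gtm_indep x P Q _ _ _ _ _ _ a b)
    (fun V hx' r b => gtm_smul x P Q _ _ _ r a b)

lemma psiA_gm (U : X.Opens) (hx : x ∈ U) (a : P.obj (op U)) (V : X.Opens) (hx' : x ∈ V)
    (b : Q.obj (op V)) :
    (psiA x P Q U hx a).hom (gm x Q V hx' b) =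
      gtm x P Q (W := U ⊓ V) (memInf x hx hx') (homOfLE inf_le_left) (homOfLE inf_le_right) a b :=
  stalkDesc_germ x Q _ _ _ _ V hx' b

/-- the bilinear map `P_x → Hom(Q_x, (P ⊗ Q)_x)` -/
noncomputable def psiB : stalkObj x P ⟶
    ModuleCat.of (X.presheaf.stalk x) (stalkObj x Q →ₗ[X.presheaf.stalk x] stalkObj x (P ⊗ Q)) :=
  stalkDesc x P _
    (fun U hx =>
      { toFun := fun a => (psiA x P Q U hx a).hom
        map_zero' := by
          change _ = (0 : stalkObj x Q ⟶ stalkObj x (P ⊗ Q)).hom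
          congr 1
          apply stalk_hom_ext
          intro V hx' b
          erw [psiA_gm, zero_gtm]
          rfl
        map_add' := fun a a' => by
          change _ = (psiA x P Q U hx a + psiA x P Q U hx a').hom
          congr 1
          apply stalk_hom_ext
          intro V hx' b
          erw [psiA_gm]
          change _ = (psiA x P Q U hx a).hom (gm x Q V hx' b) + (psiA x P Q U hx a').hom (gm x Q V hx' b)
          rw [psiA_gm, psiA_gm, add_gtm] })
    (fun U U' l hx a => by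
      change (psiA x P Q U' hx (rs P l a)).hom = (psiA x P Q U (l.le hx) a).hom
      congr 1
      apply stalk_hom_ext
      intro V hx' b
      erw [psiA_gm, psiA_gm]
      rw [gtm_rs_left]
      exact gtm_indep x P Q _ _ _ _ _ _ a b)
    (fun U hx r a => by
      change (psiA x P Q U hx (r • a)).hom = X.presheaf.germ U x hx r • (psiA x P Q U hx a).hom
      apply LinearMap.ext
      intro n
      obtain ⟨V, hx', b, rfl⟩ := exists_gm x Q n
      rw [LinearMap.smul_apply, psiA_gm, psiA_gm, smul_gtm])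

lemma psiB_gm_gm (U : X.Opens) (hx : x ∈ U) (a : P.obj (op U)) (V : X.Opens) (hx' : x ∈ V)
    (b : Q.obj (op V)) :
    ((psiB x P Q).hom (gm x P U hx a)) (gm x Q V hx' b) =
      gtm x P Q (W := U ⊓ V) (memInf x hx hx') (homOfLE inf_le_left) (homOfLE inf_le_right) a b := by
  have h : (psiB x P Q).hom (gm x P U hx a) = (psiA x P Q U hx a).hom :=
    stalkDesc_germ x P _ _ _ _ U hx a
  rw [h, psiA_gm]

/-- `P_x ⊗ Q_x ⟶ (P ⊗ Q)_x` -/
noncomputable def psi : tensStalk x P Q ⟶ stalkObj x (P ⊗ Q) :=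
  ModuleCat.ofHom (TensorProduct.lift (psiB x P Q).hom)

lemma psi_tmul_gm (U : X.Opens) (hx : x ∈ U) (a : P.obj (op U)) (V : X.Opens) (hx' : x ∈ V)
    (b : Q.obj (op V)) :
    (psi x P Q).hom (gm x P U hx a ⊗ₜ[X.presheaf.stalk x] gm x Q V hx' b) =
      gtm x P Q (W := U ⊓ V) (memInf x hx hx') (homOfLE inf_le_left) (homOfLE inf_le_right) a b := by
  change TensorProduct.lift (psiB x P Q).hom _ = _
  rw [TensorProduct.lift.tmul, psiB_gm_gm]

lemma psi_gt (U : X.Opens) (hx : x ∈ U) (a : P.obj (op U)) (b : Q.obj (op U)) :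
    (psi x P Q).hom (gt x P Q hx a b) = gm x (P ⊗ Q) U hx (tm P Q a b) := by
  unfold gt
  rw [psi_tmul_gm]
  unfold gtm
  exact gm_tm_res x P Q (homOfLE inf_le_left) _ a b

/-- two elements of the two stalks can be represented on a common open -/
lemma exists_gm₂ (m : stalkObj x P) (n : stalkObj x Q) :
    ∃ (W : X.Opens) (hx : x ∈ W) (a : P.obj (op W)) (b : Q.obj (op W)),
      gm x P W hx a = m ∧ gm x Q W hx b = n := by
  obtain ⟨U, hxU, a, rfl⟩ := exists_gm x P m
  obtain ⟨V, hxV, b, rfl⟩ := exists_gm x Q n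
  exact ⟨U ⊓ V, memInf x hxU hxV, rs P (homOfLE inf_le_left) a, rs Q (homOfLE inf_le_right) b,
    gm_res x P _ _ a, gm_res x Q _ _ b⟩

lemma phi_psi : psi x P Q ≫ phi x P Q = 𝟙 _ := by
  apply ModuleCat.hom_ext
  apply TensorProduct.ext'
  intro m n
  obtain ⟨W, hx, a, b, rfl, rfl⟩ := exists_gm₂ x P Q m n
  change (phi x P Q).hom ((psi x P Q).hom (gt x P Q hx a b)) = gt x P Q hx a b
  rw [psi_gt, phi_gm_tm]

lemma psi_phi : phi x P Q ≫ psi x P Q = 𝟙 _ := by
  apply stalk_hom_ext
  intro U hx t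
  change (psi x P Q).hom ((phi x P Q).hom (gm x (P ⊗ Q) U hx t)) = gm x (P ⊗ Q) U hx t
  induction t using tm_induction with
  | zero => rw [map_zero, map_zero, map_zero]
  | tmul a b => rw [phi_gm_tm, psi_gt]
  | add s t hs ht => rw [map_add, map_add, map_add, hs, ht]

/-- the stalk of the presheaf tensor product is the tensor product of the stalks -/
noncomputable def stalkTensorIso : stalkObj x (P ⊗ Q) ≅ tensStalk x P Q where
  hom := phi x P Q
  inv := psi x P Q
  hom_inv_id := psi_phi x P Q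
  inv_hom_id := phi_psi x P Q

end psi

section naturality

open MonoidalCategory TensorProduct

lemma appAdd_tensorHom_tm {P P' Q Q' : PM X} (f : P ⟶ P') (g : Q ⟶ Q') (U : X.Opens)
    (a : P.obj (op U)) (b : Q.obj (op U)) :
    appAdd (f ⊗ₘ g) U (tm P Q a b) = tm P' Q' (appAdd f U a) (appAdd g U b) := rfl

lemma stalkMap_gm {P Q : PM X} (φ : P ⟶ Q) (U : X.Opens) (hx : x ∈ U) (s : P.obj (op U)) :
    (stalkMap x φ).hom (gm x P U hx s) = gm x Q U hx (appAdd φ U s) :=
  stalkMap_germ x φ U hx s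

lemma phi_naturality {P P' Q Q' : PM X} (f : P ⟶ P') (g : Q ⟶ Q') :
    stalkMap x (f ⊗ₘ g) ≫ phi x P' Q' = phi x P Q ≫ (stalkMap x f ⊗ₘ stalkMap x g) := by
  apply stalk_hom_ext
  intro U hx t
  change (phi x P' Q').hom ((stalkMap x (f ⊗ₘ g)).hom (gm x (P ⊗ Q) U hx t)) =
    (stalkMap x f ⊗ₘ stalkMap x g).hom ((phi x P Q).hom (gm x (P ⊗ Q) U hx t))
  induction t using tm_induction with
  | zero => rw [map_zero, map_zero, map_zero, map_zero, map_zero]
  | tmul a b =>
    rw [stalkMap_gm, appAdd_tensorHom_tm, phi_gm_tm, phi_gm_tm]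
    unfold gt
    rw [← stalkMap_gm, ← stalkMap_gm]
    rfl
  | add s t hs ht => rw [map_add, map_add, map_add, map_add, map_add, hs, ht]

end naturality

end Groth.Agent.Lib.Helper25.StalkPre
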