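import Groth.Agent.Lib.Helper25.StalkTensorBi
import Groth.Agent.Lib.Helper25.StalkExact
import Groth.Prelude.Def_TotMap
import Groth.Prelude.Def_KFlatSite

/-!
# The complex of stalks of a tensor product of complexes of `O_X`-modules

`stalkTensorCxIso x L E : (L ⊗ E)_x ≅ L_x ⊗ E_x` for `DCoh.tensorCx` and Mathlib's tensor product of complexes of modules over
the local ring (the one used by `DRing.IsKFlat`).
-/
set_option autoImplicit false
universe u
open CategoryTheory CategoryTheory.Limits AlgebraicGeometry Opposite TopologicalSpace MonoidalCategory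

namespace Groth.Agent.Lib.Helper25.StalkTensorCx

open Groth.Agent.Lib.Helper25.StalkPre Groth.Agent.Lib.Helper25.StalkExact

variable {X : Scheme.{u}} (x : X)

/-- the complex of stalks -/
noncomputable abbrev stalkCx : CochainComplex X.Modules ℤ ⥤ DRing.Cx (X.presheaf.stalk x) :=
  (DerSch.stalkFunctor X x).mapHomologicalComplex (ComplexShape.up ℤ)

instance preservesTotal_stalk (K : HomologicalComplex₂ X.Modules (ComplexShape.up ℤ) (ComplexShape.up ℤ)) :
    TotMap.PreservesTotal (DerSch.stalkFunctor X x) K (ComplexShape.up ℤ) := fun _ => inferInstance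

variable (L E : CochainComplex X.Modules ℤ)

/-- the stalk of the tensor product of two complexes of `O_X`-modules is the tensor product of the complexes of stalks -/
noncomputable def stalkTensorCxIso :
    (stalkCx x).obj ((DCoh.tensorCx.obj L).obj E) ≅ (stalkCx x).obj L ⊗ (stalkCx x).obj E :=
  haveI := TotMap.hasTotal_map₂ (DerSch.stalkFunctor X x)
    (((DCoh.tensorBi (X := X)).mapBifunctorHomologicalComplex _ _).obj L |>.obj E) (ComplexShape.up ℤ)
  TotMap.mapTotalIso (DerSch.stalkFunctor X x)
      (((DCoh.tensorBi (X := X)).mapBifunctorHomologicalComplex _ _).obj L |>.obj E) (ComplexShape.up ℤ) ≪≫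
    (HomologicalComplex₂.total.mapIso
      (TotMap.mapBifunctorPostcompIso (DCoh.tensorBi (X := X)) (DerSch.stalkFunctor X x) L E) (ComplexShape.up ℤ)).symm ≪≫
    TotMap.mapBifunctorNatIso L E (ComplexShape.up ℤ) (tensorBiStalkNatIso x) ≪≫
    (HomologicalComplex₂.total.mapIso
      (TotMap.mapBifunctorPrecompIso (DerSch.stalkFunctor X x) (DerSch.stalkFunctor X x)
        (curriedTensor (ModuleCat.{u} (X.presheaf.stalk x))) L E) (ComplexShape.up ℤ)).symm

end Groth.Agent.Lib.Helper25.StalkTensorCx
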