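import Mathlib

/-!
# A triangulated category with a bounded t-structure is idempotent complete (Le–Chen)

* `ring_conj`, `split_of_sq_zero`: idempotents `e`, `q` with `(e - q)² = 0` are conjugate by a unipotent, so `e`
  splits as soon as `q` does.
* `split_of_triangle`: an idempotent endomorphism of a distinguished triangle whose outer components split has a
  split middle component.
* `conc t n`: objects concentrated in degree `n` of a t-structure; every morphism there is admissible in the sense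
  of Mathlib's `AbelianSubcategory`, so idempotents have kernels and split (`split_of_conc`).
* `split_of_width`, `isIdempotentComplete_of_bounded`: induction on the width using the truncation triangles.
-/

set_option autoImplicit false
universe v u
open CategoryTheory CategoryTheory.Limits CategoryTheory.Pretriangulated

namespace Groth.Agent.Lib.helper25.TStructIdem

/-- Ring lemma: if `e`, `p` are idempotents with `(e - p)^2 = 0`, then `e` is conjugate to `p` by the unipotent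
`1 + x`, `x = (e-p) p - p (e-p)`. -/
lemma ring_conj {R : Type*} [Ring R] (e p : R) (he : e * e = e) (hp : p * p = p)
    (hδ : (e - p) * (e - p) = 0) :
    ((e - p) * p - p * (e - p)) * ((e - p) * p - p * (e - p)) = 0 ∧
      (1 + ((e - p) * p - p * (e - p))) * p * (1 - ((e - p) * p - p * (e - p))) = e := by
  set δ := e - p with hδdef
  have heq : e = p + δ := by rw [hδdef]; abel
  have h1 : p * δ + δ * p = δ := by
    have h := he
    rw [heq] at h
    have : (p + δ) * (p + δ) = p * p + (p * δ + δ * p) + δ * δ := by noncomm_ring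
    rw [this, hp, hδ, add_zero] at h
    exact add_left_cancel h
  have h2 : p * δ * p = 0 := by
    have h : p * (p * δ + δ * p) = p * δ := by rw [h1]
    have : p * (p * δ + δ * p) = p * p * δ + p * δ * p := by noncomm_ring
    rw [this, hp] at h
    exact add_left_cancel (a := p * δ) (by rw [h, add_zero])
  have h3 : δ * p * δ = 0 := by
    have h : (p * δ + δ * p) * δ = δ * δ := by rw [h1]
    have : (p * δ + δ * p) * δ = p * (δ * δ) + δ * p * δ := by noncomm_ring
    rw [this, hδ, mul_zero, zero_add] at h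
    exact h
  constructor
  · have : (δ * p - p * δ) * (δ * p - p * δ) =
        (δ * p * δ) * p - δ * (p * p) * δ - p * (δ * δ) * p + (p * δ * p) * δ := by noncomm_ring
    rw [this, h3, hp, hδ, h2, h3]; simp
  · have : (1 + (δ * p - p * δ)) * p * (1 - (δ * p - p * δ)) =
        p + δ * (p * p) - p * δ * p + (p * p) * δ - p * δ * p
        - (δ * (p * p) * δ) * p + δ * (p * p) * (p * δ) + (p * δ * p) * (δ * p) - (p * δ * p) * (p * δ) := by
      noncomm_ring
    have h4 : δ * p * (p * δ) = 0 := by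
      have : δ * p * (p * δ) = δ * (p * p) * δ := by noncomm_ring
      rw [this, hp, h3]
    rw [this, hp, h2, h3, h4]
    simp only [sub_zero, zero_mul, add_zero]
    have : p + δ * p + p * δ = p + (p * δ + δ * p) := by abel
    rw [this, h1, heq]


section Preadd

variable {C : Type u} [Category.{v} C] [Preadditive C]

/-- If `e`, `q` are idempotent endomorphisms with `(e - q)² = 0` and `q` splits, then `e` splits. -/
lemma split_of_sq_zero {X : C} (e q : X ⟶ X) (he : e ≫ e = e) (hq : q ≫ q = q)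
    (hδ : (e - q) ≫ (e - q) = 0)
    (hs : ∃ (A : C) (i : A ⟶ X) (r : X ⟶ A), i ≫ r = 𝟙 A ∧ r ≫ i = q) :
    ∃ (A : C) (i : A ⟶ X) (r : X ⟶ A), i ≫ r = 𝟙 A ∧ r ≫ i = e := by
  obtain ⟨A, i, r, hir, hri⟩ := hs
  let e' : End X := e
  let q' : End X := q
  obtain ⟨hx, hc⟩ := ring_conj e' q' he hq hδ
  set x : End X := (e' - q') * q' - q' * (e' - q') with hxdef
  have h1 : (1 - x) * (1 + x) = 1 := by
    have : (1 - x) * (1 + x) = 1 - x * x := by noncomm_ring
    rw [this, hx, sub_zero]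
  refine ⟨A, i ≫ (1 + x : End X), (1 - x : End X) ≫ r, ?_, ?_⟩
  · have h1' : (1 + x : End X) ≫ (1 - x : End X) = 𝟙 X := h1
    rw [Category.assoc, ← Category.assoc (1 + x : End X), h1', Category.id_comp, hir]
  · have : ((1 - x : End X) ≫ r) ≫ i ≫ (1 + x : End X) = (1 + x) * q' * (1 - x) := by
      rw [End.mul_def, End.mul_def, Category.assoc]
      show _ = (1 - x : End X) ≫ q ≫ (1 + x : End X)
      rw [← hri, Category.assoc]
    rw [this, hc]

end Preadd


section Pretri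

variable {C : Type u} [Category.{v} C] [Preadditive C] [HasZeroObject C] [HasShift C ℤ]
  [∀ n : ℤ, (shiftFunctor C n).Additive] [Pretriangulated C]

/-- An endomorphism of the middle term of a distinguished triangle killed by both adjacent maps squares to zero. -/
lemma sq_zero_of_triangle (T : Triangle C) (hT : T ∈ distTriang C) (ν : T.obj₂ ⟶ T.obj₂)
    (h1 : T.mor₁ ≫ ν = 0) (h2 : ν ≫ T.mor₂ = 0) : ν ≫ ν = 0 := by
  obtain ⟨φ, hφ⟩ := Triangle.yoneda_exact₂ T hT ν h1
  conv_lhs => rhs; rw [hφ]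
  rw [← Category.assoc, h2, zero_comp]

/-- **Le–Chen lemma**: an idempotent endomorphism of a distinguished triangle whose outer components split has a
split middle component. -/
lemma split_of_triangle (T : Triangle C) (hT : T ∈ distTriang C)
    (e' : T.obj₁ ⟶ T.obj₁) (e : T.obj₂ ⟶ T.obj₂) (e'' : T.obj₃ ⟶ T.obj₃)
    (he : e ≫ e = e)
    (c1 : T.mor₁ ≫ e = e' ≫ T.mor₁) (c2 : T.mor₂ ≫ e'' = e ≫ T.mor₂)
    (c3 : T.mor₃ ≫ e'⟦(1 : ℤ)⟧' = e'' ≫ T.mor₃)
    (hs' : ∃ (A : C) (i : A ⟶ T.obj₁) (r : T.obj₁ ⟶ A), i ≫ r = 𝟙 A ∧ r ≫ i = e')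
    (hs'' : ∃ (A : C) (i : A ⟶ T.obj₃) (r : T.obj₃ ⟶ A), i ≫ r = 𝟙 A ∧ r ≫ i = e'') :
    ∃ (A : C) (i : A ⟶ T.obj₂) (r : T.obj₂ ⟶ A), i ≫ r = 𝟙 A ∧ r ≫ i = e := by
  obtain ⟨A', i', r', hir', hri'⟩ := hs'
  obtain ⟨A'', i'', r'', hir'', hri''⟩ := hs''
  obtain ⟨A, uA, vA, hTA⟩ := distinguished_cocone_triangle₂ (i'' ≫ T.mor₃ ≫ r'⟦(1 : ℤ)⟧')
  have hie'' : i'' ≫ e'' = i'' := by rw [← hri'', ← Category.assoc, hir'', Category.id_comp]
  have her' : e' ≫ r' = r' := by rw [← hri', Category.assoc, hir', Category.comp_id]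
  obtain ⟨i, hi1, hi2⟩ : ∃ i : A ⟶ T.obj₂, uA ≫ i = i' ≫ T.mor₁ ∧ vA ≫ i'' = i ≫ T.mor₂ :=
      complete_distinguished_triangle_morphism₂ _ T hTA hT i' i'' (by
    show (i'' ≫ T.mor₃ ≫ r'⟦(1 : ℤ)⟧') ≫ i'⟦(1 : ℤ)⟧' = i'' ≫ T.mor₃
    rw [Category.assoc, Category.assoc, ← Functor.map_comp, hri', c3, ← Category.assoc, hie''])
  obtain ⟨r, hr1, hr2⟩ : ∃ r : T.obj₂ ⟶ A, T.mor₁ ≫ r = r' ≫ uA ∧ T.mor₂ ≫ r'' = r ≫ vA :=
      complete_distinguished_triangle_morphism₂ T _ hT hTA r' r'' (by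
    show T.mor₃ ≫ r'⟦(1 : ℤ)⟧' = r'' ≫ (i'' ≫ T.mor₃ ≫ r'⟦(1 : ℤ)⟧')
    rw [← Category.assoc r'', hri'', ← Category.assoc, ← c3, Category.assoc, ← Functor.map_comp, her'])
  -- ν = i ≫ r - 𝟙
  have hν1 : uA ≫ (i ≫ r - 𝟙 A) = 0 := by
    rw [Preadditive.comp_sub, ← Category.assoc, hi1, Category.assoc, hr1, ← Category.assoc, hir',
      Category.id_comp, Category.comp_id, sub_self]
  have hν2 : (i ≫ r - 𝟙 A) ≫ vA = 0 := by
    rw [Preadditive.sub_comp, Category.assoc, ← hr2, ← Category.assoc, ← hi2, Category.assoc, hir'',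
      Category.comp_id, Category.id_comp, sub_self]
  obtain ⟨ν, hνdef⟩ : ∃ ν : A ⟶ A, ν = i ≫ r - 𝟙 A := ⟨_, rfl⟩
  rw [← hνdef] at hν1 hν2
  have hνν : ν ≫ ν = 0 := sq_zero_of_triangle _ hTA ν hν1 hν2
  have hirν : i ≫ r = 𝟙 A + ν := by rw [hνdef]; abel
  have hinv : (𝟙 A + ν) ≫ (𝟙 A - ν) = 𝟙 A := by
    rw [Preadditive.add_comp, Preadditive.comp_sub, Preadditive.comp_sub, Category.id_comp, Category.comp_id,
      Category.id_comp, hνν]
    abel
  -- the split idempotent q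
  have hqsplit : i ≫ (r ≫ (𝟙 A - ν)) = 𝟙 A := by rw [← Category.assoc, hirν, hinv]
  obtain ⟨q, hqdef⟩ : ∃ q : T.obj₂ ⟶ T.obj₂, q = (r ≫ (𝟙 A - ν)) ≫ i := ⟨_, rfl⟩
  have hqq : q ≫ q = q := by
    rw [hqdef, Category.assoc, ← Category.assoc i, hqsplit, Category.id_comp]
  have hq1 : T.mor₁ ≫ q = e' ≫ T.mor₁ := by
    rw [hqdef, Category.assoc, ← Category.assoc T.mor₁, hr1, Category.assoc, ← Category.assoc uA,
      Preadditive.comp_sub, hν1, sub_zero, Category.comp_id, hi1, ← Category.assoc, hri']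
  have hq2 : q ≫ T.mor₂ = T.mor₂ ≫ e'' := by
    rw [hqdef, Category.assoc, ← hi2, Category.assoc, ← Category.assoc (𝟙 A - ν), Preadditive.sub_comp, hν2,
      sub_zero, Category.id_comp, ← Category.assoc, ← hr2, Category.assoc, hri'']
  have hδ : (e - q) ≫ (e - q) = 0 := by
    apply sq_zero_of_triangle T hT
    · rw [Preadditive.comp_sub, c1, hq1, sub_self]
    · rw [Preadditive.sub_comp, ← c2, hq2, sub_self]
  exact split_of_sq_zero e q he hqq hδ ⟨A, i, r ≫ (𝟙 A - ν), hqsplit, hqdef.symm⟩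

end Pretri


section TStr

open CategoryTheory.Triangulated

variable {C : Type u} [Category.{v} C] [Preadditive C] [HasZeroObject C] [HasShift C ℤ]
  [∀ n : ℤ, (shiftFunctor C n).Additive] [Pretriangulated C] [IsTriangulated C] (t : TStructure C)

/-- objects concentrated in a single degree `n` -/
def conc (n : ℤ) : ObjectProperty C := t.le n ⊓ t.ge n

lemma conc_isLE {n : ℤ} (X : (conc t n).FullSubcategory) : t.IsLE X.obj n := ⟨X.property.1⟩
lemma conc_isGE {n : ℤ} (X : (conc t n).FullSubcategory) : t.IsGE X.obj n := ⟨X.property.2⟩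

lemma conc_hι (n : ℤ) : ∀ ⦃X Y : (conc t n).FullSubcategory⦄ ⦃m : ℤ⦄
    (f : (conc t n).ι.obj X ⟶ ((conc t n).ι.obj Y)⟦m⟧), m < 0 → f = 0 := by
  intro X Y m f hm
  have : t.IsLE ((conc t n).ι.obj X) n := conc_isLE t X
  have := conc_isGE t Y
  have : t.IsGE (((conc t n).ι.obj Y)⟦m⟧) (n - m) := t.isGE_shift Y.obj n m (n - m) (by omega)
  exact t.zero f n (n - m) (by omega)

lemma conc_admissible (n : ℤ) {X₁ X₂ : (conc t n).FullSubcategory} (f₁ : X₁ ⟶ X₂) :
    AbelianSubcategory.admissibleMorphism (conc t n).ι f₁ := by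
  intro X₃ f₂ f₃ hT
  have := conc_isLE t X₁
  have := conc_isGE t X₁
  have := conc_isLE t X₂
  have := conc_isGE t X₂
  have h1 : t.IsLE (X₁.obj⟦(1 : ℤ)⟧) n := by
    have := t.isLE_shift X₁.obj n 1 (n - 1) (by omega)
    exact t.isLE_of_le _ (n - 1) n (by omega)
  have h2 : t.IsGE (X₁.obj⟦(1 : ℤ)⟧) (n - 1) := t.isGE_shift X₁.obj n 1 (n - 1) (by omega)
  have h3 : t.IsGE X₂.obj (n - 1) := t.isGE_of_ge _ (n - 1) n (by omega)
  have hLE : t.IsLE X₃ n := t.isLE₂ _ (rot_of_distTriang _ hT) n (by assumption) h1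
  have hGE : t.IsGE X₃ (n - 1) := t.isGE₂ _ (rot_of_distTriang _ hT) (n - 1) h3 h2
  have hK1 : t.IsLE (((t.truncLT n).obj X₃)⟦(-1 : ℤ)⟧) n :=
    t.isLE_shift ((t.truncLT n).obj X₃) (n - 1) (-1) n (by omega)
  have hK2 : t.IsGE (((t.truncLT n).obj X₃)⟦(-1 : ℤ)⟧) n :=
    t.isGE_shift ((t.truncLT n).obj X₃) (n - 1) (-1) n (by omega)
  let K : (conc t n).FullSubcategory := ⟨((t.truncLT n).obj X₃)⟦(-1 : ℤ)⟧, ⟨hK1.le, hK2.ge⟩⟩
  have hQ1 : t.IsLE ((t.truncGE n).obj X₃) n := inferInstance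
  have hQ2 : t.IsGE ((t.truncGE n).obj X₃) n := inferInstance
  let Q : (conc t n).FullSubcategory := ⟨(t.truncGE n).obj X₃, ⟨hQ1.le, hQ2.ge⟩⟩
  let ε : (((t.truncLT n).obj X₃)⟦(-1 : ℤ)⟧)⟦(1 : ℤ)⟧ ≅ (t.truncLT n).obj X₃ :=
    (shiftEquiv C (1 : ℤ)).counitIso.app _
  refine ⟨K, Q, ε.hom ≫ (t.truncLTι n).app X₃, (t.truncGEπ n).app X₃,
    (t.truncGEδLT n).app X₃ ≫ ε.inv⟦(1 : ℤ)⟧', ?_⟩
  refine isomorphic_distinguished _ (t.triangleLTGE_distinguished n X₃) _ ?_
  have h3 : ((t.truncGEδLT n).app X₃ ≫ ε.inv⟦(1 : ℤ)⟧') ≫ ε.hom⟦(1 : ℤ)⟧' = 𝟙 _ ≫ (t.truncGEδLT n).app X₃ := by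
    rw [Category.id_comp, Category.assoc, ← Functor.map_comp, ε.inv_hom_id, CategoryTheory.Functor.map_id]
    exact Category.comp_id _
  exact Triangle.isoMk _ _ ε (Iso.refl _) (Iso.refl _) (Category.comp_id _)
    ((Category.comp_id _).trans (Category.id_comp _).symm) h3


lemma conc_idempotentComplete (n : ℤ) : IsIdempotentComplete (conc t n).FullSubcategory := by
  rw [Idempotents.isIdempotentComplete_iff_idempotents_have_kernels]
  intro X p _
  exact AbelianSubcategory.hasKernel_of_admissibleMorphism (conc_hι t n) p (conc_admissible t n p)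

/-- idempotents on an object concentrated in one degree split -/
lemma split_of_conc (n : ℤ) (X : C) (h1 : t.IsLE X n) (h2 : t.IsGE X n) (e : X ⟶ X) (he : e ≫ e = e) :
    ∃ (A : C) (i : A ⟶ X) (r : X ⟶ A), i ≫ r = 𝟙 A ∧ r ≫ i = e := by
  have := conc_idempotentComplete t n
  let X' : (conc t n).FullSubcategory := ⟨X, ⟨h1.le, h2.ge⟩⟩
  let e' : X' ⟶ X' := ObjectProperty.homMk e
  obtain ⟨A, i, r, hir, hri⟩ := IsIdempotentComplete.idempotents_split X' e' (by
    apply (conc t n).ι.map_injective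
    exact he)
  exact ⟨A.obj, i.hom, r.hom, congrArg (fun f => (conc t n).ι.map f) hir,
    congrArg (fun f => (conc t n).ι.map f) hri⟩

/-- idempotents on bounded objects split, by induction on the width -/
lemma split_of_width (d : ℕ) : ∀ (a : ℤ) (X : C), t.IsGE X a → t.IsLE X (a + d) → ∀ (e : X ⟶ X), e ≫ e = e →
    ∃ (A : C) (i : A ⟶ X) (r : X ⟶ A), i ≫ r = 𝟙 A ∧ r ≫ i = e := by
  induction d with
  | zero =>
    intro a X h1 h2 e he
    exact split_of_conc t a X (by simpa using h2) h1 e he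
  | succ d ih =>
    intro a X h1 h2 e he
    have hT := t.triangleLTGE_distinguished (a + 1) X
    have hA1 : t.IsLE ((t.truncLT (a + 1)).obj X) a := inferInstance
    have hA2 : t.IsGE ((t.truncLT (a + 1)).obj X) a := inferInstance
    have hB1 : t.IsGE ((t.truncGE (a + 1)).obj X) (a + 1) := inferInstance
    have hB2 : t.IsLE ((t.truncGE (a + 1)).obj X) (a + 1 + d) := by
      have : t.IsLE X (a + 1 + d) := t.isLE_of_le _ (a + (d + 1 : ℕ)) _ (by push_cast; omega)
      infer_instance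
    have hs' := split_of_conc t a _ hA1 hA2 ((t.truncLT (a + 1)).map e)
      (by rw [← Functor.map_comp, he])
    have hs'' := ih (a + 1) _ hB1 hB2 ((t.truncGE (a + 1)).map e) (by rw [← Functor.map_comp, he])
    have hm := (t.triangleLTGE (a + 1)).map e
    exact split_of_triangle _ hT ((t.truncLT (a + 1)).map e) e ((t.truncGE (a + 1)).map e) he
      ((t.truncLTι (a + 1)).naturality e).symm ((t.truncGEπ (a + 1)).naturality e).symm
      ((t.truncGEδLT (a + 1)).naturality e).symm hs' hs''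

theorem isIdempotentComplete_of_bounded (hb : ∀ X : C, t.bounded X) : IsIdempotentComplete C := by
  refine ⟨fun X e he => ?_⟩
  obtain ⟨⟨a, ha⟩, ⟨b, hb'⟩⟩ := hb X
  obtain ⟨d, hd⟩ : ∃ d : ℕ, b ≤ a + d := ⟨(b - a).toNat, by omega⟩
  exact split_of_width t d a X ha (t.isLE_of_le _ b _ hd) e he

end TStr

end Groth.Agent.Lib.helper25.TStructIdem
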