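import Groth.Agent.Lib.Helper25.StalkTensorBi
import Groth.Prelude.Def_KLin

/-!
# The tensor product of `O_X`-modules is linear over global functions in the first variable (helper25)

* `shM_ext`: morphisms out of a sheafification are determined by their restriction along the unit `toSh`.
* `tensorBi_map_smulModΓ`: `(r·) ⊗ 𝟙 = (r·)` on `M ⊗ N` for a global function `r`.
* `tensorBi_map_smul`: for `X` over `Spec A`, `(a • 𝟙 M) ⊗ 𝟙 N = a • 𝟙 (M ⊗ N)`.
-/

set_option autoImplicit false
universe u
open CategoryTheory CategoryTheory.Limits AlgebraicGeometry Opposite TopologicalSpace MonoidalCategory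

namespace Groth.Agent.Lib.Helper25.TensorLin

open Groth.Agent.Lib.Helper25.StalkPre Groth.Agent.Lib.helper12.TensorRestrict

variable {X : Scheme.{u}}

/-- morphisms out of a sheafification are determined by their composite with the unit -/
lemma shM_ext (P : PM X) {Z : X.Modules} (φ ψ : shO P ⟶ Z)
    (h : toSh P ≫ toPMmap φ = toSh P ≫ toPMmap ψ) : φ = ψ := by
  apply ((adj X).homEquiv P Z).injective
  rw [Adjunction.homEquiv_unit, Adjunction.homEquiv_unit]
  exact h

/-- `(r·) ⊗ 𝟙 = (r·)` -/
theorem tensorBi_map_smulModΓ (M N : X.Modules) (r : Coh.Γtop X) :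
    ((DCoh.tensorBi (X := X)).map (Formal.smulModΓ M r)).app N =
      Formal.smulModΓ (((DCoh.tensorBi (X := X)).obj M).obj N) r := by
  rw [tensorBi_map_app_eq]
  apply shM_ext
  rw [← toSh_naturality]
  -- elementwise on sections of the presheaf tensor product
  apply PresheafOfModules.hom_ext
  intro U
  apply ModuleCat.hom_ext
  apply LinearMap.ext
  intro t
  obtain ⟨U⟩ := U
  induction t using tm_induction (toPM M) (toPM N) with
  | zero => simp
  | tmul a b =>
    change appAdd (toSh (toPM M ⊗ toPM N)) U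
        (appAdd (toPMmap (Formal.smulModΓ M r) ▷ toPM N) U (tm _ _ a b)) =
      appAdd (toPMmap (Formal.smulModΓ _ r)) U (appAdd (toSh (toPM M ⊗ toPM N)) U (tm _ _ a b))
    have h1 : appAdd (toPMmap (Formal.smulModΓ M r) ▷ toPM N) U (tm (toPM M) (toPM N) a b) =
        (X.presheaf.map (homOfLE (le_top : U ≤ ⊤)).op r : Γ(X, U)) • tm (toPM M) (toPM N) a b := rfl
    rw [h1, appAdd_smul]
    rfl
  | add s t hs ht =>
    rw [map_add, map_add, hs, ht]

section Over

variable {A : Type u} [CommRing A] [X.Over (Spec (CommRingCat.of A))]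

/-- `(a • 𝟙 M) ⊗ 𝟙 N = a • 𝟙 (M ⊗ N)` -/
theorem tensorBi_map_smul (M N : X.Modules) (a : A) :
    ((DCoh.tensorBi (X := X)).map (a • 𝟙 M)).app N =
      a • 𝟙 (((DCoh.tensorBi (X := X)).obj M).obj N) := by
  rw [KLin.smul_id, KLin.smul_id]
  exact tensorBi_map_smulModΓ M N _

/-- `(a • 𝟙 F) ⊗ 𝟙 K = a • 𝟙 (F ⊗ K)` for complexes -/
theorem tensorCx_map_smul (F K : CochainComplex X.Modules ℤ) (a : A) :
    ((DCoh.tensorCx (X := X)).map (a • 𝟙 F)).app K =
      a • 𝟙 (((DCoh.tensorCx (X := X)).obj F).obj K) := by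
  apply HomologicalComplex.hom_ext
  intro n
  apply HomologicalComplex.mapBifunctor.hom_ext
  intro p q hpq
  change HomologicalComplex.ιMapBifunctor F K (DCoh.tensorBi (X := X)) (ComplexShape.up ℤ) p q n hpq ≫
    (HomologicalComplex.mapBifunctorMap (a • 𝟙 F) (𝟙 K) (DCoh.tensorBi (X := X))
      (ComplexShape.up ℤ)).f n = _
  rw [HomologicalComplex.ι_mapBifunctorMap]
  simp only [HomologicalComplex.smul_f_apply, HomologicalComplex.id_f, CategoryTheory.Functor.map_id,
    Category.id_comp]
  rw [tensorBi_map_smul, Linear.smul_comp, Category.id_comp]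
  exact ((Linear.comp_smul _ _ _ _ a _).trans (congrArg (a • ·) (Category.comp_id _))).symm

end Over

end Groth.Agent.Lib.Helper25.TensorLin
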