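import Mathlib
import Groth.Agent.Lib.Helper25.ThomasonAffine
import Groth.Agent.Lib.Helper25.SchKInj2

/-!
# Thomason's extension theorem on affine schemes, in terms of representing complexes (helper25)

* `exists_cx_extension`: `X` affine, `U` quasi-compact open, `T` closed with quasi-compact complement, `F` perfect on `U`
  supported on `T ∩ U`.  Then `F ⊞ F[1]` (any binary biproduct) is the termwise restriction of a complex on `X` which is
  perfect and supported on `T`.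
-/

set_option autoImplicit false
universe u
open CategoryTheory CategoryTheory.Limits AlgebraicGeometry Opposite

attribute [local instance] HasDerivedCategory.standard

namespace Groth.Agent.Lib.Helper25.ThomasonCx

open Pretriangulated DerivedCategory TopologicalSpace Scheme.Modules ZeroObject
open Groth.Agent.Lib.helper25.DCohPerfect Groth.Agent.Lib.helper25.DCohRestrict
  Groth.Agent.Lib.Helper25.ThomasonAffine

theorem exists_cx_extension (X : Scheme.{u}) [IsAffine X] (T : Set X) (hT : IsClosed T)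
    (hTc : IsCompact Tᶜ) (U : X.Opens) (hU : IsCompact (U : Set X))
    (F : DCoh.D (U : Scheme.{u})) (hF : DCoh.IsPerfect F)
    (hFT : ∀ i : ℤ, CohB1.support (DCoh.HD F i) ⊆ {x : ↥(U : Scheme.{u}) | U.ι.base x ∈ T})
    [hb : HasBinaryBiproduct F (F⟦(1 : ℤ)⟧)] :
    ∃ G : CochainComplex X.Modules ℤ, DCoh.IsPerfect (DCoh.toD X G) ∧
      (∀ i : ℤ, CohB1.support (DCoh.HD (DCoh.toD X G) i) ⊆ T) ∧
      Nonempty (DerivedCategory.Q.obj ((DCoh.restrictCx U).obj G) ≅ @biprod _ _ _ F (F⟦(1 : ℤ)⟧) hb) := by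
  classical
  obtain ⟨sT, hsT, hOs⟩ := isCompact_and_isOpen_iff_finite_and_eq_biUnion_basicOpen.mp
    ⟨hTc, hT.isOpen_compl⟩
  let fs : List ↑Γ(X, ⊤) := hsT.toFinset.toList
  have hfs : ∀ f, f ∈ fs ↔ f ∈ sT := fun f => by simp [fs]
  have hfle : ∀ f ∈ fs, (X.basicOpen f : Set X) ⊆ Tᶜ := by
    intro f hf x hx
    rw [hOs]
    exact Set.mem_biUnion ((hfs f).1 hf) hx
  have hfcov : ∀ x, x ∉ T → ∃ f ∈ fs, x ∈ X.basicOpen f := by
    intro x hx
    have hx' : x ∈ ⋃ i ∈ sT, (X.basicOpen i : Set X) := by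
      rw [← hOs]; exact hx
    obtain ⟨f, hf, hxf⟩ := Set.mem_iUnion₂.1 hx'
    exact ⟨f, (hfs f).2 hf, hxf⟩
  obtain ⟨Q, hQ, hQz, ⟨eQ⟩⟩ := exists_perfect_extension_biprod_shift X U hU fs F hF
    (fun f hf => Groth.Agent.Lib.Helper25.SchKInj.isZero_restrictD_of_support _ F
      (fun i x hx hxf => hfle f hf hxf (hFT i hx)))
  obtain ⟨G, ⟨a⟩⟩ := exists_rep Q
  refine ⟨G, isPerfect_of_iso a.symm hQ, fun i x hx => ?_, ⟨?_⟩⟩
  · by_contra hxT
    obtain ⟨f, hf, hxf⟩ := hfcov x hxT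
    have h1 : IsZero ((DCoh.restrictD (X.basicOpen f).ι).obj (DCoh.toD X G)) :=
      IsZero.of_iso (hQz f hf) ((DCoh.restrictD _).mapIso a)
    exact Groth.Agent.Lib.Helper25.SchKInj.support_HD_restrictD _ _ h1 i hx hxf
  · exact (resDQIso U.ι G).symm ≪≫ (DCoh.restrictD U.ι).mapIso a ≪≫ eQ ≪≫
      (biprod.uniqueUpToIso F (F⟦(1 : ℤ)⟧)
        (@BinaryBiproduct.isBilimit _ _ _ F (F⟦(1 : ℤ)⟧) hb)).symm

end Groth.Agent.Lib.Helper25.ThomasonCx
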