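import Mathlib
import Groth.Prelude.Def_DRing2
import Groth.Agent.Lib.Helper7.TorBC

/-!
# helper25: base change for Tor under Tor-independence (S3537)
-/

set_option autoImplicit false
universe u

open CategoryTheory CategoryTheory.Limits TensorProduct MonoidalCategory

namespace Groth.Agent.Lib.Helper25.TorIndepBC

open Groth.Agent.Lib.helper7 Groth.Agent.Lib.helper7.TorBC

variable (A A' : Type u) [CommRing A] [CommRing A'] [Algebra A A']
variable (P : Type u) [AddCommGroup P] [Module A P]

section level0

variable (N' : Type u) [AddCommGroup N'] [Module A' N'] [Module A N'] [IsScalarTower A A' N']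

/-- `P ⊗_A N' ≃ (A' ⊗_A P) ⊗_{A'} N'` -/
noncomputable def θ' : P ⊗[A] N' ≃ₗ[A] (A' ⊗[A] P) ⊗[A'] N' :=
  (TensorProduct.comm A P N') ≪≫ₗ
    ((TensorProduct.AlgebraTensorModule.cancelBaseChange A A' A' N' P).symm.restrictScalars A) ≪≫ₗ
    ((TensorProduct.comm A' N' (A' ⊗[A] P)).restrictScalars A)

@[simp] lemma θ'_tmul (p : P) (n : N') : θ' A A' P N' (p ⊗ₜ n) = (1 ⊗ₜ p) ⊗ₜ n := by
  simp [θ']

/-- `θ'` as a semilinear map over `A → A'` -/
noncomputable def θ's : P ⊗[A] N' →ₛₗ[algebraMap A A'] (A' ⊗[A] P) ⊗[A'] N' where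
  toFun := θ' A A' P N'
  map_add' := (θ' A A' P N').map_add
  map_smul' a x := by
    change θ' A A' P N' (a • x) = algebraMap A A' a • θ' A A' P N' x
    rw [(θ' A A' P N').map_smul, algebraMap_smul]

lemma θ's_apply (x : P ⊗[A] N') : θ's A A' P N' x = θ' A A' P N' x := rfl

lemma θ's_bijective : Function.Bijective (θ's A A' P N') := (θ' A A' P N').bijective

end level0

lemma θ'_naturality {K' F' : Type u} [AddCommGroup K'] [Module A' K'] [Module A K'] [IsScalarTower A A' K']
    [AddCommGroup F'] [Module A' F'] [Module A F'] [IsScalarTower A A' F']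
    (j : K' →ₗ[A'] F') (z : P ⊗[A] K') :
    θ' A A' P F' (LinearMap.lTensor P (j.restrictScalars A) z) =
      LinearMap.lTensor (A' ⊗[A] P) j (θ' A A' P K' z) := by
  induction z using TensorProduct.induction_on with
  | zero => simp
  | add x y hx hy => simp only [map_add, hx, hy]
  | tmul p k => simp

section flatvanish

open TorAPI

lemma inj_rTensor_of_flat_over {K R : Type u} [AddCommGroup K] [Module A K] [AddCommGroup R] [Module A R]
    (j : K →ₗ[A] R) (h : Function.Injective (LinearMap.rTensor A' j))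
    (F' : Type u) [AddCommGroup F'] [Module A' F'] [Module A F'] [IsScalarTower A A' F']
    [Module.Flat A' F'] : Function.Injective (LinearMap.rTensor F' j) := by
  rw [← LinearMap.lTensor_inj_iff_rTensor_inj] at h ⊢
  have h2 : Function.Injective (LinearMap.baseChange A' j) := by
    intro x y hxy
    apply h
    simpa [LinearMap.baseChange_eq_ltensor] using hxy
  have h3 := Module.Flat.lTensor_preserves_injective_linearMap (M := F') (LinearMap.baseChange A' j) h2
  intro x y hxy
  apply (θ A A' F' K).injective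
  apply h3
  rw [← θ_naturality, ← θ_naturality, hxy]

/-- the tor-independence hypothesis propagates to `Tor_n(M, F')` for `F'` flat over `A'` -/
theorem isZero_T_of_flat_over : ∀ (n : ℕ) (M : ModuleCat.{u} A)
    (_ : ∀ q : ℕ, IsZero ((T (q + 1) M).obj (ModuleCat.of A A')))
    (F' : Type u) [AddCommGroup F'] [Module A' F'] [Module A F'] [IsScalarTower A A' F']
    [Module.Flat A' F'], IsZero ((T (n + 1) M).obj (ModuleCat.of A F')) := by
  intro n
  induction n with
  | zero =>
    intro M hM F' _ _ _ _ _
    have hS := pres_shortExact M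
    have h1 : Mono ((pres M).f ▷ (ModuleCat.of A A')) :=
      (isZero_one_iff₁ hS (ModuleCat.of A A') (isZero_T_flat (pres M).X₂ _ 0)).1 (hM 0)
    refine (isZero_one_iff₁ hS (ModuleCat.of A F') (isZero_T_flat (pres M).X₂ _ 0)).2 ?_
    rw [ModuleCat.mono_iff_injective] at h1 ⊢
    exact inj_rTensor_of_flat_over A A' (pres M).f.hom h1 F'
  | succ n ih =>
    intro M hM F' _ _ _ _ _
    have hS := pres_shortExact M
    refine (isZero_succ_iff₁ hS (ModuleCat.of A F') (n + 1) (isZero_T_flat (pres M).X₂ _ (n + 1))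
      (isZero_T_flat (pres M).X₂ _ n)).2 ?_
    refine ih (pres M).X₁ (fun q => ?_) F'
    exact (isZero_succ_iff₁ hS (ModuleCat.of A A') (q + 1) (isZero_T_flat (pres M).X₂ _ (q + 1))
      (isZero_T_flat (pres M).X₂ _ q)).1 (hM (q + 1))

end flatvanish

section main

open TorAPI

/-- **Base change for Tor under Tor-independence** (semilinear bijection, by dimension shifting in the second variable) -/
theorem semiBij_tor' (hP : ∀ q : ℕ, IsZero ((T (q + 1) (ModuleCat.of A P)).obj (ModuleCat.of A A'))) (n : ℕ) :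
    ∀ (Q' : Type u) [AddCommGroup Q'] [Module A' Q'] [Module A Q'] [IsScalarTower A A' Q'],
    SemiBij (A := A) (A' := A') ((T n (ModuleCat.of A P)).obj (ModuleCat.of A Q'))
      ((T n (ModuleCat.of A' (A' ⊗[A] P))).obj (ModuleCat.of A' Q')) := by
  induction n using Nat.strong_induction_on with
  | _ n ih =>
  intro Q' _ _ _ _
  obtain ⟨F', _, _, _, _, π, hπ, hfree⟩ : ∃ (F' : Type u) (_ : AddCommGroup F') (_ : Module A' F')
      (_ : Module A F') (_ : IsScalarTower A A' F') (π : F' →ₗ[A'] Q'),
      Function.Surjective π ∧ Module.Free A' F' :=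
    ⟨Q' →₀ A', inferInstance, inferInstance, inferInstance, inferInstance,
      Finsupp.linearCombination A' (id : Q' → Q'),
      Finsupp.linearCombination_id_surjective A' Q', inferInstance⟩
  obtain ⟨K', _, _, _, _, j, hj, hex⟩ : ∃ (K' : Type u) (_ : AddCommGroup K') (_ : Module A' K')
      (_ : Module A K') (_ : IsScalarTower A A' K') (j : K' →ₗ[A'] F'),
      Function.Injective j ∧ Function.Exact j π :=
    ⟨LinearMap.ker π, inferInstance, inferInstance, inferInstance, inferInstance,
      (LinearMap.ker π).subtype, Submodule.injective_subtype _, LinearMap.exact_subtype_ker_map π⟩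
  have hS' := ModSES.mkSES_shortExact j π hex hj hπ
  have hexA : Function.Exact (j.restrictScalars A) (π.restrictScalars A) := hex
  have hS := ModSES.mkSES_shortExact (j.restrictScalars A) (π.restrictScalars A) hexA hj hπ
  haveI : Projective (ModSES.mkSES j π hex).X₂ :=
    (IsProjective.iff_projective (ModuleCat.of A' F')).1
      (inferInstanceAs (Module.Projective A' F'))
  have hz : ∀ k : ℕ, IsZero ((T (k + 1) (ModuleCat.of A P)).obj
      (ModSES.mkSES (j.restrictScalars A) (π.restrictScalars A) hexA).X₂) :=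
    fun k => isZero_T_of_flat_over A A' k (ModuleCat.of A P) hP F'
  match n, ih with
  | 0, _ =>
    have e₁ := ((TorAPI.tor0Iso (ModuleCat.of A P)).app (ModuleCat.of A Q')).toLinearEquiv
    have e₂ := ((TorAPI.tor0Iso (ModuleCat.of A' (A' ⊗[A] P))).app (ModuleCat.of A' Q')).toLinearEquiv
    have h : SemiBij (A := A) (A' := A') (P ⊗[A] Q') ((A' ⊗[A] P) ⊗[A'] Q') :=
      ⟨θ's A A' P Q', θ's_bijective A A' P Q'⟩
    exact (h.comp_left e₁).comp_right e₂.symm
  | 1, _ =>
    obtain ⟨d, hd, hdr⟩ := TorAPI.exists_linearMap_tor_one (ModuleCat.of A P) hS (hz 0)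
    obtain ⟨d', hd', hdr'⟩ := TorAPI.exists_linearMap_tor_one (ModuleCat.of A' (A' ⊗[A] P)) hS'
      (TorAPI.isZero_T_projective _ _ 0)
    have hdr2 : LinearMap.range d = LinearMap.ker (LinearMap.lTensor P (j.restrictScalars A)) := hdr
    have hdr2' : LinearMap.range d' = LinearMap.ker (LinearMap.lTensor (A' ⊗[A] P) j) := hdr'
    have h : SemiBij (A := A) (A' := A') (LinearMap.range d) (LinearMap.range d') := by
      refine SemiBij.of_submodule (θ's A A' P K') (θ's_bijective A A' P _) _ _ ?_
      intro x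
      rw [hdr2, hdr2']
      change LinearMap.lTensor P (j.restrictScalars A) x = 0 ↔
        LinearMap.lTensor (A' ⊗[A] P) j (θ' A A' P K' x) = 0
      have hn : θ' A A' P F' (LinearMap.lTensor P (j.restrictScalars A) x) =
          LinearMap.lTensor (A' ⊗[A] P) j (θ' A A' P K' x) := θ'_naturality A A' P j _
      constructor
      · intro hx
        rw [← hn, hx, map_zero]
      · intro hx
        rw [← hn] at hx
        exact (θ' A A' P F').injective (hx.trans (map_zero _).symm)
    exact (h.comp_left (LinearEquiv.ofInjective d hd)).comp_right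
      (LinearEquiv.ofInjective d' hd').symm
  | (k + 2), ih =>
    obtain ⟨a⟩ := TorAPI.exists_iso_of_isZero (ModuleCat.of A P) hS (k + 1) (hz (k + 1)) (hz k)
    obtain ⟨a'⟩ := TorAPI.exists_iso_of_isZero (ModuleCat.of A' (A' ⊗[A] P)) hS' (k + 1)
      (TorAPI.isZero_T_projective _ _ (k + 1)) (TorAPI.isZero_T_projective _ _ k)
    have h := ih (k + 1) (by omega) K'
    exact (h.comp_left a.toLinearEquiv).comp_right a'.toLinearEquiv.symm

/-- S3537 -/
theorem main (Q' : Type u) [AddCommGroup Q'] [Module A' Q'] [Module A Q']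
    [IsScalarTower A A' Q'] (hP : ∀ q : ℕ, 0 < q → Subsingleton (DRing.Tor A q P A')) (n : ℕ) :
    ∃ φ : DRing.Tor A n P Q' →ₛₗ[algebraMap A A'] DRing.Tor A' n (TensorProduct A A' P) Q',
      Function.Bijective φ :=
  semiBij_tor' A A' P (fun q => by
    haveI := hP (q + 1) (by omega)
    exact ModuleCat.isZero_of_subsingleton _) n Q'

end main

end Groth.Agent.Lib.Helper25.TorIndepBC
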