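import Mathlib.CategoryTheory.Triangulated.Generators
import Mathlib.CategoryTheory.Triangulated.Orthogonal

/-!
If `Hom(E, K⟦i⟧) = 0` for all `i` then `Hom(E', K) = 0` for all `E'` in the triangulated
envelope of `E`.
-/

set_option autoImplicit false

namespace Groth.Agent.Lib.helper25

open CategoryTheory CategoryTheory.Limits CategoryTheory.Pretriangulated

universe v u

variable {D : Type u} [Category.{v} D] [Preadditive D] [HasZeroObject D] [HasShift D ℤ]
    [∀ n : ℤ, (shiftFunctor D n).Additive] [Pretriangulated D]

theorem leftOrthogonal_isStableUnderRetracts (P : ObjectProperty D) :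
    P.leftOrthogonal.IsStableUnderRetracts where
  of_retract := by
    intro X Y r hY Z f hZ
    have : f = r.i ≫ (r.r ≫ f) := by simp
    rw [this, hY (r.r ≫ f) hZ, comp_zero]

theorem hom_eq_zero_of_triangEnvelope [IsTriangulated D] (E K : D)
    (h : ∀ (i : ℤ) (f : E ⟶ (shiftFunctor D i).obj K), f = 0)
    (E' : D) (hE' : (ObjectProperty.singleton E).triangEnvelope E') (f : E' ⟶ K) : f = 0 := by
  have := leftOrthogonal_isStableUnderRetracts ((ObjectProperty.singleton K).shiftClosure ℤ)
  have hle : (ObjectProperty.singleton E).triangEnvelope ≤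
      ((ObjectProperty.singleton K).shiftClosure ℤ).leftOrthogonal := by
    rw [ObjectProperty.triangEnvelope_le_iff, ObjectProperty.singleton_le_iff]
    rintro Y g ⟨Z, a, e, hZ⟩
    rw [ObjectProperty.singleton_iff] at hZ
    subst hZ
    have := h a (g ≫ e.hom)
    rw [← cancel_mono e.hom, this, zero_comp]
  exact hle E' hE' f (ObjectProperty.le_shiftClosure _ _ ((ObjectProperty.singleton_iff K K).mpr rfl))

end Groth.Agent.Lib.helper25
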