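import Mathlib.CategoryTheory.Triangulated.Pretriangulated

/-!
A five-lemma for "exact" candidate triangles, and: retracts of distinguished triangles are
distinguished.
-/

set_option autoImplicit false

namespace Groth.Agent.Lib.helper25

open CategoryTheory CategoryTheory.Limits CategoryTheory.Pretriangulated

universe v u

section Five

variable {D : Type u} [Category.{v} D] [Preadditive D] [HasShift D ℤ]

/-- Five lemma for two candidate triangles on the same morphism `f`, compared by the identity on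
the first two objects. -/
theorem isIso_of_five {X Y Z₁ Z₂ : D} (f : X ⟶ Y)
    (g₁ : Y ⟶ Z₁) (h₁ : Z₁ ⟶ (shiftFunctor D (1 : ℤ)).obj X)
    (g₂ : Y ⟶ Z₂) (h₂ : Z₂ ⟶ (shiftFunctor D (1 : ℤ)).obj X)
    (γ : Z₁ ⟶ Z₂) (hg : g₁ ≫ γ = g₂) (hh : γ ≫ h₂ = h₁)
    (E1₁ : ∀ {A : D} (u : A ⟶ Z₁), u ≫ h₁ = 0 → ∃ v : A ⟶ Y, u = v ≫ g₁)
    (E3₁ : ∀ {A : D} (w : A ⟶ (shiftFunctor D (1 : ℤ)).obj X),
      w ≫ (shiftFunctor D (1 : ℤ)).map f = 0 → ∃ u : A ⟶ Z₁, w = u ≫ h₁)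
    (z₁ : f ≫ g₁ = 0)
    (E1₂ : ∀ {A : D} (u : A ⟶ Z₂), u ≫ h₂ = 0 → ∃ v : A ⟶ Y, u = v ≫ g₂)
    (E2₂ : ∀ {A : D} (v : A ⟶ Y), v ≫ g₂ = 0 → ∃ w : A ⟶ X, v = w ≫ f)
    (z₂ : h₂ ≫ (shiftFunctor D (1 : ℤ)).map f = 0) : IsIso γ := by
  refine isIso_of_yoneda_map_bijective _ (fun A => ⟨?_, ?_⟩)
  · suffices Mono γ by
      intro a₁ a₂ ha
      simpa only [← cancel_mono γ] using ha
    rw [Preadditive.mono_iff_cancel_zero]
    intro A u hu
    have hu1 : u ≫ h₁ = 0 := by rw [← hh, ← Category.assoc, hu, zero_comp]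
    obtain ⟨v, rfl⟩ := E1₁ u hu1
    have hv : v ≫ g₂ = 0 := by rw [← hg, ← Category.assoc, hu]
    obtain ⟨w, rfl⟩ := E2₂ v hv
    rw [Category.assoc, z₁, comp_zero]
  · intro a
    have hw : (a ≫ h₂) ≫ (shiftFunctor D (1 : ℤ)).map f = 0 := by
      rw [Category.assoc, z₂, comp_zero]
    obtain ⟨a', ha'⟩ := E3₁ (a ≫ h₂) hw
    have hd : (a - a' ≫ γ) ≫ h₂ = 0 := by
      rw [Preadditive.sub_comp, Category.assoc, hh, ← ha', sub_self]
    obtain ⟨b, hb⟩ := E1₂ _ hd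
    refine ⟨a' + b ≫ g₁, ?_⟩
    show (a' + b ≫ g₁) ≫ γ = a
    rw [Preadditive.add_comp, Category.assoc, hg, ← hb]
    abel

end Five

variable {D : Type u} [Category.{v} D] [Preadditive D] [HasZeroObject D] [HasShift D ℤ]
    [∀ n : ℤ, (shiftFunctor D n).Additive] [Pretriangulated D]

/-- A retract (in the category of triangles) of a distinguished triangle is distinguished. -/
theorem distinguished_of_retract (T S : Triangle D) (hS : S ∈ distTriang D)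
    (i : T ⟶ S) (p : S ⟶ T) (hip : i ≫ p = 𝟙 T) : T ∈ distTriang D := by
  have h1 : i.hom₁ ≫ p.hom₁ = 𝟙 _ := congrArg TriangleMorphism.hom₁ hip
  have h2 : i.hom₂ ≫ p.hom₂ = 𝟙 _ := congrArg TriangleMorphism.hom₂ hip
  have h3 : i.hom₃ ≫ p.hom₃ = 𝟙 _ := congrArg TriangleMorphism.hom₃ hip
  obtain ⟨Q, g₀, h₀, hT₀⟩ := distinguished_cocone_triangle T.mor₁
  obtain ⟨q, hq1, hq2⟩ : ∃ q : Q ⟶ S.obj₃, g₀ ≫ q = i.hom₂ ≫ S.mor₂ ∧
      h₀ ≫ (shiftFunctor D (1 : ℤ)).map i.hom₁ = q ≫ S.mor₃ :=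
    complete_distinguished_triangle_morphism _ _ hT₀ hS i.hom₁ i.hom₂ i.comm₁
  have hg : g₀ ≫ (q ≫ p.hom₃) = T.mor₂ := by
    rw [← Category.assoc, hq1, Category.assoc, p.comm₂, ← Category.assoc, h2, Category.id_comp]
  have hh : (q ≫ p.hom₃) ≫ T.mor₃ = h₀ := by
    rw [Category.assoc, ← p.comm₃, ← Category.assoc, ← hq2, Category.assoc, ← Functor.map_comp, h1,
      CategoryTheory.Functor.map_id, Category.comp_id]
  have hiso : IsIso (q ≫ p.hom₃) := by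
    refine isIso_of_five T.mor₁ g₀ h₀ T.mor₂ T.mor₃ _ hg hh ?_ ?_ ?_ ?_ ?_ ?_
    · intro A u hu
      exact Triangle.coyoneda_exact₃ _ hT₀ u hu
    · intro A w hw
      exact Triangle.coyoneda_exact₁ _ hT₀ w hw
    · exact comp_distTriang_mor_zero₁₂ _ hT₀
    · intro A u hu
      have : (u ≫ i.hom₃) ≫ S.mor₃ = 0 := by
        rw [Category.assoc, ← i.comm₃, ← Category.assoc, hu, zero_comp]
      obtain ⟨v', hv'⟩ := Triangle.coyoneda_exact₃ _ hS _ this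
      refine ⟨v' ≫ p.hom₂, ?_⟩
      rw [Category.assoc, ← p.comm₂, ← Category.assoc, ← hv', Category.assoc, h3, Category.comp_id]
    · intro A v hv
      have : (v ≫ i.hom₂) ≫ S.mor₂ = 0 := by
        rw [Category.assoc, ← i.comm₂, ← Category.assoc, hv, zero_comp]
      obtain ⟨w', hw'⟩ := Triangle.coyoneda_exact₂ _ hS _ this
      refine ⟨w' ≫ p.hom₁, ?_⟩
      rw [Category.assoc, ← p.comm₁, ← Category.assoc, ← hw', Category.assoc, h2, Category.comp_id]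
    · have e1 : T.mor₃ = T.mor₃ ≫ (shiftFunctor D (1 : ℤ)).map i.hom₁ ≫
          (shiftFunctor D (1 : ℤ)).map p.hom₁ := by
        rw [← Functor.map_comp, h1, CategoryTheory.Functor.map_id, Category.comp_id]
      have e2 : (shiftFunctor D (1 : ℤ)).map p.hom₁ ≫ (shiftFunctor D (1 : ℤ)).map T.mor₁ =
          (shiftFunctor D (1 : ℤ)).map S.mor₁ ≫ (shiftFunctor D (1 : ℤ)).map p.hom₂ := by
        rw [← Functor.map_comp, ← Functor.map_comp, p.comm₁]
      rw [e1, Category.assoc, Category.assoc, e2, ← Category.assoc, i.comm₃, Category.assoc,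
        ← Category.assoc S.mor₃, comp_distTriang_mor_zero₃₁ _ hS, zero_comp, comp_zero]
  refine isomorphic_distinguished _ hT₀ _ ?_
  let e₃ : Q ≅ T.obj₃ := @asIso _ _ _ _ (q ≫ p.hom₃) hiso
  exact (Triangle.isoMk (Triangle.mk T.mor₁ g₀ h₀) T (Iso.refl _) (Iso.refl _) e₃
    (by show T.mor₁ ≫ 𝟙 _ = 𝟙 _ ≫ T.mor₁; rw [Category.comp_id, Category.id_comp])
    (by show g₀ ≫ (q ≫ p.hom₃) = 𝟙 _ ≫ T.mor₂; rw [Category.id_comp]; exact hg)
    (by show h₀ ≫ (shiftFunctor D (1 : ℤ)).map (𝟙 _) = (q ≫ p.hom₃) ≫ T.mor₃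
        rw [CategoryTheory.Functor.map_id, Category.comp_id]; exact hh.symm)).symm

end Groth.Agent.Lib.helper25
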